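import Mathlib

/-! Bender–Glauberman, Appendix C: Lemmas C.1 and C.2 (finite field computations). -/

set_option autoImplicit false

namespace CfsgLib.FT.AppC

open Finset Polynomial
open scoped ComplexConjugate

variable {F : Type*} [Field F]

/-- Lemma C.1. -/
theorem le_of_inv_closed {p q : ℕ} [hp : Fact p.Prime] [CharP F p] (hq : 0 < q) {N : ℕ}
    (hN : N = ∑ i ∈ range q, p ^ i)
    (hinv : ∀ a : F, a ^ N = 1 → (2 - a) ^ N = 1 → (2 - a⁻¹) ^ N = 1) {a : F}
    (ha : a ^ N = 1) (ha2 : (2 - a) ^ N = 1) (ha1 : a ≠ 1) : p ≤ q := by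
  have hN0 : N ≠ 0 := by
    rw [hN]
    exact (sum_pos (fun i _ => pow_pos hp.out.pos i) ⟨0, mem_range.mpr hq⟩).ne'
  set c : ℕ → F := fun k => (1 - a) * k + 1 with hc
  have key : ∀ k : ℕ, c k ^ N = 1 ∧ c (k + 1) ^ N = 1 ∧ (2 - c k / c (k + 1)) ^ N = 1 := by
    intro k
    induction k with
    | zero =>
      have h1 : c 1 = 2 - a := by simp only [hc]; push_cast; ring
      have h0 : c 0 = 1 := by simp [hc]
      rw [zero_add, h1, h0, one_div]
      exact ⟨one_pow _, ha2, hinv _ ha2 (by rw [sub_sub_cancel, ha])⟩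
    | succ k ih =>
      obtain ⟨h1, h2, h3⟩ := ih
      have h0 : c (k + 1) ≠ 0 := fun h => by simp [h, hN0] at h2
      have e : 2 - c k / c (k + 1) = c (k + 1 + 1) / c (k + 1) := by
        field_simp
        simp only [hc]; push_cast; ring
      have h4 : c (k + 1 + 1) ^ N = 1 := by rwa [e, div_pow, h2, div_one] at h3
      refine ⟨h2, h4, ?_⟩
      rw [← inv_div, ← e]
      exact hinv _ h3 (by rw [sub_sub_cancel, div_pow, h1, h2, div_one])
  let h : F[X] := ∏ i ∈ range q, (C ((1 - a) ^ p ^ i) * X + C 1)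
  have hne : ∀ i, (1 - a) ^ p ^ i ≠ 0 := fun i => pow_ne_zero _ (sub_ne_zero.mpr ha1.symm)
  have hdeg : h.natDegree = q := by
    rw [natDegree_prod _ _ fun i _ => ?_]
    · rw [sum_congr rfl fun i _ => natDegree_linear (hne i)]; simp
    · intro h0
      have := congrArg natDegree h0
      rw [natDegree_linear (hne i)] at this
      simp at this
  have hdeg' : (h - C 1).natDegree = q := by rw [natDegree_sub_C, hdeg]
  have hne' : h - C 1 ≠ 0 := fun h0 => by rw [h0] at hdeg'; simp at hdeg'; omega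
  have hroot : ∀ k : ℕ, (h - C 1).IsRoot k := fun k => by
    have h1 := (key k).1
    rw [hN, ← prod_pow_eq_pow_sum] at h1
    rw [IsRoot, eval_sub, eval_C, eval_prod, sub_eq_zero]
    refine Eq.trans (prod_congr rfl fun i _ => ?_) h1
    simp only [hc, eval_add, eval_mul, eval_C, eval_X, add_pow_char_pow, mul_pow, one_pow]
    have := map_natCast (iterateFrobenius F p i) k
    rw [iterateFrobenius_def] at this
    rw [this]
  classical
  have h1 : (range p).image (Nat.cast : ℕ → F) ⊆ (h - C 1).roots.toFinset := by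
    intro x hx
    obtain ⟨k, -, rfl⟩ := mem_image.mp hx
    exact Multiset.mem_toFinset.mpr ((mem_roots hne').mpr (hroot k))
  have h2 := card_le_card h1
  rw [card_image_of_injOn (by simpa using CharP.natCast_injOn_Iio F p), card_range] at h2
  exact h2.trans ((Multiset.toFinset_card_le _).trans (hdeg' ▸ card_roots' _))

/-- Lemma C.2, cubic case. -/
theorem exists_cubic [Fintype F] {p : ℕ} [hp : Fact p.Prime] [CharP F p]
    (hF : Fintype.card F = p ^ 3) :
    ∃ a : F, a ^ (1 + p + p ^ 2) = 1 ∧ (2 - a) ^ (1 + p + p ^ 2) = 1 ∧ a ≠ 1 := by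
  obtain ⟨c, hc⟩ : ∃ c : ZMod p, ∀ x : ZMod p, x ^ 3 - (2 + c) * x ^ 2 + (2 * c + 1) * x - 1 ≠ 0 := by
    by_contra hcon
    push Not at hcon
    choose g hg using hcon
    have h0 : ∀ c, g c ≠ 0 := fun c h => by simpa [h] using hg c
    have h2 : ∀ c, g c - 2 ≠ 0 := fun c h => by
      have := hg c
      rw [sub_eq_zero.mp h] at this
      exact one_ne_zero (by linear_combination this)
    have hinj : Function.Injective g := fun c d h => by
      have h1 := hg c
      have h3 := hg d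
      rw [← h] at h3
      have : (c - d) * (g c * (g c - 2)) = 0 := by linear_combination h3 - h1
      exact sub_eq_zero.mp ((mul_eq_zero.mp this).resolve_right (mul_ne_zero (h0 c) (h2 c)))
    obtain ⟨c, hc⟩ := Finite.injective_iff_surjective.mp hinj 0
    exact h0 c hc
  let f : (ZMod p)[X] := X ^ 3 - C (2 + c) * X ^ 2 + C (2 * c + 1) * X - C 1
  have hdeg : f.natDegree = 3 := by simp only [f]; compute_degree!
  have hirr : Irreducible f := irreducible_of_degree_le_three_of_not_isRoot (by simp [hdeg])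
    fun x hx => hc x (by simpa [f] using hx)
  have : Fact (Irreducible f) := ⟨hirr⟩
  let _ : Algebra (ZMod p) F := ZMod.algebra F p
  have hrk : Module.finrank (ZMod p) F = 3 := by
    have := Module.card_eq_pow_finrank (K := ZMod p) (V := F)
    rw [hF, ZMod.card] at this
    exact (Nat.pow_right_injective hp.out.two_le this).symm
  have : Module.Finite (ZMod p) (AdjoinRoot f) := (AdjoinRoot.powerBasis hirr.ne_zero).finite
  obtain ⟨φ⟩ := FiniteField.nonempty_algHom_of_finrank_dvd (F := ZMod p) (K := AdjoinRoot f)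
    (L := F) (by rw [hrk, (AdjoinRoot.powerBasis hirr.ne_zero).finrank]; simp [hdeg])
  set a := φ (AdjoinRoot.root f)
  set d := algebraMap (ZMod p) F c with hd
  have hdp : d ^ p = d := by rw [hd, ← map_pow, ZMod.pow_card]
  have h1 : a ^ 3 - (2 + d) * a ^ 2 + (2 * d + 1) * a - 1 = 0 := by
    have h0 : aeval a f = 0 := by
      rw [aeval_algHom_apply, AdjoinRoot.aeval_eq, AdjoinRoot.mk_self, map_zero]
    simpa [f, map_ofNat] using h0
  have hfrob : ∀ x : F, x ^ 3 - (2 + d) * x ^ 2 + (2 * d + 1) * x - 1 = 0 →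
      (x ^ p) ^ 3 - (2 + d) * (x ^ p) ^ 2 + (2 * d + 1) * x ^ p - 1 = 0 := fun x hx => by
    have := congrArg (frobenius F p) hx
    simpa only [map_sub, map_add, map_mul, map_pow, map_ofNat, map_one, map_zero,
      frobenius_def, hdp] using this
  have h2 := hfrob _ h1
  have h3 := hfrob _ h2
  have hn : a ^ p ≠ a := fun h => by
    obtain ⟨n, hn⟩ := (mem_bot_iff_intCast p F).mp ((Subfield.mem_bot_iff_pow_eq_self F p).mpr h)
    refine hc n ((algebraMap (ZMod p) F).injective ?_)
    rw [← hn] at h1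
    simpa [map_ofNat, ← hd] using h1
  have hn2 : (a ^ p) ^ p ≠ a ^ p := fun h => hn (frobenius_inj F p h)
  have hn3 : (a ^ p) ^ p ≠ a := fun h => by
    have h4 : ((a ^ p) ^ p) ^ p = a := by
      rw [← pow_mul, ← pow_mul, show p * (p * p) = Fintype.card F by rw [hF]; ring,
        FiniteField.pow_card]
    rw [h] at h4
    exact hn h4
  have e1 : a ^ (1 + p + p ^ 2) = a * a ^ p * (a ^ p) ^ p := by ring
  have e2 : (2 - a) ^ (1 + p + p ^ 2) = (2 - a) * (2 - a ^ p) * (2 - (a ^ p) ^ p) := by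
    have h4 : ∀ x : F, (2 - x) ^ p = 2 - x ^ p := fun x => by
      rw [← frobenius_def, map_sub, map_ofNat, frobenius_def]
    rw [← h4 (a ^ p), ← h4 a]; ring
  have ha1 : a ≠ 1 := fun h => hn (by rw [h, one_pow])
  refine ⟨a, ?_⟩
  rw [e1, e2]
  generalize (a ^ p) ^ p = z at *
  generalize a ^ p = y at *
  have k1 : a ^ 2 + a * y + y ^ 2 - (2 + d) * (a + y) + (2 * d + 1) = 0 :=
    mul_left_cancel₀ (sub_ne_zero.mpr hn) (by linear_combination h2 - h1)
  have k2 : a ^ 2 + a * z + z ^ 2 - (2 + d) * (a + z) + (2 * d + 1) = 0 :=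
    mul_left_cancel₀ (sub_ne_zero.mpr hn3) (by linear_combination h3 - h1)
  have k3 : a + y + z = 2 + d :=
    mul_left_cancel₀ (sub_ne_zero.mpr hn2) (by linear_combination k2 - k1)
  have k4 : a * y + a * z + y * z = 2 * d + 1 := by linear_combination (a + y) * k3 - k1
  have k5 : a * y * z = 1 := by linear_combination h1 - a ^ 2 * k3 + a * k4
  exact ⟨k5, by linear_combination -4 * k3 + 2 * k4 - k5, ha1⟩

/-- Lemma C.2, character sum estimate. -/
theorem sq_le_of_trivial [Fintype F] (h2F : (2 : F) ≠ 0) (U : Finset F) (h0 : (0 : F) ∉ U) (hU0 : U.Nonempty)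
    (hmul : ∀ u ∈ U, ∀ v ∈ U, u * v ∈ U)
    (hE : ∀ u ∈ U, ∀ v ∈ U, ∀ w ∈ U, u + v = 2 * w → u = w ∧ v = w) :
    (U.card : ℝ) ^ 2 ≤ Fintype.card F * (1 + √(Fintype.card F)) := by
  classical
  let ψ := AddChar.FiniteField.primitiveChar_to_Complex F
  have hψ : ψ.IsPrimitive := AddChar.FiniteField.primitiveChar_to_Complex_isPrimitive F
  let η : F → ℂ := fun t => ∑ u ∈ U, ψ (t * u)
  have h1 : ∑ t, η t * η t * η (-2 * t) = Fintype.card F * U.card := by
    have : ∀ t, η t * η t * η (-2 * t) =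
        ∑ w ∈ U, ∑ u ∈ U, ∑ v ∈ U, ψ (t * (u + v - 2 * w)) := fun t => by
      simp only [η, sum_mul, mul_sum, ← AddChar.map_add_eq_mul]
      refine sum_congr rfl fun w _ => sum_comm.trans
        (sum_congr rfl fun u _ => sum_congr rfl fun v _ => ?_)
      congr 1; ring
    rw [sum_congr rfl fun t _ => this t, sum_comm]
    rw [sum_congr rfl (g := fun _ => (Fintype.card F : ℂ)) fun w hw => ?_]
    · simp [mul_comm]
    rw [sum_comm, sum_eq_single_of_mem w hw fun u hu huw => ?_]
    · rw [sum_comm, sum_eq_single_of_mem w hw fun v hv hvw => ?_]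
      · rw [AddChar.sum_mulShift _ hψ, if_pos (by ring)]
      · rw [AddChar.sum_mulShift _ hψ, if_neg fun h => hvw (hE w hw v hv w hw
          (sub_eq_zero.mp h)).2, Nat.cast_zero]
    · rw [sum_comm]
      refine sum_eq_zero fun v hv => ?_
      rw [AddChar.sum_mulShift _ hψ, if_neg fun h => huw (hE u hu v hv w hw
        (sub_eq_zero.mp h)).1, Nat.cast_zero]
  have h2 : ∑ t, ‖η t‖ ^ 2 = Fintype.card F * U.card := by
    have : ∀ t, η t * conj (η t) = ∑ u ∈ U, ∑ v ∈ U, ψ (t * (u - v)) := fun t => by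
      simp only [η, map_sum, sum_mul, mul_sum, ← AddChar.map_neg_eq_conj,
        ← AddChar.map_add_eq_mul]
      refine sum_comm.trans (sum_congr rfl fun u _ => sum_congr rfl fun v _ => ?_)
      congr 1; ring
    have h3 : ∑ t, η t * conj (η t) = Fintype.card F * U.card := by
      rw [sum_congr rfl fun t _ => this t, sum_comm]
      rw [sum_congr rfl (g := fun _ => (Fintype.card F : ℂ)) fun w hw => ?_]
      · simp [mul_comm]
      rw [sum_comm, sum_eq_single_of_mem w hw fun v hv hvw => ?_]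
      · rw [AddChar.sum_mulShift _ hψ, if_pos (by ring)]
      · rw [AddChar.sum_mulShift _ hψ, if_neg fun h => hvw (sub_eq_zero.mp h).symm, Nat.cast_zero]
    simp only [Complex.mul_conj, Complex.normSq_eq_norm_sq] at h3
    exact_mod_cast h3
  have hne : ∀ u ∈ U, u ≠ 0 := fun u hu h => h0 (h ▸ hu)
  have h3 : ∀ t, ∀ u ∈ U, η (t * u) = η t := fun t u hu => by
    have himg : U.image (u * ·) = U := eq_of_subset_of_card_le
      (fun x hx => by obtain ⟨v, hv, rfl⟩ := mem_image.mp hx; exact hmul u hu v hv)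
      (card_image_of_injective _ (mul_right_injective₀ (hne u hu))).ge
    simp only [η]
    conv_rhs => rw [← himg, sum_image fun x _ y _ h => mul_right_injective₀ (hne u hu) h]
    simp only [mul_assoc]
  have hUpos : (0 : ℝ) < U.card := Nat.cast_pos.mpr hU0.card_pos
  have h4 : ∀ t, t ≠ 0 → ‖η t‖ ≤ √(Fintype.card F) := fun t ht => by
    refine Real.le_sqrt_of_sq_le (le_of_mul_le_mul_right ?_ hUpos)
    rw [← h2]
    calc ‖η t‖ ^ 2 * U.card = ∑ u ∈ U, ‖η (t * u)‖ ^ 2 := by
          rw [sum_congr rfl fun u hu => by rw [h3 t u hu]]; simp [mul_comm]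
      _ = ∑ x ∈ U.image (t * ·), ‖η x‖ ^ 2 :=
          (sum_image (f := fun x => ‖η x‖ ^ 2) fun x _ y _ h => mul_right_injective₀ ht h).symm
      _ ≤ _ := sum_le_sum_of_subset_of_nonneg (subset_univ _) fun _ _ _ => by positivity
  have h5 : η 0 = U.card := by simp [η]
  rw [← add_sum_erase _ _ (mem_univ 0), mul_zero, h5] at h1
  have h6 : ‖∑ t ∈ univ.erase 0, η t * η t * η (-2 * t)‖ ≤
      √(Fintype.card F) * (Fintype.card F * U.card) := by
    refine (norm_sum_le _ _).trans ?_
    rw [← h2, mul_sum]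
    refine le_trans (sum_le_sum fun t ht => ?_)
      (sum_le_sum_of_subset_of_nonneg (erase_subset 0 _) fun _ _ _ => by positivity)
    rw [norm_mul, norm_mul, mul_comm, ← sq]
    exact mul_le_mul_of_nonneg_right (h4 _ (mul_ne_zero (neg_ne_zero.mpr h2F)
      (ne_of_mem_erase ht))) (by positivity)
  rw [eq_sub_of_add_eq' h1] at h6
  have h7 : ((Fintype.card F : ℂ) * U.card - U.card * U.card * U.card) =
      ((Fintype.card F * U.card - U.card * U.card * U.card : ℝ) : ℂ) := by push_cast; rfl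
  rw [h7, Complex.norm_real, Real.norm_eq_abs] at h6
  have h8 := (abs_le.mp h6).1
  refine le_of_mul_le_mul_right ?_ hUpos
  nlinarith

/-- Lemma C.2. -/
theorem exists_ne_one [Fintype F] [DecidableEq F] {p q : ℕ} [hp : Fact p.Prime] [CharP F p] (hp2 : p ≠ 2)
    (hq : q = 3 ∨ 5 ≤ q) (hF : Fintype.card F = p ^ q) {N : ℕ} (hN : N = ∑ i ∈ range q, p ^ i)
    (hU : N ≤ (univ.filter fun a : F => a ^ N = 1).card) :
    ∃ a : F, a ^ N = 1 ∧ (2 - a) ^ N = 1 ∧ a ≠ 1 := by
  rcases hq with rfl | hq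
  · have : N = 1 + p + p ^ 2 := by simp [hN, sum_range_succ]
    rw [this]
    exact exists_cubic hF
  by_contra hcon
  push Not at hcon
  obtain ⟨m, rfl⟩ : ∃ m, q = m + 5 := ⟨q - 5, by omega⟩
  have h1 : p ^ (m + 4) < N := by
    rw [hN, sum_range_succ]
    exact lt_add_of_pos_left _ (sum_pos (fun i _ => pow_pos hp.out.pos i) ⟨0, by simp⟩)
  have hN0 : N ≠ 0 := by omega
  have h2F : (2 : F) ≠ 0 := fun h => hp2 ((Nat.prime_dvd_prime_iff_eq hp.out Nat.prime_two).mp
    ((CharP.cast_eq_zero_iff F p 2).mp (by exact_mod_cast h)))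
  have h2 := sq_le_of_trivial h2F (univ.filter fun a : F => a ^ N = 1) (by simp [hN0])
    ⟨1, by simp⟩ (by
      intro u hu v hv
      simp only [mem_filter, mem_univ, true_and] at hu hv ⊢
      rw [mul_pow, hu, hv, one_mul]) (by
      intro u hu v hv w hw h
      simp only [mem_filter, mem_univ, true_and] at hu hv hw
      have hw0 : w ≠ 0 := fun h => by simp [h, hN0] at hw
      have e : 2 - u / w = v / w := by field_simp; linear_combination -h
      have h3 := hcon (u / w) (by rw [div_pow, hu, hw, div_one])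
        (by rw [e, div_pow, hv, hw, div_one])
      have h4 : u = w := (div_eq_one_iff_eq hw0).mp h3
      exact ⟨h4, by linear_combination h - h4⟩)
  have hp3 : (3 : ℝ) ≤ p := by
    have := hp.out.two_le
    exact_mod_cast (by omega : 3 ≤ p)
  have h3 : √(Fintype.card F) ≤ (p : ℝ) ^ (m + 3) - 1 := by
    have h4 : (p : ℝ) ^ 3 ≤ (p : ℝ) ^ (m + 3) := pow_le_pow_right₀ (by linarith) (by omega)
    have h5 : (p : ℝ) ^ 2 + 2 ≤ (p : ℝ) ^ 3 := by nlinarith
    refine Real.sqrt_le_iff.mpr ⟨by nlinarith, ?_⟩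
    rw [hF]; push_cast
    rw [show (p : ℝ) ^ (m + 5) = p ^ (m + 3) * p ^ 2 by ring]
    nlinarith
  have h4 : ((p : ℝ) ^ (m + 4)) ^ 2 < ((univ.filter fun a : F => a ^ N = 1).card : ℝ) ^ 2 :=
    pow_lt_pow_left₀ (by exact_mod_cast h1.trans_le hU) (by positivity) two_ne_zero
  have h5 : (Fintype.card F : ℝ) * (1 + √(Fintype.card F)) ≤ Fintype.card F * p ^ (m + 3) :=
    mul_le_mul_of_nonneg_left (by linarith) (by positivity)
  have h6 : (Fintype.card F : ℝ) * p ^ (m + 3) = ((p : ℝ) ^ (m + 4)) ^ 2 := by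
    rw [hF]; push_cast; ring
  linarith

end CfsgLib.FT.AppC
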