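import Mathlib
import Cfsg.Agent.Lib.FT.BGAppC1
import Cfsg.Agent.Lib.CoprimeAction
import Cfsg.Agent.Lib.CoreBasic

/-! Bender–Glauberman, Appendix C: Lemma C.3 and Theorem C. -/

set_option autoImplicit false

namespace CfsgLib.FT.AppC

open Subgroup
open scoped commutatorElement

variable {G : Type*} [Group G] {F : Type*} [Field F]

/-- The hypotheses of Theorem C. -/
structure Setup (p : ℕ) (P U Q : Subgroup G) (f ψ : G → F) (y : G) : Prop where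
  inj : Set.InjOn f (P : Set G)
  surj : ∀ c, ∃ x ∈ P, f x = c
  add : ∀ x ∈ P, ∀ z ∈ P, f (x * z) = f x + f z
  nUP : U ≤ normalizer (P : Set G)
  act : ∀ u ∈ U, ψ u ≠ 0 ∧ ∀ x ∈ P, f (u * x * u⁻¹) = ψ u * f x
  mul : ∀ u ∈ U, ∀ v ∈ U, ψ (u * v) = ψ u * ψ v
  ψinj : Set.InjOn ψ (U : Set G)
  split : ∀ c : F, ∃ u ∈ U, ∃ k : F, k ^ p = k ∧ c = ψ u * k
  reg : ∀ u ∈ U, u ^ p = u → u = 1
  U_ne : U ≠ ⊥
  Qcomm : IsMulCommutative Q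
  Qcop : (Nat.card Q).Coprime p
  nQ : ∀ x ∈ P, f x ^ p = f x → x ∈ normalizer (Q : Set G)
  yQ : y ∈ Q
  nU : ∀ x ∈ P, f x ^ p = f x → y⁻¹ * x * y ∈ normalizer (U : Set G)

theorem word_eq_one {s T a b : G} (c1 : (s ^ 2)⁻¹ * T⁻¹ * s ^ 3 = (T ^ 3)⁻¹ * s * T ^ 2)
    (c2 : s⁻¹ * T⁻¹ * s ^ 2 = (T ^ 2)⁻¹ * s * T)
    (c3 : (s ^ 3)⁻¹ * T ^ 2 * s = T⁻¹ * (s ^ 2)⁻¹ * T ^ 3)
    (r : a⁻¹ * s * a * (b⁻¹ * s * b) = s * s) :
    (s * ((T ^ 3)⁻¹ * a⁻¹ * T ^ 3) * (s ^ 2)⁻¹) * T⁻¹ *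
      (s ^ 3 * ((T ^ 2)⁻¹ * (a * b⁻¹) * T ^ 2) * s⁻¹) * T⁻¹ *
      (s ^ 2 * (T⁻¹ * b * T) * (s ^ 3)⁻¹) * T ^ 2 = 1 := by
  calc _ = s * (T ^ 3)⁻¹ * a⁻¹ * T ^ 3 * ((s ^ 2)⁻¹ * T⁻¹ * s ^ 3) * (T ^ 2)⁻¹ * (a * b⁻¹) * T ^ 2 *
        (s⁻¹ * T⁻¹ * s ^ 2) * T⁻¹ * b * T * ((s ^ 3)⁻¹ * T ^ 2 * s) * s⁻¹ := by group
    _ = s * (T ^ 3)⁻¹ * (a⁻¹ * s * a * (b⁻¹ * s * b)) * (s ^ 2)⁻¹ * T ^ 3 * s⁻¹ := by
        rw [c1, c2, c3]; group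
    _ = 1 := by rw [r, sq]; group

theorem exists_pow_eq {P : Subgroup G} {x g : G} (hx : x ∈ P) (hg : ∀ z ∈ P, g * z * g⁻¹ ∈ P)
    (n : ℕ) : ∃ z ∈ P, (g * x) ^ n = z * g ^ n := by
  induction n with
  | zero => exact ⟨1, P.one_mem, by simp⟩
  | succ n ih =>
    obtain ⟨z, hz, e⟩ := ih
    exact ⟨g * (x * z) * g⁻¹, hg _ (P.mul_mem hx hz), by rw [pow_succ', e]; group⟩

namespace Setup

variable {p : ℕ} [hp : Fact p.Prime] [CharP F p] {P U Q : Subgroup G} {f ψ : G → F} {y : G}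
  (h : Setup p P U Q f ψ y)
include h

omit hp [CharP F p]

theorem f_one : f 1 = 0 := by
  have := h.add 1 P.one_mem 1 P.one_mem
  rw [mul_one] at this
  exact left_eq_add.mp this

theorem f_inv {x : G} (hx : x ∈ P) : f x⁻¹ = -f x := by
  have := h.add x hx _ (P.inv_mem hx)
  rw [mul_inv_cancel, h.f_one] at this
  linear_combination -this

theorem f_pow {x : G} (hx : x ∈ P) (n : ℕ) : f (x ^ n) = n * f x := by
  induction n with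
  | zero => simp [h.f_one]
  | succ n ih => rw [pow_succ, h.add _ (P.pow_mem hx n) _ hx, ih]; push_cast; ring

theorem f_zpow {x : G} (hx : x ∈ P) (n : ℤ) : f (x ^ n) = n * f x := by
  rcases n with n | n
  · simp [h.f_pow hx]
  · rw [zpow_negSucc, h.f_inv (P.pow_mem hx _), h.f_pow hx]; push_cast; ring

theorem eq_one_of_f {x : G} (hx : x ∈ P) (h0 : f x = 0) : x = 1 :=
  h.inj hx P.one_mem (h0.trans h.f_one.symm)

theorem P_comm {x z : G} (hx : x ∈ P) (hz : z ∈ P) : x * z = z * x :=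
  h.inj (P.mul_mem hx hz) (P.mul_mem hz hx) (by rw [h.add x hx z hz, h.add z hz x hx, add_comm])

theorem ψ_one : ψ 1 = 1 := by
  have := h.mul 1 U.one_mem 1 U.one_mem
  rw [mul_one] at this
  exact (mul_eq_left₀ (h.act 1 U.one_mem).1).mp this.symm

theorem ψ_inv {u : G} (hu : u ∈ U) : ψ u⁻¹ = (ψ u)⁻¹ := by
  have := h.mul u hu _ (U.inv_mem hu)
  rw [mul_inv_cancel, h.ψ_one] at this
  exact eq_inv_of_mul_eq_one_right this.symm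

theorem ψ_pow {u : G} (hu : u ∈ U) (n : ℕ) : ψ (u ^ n) = ψ u ^ n := by
  induction n with
  | zero => simp [h.ψ_one]
  | succ n ih => rw [pow_succ, h.mul _ (U.pow_mem hu n) _ hu, ih, pow_succ]

theorem U_comm {u v : G} (hu : u ∈ U) (hv : v ∈ U) : Commute u v :=
  h.ψinj (U.mul_mem hu hv) (U.mul_mem hv hu) (by rw [h.mul u hu v hv, h.mul v hv u hu, mul_comm])

theorem conj_mem {u x : G} (hu : u ∈ U) (hx : x ∈ P) : u * x * u⁻¹ ∈ P :=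
  conj_mem_of_mem_normalizer (h.nUP hu) hx

theorem eq_one_of_mem {u : G} (hu : u ∈ U) (hP : u ∈ P) : u = 1 := by
  obtain ⟨x, hx, e⟩ := h.surj 1
  have := (h.act u hu).2 x hx
  rw [h.P_comm hP hx, mul_inv_cancel_right, e, mul_one] at this
  exact h.ψinj hu U.one_mem (this.symm.trans h.ψ_one.symm)

theorem rel_iff {s₁ s₂ s₃ a u v : G} (h₁ : s₁ ∈ P) (h₂ : s₂ ∈ P) (h₃ : s₃ ∈ P) (ha : a ∈ U)
    (hu : u ∈ U) (hv : v ∈ U) :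
    s₁ * a * s₂ = u * s₃ * v ↔ a = u * v ∧ f s₁ + ψ a * f s₂ = ψ u * f s₃ := by
  have h4 := h.conj_mem ha h₂
  have h5 := h.conj_mem hu h₃
  rw [← (h.act a ha).2 _ h₂, ← (h.act u hu).2 _ h₃, ← h.add _ h₁ _ h4]
  constructor
  · intro e
    have e1 : (u * s₃ * u⁻¹)⁻¹ * (s₁ * (a * s₂ * a⁻¹)) = u * v * a⁻¹ := by
      calc _ = (u * s₃ * u⁻¹)⁻¹ * (s₁ * a * s₂) * a⁻¹ := by group
        _ = _ := by rw [e]; group
    have e2 : u * v * a⁻¹ = 1 := h.eq_one_of_mem (U.mul_mem (U.mul_mem hu hv) (U.inv_mem ha))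
      (e1 ▸ P.mul_mem (P.inv_mem h5) (P.mul_mem h₁ h4))
    rw [e2, inv_mul_eq_one] at e1
    exact ⟨(mul_inv_eq_one.mp e2).symm, by rw [e1]⟩
  · rintro ⟨rfl, e⟩
    have := h.inj (P.mul_mem h₁ h4) h5 e
    calc _ = s₁ * (u * v * s₂ * (u * v)⁻¹) * (u * v) := by group
      _ = _ := by rw [this]; group

/-- Step 1. -/
theorem split_H {x : G} (hx : x ∈ P ⊔ U) :
    ∃ u ∈ U, ∃ v ∈ U, ∃ s ∈ P, f s ^ p = f s ∧ x = u * s * v := by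
  obtain ⟨z, hz, w, hw, rfl⟩ := (mem_sup_iff_of_le_normalizer' h.nUP).mp hx
  obtain ⟨u, hu, k, hk, e⟩ := h.split (f z)
  obtain ⟨s, hs, rfl⟩ := h.surj k
  refine ⟨u, hu, u⁻¹ * w, U.mul_mem (U.inv_mem hu) hw, s, hs, hk, ?_⟩
  rw [← (h.act u hu).2 s hs] at e
  rw [h.inj hz (h.conj_mem hu hs) e]; group

include hp
variable [CharP F p]

omit hp in
theorem P_pow {x : G} (hx : x ∈ P) : x ^ p = 1 :=
  h.eq_one_of_f (P.pow_mem hx p) (by rw [h.f_pow hx, CharP.cast_eq_zero, zero_mul])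

omit hp in
theorem eq_one_of_mem_Q [Finite G] {x : G} (hQ : x ∈ Q) (hx : x ^ p ∈ P) : x = 1 := by
  have h1 : orderOf x ∣ p ^ 2 := by
    rw [orderOf_dvd_iff_pow_eq_one, sq, pow_mul, h.P_pow hx]
  exact orderOf_eq_one_iff.mp
    (Nat.eq_one_of_dvd_coprimes (h.Qcop.pow_right 2) (Q.orderOf_dvd_natCard hQ) h1)

theorem rel_frob {s₁ s₂ s₃ a u v : G} (h₁ : s₁ ∈ P) (h₂ : s₂ ∈ P) (h₃ : s₃ ∈ P)
    (k₁ : f s₁ ^ p = f s₁) (k₂ : f s₂ ^ p = f s₂) (k₃ : f s₃ ^ p = f s₃) (ha : a ∈ U)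
    (hu : u ∈ U) (hv : v ∈ U) (e : s₁ * a * s₂ = u * s₃ * v) :
    s₁ * a ^ p * s₂ = u ^ p * s₃ * v ^ p := by
  rw [h.rel_iff h₁ h₂ h₃ ha hu hv] at e
  rw [h.rel_iff h₁ h₂ h₃ (U.pow_mem ha p) (U.pow_mem hu p) (U.pow_mem hv p)]
  refine ⟨by rw [e.1, (h.U_comm hu hv).mul_pow], ?_⟩
  rw [h.ψ_pow ha, h.ψ_pow hu, ← k₁, ← k₂, ← k₃, ← mul_pow, ← mul_pow, ← add_pow_char, e.2]

/-- Step 2. -/
theorem not_split {s₁ s₂ u : G} (h₁ : s₁ ∈ P) (h₂ : s₂ ∈ P) (k₁ : f s₁ ^ p = f s₁)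
    (k₂ : f s₂ ^ p = f s₂) (hu : u ∈ U) (hs : s₂ ≠ 1) (e : s₁ * u * s₂ ∈ U) :
    u = 1 ∧ s₁ * s₂ = 1 := by
  obtain ⟨-, e1⟩ := (h.rel_iff h₁ h₂ P.one_mem hu e U.one_mem).mp (by simp)
  rw [h.f_one, mul_zero] at e1
  have h0 : f s₂ ≠ 0 := fun h0 => hs (h.eq_one_of_f h₂ h0)
  have e2 : f s₁ + ψ u ^ p * f s₂ = 0 := by
    rw [← k₁, ← k₂, ← mul_pow, ← add_pow_char, e1, zero_pow hp.out.ne_zero]
  have e3 : u = 1 := h.reg u hu (h.ψinj (U.pow_mem hu p) hu (by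
    rw [h.ψ_pow hu]; exact mul_right_cancel₀ h0 (by linear_combination e2 - e1)))
  subst e3
  rw [mul_one] at e
  exact ⟨rfl, h.eq_one_of_mem e (P.mul_mem h₁ h₂)⟩

theorem inv_fix {s : G} (hs : s ∈ P) (k : f s ^ p = f s) : f s⁻¹ ^ p = f s⁻¹ := by
  rw [h.f_inv hs, ← frobenius_def, map_neg, frobenius_def, k]

theorem mul_fix {s s' : G} (hs : s ∈ P) (hs' : s' ∈ P) (k : f s ^ p = f s) (k' : f s' ^ p = f s') :
    f (s * s') ^ p = f (s * s') := by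
  rw [h.add _ hs _ hs', add_pow_char, k, k']

theorem pow_fix {s : G} (hs : s ∈ P) (k : f s ^ p = f s) (n : ℕ) : f (s ^ n) ^ p = f (s ^ n) := by
  rw [h.f_pow hs, mul_pow, k, ← frobenius_def, map_natCast]

theorem not_norm_U {s : G} (hs : s ∈ P) (k : f s ^ p = f s) (hs1 : s ≠ 1)
    (hn : ∀ u ∈ U, s⁻¹ * u * s ∈ U) : False :=
  h.U_ne ((eq_bot_iff_forall _).mpr fun u hu =>
    (h.not_split (P.inv_mem hs) hs (h.inv_fix hs k) k hu hs1 (hn u hu)).1)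

/-- Step 3. -/
theorem ti [Finite G] {s z : G} (hs : s ∈ P) (k : f s ^ p = f s) (hs1 : s ≠ 1) (hz : z ∈ P ⊔ U)
    (hz' : (y⁻¹ * s * y) * z * (y⁻¹ * s * y)⁻¹ ∈ P ⊔ U) : z ∈ U := by
  have ht := h.nU s hs k
  have hQ : y⁻¹ * s * y * s⁻¹ ∈ Q := by
    have := Q.mul_mem (Q.inv_mem h.yQ) (conj_mem_of_mem_normalizer (h.nQ s hs k) h.yQ)
    convert this using 1; group
  have htp : (y⁻¹ * s * y) ^ p = 1 := by
    have := conj_pow (a := y⁻¹) (b := s) (i := p)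
    rw [inv_inv] at this
    rw [this, h.P_pow hs, mul_one, inv_mul_cancel]
  generalize y⁻¹ * s * y = t at ht hQ hz' htp
  let X : Subgroup G := (P ⊔ U).comap (MulAut.conj t).toMonoidHom
  have hX : ∀ g, g ∈ X ↔ t * g * t⁻¹ ∈ P ⊔ U := fun g => Iff.rfl
  have hUX : U ≤ X := fun u hu => mem_sup_right (conj_mem_of_mem_normalizer ht hu)
  obtain ⟨x, hx, u, hu, rfl⟩ := (mem_sup_iff_of_le_normalizer' h.nUP).mp hz
  by_cases hx1 : x = 1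
  · rw [hx1, one_mul]; exact hu
  exfalso
  have hxX : x ∈ X := (X.mul_mem_cancel_right (hUX hu)).mp hz'
  have hPX : P ≤ X := fun x' hx' => by
    have h0 : f x ≠ 0 := fun h0 => hx1 (h.eq_one_of_f hx h0)
    obtain ⟨v, hv, c, hc, e⟩ := h.split (f x' / f x)
    obtain ⟨n, rfl⟩ := (mem_bot_iff_intCast p F).mp ((Subfield.mem_bot_iff_pow_eq_self F p).mpr hc)
    have : x' = v * x ^ n * v⁻¹ := h.inj hx' (h.conj_mem hv (P.zpow_mem hx n)) (by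
      rw [(h.act v hv).2 _ (P.zpow_mem hx n), h.f_zpow hx, ← mul_assoc, ← e, div_mul_cancel₀ _ h0])
    rw [this]
    exact X.mul_mem (X.mul_mem (hUX hv) (X.zpow_mem hxX n)) (X.inv_mem (hUX hv))
  have hnP : ∀ x' ∈ P, t * x' * t⁻¹ ∈ P := fun x' hx' => by
    have h1 := hPX hx'
    rw [hX, sup_comm] at h1
    obtain ⟨v, hv, w, hw, e⟩ := (mem_sup_iff_of_le_normalizer h.nUP).mp h1
    obtain ⟨w', hw', e'⟩ := exists_pow_eq hw (fun z hz => h.conj_mem hv hz) p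
    rw [e, conj_pow, h.P_pow hx', mul_one, mul_inv_cancel] at e'
    have h2 : v ^ p = 1 := h.eq_one_of_mem (U.pow_mem hv p)
      (by rw [eq_inv_of_mul_eq_one_right e'.symm]; exact P.inv_mem hw')
    have h3 : v = 1 := h.ψinj hv U.one_mem (frobenius_inj F p (by
      rw [frobenius_def, frobenius_def, ← h.ψ_pow hv, h2, h.ψ_one, one_pow]))
    rw [← e, h3, one_mul]; exact hw
  obtain ⟨w, hw, e⟩ := exists_pow_eq (P.inv_mem hs) hnP p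
  rw [htp, mul_one] at e
  have h1 := mul_inv_eq_one.mp (h.eq_one_of_mem_Q hQ (e ▸ hw))
  subst h1
  exact h.not_norm_U hs k hs1 fun u hu => conj_mem_of_mem_normalizer' ht hu

theorem final_word [Finite G] {s s₁ s₂ s₃ : G} (hs : s ∈ P) (hfs : f s = 1) (h₁ : s₁ ∈ P)
    (h₂ : s₂ ∈ P) (h₃ : s₃ ∈ P) (k₁ : f s₁ ^ p = f s₁) (k₂ : f s₂ ^ p = f s₂)
    (k₃ : f s₃ ^ p = f s₃) (n₁ : s₁ ≠ 1)
    (r : s₁ * (y⁻¹ * s * y)⁻¹ * s₂ * (y⁻¹ * s * y)⁻¹ * s₃ * (y⁻¹ * s * y) ^ 2 = 1) :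
    s * s₁ = 1 := by
  have k : f s ^ p = f s := by rw [hfs, one_pow]
  have hc : ∀ g ∈ P, f g ^ p = f g → g * y * g⁻¹ ∈ Q := fun g hg kg =>
    conj_mem_of_mem_normalizer (h.nQ g hg kg) h.yQ
  have i := P.inv_mem hs
  have ki := h.inv_fix hs k
  have i₃ := P.inv_mem h₃
  have ki₃ := h.inv_fix h₃ k₃
  have m2 := P.mul_mem h₁ i
  have l2 := h.mul_fix h₁ i k₁ ki
  have m3 := P.mul_mem m2 h₂
  have l3 := h.mul_fix m2 h₂ l2 k₂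
  have m4 := P.mul_mem m3 i
  have l4 := h.mul_fix m3 i l3 ki
  have m5 := P.mul_mem m4 h₃
  have l5 := h.mul_fix m4 h₃ l4 k₃
  have m6 := P.mul_mem m5 (P.pow_mem hs 2)
  have l6 := h.mul_fix m5 (P.pow_mem hs 2) l5 (h.pow_fix hs k 2)
  have r1 : (s₁ * y * s₁⁻¹)⁻¹ * ((s₁ * s⁻¹) * y * (s₁ * s⁻¹)⁻¹) *
      ((s₁ * s⁻¹ * s₂) * y * (s₁ * s⁻¹ * s₂)⁻¹)⁻¹ *
      ((s₁ * s⁻¹ * s₂ * s⁻¹) * y * (s₁ * s⁻¹ * s₂ * s⁻¹)⁻¹) *
      ((s₁ * s⁻¹ * s₂ * s⁻¹ * s₃) * y * (s₁ * s⁻¹ * s₂ * s⁻¹ * s₃)⁻¹)⁻¹ *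
      ((s₁ * s⁻¹ * s₂ * s⁻¹ * s₃ * s ^ 2) * y * (s₁ * s⁻¹ * s₂ * s⁻¹ * s₃ * s ^ 2)⁻¹) =
      (s₁ * s⁻¹ * s₂ * s⁻¹ * s₃ * s ^ 2)⁻¹ := by
    rw [eq_inv_iff_mul_eq_one, ← r]
    simp only [sq]; group
  have r2 : s₁ * s⁻¹ * s₂ * s⁻¹ * s₃ * s ^ 2 = 1 := by
    refine h.eq_one_of_mem_Q (Q.inv_mem_iff.mp ?_) (P.pow_mem m6 p)
    rw [← r1]
    exact Q.mul_mem (Q.mul_mem (Q.mul_mem (Q.mul_mem (Q.mul_mem (Q.inv_mem (hc _ h₁ k₁))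
      (hc _ m2 l2)) (Q.inv_mem (hc _ m3 l3))) (hc _ m4 l4)) (Q.inv_mem (hc _ m5 l5))) (hc _ m6 l6)
  have e5 : s₁ * s⁻¹ * s₂ * s⁻¹ * s₃ = (s ^ 2)⁻¹ := eq_inv_of_mul_eq_one_left r2
  have e4 : s₁ * s⁻¹ * s₂ * s⁻¹ = (s ^ 2)⁻¹ * s₃⁻¹ := by rw [← e5]; group
  have c3 := h.P_comm hs i₃
  have c1 := h.P_comm hs h₁
  have e3 : s₁ * s⁻¹ * s₂ = s⁻¹ * s₃⁻¹ := by
    calc _ = s₁ * s⁻¹ * s₂ * s⁻¹ * s := by group
      _ = s⁻¹ * s⁻¹ * (s₃⁻¹ * s) := by rw [e4, sq]; group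
      _ = _ := by rw [← c3]; group
  rw [r2, e5, e4, e3] at r1
  have r3 : (s * (s * s₁ * y * (s * s₁)⁻¹) * s⁻¹)⁻¹ * (s * s₁ * y * (s * s₁)⁻¹) *
      (s * (s₃⁻¹ * y * s₃⁻¹⁻¹) * s⁻¹)⁻¹ * (s₃⁻¹ * y * s₃⁻¹⁻¹) * y⁻¹ *
      (s * (s * y * s⁻¹) * s⁻¹) = 1 := by
    have e2 : s₁ * s⁻¹ = s⁻¹ * s₁ := by
      calc _ = s⁻¹ * (s * s₁) * s⁻¹ := by group
        _ = _ := by rw [c1]; group
    rw [e2] at r1
    rw [← conj_eq_one_iff (a := (s ^ 2)⁻¹), ← inv_one, ← r1]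
    simp only [sq, mul_inv_rev, inv_inv, mul_assoc, inv_mul_cancel_left, mul_inv_cancel_left,
      one_mul, inv_one, mul_one, inv_mul_cancel]
  have m7 := P.mul_mem hs h₁
  have l7 := h.mul_fix hs h₁ k k₁
  have hns := h.nQ s hs k
  let _ : CommGroup Q := { (inferInstance : Group Q) with mul_comm := h.Qcomm.is_comm.comm }
  set A : Q := ⟨_, hc _ m7 l7⟩ with hA
  set B : Q := ⟨_, hc _ i₃ ki₃⟩ with hB
  set C : Q := ⟨_, hc _ hs k⟩ with hC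
  set Y : Q := ⟨y, h.yQ⟩ with hY
  let σ : Q →* Q := (Q.normalizerMonoidHom ⟨s, hns⟩).toMonoidHom
  have hσ : ∀ x : Q, (σ x : G) = s * x * s⁻¹ := fun x => rfl
  have r4 : (σ A)⁻¹ * A * (σ B)⁻¹ * B * Y⁻¹ * σ C = 1 := Subtype.ext r3
  have r5 : σ Y = C := Subtype.ext rfl
  have r6 : σ (A⁻¹ * Y * B⁻¹ * C) = A⁻¹ * Y * B⁻¹ * C := by
    simp only [map_mul, map_inv, r5]
    rw [← mul_inv_eq_one, ← r4]
    apply Additive.ofMul.injective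
    simp only [ofMul_mul, ofMul_inv]
    abel
  have r7 : ((A⁻¹ * Y * B⁻¹ * C : Q) : G) = 1 := by
    have hcop : (Nat.card (zpowers s)).Coprime (Nat.card Q) := by
      rw [Nat.card_zpowers]
      exact Nat.Coprime.coprime_dvd_left (orderOf_dvd_of_pow_eq_one (h.P_pow hs)) h.Qcop.symm
    rw [← mem_bot, ← Cop.commutator_inf_centralizer_eq_bot (zpowers_le.mpr hns) hcop h.Qcomm]
    constructor
    · have hz : ∀ g ∈ P, f g ^ p = f g → y * (g * y * g⁻¹)⁻¹ ∈ ⁅Q, zpowers s⁆ := fun g hg kg => by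
        obtain ⟨n, e⟩ := (mem_bot_iff_intCast p F).mp
          ((Subfield.mem_bot_iff_pow_eq_self F p).mpr kg)
        have : g = s ^ n := h.inj hg (P.zpow_mem hs n) (by rw [h.f_zpow hs, hfs, mul_one, e])
        have h1 := commutator_mem_commutator h.yQ (this ▸ zpow_mem_zpowers s n : g ∈ zpowers s)
        convert h1 using 1
        rw [commutatorElement_def]; group
      have e : A⁻¹ * Y * B⁻¹ * C = Y * A⁻¹ * (Y * B⁻¹) * (Y * C⁻¹)⁻¹ := by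
        apply Additive.ofMul.injective
        simp only [ofMul_mul, ofMul_inv]
        abel
      rw [e]
      exact Subgroup.mul_mem _ (Subgroup.mul_mem _ (hz _ m7 l7) (hz _ i₃ ki₃))
        (Subgroup.inv_mem _ (hz _ hs k))
    · have := congrArg Subtype.val r6
      rw [hσ, mul_inv_eq_iff_eq_mul] at this
      rintro _ ⟨n, rfl⟩
      exact ((show Commute s _ from this).zpow_left n).eq
  by_contra hne
  have m8 := P.mul_mem h₃ hs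
  have l8 := h.mul_fix h₃ hs k₃ k
  refine h.not_norm_U h₁ k₁ n₁ fun u hu => h.ti m7 l7 hne
    (mul_mem (mul_mem (mem_sup_left (P.inv_mem h₁)) (mem_sup_right hu)) (mem_sup_left h₁)) ?_
  have r8 : s₁ * (y⁻¹ * (s * s₁) * y)⁻¹ = (y⁻¹ * (s₃ * s) * y)⁻¹ * s₃ := by
    change (s * s₁ * y * (s * s₁)⁻¹)⁻¹ * y * (s₃⁻¹ * y * s₃⁻¹⁻¹)⁻¹ * (s * y * s⁻¹) = 1 at r7
    rw [← mul_inv_eq_one, ← conj_eq_one_iff (a := s), ← r7]
    group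
  have r9 : y⁻¹ * (s * s₁) * y * (s₁⁻¹ * u * s₁) * (y⁻¹ * (s * s₁) * y)⁻¹ =
      s₃⁻¹ * (y⁻¹ * (s₃ * s) * y * u * (y⁻¹ * (s₃ * s) * y)⁻¹) * s₃ := by
    calc _ = (s₁ * (y⁻¹ * (s * s₁) * y)⁻¹)⁻¹ * u * (s₁ * (y⁻¹ * (s * s₁) * y)⁻¹) := by group
      _ = _ := by rw [r8]; group
  rw [r9]
  exact mul_mem (mul_mem (mem_sup_left i₃)
    (mem_sup_right (conj_mem_of_mem_normalizer (h.nU _ m8 l8) hu))) (mem_sup_left h₃)

/-- Step 4. -/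
theorem step4 [Finite G] (hp2 : p ≠ 2) {s a b : G} (hs : s ∈ P) (hfs : f s = 1) (ha : a ∈ U)
    (hb : b ∈ U) (hab : (ψ a)⁻¹ + (ψ b)⁻¹ = 2) :
    ∃ b' ∈ U, (ψ (((y⁻¹ * s * y) ^ 3)⁻¹ * a⁻¹ * (y⁻¹ * s * y) ^ 3))⁻¹ + (ψ b')⁻¹ = 2 := by
  have k : f s ^ p = f s := by rw [hfs, one_pow]
  have hs1 : s ≠ 1 := fun e => by rw [e, h.f_one] at hfs; exact zero_ne_one hfs
  have hT := h.nU s hs k
  have hq : ∀ n : ℕ, (s ^ n)⁻¹ * (y⁻¹ * s * y) ^ n ∈ Q := fun n => by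
    have h1 := conj_pow (a := y⁻¹) (b := s) (i := n)
    rw [inv_inv] at h1
    have h2 := Q.mul_mem (conj_mem_of_mem_normalizer' (pow_mem (h.nQ s hs k) n) (Q.inv_mem h.yQ))
      h.yQ
    rw [h1]
    convert h2 using 1; group
  have hti : ∀ z ∈ P ⊔ U, (y⁻¹ * s * y) ^ 2 * z * ((y⁻¹ * s * y) ^ 2)⁻¹ ∈ P ⊔ U → z ∈ U := by
    intro z hz hz'
    have h1 := conj_pow (a := y⁻¹) (b := s) (i := 2)
    rw [inv_inv] at h1
    rw [h1] at hz'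
    refine h.ti (P.pow_mem hs 2) (h.pow_fix hs k 2) (fun e => hp2 ?_) hz hz'
    have h2 := h.f_pow hs 2
    rw [e, h.f_one, hfs, mul_one] at h2
    exact (Nat.prime_dvd_prime_iff_eq hp.out Nat.prime_two).mp
      ((CharP.cast_eq_zero_iff F p 2).mp h2.symm)
  have hfin := fun s₁ s₂ s₃ h₁ h₂ h₃ k₁ k₂ k₃ n₁ =>
    h.final_word (s₁ := s₁) (s₂ := s₂) (s₃ := s₃) hs hfs h₁ h₂ h₃ k₁ k₂ k₃ n₁
  generalize y⁻¹ * s * y = T at hT hq hti hfin ⊢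
  have hcq : ∀ i j : ℕ, (s ^ i)⁻¹ * T ^ i * ((s ^ j)⁻¹ * T ^ j)⁻¹ =
      ((s ^ j)⁻¹ * T ^ j)⁻¹ * ((s ^ i)⁻¹ * T ^ i) := fun i j =>
    congrArg Subtype.val (h.Qcomm.is_comm.comm ⟨_, hq i⟩ ⟨_, Q.inv_mem (hq j)⟩)
  have c1 : (s ^ 2)⁻¹ * T⁻¹ * s ^ 3 = (T ^ 3)⁻¹ * s * T ^ 2 := by
    calc _ = (s ^ 2)⁻¹ * T ^ 2 * ((s ^ 3)⁻¹ * T ^ 3)⁻¹ := by group
      _ = _ := by rw [hcq]; group
  have c2 : s⁻¹ * T⁻¹ * s ^ 2 = (T ^ 2)⁻¹ * s * T := by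
    calc _ = (s ^ 1)⁻¹ * T ^ 1 * ((s ^ 2)⁻¹ * T ^ 2)⁻¹ := by group
      _ = _ := by rw [hcq]; group
  have c3 : (s ^ 3)⁻¹ * T ^ 2 * s = T⁻¹ * (s ^ 2)⁻¹ * T ^ 3 := by
    calc _ = (s ^ 3)⁻¹ * T ^ 3 * ((s ^ 1)⁻¹ * T ^ 1)⁻¹ := by group
      _ = _ := by rw [hcq]; group
  have hr : ∀ a ∈ U, ∀ b ∈ U, (ψ a)⁻¹ + (ψ b)⁻¹ = 2 → a⁻¹ * s * a * (b⁻¹ * s * b) = s * s := by
    intro a ha b hb hab
    have h1 := h.conj_mem (U.inv_mem ha) hs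
    have h2 := h.conj_mem (U.inv_mem hb) hs
    have h3 := (h.act _ (U.inv_mem ha)).2 s hs
    have h4 := (h.act _ (U.inv_mem hb)).2 s hs
    rw [inv_inv] at h1 h2 h3 h4
    refine h.inj (P.mul_mem h1 h2) (P.mul_mem hs hs) ?_
    rw [h.add _ h1 _ h2, h.add _ hs _ hs, h3, h4, h.ψ_inv ha, h.ψ_inv hb, hfs]
    linear_combination hab
  have w := word_eq_one c1 c2 c3 (hr a ha b hb hab)
  have w' := word_eq_one c1 c2 c3 (hr _ (U.pow_mem ha p) _ (U.pow_mem hb p) (by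
    rw [h.ψ_pow ha, h.ψ_pow hb, ← inv_pow, ← inv_pow, ← add_pow_char, hab, ← frobenius_def,
      map_ofNat]))
  have hcp : ∀ g x : G, (g⁻¹ * x * g) ^ p = g⁻¹ * x ^ p * g := fun g x => by
    simpa using conj_pow (a := g⁻¹) (b := x) (i := p)
  rw [← inv_pow a, ← inv_pow b, ← (h.U_comm ha (U.inv_mem hb)).mul_pow, ← hcp, ← hcp, ← hcp] at w'
  have a1 := conj_mem_of_mem_normalizer' (pow_mem hT 3) (U.inv_mem ha)
  have a2 := conj_mem_of_mem_normalizer' (pow_mem hT 2) (U.mul_mem ha (U.inv_mem hb))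
  have a3 := conj_mem_of_mem_normalizer' hT hb
  generalize (T ^ 3)⁻¹ * a⁻¹ * T ^ 3 = a₁ at w w' a1 ⊢
  generalize (T ^ 2)⁻¹ * (a * b⁻¹) * T ^ 2 = a₂ at w w' a2
  generalize T⁻¹ * b * T = a₃ at w w' a3
  have p2 := P.pow_mem hs 2
  have p3 := P.pow_mem hs 3
  have k2 := h.pow_fix hs k 2
  have k3 := h.pow_fix hs k 3
  have hH : ∀ {x u z : G}, x ∈ P → u ∈ U → z ∈ P → x * u * z ∈ P ⊔ U := fun hx hu hz =>
    mul_mem (mul_mem (mem_sup_left hx) (mem_sup_right hu)) (mem_sup_left hz)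
  obtain ⟨u₁, hu₁, v₁, hv₁, s₁, h₁, k₁, e₁⟩ := h.split_H (hH hs a1 (P.inv_mem p2))
  obtain ⟨u₂, hu₂, v₂, hv₂, s₂, h₂, k₂, e₂⟩ := h.split_H (hH p3 a2 (P.inv_mem hs))
  obtain ⟨u₃, hu₃, v₃, hv₃, s₃, h₃, k₃, e₃⟩ := h.split_H (hH p2 a3 (P.inv_mem p3))
  have f₁ := h.rel_frob hs (P.inv_mem p2) h₁ k (h.inv_fix p2 k2) k₁ a1 hu₁ hv₁ e₁
  have f₂ := h.rel_frob p3 (P.inv_mem hs) h₂ k3 (h.inv_fix hs k) k₂ a2 hu₂ hv₂ e₂
  have f₃ := h.rel_frob p2 (P.inv_mem p3) h₃ k2 (h.inv_fix p3 k3) k₃ a3 hu₃ hv₃ e₃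
  have n₁ : s₁ ≠ 1 := fun e => by
    rw [e, mul_one] at e₁
    by_cases h2 : (s ^ 2)⁻¹ = 1
    · rw [h2, mul_one] at e₁
      exact hs1 (h.eq_one_of_mem ((U.mul_mem_cancel_right a1).mp (e₁ ▸ U.mul_mem hu₁ hv₁)) hs)
    · have := (h.not_split hs (P.inv_mem p2) k (h.inv_fix p2 k2) a1 h2 (e₁ ▸ U.mul_mem hu₁ hv₁)).2
      exact hs1 (inv_eq_one.mp (by rw [← this]; group))
  have n₃ : s₃ ≠ 1 := fun e => by
    rw [e, mul_one] at e₃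
    by_cases h2 : (s ^ 3)⁻¹ = 1
    · rw [h2, mul_one] at e₃
      have := h.eq_one_of_mem ((U.mul_mem_cancel_right a3).mp (e₃ ▸ U.mul_mem hu₃ hv₃)) p2
      rw [inv_eq_one, pow_succ, this, one_mul] at h2
      exact hs1 h2
    · have := (h.not_split p2 (P.inv_mem p3) k2 (h.inv_fix p3 k3) a3 h2 (e₃ ▸ U.mul_mem hu₃ hv₃)).2
      exact hs1 (inv_eq_one.mp (by rw [← this]; group))
  rw [e₁, e₂, e₃] at w
  rw [f₁, f₂, f₃] at w'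
  have hw : ∀ u₁ v₁ u₂ v₂ u₃ v₃ : G,
      u₁ * s₁ * v₁ * T⁻¹ * (u₂ * s₂ * v₂) * T⁻¹ * (u₃ * s₃ * v₃) * T ^ 2 = 1 →
      T⁻¹ * s₂ * T⁻¹ = (T * v₂ * T⁻¹ * u₃ * s₃ * (v₃ * (T ^ 2 * u₁ * (T ^ 2)⁻¹)) * T ^ 2 * s₁ *
        (v₁ * (T⁻¹ * u₂ * T)))⁻¹ := by
    intro u₁ v₁ u₂ v₂ u₃ v₃ e
    rw [eq_inv_iff_mul_eq_one, ← conj_eq_one_iff (a := u₁ * s₁ * (v₁ * (T⁻¹ * u₂ * T))), ← e]
    group
  have g := hw _ _ _ _ _ _ w
  have g' := hw _ _ _ _ _ _ w'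
  have b1 := conj_mem_of_mem_normalizer hT hv₂
  have b2 := conj_mem_of_mem_normalizer (pow_mem hT 2) hu₁
  have b3 := conj_mem_of_mem_normalizer' hT hu₂
  rw [← conj_pow, ← conj_pow, ← hcp, ← (h.U_comm b1 hu₃).mul_pow, ← (h.U_comm hv₃ b2).mul_pow,
    ← (h.U_comm hv₁ b3).mul_pow] at g'
  have d1 := U.mul_mem b1 hu₃
  have d2 := U.mul_mem hv₃ b2
  have d3 := U.mul_mem hv₁ b3
  generalize T * v₂ * T⁻¹ * u₃ = w₁ at g g' d1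
  generalize v₃ * (T ^ 2 * u₁ * (T ^ 2)⁻¹) = w₂ at g g' d2
  generalize v₁ * (T⁻¹ * u₂ * T) = w₃ at g g' d3
  have g1 : w₁ * s₃ * w₂ * T ^ 2 * s₁ * w₃ = w₁ ^ p * s₃ * w₂ ^ p * T ^ 2 * s₁ * w₃ ^ p :=
    inv_injective (g.symm.trans g')
  have g2 : T ^ 2 * (s₁ * (w₃ ^ p * w₃⁻¹) * s₁⁻¹) * (T ^ 2)⁻¹ =
      (w₂ ^ p)⁻¹ * (s₃⁻¹ * ((w₁ ^ p)⁻¹ * w₁) * s₃) * w₂ := by
    calc _ = (w₁ ^ p * s₃ * w₂ ^ p)⁻¹ * (w₁ ^ p * s₃ * w₂ ^ p * T ^ 2 * s₁ * w₃ ^ p) *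
          w₃⁻¹ * s₁⁻¹ * (T ^ 2)⁻¹ := by group
      _ = _ := by rw [← g1]; group
  have d4 := U.mul_mem (U.pow_mem d3 p) (U.inv_mem d3)
  have d5 := U.mul_mem (U.inv_mem (U.pow_mem d1 p)) d1
  have g3 := hti _ (hH h₁ d4 (P.inv_mem h₁)) (g2 ▸ mul_mem (mul_mem
    (mem_sup_right (U.inv_mem (U.pow_mem d2 p))) (hH (P.inv_mem h₃) d5 h₃)) (mem_sup_right d2))
  have g4 := (h.not_split h₁ (P.inv_mem h₁) k₁ (h.inv_fix h₁ k₁) d4 (inv_ne_one.mpr n₁) g3).1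
  rw [g4] at g2
  have g5 : s₃⁻¹ * ((w₁ ^ p)⁻¹ * w₁) * s₃ = w₂ ^ p * w₂⁻¹ := by
    calc _ = w₂ ^ p * ((w₂ ^ p)⁻¹ * (s₃⁻¹ * ((w₁ ^ p)⁻¹ * w₁) * s₃) * w₂) * w₂⁻¹ := by group
      _ = _ := by rw [← g2]; group
  have g6 := (h.not_split (P.inv_mem h₃) h₃ (h.inv_fix h₃ k₃) k₃ d5 n₃
    (g5 ▸ U.mul_mem (U.pow_mem d2 p) (U.inv_mem d2))).1
  rw [g6, mul_one, inv_mul_cancel] at g5
  rw [h.reg _ d3 (mul_inv_eq_one.mp g4), h.reg _ d1 (inv_mul_eq_one.mp g6),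
    h.reg _ d2 (mul_inv_eq_one.mp g5.symm)] at g
  have g7 := hfin s₁ s₂ s₃ h₁ h₂ h₃ k₁ k₂ k₃ n₁ (by
    calc _ = s₁ * (T⁻¹ * s₂ * T⁻¹) * s₃ * T ^ 2 := by group
      _ = _ := by rw [g]; group)
  obtain ⟨g8, g9⟩ := (h.rel_iff hs (P.inv_mem p2) h₁ a1 hu₁ hv₁).mp e₁
  rw [eq_inv_of_mul_eq_one_right g7, h.f_inv p2, h.f_inv hs, h.f_pow hs, hfs] at g9
  refine ⟨v₁, hv₁, ?_⟩
  rw [g8, h.mul _ hu₁ _ hv₁] at g9 ⊢
  have z1 := (h.act _ hu₁).1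
  have z2 := (h.act _ hv₁).1
  field_simp
  push_cast at g9
  linear_combination g9

/-- Lemma C.3. -/
theorem inv_closed [Finite G] (hp2 : p ≠ 2) {a b : G} (ha : a ∈ U) (hb : b ∈ U)
    (hab : ψ a + ψ b = 2) : ∃ b' ∈ U, (ψ a)⁻¹ + ψ b' = 2 := by
  obtain ⟨s, hs, hfs⟩ := h.surj 1
  have hT := h.nU s hs (by rw [hfs, one_pow])
  have hTp : (y⁻¹ * s * y) ^ p = 1 := by
    have := conj_pow (a := y⁻¹) (b := s) (i := p)
    rw [inv_inv] at this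
    rw [this, h.P_pow hs, mul_one, inv_mul_cancel]
  have st := fun a b ha hb => h.step4 hp2 (a := a) (b := b) hs hfs ha hb
  generalize y⁻¹ * s * y = T at hT hTp st
  have key : ∀ m : ℕ, ∃ b ∈ U, (ψ (((T ^ 6) ^ m)⁻¹ * a⁻¹ * (T ^ 6) ^ m))⁻¹ + (ψ b)⁻¹ = 2 := by
    intro m
    induction m with
    | zero => exact ⟨b⁻¹, U.inv_mem hb, by simp [h.ψ_inv ha, h.ψ_inv hb, hab]⟩
    | succ m ih =>
      obtain ⟨c, hc, e⟩ := ih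
      have h1 := conj_mem_of_mem_normalizer' (pow_mem (pow_mem hT 6) m) (U.inv_mem ha)
      obtain ⟨c, hc, e⟩ := st _ _ h1 hc e
      obtain ⟨c, hc, e⟩ := st _ _ (conj_mem_of_mem_normalizer' (pow_mem hT 3) (U.inv_mem h1)) hc e
      refine ⟨c, hc, ?_⟩
      rw [← e]; congr 3; rw [pow_succ]; group
  obtain ⟨m, hm⟩ := hp.out.odd_of_ne_two hp2
  obtain ⟨c, hc, e⟩ := key m
  obtain ⟨c, hc, e⟩ := st _ _
    (conj_mem_of_mem_normalizer' (pow_mem (pow_mem hT 6) m) (U.inv_mem ha)) hc e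
  refine ⟨c⁻¹, U.inv_mem hc, ?_⟩
  rw [h.ψ_inv hc, ← e]
  congr 3
  have : (T ^ 6) ^ m * T ^ 3 = 1 := by
    rw [← pow_mul, ← pow_add, show 6 * m + 3 = p * 3 by omega, pow_mul, hTp, one_pow]
  calc a = ((T ^ 6) ^ m * T ^ 3)⁻¹ * a * ((T ^ 6) ^ m * T ^ 3) := by rw [this]; group
    _ = _ := by group

end Setup

end CfsgLib.FT.AppC

namespace CfsgLib.FT

open Subgroup Finset

/-- **Theorem C** of Bender–Glauberman. -/
theorem prime_dim_normed_finField {G : Type*} [Group G] [Finite G] {p q : ℕ} (hp : p.Prime)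
    (hq : q.Prime) (hA : Nat.Coprime ((p ^ q - 1) / (p - 1)) (p - 1))
    {F : Type*} [Field F] [Fintype F] (hF : Fintype.card F = p ^ q) {P U Q : Subgroup G}
    {f ψ : G → F} (hf : Set.BijOn f (P : Set G) Set.univ)
    (hfadd : ∀ x ∈ P, ∀ z ∈ P, f (x * z) = f x + f z) (hUP : U ≤ normalizer (P : Set G))
    (hψ : ∀ u ∈ U, ψ u ≠ 0 ∧ ∀ x ∈ P, f (u * x * u⁻¹) = ψ u * f x)
    (hψmul : ∀ u ∈ U, ∀ v ∈ U, ψ (u * v) = ψ u * ψ v) (hψinj : Set.InjOn ψ (U : Set G))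
    (hUcard : Nat.card U * (p - 1) = p ^ q - 1) (hQ : IsMulCommutative Q)
    (hQp : (Nat.card Q).Coprime p) (hP0Q : ∀ x ∈ P, f x ^ p = f x → x ∈ normalizer (Q : Set G))
    {y : G} (hy : y ∈ Q)
    (hP0U : ∀ x ∈ P, f x ^ p = f x → y * x * y⁻¹ ∈ normalizer (U : Set G)) : p ≤ q := by
  classical
  have : Fact p.Prime := ⟨hp⟩
  have : CharP F p := by
    obtain ⟨r, hr⟩ := CharP.exists F
    obtain ⟨n, hrp, hn⟩ := FiniteField.card F r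
    rw [hF] at hn
    rwa [(Nat.prime_dvd_prime_iff_eq hp hrp).mp
      (hp.dvd_of_dvd_pow (hn ▸ dvd_pow_self p hq.ne_zero))]
  by_cases hp2 : p = 2
  · exact hp2 ▸ hq.two_le
  have hp1 : 0 < p - 1 := by have := hp.two_le; omega
  have hN : Nat.card U = ∑ i ∈ range q, p ^ i := by
    rw [Nat.geomSum_eq hp.two_le, ← hUcard, Nat.mul_div_cancel _ hp1]
  rw [← hUcard, Nat.mul_div_cancel _ hp1] at hA
  have hq3 : q = 3 ∨ 5 ≤ q := by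
    rcases hq.eq_two_or_odd' with rfl | ⟨m, hm⟩
    · obtain ⟨m, hm⟩ := hp.odd_of_ne_two hp2
      have : 2 ∣ 1 := hA ▸ Nat.dvd_gcd ⟨m + 1, by simp [hN, sum_range_succ]; omega⟩ ⟨m, by omega⟩
      omega
    · have := hq.two_le
      omega
  have hpow : ∀ u ∈ U, ∀ n : ℕ, ψ (u ^ n) = ψ u ^ n := fun u hu n => by
    induction n with
    | zero =>
      have := hψmul 1 U.one_mem 1 U.one_mem
      rw [mul_one] at this
      simpa using (mul_eq_left₀ (hψ 1 U.one_mem).1).mp this.symm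
    | succ n ih => rw [pow_succ, hψmul _ (U.pow_mem hu n) _ hu, ih, pow_succ]
  have hU1 : ∀ u ∈ U, ψ u ^ Nat.card U = 1 := fun u hu => by
    rw [← hpow u hu, orderOf_dvd_iff_pow_eq_one.mp (U.orderOf_dvd_natCard hu), ← pow_zero u,
      hpow u hu, pow_zero]
  have himg : (U : Set G).toFinite.toFinset.image ψ =
      univ.filter fun a : F => a ^ Nat.card U = 1 := by
    refine eq_of_subset_of_card_le (fun a ha => ?_) ?_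
    · obtain ⟨u, hu, rfl⟩ := mem_image.mp ha
      simpa using hU1 u (by simpa using hu)
    · rw [card_image_of_injOn (by simpa using hψinj), ← Set.ncard_eq_toFinset_card]
      refine le_trans (card_le_card (t := (Polynomial.nthRoots (Nat.card U) (1 : F)).toFinset)
        fun a ha => ?_) ((Multiset.toFinset_card_le _).trans (Polynomial.card_nthRoots _ _))
      simpa [Polynomial.mem_nthRoots Nat.card_pos] using ha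
  have hU2 : ∀ a : F, a ^ Nat.card U = 1 → ∃ u ∈ U, ψ u = a := fun a ha => by
    simpa using himg.ge (mem_filter.mpr ⟨mem_univ a, ha⟩)
  have hS : AppC.Setup p P U Q f ψ y⁻¹ :=
    { inj := hf.injOn
      surj := fun c => hf.surjOn (Set.mem_univ c)
      add := hfadd
      nUP := hUP
      act := hψ
      mul := hψmul
      ψinj := hψinj
      split := fun c => by
        by_cases hc : c = 0
        · exact ⟨1, U.one_mem, 0, zero_pow hp.ne_zero, by simp [hc]⟩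
        have h1 : c ^ ((Nat.card U : ℤ) * (p - 1 : ℕ)) = 1 := by
          rw [← Nat.cast_mul, zpow_natCast, hUcard, ← hF]
          exact FiniteField.pow_card_sub_one_eq_one c hc
        have h2 := Nat.gcd_eq_gcd_ab (Nat.card U) (p - 1)
        rw [hA] at h2
        obtain ⟨u, hu, e⟩ := hU2 (c ^ (((p - 1 : ℕ) : ℤ) * Nat.gcdB (Nat.card U) (p - 1))) (by
          rw [← zpow_natCast, ← zpow_mul, mul_assoc, mul_comm _ (Nat.card U : ℤ), ← mul_assoc,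
            mul_comm _ (Nat.card U : ℤ), zpow_mul, h1, one_zpow])
        refine ⟨u, hu, c ^ ((Nat.card U : ℤ) * Nat.gcdA (Nat.card U) (p - 1)), ?_, ?_⟩
        · have h3 : (c ^ ((Nat.card U : ℤ) * Nat.gcdA (Nat.card U) (p - 1))) ^ (p - 1) = 1 := by
            rw [← zpow_natCast, ← zpow_mul, mul_right_comm, zpow_mul, h1, one_zpow]
          rw [← Nat.sub_add_cancel hp.one_le, pow_succ, Nat.add_sub_cancel, h3, one_mul]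
        · rw [e, ← zpow_add₀ hc, add_comm, ← h2, Nat.cast_one, zpow_one]
      reg := fun u hu e => by
        have h1 : u ^ (p - 1) = 1 := by
          rw [← Nat.sub_add_cancel hp.one_le, pow_succ] at e
          exact mul_eq_right.mp e
        exact orderOf_eq_one_iff.mp (Nat.eq_one_of_dvd_coprimes hA (U.orderOf_dvd_natCard hu)
          (orderOf_dvd_of_pow_eq_one h1))
      U_ne := fun e => by
        rw [e, card_bot, one_mul] at hUcard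
        have h1 := Nat.pow_lt_pow_right hp.one_lt hq.one_lt
        rw [pow_one] at h1
        omega
      Qcomm := hQ
      Qcop := hQp
      nQ := hP0Q
      yQ := Q.inv_mem hy
      nU := by simpa using hP0U }
  obtain ⟨a, ha, ha2, ha1⟩ := AppC.exists_ne_one (F := F) hp2 hq3 hF hN (by
    rw [← himg, card_image_of_injOn (by simpa using hψinj), ← Set.ncard_eq_toFinset_card]
    exact le_rfl)
  refine AppC.le_of_inv_closed hq.pos hN (fun c hc hc2 => ?_) ha ha2 ha1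
  obtain ⟨u, hu, rfl⟩ := hU2 c hc
  obtain ⟨v, hv, e⟩ := hU2 _ hc2
  obtain ⟨w, hw, e'⟩ := hS.inv_closed hp2 hu hv (by rw [e]; ring)
  rw [← e', add_sub_cancel_left]
  exact hU1 w hw

end CfsgLib.FT
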