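import Mathlib

/-! Numerical lemmas for Peterfalvi, sections 13 and 14. -/

set_option autoImplicit false

namespace CfsgLib.FT.P13

/-- The inequality of PF (13.10). -/
def Ineq (p q u c : ℕ) : Prop :=
  ∃ v : ℝ, v * (q - 1) = q ^ p - 1 ∧ (p : ℝ) ^ (q - 1) * c * (q ^ p - v - q + 1) ≤ q ^ p * q * u

theorem cube_le {p q : ℕ} (hp : 3 ≤ p) (hq : 1 ≤ q) : (q : ℝ) ^ 3 ≤ q ^ p :=
  pow_le_pow_right₀ (by exact_mod_cast hq) hp

theorem m7 {p q : ℕ} (hp : 3 ≤ p) (hq : 5 ≤ q) {v : ℝ} (hv : v * (q - 1) = q ^ p - 1) :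
    7 * (q : ℝ) ^ p < 10 * (q ^ p - v - q + 1) := by
  have h := cube_le hp (by omega : 1 ≤ q)
  have h5 : (5 : ℝ) ≤ q := by exact_mod_cast hq
  have h2 : 25 * (q : ℝ) ≤ q ^ p := le_trans (by nlinarith [mul_nonneg (sub_nonneg.mpr h5) (sq_nonneg (q : ℝ))]) h
  have h0 : 0 ≤ v := by
    by_contra h0; push Not at h0; nlinarith
  have h1 : 4 * v < q ^ p := by nlinarith
  linarith

theorem m8 {p q : ℕ} (hp : 3 ≤ p) (hq : 7 ≤ q) {v : ℝ} (hv : v * (q - 1) = q ^ p - 1) :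
    8 * (q : ℝ) ^ p < 10 * (q ^ p - v - q + 1) := by
  have h := cube_le hp (by omega : 1 ≤ q)
  have h5 : (7 : ℝ) ≤ q := by exact_mod_cast hq
  have h2 : 49 * (q : ℝ) ≤ q ^ p := le_trans (by nlinarith [mul_nonneg (sub_nonneg.mpr h5) (sq_nonneg (q : ℝ))]) h
  have h0 : 0 ≤ v := by
    by_contra h0; push Not at h0; nlinarith
  have h1 : 6 * v < q ^ p := by nlinarith
  linarith

theorem Ineq.not_big {p q u c : ℕ} (h : Ineq p q u c) (hp : 3 ≤ p) (hq : 5 ≤ q) (hp' : Odd p)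
    (hq' : Odd q) (hc : 0 < c) (hu : (2 * q + 1) * u * (p - 1) ≤ c * (p ^ q - 1)) : False := by
  obtain ⟨v, hv, h⟩ := h
  have hu' : (2 * q + 1 : ℝ) * u * (p - 1) ≤ c * (p ^ (q - 1) * p - 1) := by
    rw [← pow_succ, Nat.sub_add_cancel (by omega)]
    have := (Nat.cast_le (α := ℝ)).mpr hu
    push_cast [Nat.cast_sub (by omega : 1 ≤ p), Nat.cast_sub (Nat.one_le_pow q p (by omega))] at this
    exact this
  have h7 := m7 hp hq hv
  set M := (q : ℝ) ^ p - v - q + 1 with hM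
  have hX : (0 : ℝ) < q ^ p := by positivity
  have hY : (0 : ℝ) < p ^ (q - 1) := by positivity
  have hp3 : (3 : ℝ) ≤ p := by exact_mod_cast hp
  have hq5 : (5 : ℝ) ≤ q := by exact_mod_cast hq
  have hc' : (0 : ℝ) < c := by exact_mod_cast hc
  have key : (p : ℝ) ^ (q - 1) * M * ((2 * q + 1) * (p - 1)) ≤ q ^ p * q * (p ^ (q - 1) * p - 1) := by
    refine le_of_mul_le_mul_left ?_ hc'
    calc _ = (p : ℝ) ^ (q - 1) * c * M * ((2 * q + 1) * (p - 1)) := by ring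
      _ ≤ q ^ p * q * u * ((2 * q + 1) * (p - 1)) := by
        refine mul_le_mul_of_nonneg_right h (by nlinarith)
      _ = q ^ p * q * ((2 * q + 1) * u * (p - 1)) := by ring
      _ ≤ q ^ p * q * (c * (p ^ (q - 1) * p - 1)) := by gcongr
      _ = _ := by ring
  have gen : ∀ k : ℝ, 0 ≤ k → k * q ^ p < 10 * M →
      k * ((p : ℝ) ^ (q - 1) * ((2 * q + 1) * (p - 1))) < 10 * q * (p ^ (q - 1) * p - 1) := by
    intro k _ hk
    refine lt_of_mul_lt_mul_left ?_ hX.le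
    have : 0 < (p : ℝ) ^ (q - 1) * ((2 * q + 1) * (p - 1)) := by
      apply mul_pos hY; nlinarith
    nlinarith
  by_cases hp4 : p = 3
  · subst hp4
    by_cases hq7 : 7 ≤ q
    · have := gen 8 (by norm_num) (m8 hp hq7 hv)
      push_cast at this hY
      nlinarith
    · obtain rfl : q = 5 := by obtain ⟨k, hk⟩ := hq'; omega
      have := gen 7 (by norm_num) h7
      norm_num at this
  · have : 5 ≤ p := by obtain ⟨k, hk⟩ := hp'; omega
    have hp5 : (5 : ℝ) ≤ p := by exact_mod_cast this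
    have := gen 7 (by norm_num) h7
    have h2 : 10 * (q : ℝ) * p ≤ 7 * ((2 * q + 1) * (p - 1)) := by nlinarith
    nlinarith

theorem sq_lt_three_pow {p : ℕ} (hp : 5 ≤ p) : 3 * p ^ 2 < 3 ^ p := by
  induction p, hp using Nat.le_induction with
  | base => norm_num
  | succ n hn ih => rw [pow_succ 3]; nlinarith

theorem Ineq.three {p u c : ℕ} (h : Ineq p 3 u c) (hp : 5 ≤ p) (hc : 0 < c) :
    c * (p ^ 2 - 1) < 6 * u := by
  obtain ⟨v, hv, h⟩ := h
  have h1 : (3 : ℝ) * p ^ 2 < 3 ^ p := by exact_mod_cast sq_lt_three_pow hp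
  have hX : (0 : ℝ) < 3 ^ p := by positivity
  have hc' : (0 : ℝ) < c := by exact_mod_cast hc
  push_cast at hv h
  have hv' : v = (3 ^ p - 1) / 2 := by linarith
  rw [hv'] at h
  have : (c : ℝ) * (p ^ 2 - 1) < 6 * u := by
    refine lt_of_mul_lt_mul_left ?_ hX.le
    nlinarith [mul_pos hc' (sub_pos.mpr h1)]
  have h2 : 1 ≤ p ^ 2 := Nat.one_le_pow _ _ (by omega)
  exact_mod_cast (by push_cast [Nat.cast_sub h2]; exact this : ((c * (p ^ 2 - 1) : ℕ) : ℝ) < (6 * u : ℕ))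

theorem le_two_pow {q : ℕ} (hq : 5 ≤ q) : 3 * q ≤ 2 ^ (q - 1) := by
  induction q, hq using Nat.le_induction with
  | base => norm_num
  | succ n hn ih =>
    obtain ⟨k, rfl⟩ : ∃ k, n = k + 1 := ⟨n - 1, by omega⟩
    simp only [Nat.add_sub_cancel, pow_succ] at ih ⊢
    omega

theorem Ineq.not_small {p q u b : ℕ} (h : Ineq p q u 1) (hp : 3 ≤ p) (hq : 5 ≤ q) (hb : 2 * b ≤ p)
    (hu : u ≤ b ^ (q - 1)) : False := by
  obtain ⟨v, hv, h⟩ := h
  have h7 := m7 hp hq hv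
  have h1 : 3 * q * u ≤ p ^ (q - 1) :=
    (Nat.mul_le_mul (le_two_pow hq) hu).trans (by rw [← mul_pow]; exact Nat.pow_le_pow_left hb _)
  have h2 : (3 * q * u : ℝ) ≤ p ^ (q - 1) := by exact_mod_cast h1
  have hX : (0 : ℝ) < q ^ p := by positivity
  have hY : (0 : ℝ) < p ^ (q - 1) := by positivity
  push_cast at h
  nlinarith [mul_lt_mul_of_pos_left h7 hY, mul_le_mul_of_nonneg_left h2 hX.le]

/-- PF (13.14). -/
theorem geom_odd {p q : ℕ} (hp : Odd p) (hq : Odd q) : Odd (∑ i ∈ Finset.range q, p ^ i) := by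
  rw [Nat.odd_iff] at *
  rw [Finset.sum_nat_mod, Finset.sum_congr rfl (g := fun _ => 1) fun i _ => by
    rw [Nat.pow_mod, hp]; simp]
  simpa using hq

theorem geom_modEq {p q d : ℕ} (h : p ≡ 1 [MOD d]) :
    ∑ i ∈ Finset.range q, p ^ i ≡ q [MOD d] := by
  induction q with
  | zero => rfl
  | succ n ih =>
    rw [Finset.sum_range_succ]
    exact ih.add (by simpa using h.pow n)

theorem prime_dvd_geom {p q r : ℕ} (hq : q.Prime) (hr : r.Prime)
    (hd : r ∣ ∑ i ∈ Finset.range q, p ^ i) : (r = q ∧ p ≡ 1 [MOD q]) ∨ r ≡ 1 [MOD q] := by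
  have := Fact.mk hr
  by_cases h1 : p ≡ 1 [MOD r]
  · have := (Nat.modEq_zero_iff_dvd.mpr hd).symm.trans (geom_modEq h1)
    have e := (Nat.prime_dvd_prime_iff_eq hr hq).mp (Nat.modEq_zero_iff_dvd.mp this.symm)
    exact Or.inl ⟨e, e ▸ h1⟩
  · right
    have h2 : ((p : ZMod r)) ^ q = 1 := by
      have := geom_sum_mul (p : ZMod r) q
      have e : ∑ i ∈ Finset.range q, (p : ZMod r) ^ i = 0 := by
        exact_mod_cast (ZMod.natCast_eq_zero_iff _ r).mpr hd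
      rw [e, zero_mul] at this
      exact (sub_eq_zero.mp this.symm)
    have h3 : (p : ZMod r) ≠ 1 := fun e => h1 ((ZMod.natCast_eq_natCast_iff p 1 r).mp (by simpa using e))
    have := Fact.mk hq
    have ho := orderOf_eq_prime h2 h3
    have h0 : (p : ZMod r) ≠ 0 := fun e => by simp [e, hq.ne_zero] at h2
    have := ZMod.orderOf_dvd_card_sub_one h0
    rw [ho] at this
    exact ((Nat.modEq_iff_dvd' hr.one_le).mpr this).symm

theorem dvd_geom_modEq {p q x : ℕ} (hp : 2 ≤ p) (hq : q.Prime) (h1 : ¬ p ≡ 1 [MOD q])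
    (hd : x ∣ ∑ i ∈ Finset.range q, p ^ i) : x ≡ 1 [MOD q] := by
  induction x using Nat.recOnMul with
  | zero =>
    have : 0 < ∑ i ∈ Finset.range q, p ^ i :=
      Finset.sum_pos (fun i _ => by positivity) ⟨0, Finset.mem_range.mpr hq.pos⟩
    omega
  | one => rfl
  | prime r hr => exact (prime_dvd_geom hq hr hd).resolve_left fun h => h1 h.2
  | mul a b ha hb => simpa using (ha (Dvd.dvd.trans (Dvd.intro b rfl) hd)).mul (hb (Dvd.dvd.trans (Dvd.intro_left a rfl) hd))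

theorem coprime_geom {p q : ℕ} (hp : 2 ≤ p) (hq : q.Prime) (h1 : ¬ p ≡ 1 [MOD q]) :
    (∑ i ∈ Finset.range q, p ^ i).Coprime (p - 1) := by
  refine Nat.coprime_of_dvd fun r hr hd hd' => ?_
  have h2 : p ≡ 1 [MOD r] := ((Nat.modEq_iff_dvd' (by omega)).mpr hd').symm
  have := (Nat.modEq_zero_iff_dvd.mpr hd).symm.trans (geom_modEq h2)
  have e := (Nat.prime_dvd_prime_iff_eq hr hq).mp (Nat.modEq_zero_iff_dvd.mp this.symm)
  exact h1 (e ▸ h2)

end CfsgLib.FT.P13
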