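import Mathlib
import Cfsg.Agent.Lib.FT.BG1
import Cfsg.Agent.Lib.FT.BGRank
import Cfsg.Agent.Lib.H9Free
import Cfsg.Agent.Lib.H5Kegel

/-! Wielandt's fixed point theorem for Frobenius groups of operators (Peterfalvi 9.1). -/

set_option autoImplicit false

namespace CfsgLib.FT

open Subgroup Cfsg Module CfsgLib.H9
open scoped commutatorElement

variable {G : Type*} [Group G] [Finite G]

omit [Finite G] in
theorem fpf_of_semiregular {K : Subgroup G} {x : G}
    (h : K ⊓ centralizer ({x} : Set G) = ⊥) : ∀ g ∈ K, x * g = g * x → g = 1 := fun g hg e =>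
  mem_bot.1 (h.le (mem_inf.2 ⟨hg, mem_centralizer_singleton_iff.2 e.symm⟩))

omit [Finite G] in
theorem semiregular_of_fpf {K : Subgroup G} {x : G} (h : ∀ g ∈ K, x * g = g * x → g = 1) :
    K ⊓ centralizer ({x} : Set G) = ⊥ :=
  eq_bot_iff.2 fun g hg => mem_bot.2 (h g hg.1 (mem_centralizer_singleton_iff.1 hg.2).symm)

theorem isNilpotent_of_semiregular {K R : Subgroup G} (hRK : R ≤ normalizer (K : Set G))
    (hR1 : R ≠ ⊥) (hfrob : ∀ x ∈ R, x ≠ 1 → K ⊓ centralizer ({x} : Set G) = ⊥) :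
    Group.IsNilpotent K := by
  obtain ⟨p, hp, hd⟩ := Nat.exists_prime_and_dvd (n := Nat.card R) (mt card_eq_one.1 hR1)
  have := Fact.mk hp
  obtain ⟨x, hx⟩ := exists_prime_orderOf_dvd_card' p hd
  have h1 : (x : G) ≠ 1 := fun h => hp.ne_one (by
    rw [← hx, show x = 1 from Subtype.ext h, orderOf_one])
  exact H5.isNilpotent_of_fpf hp (hRK x.2)
    (congrArg Subtype.val (hx ▸ pow_orderOf_eq_one x)) (fpf_of_semiregular (hfrob x x.2 h1))

theorem mem_cent_sup_iff {B M N : Subgroup G} (hNM : N ≤ M) (hMN : M ≤ normalizer (N : Set G))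
    (hBN : B ≤ normalizer (N : Set G)) (hcop : (Nat.card B).Coprime (Nat.card N))
    (hs : Group.IsSolvable B ∨ Group.IsSolvable N) {m : G} (hm : m ∈ M) :
    m ∈ (M ⊓ centralizer (B : Set G)) ⊔ N ↔ ∀ b ∈ B, ⁅b, m⁆ ∈ N := by
  constructor
  · intro h b hb
    obtain ⟨c, hc, n, hn, rfl⟩ := (mem_sup_iff_of_le_normalizer (inf_le_left.trans hMN)).1 h
    have e : ⁅b, c * n⁆ = c * ⁅b, n⁆ * c⁻¹ := by
      simp only [commutatorElement_def, mul_inv_rev]
      rw [← mul_assoc b, hc.2 b hb]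
      have : b⁻¹ * c⁻¹ = c⁻¹ * b⁻¹ := by rw [← mul_inv_rev, ← mul_inv_rev, hc.2 b hb]
      group
    rw [e]
    exact conj_mem_of_mem_normalizer (hMN hc.1)
      (le_normalizer_iff_commutator_le_right.1 hBN (commutator_mem_commutator hb hn))
  · intro h
    obtain ⟨n, hn, c, hc, rfl⟩ := Cop.exists_mul_centralizer_of_commutator_mem hBN hcop hs
      (g := m) fun a ha => by rw [← inv_mem_iff, commutatorElement_inv]; exact h a ha
    exact mul_mem (mem_sup_right hn)
      (mem_sup_left (mem_inf.2 ⟨(mul_mem_cancel_left (hNM hn)).1 hm, hc⟩))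

theorem card_cent_secRep {ℓ : ℕ} {L B M N : Subgroup G} {k W : Type*} [Field k] [AddCommGroup W]
    [Module k W] {ρ : L →* Module.End k W} {ι : G → W} (S : SecRep ℓ L.subtype M N ρ ι)
    (hBL : B ≤ L) (hMN : M ≤ normalizer (N : Set G)) (hk : (Nat.card B : k) ≠ 0)
    (hcop : (Nat.card B).Coprime (Nat.card N)) (hs : Group.IsSolvable B ∨ Group.IsSolvable N) :
    Nat.card ↥(M ⊓ centralizer (B : Set G)) =
      Nat.card ↥(N ⊓ centralizer (B : Set G)) * ℓ ^ finrank k (fixSpace ρ (B.subgroupOf L)) := by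
  rw [S.pow_finrank_fixSpace (D := (M ⊓ centralizer (B : Set G)) ⊔ N)
    (by rwa [card_subgroupOf_of_le hBL]) le_sup_right (sup_le inf_le_left S.le) fun m hm =>
      (mem_cent_sup_iff S.le hMN (fun b hb => S.normN ⟨b, hBL hb⟩) hcop hs hm).trans
        ⟨fun h b hb => h b hb, fun h b hb => h ⟨b, hBL hb⟩ hb⟩,
    relIndex_sup_of_le_normalizer (inf_le_left.trans hMN), ← card_inf_mul_relIndex N,
    ← inf_assoc, inf_eq_left.2 S.le]

/-- Peterfalvi (9.1), S1545: `K ⋊ R` acts coprimely on the solvable group `M`, and `R` acts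
semiregularly on `K`. -/
theorem Frobenius_Wielandt_fixpoint {K R M : Subgroup G} (hRK : R ≤ normalizer (K : Set G))
    (hfrob : ∀ x ∈ R, x ≠ 1 → K ⊓ centralizer ({x} : Set G) = ⊥)
    (hKM : K ≤ normalizer (M : Set G)) (hRM : R ≤ normalizer (M : Set G))
    (hM : Group.IsSolvable M) (hcK : (Nat.card K).Coprime (Nat.card M))
    (hcR : (Nat.card R).Coprime (Nat.card M)) :
    Nat.card ↥(M ⊓ centralizer ((K ⊔ R : Subgroup G) : Set G)) ^ Nat.card R * Nat.card M =
      Nat.card ↥(M ⊓ centralizer (R : Set G)) ^ Nat.card R *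
        Nat.card ↥(M ⊓ centralizer (K : Set G)) := by
  by_cases hR1 : R = ⊥
  · subst hR1
    rw [sup_bot_eq, card_bot, pow_one, pow_one, inf_eq_left.2 (le_centralizer_iff.1 bot_le),
      mul_comm]
  have hK := isNilpotent_of_semiregular hRK hR1 hfrob
  induction M using (wellFounded_lt (α := Subgroup G)).induction with | _ M ih
  by_cases hM1 : M = ⊥
  · subst hM1
    simp
  have hA : K ⊔ R ≤ normalizer (M : Set G) := sup_le hKM hRM
  obtain ⟨N, ℓ, hℓ, hd, hlt, hAN, hc, hpow, hch⟩ := exists_chief_sec hM hM1 hA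
  have := Fact.mk hℓ
  have hdN := card_dvd_of_le hlt.le
  have hN := isSolvable_of_le hM hlt.le
  have hMN : M ≤ normalizer (N : Set G) := Cop.le_normalizer_of_commutator_le hc hlt.le
  have IH := ih N hlt (le_sup_left.trans hAN) (le_sup_right.trans hAN) hN
    (hcK.coprime_dvd_right hdN) (hcR.coprime_dvd_right hdN)
  set L := K ⊔ R with hL
  obtain ⟨W, _, _, _, ρ, ι, S⟩ := exists_secRep ℓ L.subtype M N hlt.le (fun g => hA g.2)
    (fun g => hAN g.2) hc hpow
  have hcL : (Nat.card L).Coprime (Nat.card M) := by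
    refine Nat.Coprime.coprime_dvd_left ?_ (Nat.Coprime.mul_left hcR hcK)
    rw [hL, sup_comm]
    exact card_sup_dvd_mul hRK
  have hk : ∀ B : Subgroup G, B ≤ L → (Nat.card B : AlgebraicClosure (ZMod ℓ)) ≠ 0 := fun B hB =>
    natCast_ne_zero_of_coprime _ ℓ
      ((hcL.coprime_dvd_left (card_dvd_of_le hB)).coprime_dvd_right hd)
  have key : ∀ B : Subgroup G, B ≤ L → _ := fun B hB => card_cent_secRep S hB hMN (hk B hB)
    ((hcL.coprime_dvd_left (card_dvd_of_le hB)).coprime_dvd_right hdN) (Or.inr hN)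
  rw [key L le_rfl, key R le_sup_right, key K le_sup_left, ← card_mul_relIndex hlt.le,
    ← S.pow_finrank]
  suffices h : finrank _ (fixSpace ρ (L.subgroupOf L)) * Nat.card R + finrank _ W =
      finrank _ (fixSpace ρ (R.subgroupOf L)) * Nat.card R +
        finrank _ (fixSpace ρ (K.subgroupOf L)) by
    rw [mul_pow, mul_pow, mul_mul_mul_comm, IH, ← pow_mul, ← pow_add, h, pow_add, pow_mul]
    ring
  by_cases hKD : K ≤ ρ.ker.map L.subtype
  · have h1 : ∀ g ∈ K.subgroupOf L, ρ g = 1 := fun g hg => by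
      obtain ⟨g', h1, h2⟩ := hKD hg
      rwa [← show g' = g from Subtype.ext h2]
    have h2 : fixSpace ρ (K.subgroupOf L) = ⊤ := eq_top_iff.2 fun v _ g hg => by rw [h1 g hg]; rfl
    have h3 : fixSpace ρ (L.subgroupOf L) = fixSpace ρ (R.subgroupOf L) := by
      refine le_antisymm (fun v hv g _ => hv g g.2) fun v hv g _ => ?_
      obtain ⟨a, ha, b, hb, e⟩ := (mem_sup_iff_of_le_normalizer' hRK).1 g.2
      rw [show g = ⟨a, mem_sup_left ha⟩ * ⟨b, mem_sup_right hb⟩ from Subtype.ext e.symm,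
        rho_mul_apply, hv _ hb, h1 _ ha]
      rfl
    rw [h2, h3, finrank_top]
  · obtain ⟨Z, hZK, hAZ, -, hZ, hcm⟩ := exists_central_sec (A := L) hK
      (sup_le le_normalizer hRK) hKD
    have hZL : Z ≤ L := hZK.trans le_sup_left
    have hiff := fun m => mem_cent_sup_iff (m := m) hlt.le hMN (hZL.trans hAN)
      ((hcL.coprime_dvd_left (card_dvd_of_le hZL)).coprime_dvd_right hdN) (Or.inr hN)
    have h0 : normOp ρ (Z.subgroupOf L) = 0 := by
      rcases hch ((M ⊓ centralizer (Z : Set G)) ⊔ N) le_sup_right (sup_le inf_le_left hlt.le)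
        (le_normalizer_sup (Cop.le_normalizer_inf_centralizer hA hAZ) hAN) with h | h
      · exact S.normOp_eq_zero _ fun m hm h1 => h.le ((hiff m hm).2 fun b hb => h1 ⟨b, hZL hb⟩ hb)
      · exact absurd (fun z hz => ⟨⟨z, hZL hz⟩, (S.rho_eq_one_iff _).2 fun m hm =>
          (hiff m hm).1 (h.ge hm) z hz, rfl⟩) hZ
    have hkZ : (Nat.card (Z.subgroupOf L) : AlgebraicClosure (ZMod ℓ)) ≠ 0 := by
      rw [card_subgroupOf_of_le hZL]; exact hk Z hZL
    have h1 := finrank_eq_card_mul_fixSpace (R := R.subgroupOf L) hkZ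
      (sgOf_le_normalizer (le_sup_right.trans hAZ) L) (fun x hx hx1 z hz e => Subtype.ext
        (fpf_of_semiregular (hfrob x hx fun h => hx1 (Subtype.ext h)) z (hZK hz)
          (congrArg Subtype.val e))) (fun g hg => by
        rw [← sgOf_commutator hZL hZL] at hg
        obtain ⟨g', h1, h2⟩ := hcm (commutator_mono le_rfl hZK hg)
        rwa [← show g' = g from Subtype.ext h2]) h0
    have h2 : ∀ B : Subgroup G, Z ≤ B → fixSpace ρ (B.subgroupOf L) = ⊥ := fun B hB =>
      eq_bot_iff.2 fun v hv => (normOp_eq_zero_iff hkZ).1 h0 v fun g hg => hv g (hB hg)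
    rw [h2 L hZL, h2 K hZK, h1, card_subgroupOf_of_le le_sup_right]
    simp [mul_comm]

/-- Peterfalvi (9.1), first consequence. -/
theorem Frobenius_Wielandt_cent {K R M : Subgroup G} (hRK : R ≤ normalizer (K : Set G))
    (hfrob : ∀ x ∈ R, x ≠ 1 → K ⊓ centralizer ({x} : Set G) = ⊥)
    (hKM : K ≤ normalizer (M : Set G)) (hRM : R ≤ normalizer (M : Set G))
    (hM : Group.IsSolvable M) (hcK : (Nat.card K).Coprime (Nat.card M))
    (hcR : (Nat.card R).Coprime (Nat.card M)) (hR1 : R ≠ ⊥)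
    (h : M ⊓ centralizer (R : Set G) = ⊥) : K ≤ centralizer (M : Set G) := by
  have h1 := Frobenius_Wielandt_fixpoint hRK hfrob hKM hRM hM hcK hcR
  have h2 : M ⊓ centralizer ((K ⊔ R : Subgroup G) : Set G) = ⊥ :=
    eq_bot_iff.2 ((inf_le_inf_left _ (centralizer_antitone le_sup_right)).trans h.le)
  rw [h, h2, card_bot, one_pow, one_mul, one_mul] at h1
  rw [le_centralizer_iff]
  exact inf_eq_left.1 (eq_of_le_of_card_le inf_le_left h1.le)

/-- Peterfalvi (9.1), second consequence. -/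
theorem Frobenius_Wielandt_card {K R M : Subgroup G} (hRK : R ≤ normalizer (K : Set G))
    (hfrob : ∀ x ∈ R, x ≠ 1 → K ⊓ centralizer ({x} : Set G) = ⊥)
    (hKM : K ≤ normalizer (M : Set G)) (hRM : R ≤ normalizer (M : Set G))
    (hM : Group.IsSolvable M) (hcK : (Nat.card K).Coprime (Nat.card M))
    (hcR : (Nat.card R).Coprime (Nat.card M)) (h : M ⊓ centralizer (K : Set G) = ⊥) :
    Nat.card M = Nat.card ↥(M ⊓ centralizer (R : Set G)) ^ Nat.card R := by
  have h1 := Frobenius_Wielandt_fixpoint hRK hfrob hKM hRM hM hcK hcR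
  have h2 : M ⊓ centralizer ((K ⊔ R : Subgroup G) : Set G) = ⊥ :=
    eq_bot_iff.2 ((inf_le_inf_left _ (centralizer_antitone le_sup_left)).trans h.le)
  rwa [h, h2, card_bot, one_pow, one_mul, mul_one] at h1

end CfsgLib.FT
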