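import Mathlib
import Cfsg.Agent.Lib.FT.BG2
import Cfsg.Agent.Lib.FT.Wielandt
import Cfsg.Agent.Lib.FrobMain
import Cfsg.Agent.Lib.FrobZGroup
import Cfsg.Agent.Lib.CoreSubnormal
import Cfsg.Agent.Lib.H9PLenHH

/-! Bender–Glauberman, section 3: actions of Frobenius groups and related results.
All subgroups live in one ambient finite group `G`; "`R` acts semiregularly on `K`" is written
`∀ x ∈ R, x ≠ 1 → K ⊓ centralizer {x} = ⊥` and "`R` acts in a prime manner on `K`" is written
`∀ x ∈ R, x ≠ 1 → K ⊓ centralizer {x} = K ⊓ centralizer R`.  For 3.1 and 3.2 see `Lib/FrobBasic`,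
`Lib/FrobTransport`. -/

set_option autoImplicit false

namespace CfsgLib.FT

open Subgroup Cfsg CfsgLib.H9
open scoped commutatorElement

variable {G : Type*} [Group G] [Finite G]

/-- A semiregular operator group has order prime to `|K|`, indeed dividing `|K| - 1`. -/
theorem semiregular_card_dvd {K R : Subgroup G} (hRK : R ≤ normalizer (K : Set G))
    (hfrob : ∀ x ∈ R, x ≠ 1 → K ⊓ centralizer ({x} : Set G) = ⊥) :
    Nat.card R ∣ Nat.card K - 1 := by
  exact (Frob.isFPF_conjOn hRK fun x hx h1 => fpf_of_semiregular (hfrob x hx h1)).card_dvd_card_sub_one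

theorem semiregular_coprime {K R : Subgroup G} (hRK : R ≤ normalizer (K : Set G))
    (hfrob : ∀ x ∈ R, x ≠ 1 → K ⊓ centralizer ({x} : Set G) = ⊥) :
    (Nat.card R).Coprime (Nat.card K) := by
  exact (Frob.isFPF_conjOn hRK fun x hx h1 => fpf_of_semiregular (hfrob x hx h1)).coprime

/-- In a Frobenius group of odd order `2 |R| < |K|`. -/
theorem odd_semiregular_card_lt {K R : Subgroup G} (hRK : R ≤ normalizer (K : Set G))
    (hfrob : ∀ x ∈ R, x ≠ 1 → K ⊓ centralizer ({x} : Set G) = ⊥) (hK1 : K ≠ ⊥)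
    (hK : Odd (Nat.card K)) (hR : Odd (Nat.card R)) : 2 * Nat.card R < Nat.card K := by
  have h1 := semiregular_card_dvd hRK hfrob
  have h2 : 1 < Nat.card K := (one_lt_card_iff_ne_bot K).2 hK1
  have h3 : 2 ∣ Nat.card K - 1 := by obtain ⟨m, hm⟩ := hK; exact ⟨m, by omega⟩
  have h4 := Nat.le_of_dvd (by omega)
    (Nat.Coprime.mul_dvd_of_dvd_of_dvd (Nat.coprime_two_left.2 hR) h3 h1)
  omega

theorem zpowers_eq_of_card_prime {R : Subgroup G} (hR : (Nat.card R).Prime) {x : G} (hx : x ∈ R)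
    (h1 : x ≠ 1) : zpowers x = R := by
  rcases (Nat.dvd_prime hR).1 (card_dvd_of_le (zpowers_le.2 hx)) with h | h
  · rw [card_eq_one, zpowers_eq_bot] at h
    exact absurd h h1
  · exact eq_of_le_of_card_le (zpowers_le.2 hx) h.ge

omit [Finite G] in
theorem centralizer_zpowers_eq (x : G) :
    centralizer ((zpowers x : Subgroup G) : Set G) = centralizer ({x} : Set G) := by
  ext a
  rw [mem_centralizer_zpowers_iff, mem_centralizer_singleton_iff, eq_comm]

theorem exists_prime_order_mem {R : Subgroup G} (hR : R ≠ ⊥) :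
    ∃ x ∈ R, x ≠ 1 ∧ (orderOf x).Prime := by
  obtain ⟨p, hp, hd⟩ := Nat.exists_prime_and_dvd (n := Nat.card R) (mt card_eq_one.1 hR)
  have := Fact.mk hp
  obtain ⟨x, hx⟩ := exists_prime_orderOf_dvd_card' p hd
  rw [← orderOf_coe] at hx
  exact ⟨x, x.2, fun h => hp.ne_one (by rw [← hx, h, orderOf_one]), hx ▸ hp⟩

/-- A group of prime order acts in a prime manner. -/
theorem semiprime_of_prime {K R : Subgroup G} (hR : (Nat.card R).Prime) :
    ∀ x ∈ R, x ≠ 1 → K ⊓ centralizer ({x} : Set G) = K ⊓ centralizer (R : Set G) := by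
  intro x hx h1
  rw [← centralizer_zpowers_eq, zpowers_eq_of_card_prime hR hx h1]

/-- BG 3.2: semiregular action passes to invariant sections. -/
theorem semiregular_section {K R N : Subgroup G}
    (hfrob : ∀ x ∈ R, x ≠ 1 → K ⊓ centralizer ({x} : Set G) = ⊥) (hNK : N ≤ K)
    (hRN : R ≤ normalizer (N : Set G)) {x : G} (hx : x ∈ R) (hx1 : x ≠ 1) {g : G} (hg : g ∈ K)
    (h : ⁅g, x⁆ ∈ N) : g ∈ N := by
  exact mem_of_fpf_of_commutator_mem hNK (hRN hx) (fpf_of_semiregular (hfrob x hx hx1)) hg h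

/-- BG 3.2 for homomorphic images. -/
theorem semiregular_map {K R : Subgroup G} (hRK : R ≤ normalizer (K : Set G))
    (hfrob : ∀ x ∈ R, x ≠ 1 → K ⊓ centralizer ({x} : Set G) = ⊥) {G' : Type*} [Group G']
    (f : G →* G') {x : G} (hx : x ∈ R) (hx1 : x ≠ 1) :
    K.map f ⊓ centralizer ({f x} : Set G') = ⊥ := by
  exact semiregular_of_fpf (fpf_map (hRK hx) (fpf_of_semiregular (hfrob x hx hx1)) f)

/-- BG 3.3 for an elementary abelian section `V / N`. -/
theorem Frobenius_cent_compl_sec {K R V N : Subgroup G} (hRK : R ≤ normalizer (K : Set G))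
    (hfrob : ∀ x ∈ R, x ≠ 1 → K ⊓ centralizer ({x} : Set G) = ⊥) {q : ℕ} [Fact q.Prime]
    (hNV : N ≤ V) (hc : ⁅V, V⁆ ≤ N) (hpow : ∀ v ∈ V, v ^ q ∈ N)
    (hKV : K ≤ normalizer (V : Set G)) (hRV : R ≤ normalizer (V : Set G))
    (hKN : K ≤ normalizer (N : Set G)) (hRN : R ≤ normalizer (N : Set G))
    (hKq : (Nat.card K).Coprime q) (h0 : ∀ v ∈ V, (∀ x ∈ R, ⁅x, v⁆ ∈ N) → v ∈ N) :
    ∀ g ∈ K, ∀ v ∈ V, ⁅g, v⁆ ∈ N := by
  by_cases hR1 : R = ⊥
  · intro g hg v hv
    exact le_normalizer_iff_commutator_le_right.1 hKN (commutator_mem_commutator hg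
      (h0 v hv fun x hx => by rw [hR1, mem_bot] at hx; simp [hx]))
  have hK := isNilpotent_of_semiregular hRK hR1 hfrob
  set L := K ⊔ R with hL
  obtain ⟨W, _, _, _, ρ, ι, S⟩ := exists_secRep q L.subtype V N hNV
    (fun g => sup_le hKV hRV g.2) (fun g => sup_le hKN hRN g.2) hc hpow
  by_contra hcon
  obtain ⟨Z, hZK, hRZ, hKZ, hZ, hcm⟩ := exists_central_sec (D := ρ.ker)
    (isNilpotent_subgroupOf hK L) (sgOf_le_normalizer hRK L) (fun h => hcon fun g hg =>
      (S.rho_eq_one_iff ⟨g, mem_sup_left hg⟩).1 (h hg))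
  have hZq : (Nat.card Z : AlgebraicClosure (ZMod q)) ≠ 0 := natCast_ne_zero_of_coprime _ q
    (hKq.coprime_dvd_left ((card_dvd_of_le hZK).trans (card_subgroupOf_of_le le_sup_left).dvd))
  obtain ⟨U, ψ, h1, h2, -, h3⟩ := exists_central_weight (ρ := ρ) hZK (ker_normOp_ne_bot (by
    by_contra hn
    push Not at hn
    exact hZ hn)) (fun g hg => ker_normOp_invariant (hKZ hg)) (fun g hg v _ => by
      rw [show ρ g = 1 from hcm hg]; rfl)
  obtain ⟨v, hv, hv0⟩ := U.exists_mem_ne_zero_of_ne_bot h2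
  refine hv0 (eq_zero_of_normOp_weight (h3 hv) hRZ (fun r hr hr1 => ?_) ?_)
  · by_contra hn
    push Not at hn
    exact hv0 (eq_zero_of_mem_ker_normOp hZq (h1 hv) (fixed_of_weight_conj (h3 hv) (hRZ hr)
      (fun z hz e => Subtype.ext (fpf_of_semiregular (hfrob r hr fun h => hr1 (Subtype.ext h)) z
        (hZK hz) (congrArg Subtype.val e))) hn))
  · rw [S.normOp_eq_zero _ fun m hm h => h0 m hm fun x hx => h ⟨x, mem_sup_right hx⟩ hx]
    rfl

/-- BG 3.3 for an abelian group `V` of order prime to `|K|`. -/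
theorem Frobenius_cent_compl {K R V : Subgroup G} (hRK : R ≤ normalizer (K : Set G))
    (hfrob : ∀ x ∈ R, x ≠ 1 → K ⊓ centralizer ({x} : Set G) = ⊥)
    (hKV : K ≤ normalizer (V : Set G)) (hRV : R ≤ normalizer (V : Set G))
    (hV : IsMulCommutative V) (hcop : (Nat.card K).Coprime (Nat.card V))
    (hnt : ¬ K ≤ centralizer (V : Set G)) : V ⊓ centralizer (R : Set G) ≠ ⊥ := by
  intro h0
  have hA : K ⊔ R ≤ normalizer ((⁅V, K⁆ : Subgroup G) : Set G) :=
    Cop.le_normalizer_commutator (sup_le hKV hRV) (sup_le le_normalizer hRK)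
  obtain ⟨M, ⟨hM1, hMV, hMA⟩, hmin⟩ := exists_minimal_of_wellFoundedLT
    (fun M : Subgroup G => M ≠ ⊥ ∧ M ≤ ⁅V, K⁆ ∧ K ⊔ R ≤ normalizer (M : Set G))
    ⟨_, mt Cop.commutator_eq_bot_iff_le_centralizer'.1 hnt, le_rfl, hA⟩
  have hMV' : M ≤ V := hMV.trans (Cop.commutator_le_left_of_le_normalizer hKV)
  obtain ⟨N, ℓ, hℓ, hd, hlt, hAN, hc, hpow, -⟩ := exists_chief_sec
    (isSolvable_of_le isSolvable_of_isMulCommutative hMV') hM1 hMA
  have := Fact.mk hℓ
  obtain rfl : N = ⊥ := by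
    by_contra hN
    exact hlt.not_ge (hmin ⟨hN, hlt.le.trans hMV, hAN⟩ hlt.le)
  have h1 := Frobenius_cent_compl_sec hRK hfrob bot_le hc hpow (le_sup_left.trans hMA)
    (le_sup_right.trans hMA) (le_sup_left.trans hAN) (le_sup_right.trans hAN)
    (hcop.coprime_dvd_right (hd.trans (card_dvd_of_le hMV'))) fun v hv h =>
      h0.le (mem_inf.2 ⟨hMV' hv, fun x hx =>
        commutatorElement_eq_one_iff_mul_comm.1 (mem_bot.1 (h x hx))⟩)
  refine hM1 (eq_bot_iff.2 fun v hv =>
    (Cop.commutator_inf_centralizer_eq_bot hKV hcop hV).le (mem_inf.2 ⟨hMV hv, fun x hx =>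
      commutatorElement_eq_one_iff_mul_comm.1 (mem_bot.1 (h1 x hx v hv))⟩))

/-- BG 3.4 for an elementary abelian section `V / N`. -/
theorem odd_prime_sdprod_sec_cent1 {K R V N : Subgroup G} (hRK : R ≤ normalizer (K : Set G))
    (hK : Odd (Nat.card K)) (hR : (Nat.card R).Prime) (hR2 : Nat.card R ≠ 2)
    (hcop : (Nat.card R).Coprime (Nat.card K)) {q : ℕ} [Fact q.Prime]
    (hNV : N ≤ V) (hc : ⁅V, V⁆ ≤ N) (hpow : ∀ v ∈ V, v ^ q ∈ N)
    (hKV : K ≤ normalizer (V : Set G)) (hRV : R ≤ normalizer (V : Set G))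
    (hKN : K ≤ normalizer (N : Set G)) (hRN : R ≤ normalizer (N : Set G))
    (hKq : (Nat.card K).Coprime q) (h0 : ∀ v ∈ V, (∀ x ∈ R, ⁅x, v⁆ ∈ N) → v ∈ N) :
    ∀ g ∈ ⁅R, K⁆, ∀ v ∈ V, ⁅g, v⁆ ∈ N := by
  have key : ⁅R, K⁆ ≤ CommCalc.relCent N V := by
    refine commutator_le.2 fun x hx g hg => ?_
    rw [← inv_mem_iff, commutatorElement_inv]
    refine CommCalc.mem_relCent.2 ⟨?_, ?_⟩
    · rw [commutatorElement_def]
      exact mul_mem (mul_mem (mul_mem (hKN hg) (hRN hx)) (inv_mem (hKN hg))) (inv_mem (hRN hx))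
    by_cases hx1 : x = 1
    · simp [hx1]
    by_contra hn
    push Not at hn
    have hz := zpowers_eq_of_card_prime hR hx hx1
    have hxr : x ^ Nat.card R = 1 := by rw [← hz, Nat.card_zpowers, pow_orderOf_eq_one]
    obtain ⟨r, d, j, m, hr, -, -, -, h1, -, Q, hQK, hQ, hnc⟩ := hh_sec q hNV hc hpow hKV hKN
      (hRV hx) (hRN hx) (hRK hx) hKq hR hcop.symm (n := 0) (by simp [hxr])
      ⟨g, hg, by simpa using hn⟩ (s := Nat.card R ^ (0 + 1) - 1)
      (Nat.sub_lt (pow_pos hR.pos _) one_pos) (Or.inr ⟨rfl, Or.inr fun a ha h => h0 a ha fun y hy => by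
        rw [← hz] at hy
        rw [← inv_mem_iff, commutatorElement_inv]
        exact commutator_mem_of_mem_zpowers (hRN hx)
          (by rw [← inv_mem_iff, commutatorElement_inv]; exact h) hy⟩)
    obtain ⟨rfl, -⟩ := fermat_of_pow_add_one hR hR2 hr h1
    exact hK.not_two_dvd_nat (prime_dvd_card_of_not_comm hr hQK hQ hnc)
  exact fun g hg => (CommCalc.mem_relCent.1 (key hg)).2

/-- BG 3.4 for an elementary abelian group `V`. -/
theorem odd_prime_sdprod_abelem_cent1 {K R V : Subgroup G} (hRK : R ≤ normalizer (K : Set G))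
    (hK : Odd (Nat.card K)) (hR : (Nat.card R).Prime) (hR2 : Nat.card R ≠ 2)
    (hcop : (Nat.card R).Coprime (Nat.card K)) {q : ℕ} [Fact q.Prime]
    (hV : IsElementaryAbelian q V) (hKV : K ≤ normalizer (V : Set G))
    (hRV : R ≤ normalizer (V : Set G)) (hKq : (Nat.card K).Coprime q)
    (h0 : V ⊓ centralizer (R : Set G) = ⊥) : ⁅R, K⁆ ≤ centralizer (V : Set G) := by
  intro g hg
  exact mem_centralizer_iff_commutator.2 fun v hv => mem_bot.1 (odd_prime_sdprod_sec_cent1 hRK hK
    hR hR2 hcop bot_le (commutator_self_eq_bot_of_comm hV.1).le (fun v hv => mem_bot.2 (hV.2 v hv))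
    hKV hRV (fun x _ => mem_normalizer_bot x) (fun x _ => mem_normalizer_bot x) hKq
    (fun v hv h => h0.le (mem_inf.2 ⟨hv, fun x hx =>
      commutatorElement_eq_one_iff_mul_comm.1 (mem_bot.1 (h x hx))⟩)) g hg v hv)

/-- BG 3.4 for an arbitrary group `V` of order prime to `|K|`. -/
theorem odd_prime_sdprod_cent1 {K R V : Subgroup G} (hRK : R ≤ normalizer (K : Set G))
    (hK : Odd (Nat.card K)) (hR : (Nat.card R).Prime) (hR2 : Nat.card R ≠ 2)
    (hcop : (Nat.card R).Coprime (Nat.card K)) (hKV : K ≤ normalizer (V : Set G))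
    (hRV : R ≤ normalizer (V : Set G)) (hKq : (Nat.card K).Coprime (Nat.card V))
    (h0 : V ⊓ centralizer (R : Set G) = ⊥) : ⁅R, K⁆ ≤ centralizer (V : Set G) := by
  obtain ⟨x, hx, hx1, -⟩ := exists_prime_order_mem (R := R) fun h => by
    rw [h, card_bot] at hR; exact Nat.not_prime_one hR
  have hsemi : ∀ y ∈ R, y ≠ 1 → V ⊓ centralizer ({y} : Set G) = ⊥ := fun y hy hy1 => by
    rw [semiprime_of_prime hR y hy hy1, h0]
  have hV : Group.IsSolvable V := by
    have := isNilpotent_of_semiregular hRV (fun h => hx1 (mem_bot.1 (h ▸ hx))) hsemi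
    infer_instance
  clear h0
  induction V using (wellFounded_lt (α := Subgroup G)).induction with | _ V ih
  by_cases hV1 : V = ⊥
  · rw [hV1, le_centralizer_iff]; exact bot_le
  obtain ⟨N, ℓ, hℓ, hd, hlt, hAN, hc, hpow, -⟩ := exists_chief_sec hV hV1 (sup_le hKV hRV)
  have := Fact.mk hℓ
  have hdN := card_dvd_of_le hlt.le
  have IH := ih N hlt (le_sup_left.trans hAN) (le_sup_right.trans hAN)
    (hKq.coprime_dvd_right hdN) (fun y hy hy1 => eq_bot_iff.2
      ((inf_le_inf_right _ hlt.le).trans (hsemi y hy hy1).le)) (isSolvable_of_le hV hlt.le)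
  have h1 := odd_prime_sdprod_sec_cent1 hRK hK hR hR2 hcop hlt.le hc hpow hKV hRV
    (le_sup_left.trans hAN) (le_sup_right.trans hAN) (hKq.coprime_dvd_right hd) fun v hv h =>
      semiregular_section hsemi hlt.le (le_sup_right.trans hAN) hx hx1 hv
        (by rw [← inv_mem_iff, commutatorElement_inv]; exact h x hx)
  rw [← Cop.commutator_eq_bot_iff_le_centralizer'] at IH ⊢
  refine Cop.commutator_eq_bot_of_le_of_centralizes (commutator_le.2 fun v hv g hg => ?_) IH
    ((hKq.coprime_dvd_left (card_dvd_of_le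
      (le_normalizer_iff_commutator_le_right.1 hRK))).coprime_dvd_right hdN)
  rw [← inv_mem_iff, commutatorElement_inv]
  exact h1 g hg v hv

/-- BG 3.5 for an elementary abelian section `V / N`. -/
theorem Frobenius_prime_cent_prime_sec {K R V N : Subgroup G} (hRK : R ≤ normalizer (K : Set G))
    (hR : (Nat.card R).Prime) (hfrob : K ⊓ centralizer (R : Set G) = ⊥) {q : ℕ} [Fact q.Prime]
    (hNV : N ≤ V) (hc : ⁅V, V⁆ ≤ N) (hpow : ∀ v ∈ V, v ^ q ∈ N)
    (hKV : K ≤ normalizer (V : Set G)) (hRV : R ≤ normalizer (V : Set G))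
    (hKN : K ≤ normalizer (N : Set G)) (hRN : R ≤ normalizer (N : Set G))
    (hKq : (Nat.card K).Coprime q) {c : G} (hcV : c ∈ V)
    (h1 : ∀ v ∈ V, (∀ x ∈ R, ⁅x, v⁆ ∈ N) → v ∈ N ⊔ zpowers c) :
    ∀ g ∈ ⁅K, K⁆, ∀ v ∈ V, ⁅g, v⁆ ∈ N := by
  have hsemi : ∀ y ∈ R, y ≠ 1 → K ⊓ centralizer ({y} : Set G) = ⊥ := fun y hy hy1 => by
    rw [semiprime_of_prime hR y hy hy1, hfrob]
  have hK := isNilpotent_of_semiregular hRK (fun h => by
    rw [h, card_bot] at hR; exact Nat.not_prime_one hR) hsemi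
  set L := K ⊔ R with hL
  obtain ⟨W, _, _, _, ρ, ι, S⟩ := exists_secRep q L.subtype V N hNV
    (fun g => sup_le hKV hRV g.2) (fun g => sup_le hKN hRN g.2) hc hpow
  have hKL : K ≤ L := le_sup_left
  have h2 := commutator_trivial_of_finrank_le_one (ρ := ρ) (isNilpotent_subgroupOf hK L)
    (natCast_ne_zero_of_coprime _ q (by rwa [card_subgroupOf_of_le hKL]))
    (sgOf_le_normalizer hRK L) (fun x hx hx1 z hz e => Subtype.ext
      (fpf_of_semiregular (hsemi x hx fun h => hx1 (Subtype.ext h)) z hz (congrArg Subtype.val e)))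
    (S.finrank_range_normOp_le_one _ hcV (Cop.le_normalizer_of_commutator_le hc hNV hcV)
      fun m hm h => h1 m hm fun x hx => h ⟨x, mem_sup_right hx⟩ hx)
  intro g hg
  rw [← sgOf_commutator hKL hKL] at h2
  exact (S.rho_eq_one_iff ⟨g, hKL (commutator_le_self K hg)⟩).1 (h2 _ hg)

/-- BG 3.5 for an elementary abelian group `V`. -/
theorem Frobenius_prime_cent_prime {K R V : Subgroup G} (hRK : R ≤ normalizer (K : Set G))
    (hR : (Nat.card R).Prime) (hfrob : K ⊓ centralizer (R : Set G) = ⊥) {q : ℕ} [Fact q.Prime]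
    (hV : IsElementaryAbelian q V) (hKV : K ≤ normalizer (V : Set G))
    (hRV : R ≤ normalizer (V : Set G)) (hKq : (Nat.card K).Coprime q)
    (h1 : Nat.card ↥(V ⊓ centralizer (R : Set G)) ≤ q) : ⁅K, K⁆ ≤ centralizer (V : Set G) := by
  obtain ⟨c, hc⟩ := (Subgroup.isCyclic_iff_exists_zpowers_eq_top _).1
    (isCyclic_of_card_le_prime ((elemAb_isPGroup hV).to_le inf_le_left) h1)
  intro g hg
  exact mem_centralizer_iff_commutator.2 fun v hv => mem_bot.1 (Frobenius_prime_cent_prime_sec hRK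
    hR hfrob bot_le (commutator_self_eq_bot_of_comm hV.1).le (fun v hv => mem_bot.2 (hV.2 v hv))
    hKV hRV (fun x _ => mem_normalizer_bot x) (fun x _ => mem_normalizer_bot x) hKq
    (c := c) (hc.le (mem_zpowers c)).1 (fun v hv h => by
      rw [bot_sup_eq, hc]
      exact mem_inf.2 ⟨hv, fun x hx =>
        commutatorElement_eq_one_iff_mul_comm.1 (mem_bot.1 (h x hx))⟩) g hg v hv)

/-- BG 3.5 for a nilpotent group `M` with `C_M(R)` cyclic. -/
theorem Frobenius_prime_cent_cyclic {K R M : Subgroup G} (hRK : R ≤ normalizer (K : Set G))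
    (hR : (Nat.card R).Prime) (hfrob : K ⊓ centralizer (R : Set G) = ⊥)
    (hM : Group.IsNilpotent M) (hKM : K ≤ normalizer (M : Set G))
    (hRM : R ≤ normalizer (M : Set G)) (hcK : (Nat.card K).Coprime (Nat.card M))
    (hcR : (Nat.card R).Coprime (Nat.card M))
    (h1 : IsCyclic ↥(M ⊓ centralizer (R : Set G))) : ⁅K, K⁆ ≤ centralizer (M : Set G) := by
  have hRs : Group.IsSolvable R := by
    have := Fact.mk hR
    have := isCyclic_of_prime_card (α := R) rfl
    infer_instance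
  induction M using (wellFounded_lt (α := Subgroup G)).induction with | _ M ih
  by_cases hM1 : M = ⊥
  · rw [hM1, le_centralizer_iff]; exact bot_le
  obtain ⟨N, ℓ, hℓ, hd, hlt, hAN, hc, hpow, -⟩ := exists_chief_sec (M := M) inferInstance hM1
    (sup_le hKM hRM)
  have := Fact.mk hℓ
  have hdN := card_dvd_of_le hlt.le
  have IH := ih N hlt (isNilpotent_of_le hM hlt.le) (le_sup_left.trans hAN)
    (le_sup_right.trans hAN) (hcK.coprime_dvd_right hdN) (hcR.coprime_dvd_right hdN)
    (Frob.isCyclic_of_le (inf_le_inf_right _ hlt.le))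
  obtain ⟨c, hc'⟩ := (Subgroup.isCyclic_iff_exists_zpowers_eq_top _).1 h1
  have h2 := Frobenius_prime_cent_prime_sec hRK hR hfrob hlt.le hc hpow hKM hRM
    (le_sup_left.trans hAN) (le_sup_right.trans hAN) (hcK.coprime_dvd_right hd)
    (c := c) (hc'.le (mem_zpowers c)).1 fun v hv h => by
      rw [hc', sup_comm]
      exact (mem_cent_sup_iff hlt.le (Cop.le_normalizer_of_commutator_le hc hlt.le)
        (le_sup_right.trans hAN) (hcR.coprime_dvd_right hdN) (Or.inl hRs) hv).2 h
  rw [← Cop.commutator_eq_bot_iff_le_centralizer'] at IH ⊢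
  refine Cop.commutator_eq_bot_of_le_of_centralizes (commutator_le.2 fun v hv g hg => ?_) IH
    ((hcK.coprime_dvd_left (card_dvd_of_le (commutator_le_self K))).coprime_dvd_right hdN)
  rw [← inv_mem_iff, commutatorElement_inv]
  exact h2 g hg v hv

/-- The final configuration of the proof of BG 3.6. -/
theorem plength1_final {V K P R : Subgroup G} {p : ℕ} [hp : Fact p.Prime]
    (hV : IsElementaryAbelian p V) (hKp : (Nat.card K).Coprime p) (hKodd : Odd (Nat.card K))
    (hP : IsPGroup p P) (hPodd : Odd (Nat.card P)) (hR : (Nat.card R).Prime)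
    (hR2 : Nat.card R ≠ 2) (hRK : (Nat.card R).Coprime (Nat.card K)) (hK : Group.IsSolvable K)
    (nKV : K ≤ normalizer (V : Set G)) (nPV : P ≤ normalizer (V : Set G))
    (nRV : R ≤ normalizer (V : Set G)) (nPK : P ≤ normalizer (K : Set G))
    (nRK : R ≤ normalizer (K : Set G)) (nRP : R ≤ normalizer (P : Set G))
    (hf : K ⊓ centralizer (V : Set G) = ⊥) (h1 : Nat.card ↥(V ⊓ centralizer (R : Set G)) ≤ p)
    (h2 : P ⊓ centralizer (R : Set G) = ⊥) (hZ : IsZGroup ↥(K ⊓ centralizer (R : Set G))) :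
    ⁅K, P⁆ = ⊥ := by
  by_contra hnt
  have hPK : (Nat.card P).Coprime (Nat.card K) := (Cop.coprime_card_of_isPGroup hKp hP).symm
  obtain ⟨q, Q, hq, hqK, hQK, hQ, hBQ, hnt', hmin⟩ := exists_min_q (B := P ⊔ R) (sup_le nPK nRK)
    (Nat.Coprime.coprime_dvd_left (by rw [sup_comm]; exact card_sup_dvd_mul nRP)
      (Nat.Coprime.mul_left hRK hPK)) (Or.inr hK) hnt
  have := Fact.mk hq
  obtain ⟨e1, e2, -, e3, -, -, e4⟩ := Cop.minimal_action hQ hBQ le_sup_left
    (sup_le le_normalizer nRP) (hPK.coprime_dvd_right hqK) hnt' hmin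
  have e5 := e4 fun h => hKodd.not_two_dvd_nat (h ▸ hqK)
  have hsemi : ∀ y ∈ R, y ≠ 1 → P ⊓ centralizer ({y} : Set G) = ⊥ := fun y hy hy1 => by
    rw [semiprime_of_prime hR y hy hy1, h2]
  have hdQ := card_dvd_of_le hQK
  have hW := Frobenius_Wielandt_fixpoint nRP hsemi (le_sup_left.trans hBQ) (le_sup_right.trans hBQ)
    (isSolvable_of_le hK hQK) (hPK.coprime_dvd_right hdQ) (hRK.coprime_dvd_right hdQ)
  have h3 : Nat.card ↥(Q ⊓ centralizer (P : Set G)) < Nat.card Q :=
    card_lt_card_of_lt (lt_of_le_of_ne inf_le_left fun h => hnt'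
      (Cop.commutator_eq_bot_iff_le_centralizer'.2 (le_centralizer_comm (inf_eq_left.1 h))))
  have h4 : Nat.card ↥(Q ⊓ centralizer (R : Set G)) ≤ q := card_le_of_isCyclic_of_pow_eq_one
    (Frob.isCyclic_of_isPGroup_of_le (inf_le_inf_right _ hQK) (hQ.to_le inf_le_left))
    fun x hx => e5 x hx.1
  have h5 : Q ⊓ centralizer ((P ⊔ R : Subgroup G) : Set G) = ⊥ := by
    by_contra h
    have h6 : q ≤ Nat.card ↥(Q ⊓ centralizer ((P ⊔ R : Subgroup G) : Set G)) := by
      obtain ⟨n, hn⟩ := IsPGroup.iff_card.1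
        (hQ.to_le (inf_le_left (b := centralizer ((P ⊔ R : Subgroup G) : Set G))))
      rw [hn]
      exact Nat.le_self_pow (fun h0 => h (card_eq_one.1 (by rw [hn, h0, pow_zero]))) q
    refine hW.not_gt (Nat.mul_lt_mul_of_le_of_lt (Nat.pow_le_pow_left (h4.trans h6) _) h3
      (pow_pos Nat.card_pos _))
  obtain ⟨x, rfl, hx⟩ := exists_zpowers_eq_of_card_prime hR rfl
  set L := normalizer (V : Set G)
  obtain ⟨W, _, _, _, ρ, ι, S⟩ := exists_secRep p L.subtype V ⊥ bot_le (fun g => g.2)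
    (fun g => mem_normalizer_bot _) (commutator_self_eq_bot_of_comm hV.1).le
    fun v hv => mem_bot.2 (hV.2 v hv)
  have hQL : Q ≤ L := hQK.trans nKV
  obtain ⟨c, hc⟩ := (Subgroup.isCyclic_iff_exists_zpowers_eq_top _).1
    (isCyclic_of_card_le_prime ((elemAb_isPGroup hV).to_le inf_le_left) h1)
  have h6 := S.finrank_range_normOp_le_one ((zpowers x).subgroupOf L) (c := c)
    (hc.le (mem_zpowers c)).1 (mem_normalizer_bot _) fun v hv h => by
      rw [bot_sup_eq, hc]
      exact mem_inf.2 ⟨hv, fun y hy =>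
        commutatorElement_eq_one_iff_mul_comm.1 (mem_bot.1 (h ⟨y, nRV hy⟩ hy))⟩
  have hcard : ∀ Z : Subgroup G, Z ≤ Q →
      (Nat.card (Z.subgroupOf L) : AlgebraicClosure (ZMod p)) ≠ 0 := fun Z hZ =>
    natCast_ne_zero_of_coprime _ p (by
      rw [card_subgroupOf_of_le (hZ.trans hQL)]
      exact hKp.coprime_dvd_left (card_dvd_of_le (hZ.trans hQK)))
  have hker : ∀ Z : Subgroup G, Z ≤ Q → Z ≠ ⊥ → LinearMap.ker (normOp ρ (Z.subgroupOf L)) ≠ ⊥ := by
    intro Z hZ hZ1
    refine ker_normOp_ne_bot ?_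
    by_contra hn
    push Not at hn
    refine hZ1 (eq_bot_iff.2 fun z hz => hf.le (mem_inf.2 ⟨hQK (hZ hz),
      mem_centralizer_iff_commutator.2 fun a ha => mem_bot.1
        ((S.rho_eq_one_iff ⟨z, hQL (hZ hz)⟩).1 (hn _ hz) a ha)⟩))
  by_cases hab : ⁅Q, Q⁆ = ⊥
  · have hQ1 : Q ≠ ⊥ := fun h => hnt' (by rw [h, commutator_bot_left])
    obtain ⟨U, ψ, h7, h8, -, h9⟩ := exists_central_weight (ρ := ρ) (le_refl (Q.subgroupOf L))
      (hker Q le_rfl hQ1) (fun g hg => ker_normOp_invariant (le_normalizer hg))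
      (by rw [← sgOf_commutator hQL hQL, hab, bot_subgroupOf]; exact bot_le)
    obtain ⟨w, hw, hw0⟩ := U.exists_mem_ne_zero_of_ne_bot h8
    have hxL : x ∈ L := nRV (mem_zpowers x)
    have hzx : (zpowers x).subgroupOf L = zpowers (⟨x, hxL⟩ : L) := by
      rw [← map_subtype_sgOf (zpowers (⟨x, hxL⟩ : L)), MonoidHom.map_zpowers]
      rfl
    have hox : orderOf (⟨x, hxL⟩ : L) = Nat.card (zpowers x) := by rw [← orderOf_coe, hx]
    have h10 := fixed_commutator_of_finrank_le_one (P := P.subgroupOf L)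
      (sgOf_le_normalizer (le_sup_left.trans hBQ) L) (isNilpotent_subgroupOf hP.isNilpotent L)
      (by rwa [card_subgroupOf_of_le nPV]) (x := ⟨x, hxL⟩) (hox ▸ hR) (hox ▸ hR2)
      ((mem_normalizer_sgOf nPV).2 (nRP (mem_zpowers x)))
      ((mem_normalizer_sgOf hQL).2 (hBQ (mem_sup_right (mem_zpowers x))))
      (fun g hg e => Subtype.ext (mem_bot.1 (h2.le (mem_inf.2
        ⟨hg, mem_centralizer_zpowers_iff.2 (congrArg Subtype.val e)⟩)))) (hzx ▸ h6) (h9 hw)
    rw [← sgOf_commutator hQL nPV, e1] at h10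
    exact hw0 (eq_zero_of_mem_ker_normOp (hcard Q le_rfl) (h7 hw) h10)
  · have hZQ : ⁅Q, Q⁆ ≤ Q := commutator_le_self Q
    have hn : ∀ A : Subgroup G, A ≤ normalizer (Q : Set G) →
        A.subgroupOf L ≤ normalizer (((⁅Q, Q⁆ : Subgroup G).subgroupOf L : Subgroup L) : Set L) :=
      fun A hA => sgOf_le_normalizer (Cop.le_normalizer_commutator hA hA) L
    obtain ⟨v, hv, hv0, h7⟩ := exists_fixed_commutator (ρ := ρ) (K := Q.subgroupOf L)
      (Z := (⁅Q, Q⁆ : Subgroup G).subgroupOf L) (subgroupOf_mono L hZQ)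
      (hn _ (le_sup_right.trans hBQ)) (fun y hy hy1 z hz e => Subtype.ext (mem_bot.1 (h5.le
        (mem_inf.2 ⟨hZQ hz, le_centralizer_comm (A := P ⊔ zpowers x) (B := zpowers (z : G))
          (sup_le (le_centralizer_comm (zpowers_le.2 (e2.ge hz).2)) (by
            rw [← zpowers_eq_of_card_prime hR hy fun h => hy1 (Subtype.ext h), zpowers_le]
            exact mem_centralizer_zpowers_iff.2 (congrArg Subtype.val e).symm))
          (mem_zpowers _)⟩)))) h6 (hker _ hZQ hab)
      (fun g hg => ker_normOp_invariant (hn Q le_normalizer hg))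
      (by
        rw [← sgOf_commutator (hZQ.trans hQL) hQL,
          Cop.commutator_eq_bot_iff_le_centralizer'.2 (le_centralizer_comm e3), bot_subgroupOf]
        exact bot_le)
      (fun v hv h => eq_zero_of_mem_ker_normOp (hcard _ hZQ) hv h)
    rw [← sgOf_commutator hQL hQL] at h7
    exact hv0 (eq_zero_of_mem_ker_normOp (hcard _ hZQ) hv h7)

/-- The main part of the proof of BG 3.6. -/
theorem plength1_core {H R R₀ V U : Subgroup G} [V.Normal] [U.Normal] {p : ℕ}
    [hp : Fact p.Prime] (hH : Group.IsSolvable H) (hHodd : Odd (Nat.card H))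
    (hRH : R ≤ normalizer (H : Set G)) (hcop : (Nat.card R).Coprime (Nat.card H)) (hR₀ : R₀ ≤ R)
    (hR₀p : (Nat.card R₀).Prime) (hR2 : Nat.card R₀ ≠ 2)
    (hZ : IsZGroup ↥(H ⊓ centralizer (R₀ : Set G))) (hHR : ⁅H, R⁆ = H)
    (hV : IsElementaryAbelian p V) (hVU : V ≤ U) (hUH : U ≤ H)
    (hCV : H ⊓ centralizer (V : Set G) ≤ V) (hU : ∀ x ∈ H, (∀ u ∈ U, ⁅x, u⁆ ∈ V) → x ∈ U)
    (hUp : ¬ p ∣ V.relIndex U)
    (hd : ∀ A B : Subgroup G, A.Normal → B.Normal → A ≤ H → B ≤ H → A ⊓ B = ⊥ → A = ⊥ ∨ B = ⊥) :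
    ¬ p ∣ V.relIndex H := by
  intro hdvd
  have hVp := elemAb_isPGroup hV
  obtain ⟨K, hK, nRK⟩ := Cop.exists_invariant_hallOf {p}ᶜ (le_normalizer_of_normal' R U)
    (hcop.coprime_dvd_right (card_dvd_of_le hUH)) (isSolvable_of_le hH hUH)
  have hKp : (Nat.card K).Coprime p := coprime_iff_isPiSubgroup.2 hK.2.1
  have hKH : K ≤ H := hK.1.trans hUH
  have hVK : V ⊓ K = ⊥ := inf_eq_bot_of_coprime (Cop.coprime_card_of_isPGroup hKp hVp).symm
  have hmul : ∀ u ∈ U, ∃ v ∈ V, ∃ k ∈ K, v * k = u := fun u hu =>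
    exists_mul_of_hallOf (Cop.isPiHallOf_singleton_iff.2 ⟨hVU, hVp, hUp⟩) hK hu
  have hU' : ∀ x ∈ H, (∀ k ∈ K, ⁅x, k⁆ ∈ V) → x ∈ U := fun x hx h => hU x hx fun u hu => by
    obtain ⟨v, hv, k, hk, rfl⟩ := hmul u hu
    have : ⁅x, v * k⁆ = (x * v * x⁻¹ * v⁻¹) * (v * ⁅x, k⁆ * v⁻¹) := by
      simp only [commutatorElement_def]; group
    rw [this]
    exact mul_mem (mul_mem (Normal.conj_mem inferInstance _ hv _) (inv_mem hv))
      (Normal.conj_mem inferInstance _ (h k hk) _)
  have hfrat : ∀ g : G, ∃ v ∈ V, ∃ n ∈ normalizer (K : Set G), v * n = g := by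
    intro g
    obtain ⟨u, hu, e⟩ := Hall.conj_hallOf (isSolvable_of_le hH hUH) hK
      (Hall.isPiHallOf_map_conj hK (le_normalizer_of_normal' ⊤ U (mem_top g)))
    obtain ⟨v, hv, k, hk, rfl⟩ := hmul u hu
    refine ⟨v, hv, v⁻¹ * g, mem_normalizer_of_map_conj_eq ?_, by simp⟩
    rw [map_conj_mul, e, map_conj_mul, map_conj_eq_of_mem_normalizer (le_normalizer hk),
      map_conj_inv_map_conj]
  have hnorm : ∀ A : Subgroup G, A ≤ V → normalizer (K : Set G) ≤ normalizer (A : Set G) →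
      A.Normal := fun A hA h => normal_of_le_normalizer_top fun g _ => by
    obtain ⟨v, hv, n, hn, rfl⟩ := hfrat g
    exact mul_mem (centralizer_le_normalizer _
      (centralizer_antitone hA (elemAb_le_centralizer hV hv))) (h hn)
  have nKV : K ≤ normalizer (V : Set G) := le_normalizer_of_normal' K V
  have hf : K ⊓ centralizer (V : Set G) = ⊥ :=
    eq_bot_iff.2 fun x hx => hVK.le (mem_inf.2 ⟨hCV (mem_inf.2 ⟨hKH hx.1, hx.2⟩), hx.1⟩)
  have hHU : ¬ H ≤ U := fun h => hUp (by rwa [le_antisymm hUH h])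
  have hA : V ⊓ centralizer (K : Set G) = ⊥ := by
    refine (hd _ ⁅V, K⁆ (hnorm _ inf_le_left (Cop.le_normalizer_inf_centralizer
      (le_normalizer_of_normal' _ V) le_rfl)) (hnorm _ (commutator_le_left V K)
        (Cop.le_normalizer_commutator (le_normalizer_of_normal' _ V) le_rfl))
      (inf_le_left.trans (hVU.trans hUH)) ((commutator_le_left V K).trans (hVU.trans hUH))
      (eq_bot_iff.2 fun x hx => (Cop.commutator_inf_centralizer_eq_bot nKV
        (Cop.coprime_card_of_isPGroup hKp hVp) hV.1).le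
          (mem_inf.2 ⟨hx.2, hx.1.2⟩))).resolve_right fun h => hHU fun x hx => hU' x hx fun k hk => ?_
    rw [mem_bot.1 (hf.le (mem_inf.2 ⟨hk, Cop.commutator_eq_bot_iff_le_centralizer'.1 h hk⟩))]
    simp
  set N := H ⊓ normalizer (K : Set G) with hN
  have nRN : R ≤ normalizer (N : Set G) :=
    le_normalizer_inf hRH (Cop.le_normalizer_normalizer nRK)
  have hNV : ∀ x ∈ normalizer (K : Set G), x ∈ V → x = 1 := fun x hx hxV =>
    mem_bot.1 (hA.le (mem_inf.2 ⟨hxV, mem_centralizer_iff_commutator.2 fun k hk =>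
      mem_bot.1 (hVK.le (mem_inf.2 ⟨commutator_le_left V K (commutator_mem_commutator hxV hk),
        le_normalizer_iff_commutator_le_right.1 (zpowers_le.2 hx)
          (commutator_mem_commutator (mem_zpowers x) hk)⟩))⟩))
  have hHN : N ⊔ V = H := le_antisymm (sup_le inf_le_left (hVU.trans hUH)) fun g hg => by
    obtain ⟨v, hv, n, hn, rfl⟩ := hfrat g
    exact mul_mem (mem_sup_right hv) (mem_sup_left
      (mem_inf.2 ⟨(mul_mem_cancel_left (hUH (hVU hv))).1 hg, hn⟩))
  have hcN := hcop.coprime_dvd_right (card_dvd_of_le (inf_le_left : N ≤ H))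
  obtain ⟨P, hP, nRP⟩ := Cop.exists_invariant_sylowOf p nRN hcN
    (Or.inr (isSolvable_of_le hH inf_le_left))
  have hPp := Cop.isPGroup_of_isPiHallOf hP
  have hPH : P ≤ H := hP.1.trans inf_le_left
  have nPK : P ≤ normalizer (K : Set G) := hP.1.trans inf_le_right
  have hKP : ⁅K, P⁆ ≠ ⊥ := by
    intro h
    have h1 : P ≤ U := fun x hx => hU' x (hPH hx) fun k hk => by
      rw [← inv_mem_iff, commutatorElement_inv, mem_bot.1 (h.le (commutator_mem_commutator hk hx))]
      exact one_mem _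
    have h2 : P ≤ V := Cop.le_of_coprime_relIndex h1 (le_normalizer_of_normal' U V) (by
      obtain ⟨n, hn⟩ := IsPGroup.iff_card.1 hPp
      rw [hn]
      exact ((hp.out.coprime_iff_not_dvd).2 hUp).pow_left n)
    have h3 : P = ⊥ := eq_bot_iff.2 fun x hx => mem_bot.2 (hNV x (nPK hx) (h2 hx))
    rw [← hHN, relIndex_sup_of_le_normalizer (le_normalizer_of_normal' N V)] at hdvd
    refine (Cop.isPiHallOf_singleton_iff.1 hP).2.2 ?_
    rw [h3, relIndex_bot_left]
    exact hdvd.trans (relIndex_dvd_card _ _)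
  have hc0 := hcop.coprime_dvd_left (card_dvd_of_le hR₀)
  have hc0K := hc0.coprime_dvd_right (card_dvd_of_le hKH)
  have hKR : ⁅K, R₀⁆ ≠ ⊥ := by
    intro h
    have h1 := Cop.commutator_eq_bot_of_centralizer_le (hR₀.trans nRN) (inf_le_right : N ≤ _)
      (fun x hx => by
        obtain ⟨v, hv, k, hk, rfl⟩ := hmul x (hU' x hx.1.1 fun k hk => by
          rw [mem_centralizer_iff_commutator.1 hx.2 k hk]; exact one_mem _)
        rw [hNV v ((mul_mem_cancel_right (le_normalizer hk)).1 hx.1.2) hv, one_mul]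
        exact hk) h hc0K
    have h2 : IsZGroup N := Frob.isZGroup_of_le (K := H ⊓ centralizer (R₀ : Set G))
      (le_inf inf_le_left (le_centralizer_comm (Cop.commutator_eq_bot_iff_le_centralizer'.1 h1)))
    set π := QuotientGroup.mk' V
    have h3 : N.map π = H.map π := by
      rw [← hHN, Subgroup.map_sup, (Subgroup.map_eq_bot_iff V).2 (QuotientGroup.ker_mk' V).ge,
        sup_bot_eq]
    have h4 : IsZGroup (H.map π) := h3 ▸ IsZGroup.of_surjective (π.subgroupMap_surjective N)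
    have h5 := Frob.isCyclic_commutator_of_isZGroup (map_le_normalizer_map hRH π)
    rw [← map_commutator, hHR] at h5
    have h6 : IsMulCommutative (H.map π) := inferInstance
    refine hHU fun x hx => hU x hx fun u hu => (QuotientGroup.eq_one_iff _).1 ?_
    change π _ = 1
    rw [map_commutatorElement, commutatorElement_eq_one_iff_mul_comm]
    exact le_centralizer_of_isMulCommutative h6 (mem_map_of_mem π (hUH hu)) _ (mem_map_of_mem π hx)
  have hKodd := hHodd.of_dvd_nat (card_dvd_of_le hKH)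
  have hCVR : V ⊓ centralizer (R₀ : Set G) ≠ ⊥ := fun h => hKR (by
    rw [commutator_comm]
    exact eq_bot_iff.2 ((le_inf (le_normalizer_iff_commutator_le_right.1 (hR₀.trans nRK))
      (odd_prime_sdprod_abelem_cent1 (hR₀.trans nRK) hKodd hR₀p hR2 hc0K hV nKV
        (le_normalizer_of_normal' _ V) hKp h)).trans hf.le))
  refine hKP (plength1_final hV hKp hKodd hPp (hHodd.of_dvd_nat (card_dvd_of_le hPH)) hR₀p hR2 hc0K
    (isSolvable_of_le hH hKH) nKV (le_normalizer_of_normal' _ V) (le_normalizer_of_normal' _ V) nPK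
    (hR₀.trans nRK) (hR₀.trans nRP) hf (card_le_of_isCyclic_of_pow_eq_one
      (Frob.isCyclic_of_isPGroup_of_le (inf_le_inf_right _ (hVU.trans hUH)) (hVp.to_le inf_le_left))
      fun x hx => hV.2 x hx.1) ?_ (Frob.isZGroup_of_le (inf_le_inf_right _ hKH)))
  by_contra h
  obtain ⟨y, hy, hy1, hyp⟩ := exists_prime_order_mem h
  obtain ⟨z, hz, hz1, -⟩ := exists_prime_order_mem hCVR
  have h1 : IsCyclic ↥((P ⊔ V) ⊓ centralizer (R₀ : Set G)) := Frob.isCyclic_of_isPGroup_of_le
    (inf_le_inf_right _ (sup_le hPH (hVU.trans hUH)))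
    ((hPp.to_sup_of_normal_right hVp).to_le inf_le_left)
  have h2 : orderOf y = p := by
    obtain ⟨n, hn⟩ := orderOf_eq_pow_of_mem_isPGroup hPp hy.1
    exact (Nat.prime_dvd_prime_iff_eq hyp hp.out).1 (hyp.dvd_of_dvd_pow hn.dvd)
  have h3 := Frob.mem_zpowers_of_isCyclic (mem_inf.2 ⟨mem_sup_right hz.1, hz.2⟩)
    (mem_inf.2 ⟨mem_sup_left hy.1, hy.2⟩ : y ∈ (P ⊔ V) ⊓ centralizer (R₀ : Set G))
    (by rw [orderOf_eq_prime (hV.2 z hz.1) hz1, ← h2, pow_orderOf_eq_one])
  exact hy1 (hNV y (nPK hy.1) (zpowers_le.2 hz.1 h3))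

theorem pPrimeCore_quotient_phiCore {p : ℕ} [hp : Fact p.Prime] (hG : IsPSolvable p G)
    (h0 : pPrimeCore p G = ⊥) : pPrimeCore p (G ⧸ phiCore p G) = ⊥ := by
  refine eq_bot_iff.2 fun y hy => ?_
  obtain ⟨x, rfl⟩ := QuotientGroup.mk'_surjective _ y
  obtain ⟨c, -, h1, h2⟩ := exists_lift_isPiNum (QuotientGroup.mk' (phiCore p G)) (π := {p}ᶜ) x
    ((isPiNum_compl_singleton_iff hp.out).2 ((pPrimeCore_coprime p).coprime_dvd_left
      (orderOf_dvd_natCard _ hy)))
  rw [← h1] at hy ⊢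
  rw [eq_one_of_coprime_of_commutator_mem_phiCore hG h0
    ((isPiNum_compl_singleton_iff hp.out).1 h2) fun a ha => (QuotientGroup.eq_one_iff _).1 ?_]
  · exact one_mem _
  change QuotientGroup.mk' _ _ = 1
  rw [map_commutatorElement, ← inv_eq_one, commutatorElement_inv]
  exact mem_bot.1 ((commutator_pCore_pPrimeCore p).le (commutator_mem_commutator
    (map_pCore_le p (QuotientGroup.mk'_surjective _) (mem_map_of_mem _ ha)) hy))

universe u in
theorem plength1_step {X : Type u} [Group X] [Finite X] {H R R₀ : Subgroup X} [H.Normal] {p : ℕ}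
    [hp : Fact p.Prime] (hH : Group.IsSolvable H) (hHodd : Odd (Nat.card H))
    (hRodd : Odd (Nat.card R)) (hcop : (Nat.card R).Coprime (Nat.card H)) (hR₀ : R₀ ≤ R)
    (hR₀p : (Nat.card R₀).Prime) (hZ : IsZGroup ↥(H ⊓ centralizer (R₀ : Set X))) (hHR : ⁅H, R⁆ = H)
    (ih : ∀ (Y : Type u) [Group Y] [Finite Y] (H' R R₀ : Subgroup Y), Nat.card H' < Nat.card H →
      Group.IsSolvable H' → Odd (Nat.card H') → Odd (Nat.card R) → R ≤ normalizer (H' : Set Y) →
      (Nat.card R).Coprime (Nat.card H') → R₀ ≤ R → (Nat.card R₀).Prime →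
      IsZGroup ↥(H' ⊓ centralizer (R₀ : Set Y)) → PLengthLE p 1 ↥⁅H', R⁆) :
    PLengthLE p 1 H := by
  by_contra hcon
  have hRH : R ≤ normalizer (H : Set X) := le_normalizer_of_normal' R H
  have hc0 := hcop.coprime_dvd_left (card_dvd_of_le hR₀)
  have hq : ∀ (N : Subgroup H) [N.Normal], (N.map H.subtype).Normal → N ≠ ⊥ →
      PLengthLE p 1 (H ⧸ N) := by
    intro N _ hN hN1
    set π := QuotientGroup.mk' (N.map H.subtype)
    have hNH : N.map H.subtype ≤ H := map_subtype_le N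
    have h1 := ih _ (H.map π) (R.map π) (R₀.map π) (by
        rw [← card_map_mk'_mul_card_inf H (N.map H.subtype), inf_eq_left.2 hNH, card_map_subtype]
        exact lt_mul_of_one_lt_right Nat.card_pos ((one_lt_card_iff_ne_bot N).2 hN1))
      (isSolvable_map hH π) (hHodd.of_dvd_nat (card_map_dvd _ π))
      (hRodd.of_dvd_nat (card_map_dvd _ π)) (map_le_normalizer_map hRH π)
      ((hcop.coprime_dvd_left (card_map_dvd _ π)).coprime_dvd_right (card_map_dvd _ π))
      (map_mono hR₀) (by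
        rwa [card_map_of_inf_ker_eq_bot π (by
          rw [QuotientGroup.ker_mk']
          exact inf_eq_bot_of_coprime (hc0.coprime_dvd_right (card_dvd_of_le hNH)))])
      (by
        rw [Cop.map_mk'_inf_centralizer _ (hR₀.trans hRH)
          (hc0.coprime_dvd_right (card_dvd_of_le inf_le_left))
          (Or.inr (isSolvable_of_le hH inf_le_left))]
        exact IsZGroup.of_surjective (π.subgroupMap_surjective _))
    rw [← map_commutator, hHR] at h1
    refine pLengthLE_of_injective h1 (QuotientGroup.lift N (π.subgroupMap H) fun x hx =>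
      Subtype.ext ((QuotientGroup.eq_one_iff (x : X)).2 (mem_map_of_mem _ hx))) ?_
    rw [injective_iff_map_eq_one]
    intro a ha
    obtain ⟨x, rfl⟩ := QuotientGroup.mk_surjective a
    obtain ⟨y, hy, e⟩ := (QuotientGroup.eq_one_iff (x : X)).1 (congrArg Subtype.val ha)
    rw [QuotientGroup.eq_one_iff, ← show y = x from Subtype.ext e]
    exact hy
  have hchar : ∀ (N : Subgroup H) [N.Characteristic], (N.map H.subtype).Normal := fun N _ =>
    normal_of_le_normalizer_top ((le_normalizer_of_normal' ⊤ H).trans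
      (normalizer_le_normalizer_map_subtype_of_characteristic H N))
  have hS := isPSolvable_of_isSolvable (p := p) hH
  have h0 : pPrimeCore p H = ⊥ := by
    by_contra h
    have := pPrimeCore_characteristic (G := H) p
    exact hcon (pLengthLE_of_quotient_coprime _ (pPrimeCore_coprime p) (hq _ (hchar _) h))
  have := pCore_characteristic (G := H) p
  have := ppCore_characteristic (G := H) (p := p)
  have h1 : phiCore p H = ⊥ := by
    by_contra h
    have : (phiCore p H).Characteristic := by unfold phiCore; infer_instance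
    exact hcon ((pquo_plength1 _ ((pCore_isPGroup p).to_le phiCore_le)
      (pPrimeCore_quotient_phiCore hS h0)).1 (hq _ (hchar _) h))
  have := hchar (pCore p H)
  have := hchar (ppCore p H)
  have h2 := plength1_core (V := (pCore p H).map H.subtype) (U := (ppCore p H).map H.subtype)
    hH hHodd hRH hcop hR₀ hR₀p (fun h => hRodd.not_two_dvd_nat (h ▸ card_dvd_of_le hR₀)) hZ hHR
    (elemAb_map ⟨le_centralizer_iff_isMulCommutative.1
      (Cop.commutator_eq_bot_iff_le_centralizer'.1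
        (eq_bot_iff.2 (commutator_pCore_le_phiCore.trans h1.le))),
      fun a ha => mem_bot.1 (h1.le (pow_mem_phiCore ha))⟩ _)
    (map_mono pCore_le_ppCore) (map_subtype_le _)
    (fun x hx => ⟨⟨x, hx.1⟩, centralizer_pCore_le hS h0 fun y hy =>
      Subtype.ext (hx.2 y (mem_map_of_mem _ hy)), rfl⟩)
    (fun x hx h => ⟨⟨x, hx⟩, mem_ppCore_of_commutator_mem hS fun k hk => by
      obtain ⟨y, hy, e⟩ := h k (mem_map_of_mem _ hk)
      rwa [← show y = ⁅(⟨x, hx⟩ : H), k⁆ from Subtype.ext e], rfl⟩)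
    (by
      rw [relIndex_map_map_of_injective _ _ H.subtype_injective]
      exact hp.out.coprime_iff_not_dvd.1 (qSec_iff_coprime_relIndex.1 qSec_ppCore).symm)
    (fun A B hA hB hAH hBH hAB => by
      by_contra hn
      push Not at hn
      refine hcon (pLengthLE_of_quotient_inf (A.subgroupOf H) (B.subgroupOf H)
        (by rw [subgroupOf, subgroupOf, ← comap_inf, hAB, comap_subtype, bot_subgroupOf])
        (hq _ (by rwa [map_subgroupOf_eq_of_le hAH]) fun h =>
          hn.1 ((subgroupOf_eq_bot.1 h).eq_bot_of_le hAH))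
        (hq _ (by rwa [map_subgroupOf_eq_of_le hBH]) fun h =>
          hn.2 ((subgroupOf_eq_bot.1 h).eq_bot_of_le hBH))))
  refine hcon (pLengthLE_one_iff.2 ?_)
  rw [pPrimePCore_eq_pCore_of_eq_bot h0]
  rw [relIndex, map_subtype_sgOf] at h2
  exact (hp.out.coprime_iff_not_dvd.2 h2).symm

universe u in
theorem plength1_aux {p : ℕ} [Fact p.Prime] (n : ℕ) :
    ∀ (Y : Type u) [Group Y] [Finite Y] (H R R₀ : Subgroup Y), Nat.card H = n →
      Group.IsSolvable H → Odd (Nat.card H) → Odd (Nat.card R) → R ≤ normalizer (H : Set Y) →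
      (Nat.card R).Coprime (Nat.card H) → R₀ ≤ R → (Nat.card R₀).Prime →
      IsZGroup ↥(H ⊓ centralizer (R₀ : Set Y)) → PLengthLE p 1 ↥⁅H, R⁆ := by
  induction n using Nat.strong_induction_on with | _ n ih
  intro Y _ _ H R R₀ hn hH hHodd hRodd hRH hcop hR₀ hR₀p hZ
  have hle : ⁅H, R⁆ ≤ H := Cop.commutator_le_left_of_le_normalizer hRH
  by_cases hHR : ⁅H, R⁆ = H
  · set L := normalizer (H : Set Y)
    have hHL : H ≤ L := le_normalizer
    have : (H.subgroupOf L).Normal := normal_in_normalizer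
    have h1 := plength1_step (p := p) (H := H.subgroupOf L) (R := R.subgroupOf L)
      (R₀ := R₀.subgroupOf L) (isSolvable_subgroupOf hH L) (by rwa [card_subgroupOf_of_le hHL])
      (by rwa [card_subgroupOf_of_le hRH])
      (by rwa [card_subgroupOf_of_le hRH, card_subgroupOf_of_le hHL]) (subgroupOf_mono L hR₀)
      (by rwa [card_subgroupOf_of_le (hR₀.trans hRH)])
      (by
        rw [centralizer_subgroupOf_of_le (hR₀.trans hRH), subgroupOf, subgroupOf, ← comap_inf]
        have h2 : H ⊓ centralizer (R₀ : Set Y) ≤ L := inf_le_left.trans hHL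
        exact IsZGroup.of_injective (f := (subgroupOfEquivOfLe h2).toMonoidHom)
          (subgroupOfEquivOfLe h2).injective)
      (by rw [← sgOf_commutator hHL hRH, hHR])
      (fun Y' _ _ H' R' R₀' h => ih _ (by rwa [card_subgroupOf_of_le hHL, hn] at h) Y' H' R' R₀' rfl)
    rw [hHR]
    exact pLengthLE_of_injective h1 (subgroupOfEquivOfLe hHL).symm.toMonoidHom
      (subgroupOfEquivOfLe hHL).symm.injective
  · have hd := card_dvd_of_le hle
    have h1 := ih _ (hn ▸ card_lt_card_of_lt (lt_of_le_of_ne hle hHR)) Y ⁅H, R⁆ R R₀ rfl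
      (isSolvable_of_le hH hle) (hHodd.of_dvd_nat hd) hRodd (normalizer_commutator_ge_right H R)
      (hcop.coprime_dvd_right hd) hR₀ hR₀p (Frob.isZGroup_of_le (inf_le_inf_right _ hle))
    rwa [Cop.commutator_commutator_eq hRH hcop] at h1

/-- BG 3.6 (ambient form of S1444). -/
theorem odd_sdprod_Zgroup_cent_prime_plength1 {H R R₀ : Subgroup G} (hH : Group.IsSolvable H)
    (hHodd : Odd (Nat.card H)) (hRodd : Odd (Nat.card R)) (hRH : R ≤ normalizer (H : Set G))
    (hcop : (Nat.card R).Coprime (Nat.card H)) (hR₀ : R₀ ≤ R) (hR₀p : (Nat.card R₀).Prime)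
    (hZ : IsZGroup ↥(H ⊓ centralizer (R₀ : Set G)))
    (p : ℕ) [Fact p.Prime] : PLengthLE p 1 ↥⁅H, R⁆ := by
  exact plength1_aux _ G H R R₀ rfl hH hHodd hRodd hRH hcop hR₀ hR₀p hZ

/-- BG 3.7 (Thompson's theorem; no solvability needed). -/
theorem prime_Frobenius_sol_kernel_nil {K R : Subgroup G} (hRK : R ≤ normalizer (K : Set G))
    (hR : (Nat.card R).Prime) (hfrob : K ⊓ centralizer (R : Set G) = ⊥) : Group.IsNilpotent K := by
  exact isNilpotent_of_semiregular hRK (fun h => by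
    rw [h, card_bot] at hR; exact Nat.not_prime_one hR) fun y hy hy1 => by
      rw [semiprime_of_prime hR y hy hy1, hfrob]

/-- BG 3.7 for a semiregular action. -/
theorem Frobenius_sol_kernel_nil {K R : Subgroup G} (hRK : R ≤ normalizer (K : Set G))
    (hR1 : R ≠ ⊥) (hfrob : ∀ x ∈ R, x ≠ 1 → K ⊓ centralizer ({x} : Set G) = ⊥) :
    Group.IsNilpotent K := by
  exact isNilpotent_of_semiregular hRK hR1 hfrob

theorem map_fittingOf_le {G' : Type*} [Group G'] [Finite G'] (f : G →* G') (H : Subgroup G) :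
    (fittingOf H).map f ≤ fittingOf (H.map f) :=
  le_map_fitting (map_mono (fittingOf_le' H))
    (map_le_normalizer_map (le_normalizer.trans (normalizer_le_normalizer_fittingOf' H)) f)
    (isNilpotent_map (fittingOf_isNilpotent' H) f)

theorem commg_sub_Fitting_aux {K R : Subgroup G} [K.Normal] (hK : Group.IsSolvable K)
    (hKodd : Odd (Nat.card K)) (hR : (Nat.card R).Prime) (hR2 : Nat.card R ≠ 2)
    (hcop : (Nat.card R).Coprime (Nat.card K))
    (hF : fittingOf K ⊓ centralizer (R : Set G) = ⊥) : ⁅K, R⁆ ≤ fittingOf K := by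
  have := fittingOf_normal' K
  set F := fittingOf K with hFdef
  set π := QuotientGroup.mk' F
  have hKn : (K.map π).Normal := Normal.map inferInstance π (QuotientGroup.mk'_surjective F)
  have := fittingOf_normal' (K.map π)
  set F₂ := (fittingOf (K.map π)).comap π
  have hF₂K : F₂ ≤ K := (comap_mono (fittingOf_le' _)).trans (by
    rw [comap_map_eq, QuotientGroup.ker_mk', sup_eq_left.2 (fittingOf_le' K)])
  have hFF₂ : F ≤ F₂ := fun x hx => by
    rw [mem_comap, show π x = 1 from (QuotientGroup.eq_one_iff x).2 hx]; exact one_mem _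
  have h1 : F₂ ≤ (centralizer ((R.map π : Subgroup _) : Set (G ⧸ F))).comap π := by
    refine Cop.le_of_forall_invariant_sylowOf_le (le_normalizer_of_normal' R F₂)
      (hcop.coprime_dvd_right (card_dvd_of_le hF₂K)) (Or.inr (isSolvable_of_le hK hF₂K))
      fun p _ P _ hP hRP => ?_
    have hPp := Cop.isPGroup_of_isPiHallOf hP
    have hPK : P ≤ K := hP.1.trans hF₂K
    set V := (pPrimeCore p F).map F.subtype
    have hVn : V.Normal := normal_of_le_normalizer_top
      ((le_normalizer_of_normal' ⊤ F).trans (normalizer_le_normalizer_map_pPrimeCore p F))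
    have h2 := odd_prime_sdprod_cent1 (V := V) hRP (hKodd.of_dvd_nat (card_dvd_of_le hPK)) hR hR2
      (hcop.coprime_dvd_right (card_dvd_of_le hPK)) (le_normalizer_of_normal' _ _)
      (le_normalizer_of_normal' _ _)
      (Cop.coprime_card_of_isPGroup (map_pPrimeCore_coprime p F) hPp).symm
      (eq_bot_iff.2 ((inf_le_inf_right _ (map_subtype_le _)).trans hF.le))
    have h3 : F ≤ P ⊔ V := by
      have := fittingOf_isNilpotent' K
      have h4 := congrArg (Subgroup.map F.subtype) (top_le_piCore_sup_of_isNilpotent (G := F) {p})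
      rw [← MonoidHom.range_eq_map, range_subtype, Subgroup.map_sup, ← pCore_eq_piCore,
        ← pPrimeCore_eq_piCore] at h4
      refine h4.ge.trans (sup_le_sup_right ?_ _)
      exact Cop.le_sylowOf_of_le_normalizer hP (map_pCore_isPGroup p F)
        ((map_subtype_le _).trans hFF₂) ((le_normalizer_of_normal' P F).trans
          (normalizer_le_normalizer_map_pCore p F))
    have h4 : SubnormalIn (P ⊔ F) F₂ := by
      have := (SubnormalIn.of_isNilpotent (fittingOf_isNilpotent' (K.map π))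
        (map_le_iff_le_comap.2 hP.1)).comap π
      rwa [comap_map_eq, QuotientGroup.ker_mk'] at this
    have h5 : (P ⊓ centralizer (V : Set G)).IsSubnormal := by
      refine ((SubnormalIn.of_le_normalizer (inf_le_left.trans le_sup_left) ?_).trans
        h4).isSubnormal (Normal.isSubnormal inferInstance)
      refine (sup_le le_sup_left h3).trans (sup_le (Cop.le_normalizer_inf_centralizer
        le_normalizer (le_normalizer_of_normal' _ _)) ?_)
      exact (le_centralizer_comm inf_le_right).trans (centralizer_le_normalizer _)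
    have h6 : P ⊓ centralizer (V : Set G) ≤ F := by
      have := (hPp.to_le (inf_le_left (b := centralizer (V : Set G)))).isNilpotent
      rw [hFdef, fittingOf, map_fitting_eq_inf_of_isSubnormal (Normal.isSubnormal inferInstance)]
      exact le_inf (le_fitting_of_isSubnormal h5 this) (inf_le_left.trans hPK)
    rintro g hg _ ⟨x, hx, rfl⟩
    rw [← commutatorElement_eq_one_iff_mul_comm, ← map_commutatorElement]
    exact (QuotientGroup.eq_one_iff _).2 (h6 (mem_inf.2
      ⟨le_normalizer_iff_commutator_le_right.1 hRP (commutator_mem_commutator hx hg),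
        h2 (commutator_mem_commutator hx hg)⟩))
  have h2 := coprime_cent_Fitting (isSolvable_map hK π) (le_normalizer_of_normal' (R.map π) _)
    ((hcop.coprime_dvd_left (card_map_dvd _ π)).coprime_dvd_right (card_map_dvd _ π))
  refine commutator_le.2 fun g hg x hx => (QuotientGroup.eq_one_iff _).1 ?_
  change π _ = 1
  rw [map_commutatorElement, commutatorElement_eq_one_iff_mul_comm]
  refine h2 (mem_inf.2 ⟨mem_map_of_mem π hx, fun y hy => ?_⟩) _ (mem_map_of_mem π hg)
  obtain ⟨y, rfl⟩ := QuotientGroup.mk'_surjective F y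
  exact (h1 hy _ (mem_map_of_mem π hx)).symm

/-- BG 3.8 (ambient form of S1445). -/
theorem odd_sdprod_primact_commg_sub_Fitting {K R : Subgroup G} (hK : Group.IsSolvable K)
    (hKodd : Odd (Nat.card K)) (hRodd : Odd (Nat.card R)) (hRK : R ≤ normalizer (K : Set G))
    (hcop : (Nat.card R).Coprime (Nat.card K))
    (hprime : ∀ x ∈ R, x ≠ 1 → K ⊓ centralizer ({x} : Set G) = K ⊓ centralizer (R : Set G))
    (hF : fittingOf K ⊓ centralizer (R : Set G) = ⊥) : ⁅K, R⁆ ≤ fittingOf K := by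
  by_cases hR1 : R = ⊥
  · rw [hR1, commutator_bot_right]; exact bot_le
  obtain ⟨x, hx, hx1, hxp⟩ := exists_prime_order_mem hR1
  have hxR : zpowers x ≤ R := zpowers_le.2 hx
  set L := normalizer (K : Set G)
  have hKL : K ≤ L := le_normalizer
  have : (K.subgroupOf L).Normal := normal_in_normalizer
  have hF' : (fittingOf (K.subgroupOf L)).map L.subtype ≤ fittingOf K := by
    have := map_fittingOf_le L.subtype (K.subgroupOf L)
    rwa [map_subgroupOf_eq_of_le hKL] at this
  have h1 := commg_sub_Fitting_aux (K := K.subgroupOf L) (R := (zpowers x).subgroupOf L)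
    (isSolvable_subgroupOf hK L) (by rwa [card_subgroupOf_of_le hKL])
    (by rwa [card_subgroupOf_of_le (hxR.trans hRK), Nat.card_zpowers])
    (by
      rw [card_subgroupOf_of_le (hxR.trans hRK)]
      exact fun h => hRodd.not_two_dvd_nat (h ▸ card_dvd_of_le hxR))
    (by
      rw [card_subgroupOf_of_le (hxR.trans hRK), card_subgroupOf_of_le hKL]
      exact hcop.coprime_dvd_left (card_dvd_of_le hxR))
    (eq_bot_iff.2 fun g hg => by
      have h2 := hF' (mem_map_of_mem _ hg.1)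
      have h3 := (mem_centralizer_sgOf (hxR.trans hRK)).1 hg.2
      rw [centralizer_zpowers_eq] at h3
      exact Subtype.ext (mem_bot.1 (hF.le (mem_inf.2 ⟨h2, ((hprime x hx hx1).le
        (mem_inf.2 ⟨fittingOf_le' K h2, h3⟩)).2⟩))))
  rw [← sgOf_commutator hKL (hxR.trans hRK)] at h1
  have h2 : ⁅K, zpowers x⁆ ≤ fittingOf K := (le_map_of_sgOf_le
    ((Cop.commutator_le_left_of_le_normalizer (hxR.trans hRK)).trans hKL) h1).trans hF'
  have h3 := Cop.sup_centralizer_eq_of_commutator_le (fittingOf_le' K) h2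
    ((hcop.coprime_dvd_left (card_dvd_of_le hxR)).coprime_dvd_right
      (card_dvd_of_le (fittingOf_le' K))) (Or.inr (isSolvable_of_le hK (fittingOf_le' K)))
  rw [centralizer_zpowers_eq, hprime x hx hx1, sup_comm] at h3
  refine commutator_le.2 fun g hg y hy => ?_
  rw [← inv_mem_iff, commutatorElement_inv]
  exact (mem_cent_sup_iff (fittingOf_le' K)
    (le_normalizer.trans (normalizer_le_normalizer_fittingOf' K))
    (hRK.trans (normalizer_le_normalizer_fittingOf' K))
    (hcop.coprime_dvd_right (card_dvd_of_le (fittingOf_le' K)))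
    (Or.inr (isSolvable_of_le hK (fittingOf_le' K))) hg).1 (h3.ge hg) y hy

theorem hasFPF_of_semiregular {H R : Subgroup G} (hH1 : H ≠ ⊥) (hRH : R ≤ normalizer (H : Set G))
    (hfrob : ∀ x ∈ R, x ≠ 1 → H ⊓ centralizer ({x} : Set G) = ⊥) : Frob.HasFPF R :=
  Frob.hasFPF_of_fpf hRH hH1 fun x hx h1 => fpf_of_semiregular (hfrob x hx h1)

/-- BG 3.9. -/
theorem odd_regular_pgroup_cyclic {p : ℕ} [Fact p.Prime] (hp2 : p ≠ 2) {H R : Subgroup G}
    (hR : IsPGroup p R) (hH1 : H ≠ ⊥) (hRH : R ≤ normalizer (H : Set G))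
    (hfrob : ∀ x ∈ R, x ≠ 1 → H ⊓ centralizer ({x} : Set G) = ⊥) : IsCyclic R := by
  exact isCyclic_top_iff.1 ((hasFPF_of_semiregular hH1 hRH hfrob).isCyclic_of_isPGroup hp2
    (hR.to_subgroup ⊤))

/-- A semiregular operator group of odd order is a `Z`-group. -/
theorem odd_regular_Zgroup {H R : Subgroup G} (hR : Odd (Nat.card R)) (hH1 : H ≠ ⊥)
    (hRH : R ≤ normalizer (H : Set G))
    (hfrob : ∀ x ∈ R, x ≠ 1 → H ⊓ centralizer ({x} : Set G) = ⊥) : IsZGroup R := by
  exact (hasFPF_of_semiregular hH1 hRH hfrob).isZGroup_of_odd hR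

/-- A nilpotent semiregular operator group of odd order is cyclic. -/
theorem odd_regular_nil_cyclic {H R : Subgroup G} (hR : Odd (Nat.card R))
    (hn : Group.IsNilpotent R) (hH1 : H ≠ ⊥) (hRH : R ≤ normalizer (H : Set G))
    (hfrob : ∀ x ∈ R, x ≠ 1 → H ⊓ centralizer ({x} : Set G) = ⊥) : IsCyclic R := by
  exact (hasFPF_of_semiregular hH1 hRH hfrob).isCyclic_of_isNilpotent_of_odd hR

/-- An abelian semiregular operator group is cyclic. -/
theorem regular_abelian_cyclic {H R : Subgroup G} (hR : IsMulCommutative R) (hH1 : H ≠ ⊥)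
    (hRH : R ≤ normalizer (H : Set G))
    (hfrob : ∀ x ∈ R, x ≠ 1 → H ⊓ centralizer ({x} : Set G) = ⊥) : IsCyclic R := by
  exact (hasFPF_of_semiregular hH1 hRH hfrob).isCyclic_of_comm hR.is_comm.comm

/-- A semiregular operator group of order `p * q` is cyclic. -/
theorem regular_pq_group_cyclic {p q : ℕ} (hp : p.Prime) (hq : q.Prime) {H R : Subgroup G}
    (hR : Nat.card R = p * q) (hH1 : H ≠ ⊥) (hRH : R ≤ normalizer (H : Set G))
    (hfrob : ∀ x ∈ R, x ≠ 1 → H ⊓ centralizer ({x} : Set G) = ⊥) : IsCyclic R := by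
  exact (hasFPF_of_semiregular hH1 hRH hfrob).isCyclic_of_card_eq_mul hp hq hR

/-- In a semiregular operator group of odd order every subgroup of prime order is normal. -/
theorem odd_regular_prime_normal {H R X : Subgroup G} (hR : Odd (Nat.card R)) (hH1 : H ≠ ⊥)
    (hRH : R ≤ normalizer (H : Set G))
    (hfrob : ∀ x ∈ R, x ≠ 1 → H ⊓ centralizer ({x} : Set G) = ⊥) (hX : X ≤ R)
    (hXp : (Nat.card X).Prime) : R ≤ normalizer (X : Set G) := by
  have hF := hasFPF_of_semiregular hH1 hRH hfrob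
  have hZ := hF.isZGroup_of_odd hR
  have hc := Frob.isCyclic_commutator_self_of_isZGroup R
  obtain ⟨x, rfl, hx⟩ := exists_zpowers_eq_of_card_prime hXp rfl
  set p := Nat.card (zpowers x)
  have hxR : x ∈ R := hX (mem_zpowers x)
  have hR' : ⁅R, R⁆ ≤ R := commutator_le_self R
  have hn : R ≤ normalizer ((⁅R, R⁆ : Subgroup G) : Set G) :=
    Cop.le_normalizer_commutator le_normalizer le_normalizer
  have hxp : (⟨x, hxR⟩ : R) ^ p = 1 := Subtype.ext (by
    change x ^ p = 1
    rw [← hx, pow_orderOf_eq_one])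
  have hcomm : IsMulCommutative (⁅R, R⁆ : Subgroup G) := inferInstance
  have h1 : zpowers x ≤ centralizer ((⁅R, R⁆ : Subgroup G) : Set G) := by
    by_cases hd : p ∣ Nat.card (⁅R, R⁆ : Subgroup G)
    · have := Fact.mk hXp
      obtain ⟨y, hy⟩ := exists_prime_orderOf_dvd_card' p hd
      rw [← orderOf_coe] at hy
      have hy' : orderOf (⟨y, hR' y.2⟩ : R) = p := by rw [← orderOf_coe]; exact hy
      have h2 : x * y * x⁻¹ ∈ zpowers (y : G) := Frob.mem_zpowers_of_isCyclic y.2
        (conj_mem_of_mem_normalizer (hn hxR) y.2) (by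
          rw [conj_pow, pow_orderOf_eq_one, mul_one, mul_inv_cancel])
      obtain ⟨i, hi⟩ := h2
      obtain ⟨j, hj⟩ := hF.mem_zpowers_of_commute hXp hxp (hy' ▸ pow_orderOf_eq_one _)
        (fun h => hXp.ne_one (by rw [← hy', h, orderOf_one]))
        (hF.commute_of_normalizes hXp hXp hxp hy' ⟨i, Subtype.ext hi⟩)
      have h3 : x ∈ ⁅R, R⁆ := by
        rw [← show (y : G) ^ j = x from congrArg Subtype.val hj]
        exact zpow_mem y.2 j
      exact (zpowers_le.2 h3).trans (le_centralizer_of_isMulCommutative hcomm)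
    · by_contra hne
      have h2 := Cop.commutator_inf_centralizer_eq_bot (hX.trans hn)
        ((Nat.Prime.coprime_iff_not_dvd hXp).2 hd) hcomm
      have h3 : ⁅⁅R, R⁆, zpowers x⁆ ≤ R :=
        (Cop.commutator_le_left_of_le_normalizer (hX.trans hn)).trans hR'
      obtain ⟨y, hy, hy1, e⟩ := hF.exists_commute_of_prime (Q := ⁅⁅R, R⁆, zpowers x⁆.subgroupOf R)
        (fun h => hne (Cop.commutator_eq_bot_iff_le_centralizer'.1
          ((subgroupOf_eq_bot.1 h).eq_bot_of_le h3)))
        (fun y hy => conj_mem_of_mem_normalizer (g := x) (x := (y : G))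
          (normalizer_commutator_ge_right _ _ (mem_zpowers x)) hy) hXp hxp
      exact hy1 (Subtype.ext (mem_bot.1 (h2.le (mem_inf.2
        ⟨hy, mem_centralizer_zpowers_iff.2 (congrArg Subtype.val e)⟩))))
  intro g hg
  refine mem_normalizer_of_conj_mem ?_
  rintro _ ⟨i, rfl⟩
  have h2 : g * x * g⁻¹ ∈ R := mul_mem (mul_mem hg hxR) (inv_mem hg)
  obtain ⟨j, hj⟩ := hF.mem_zpowers_of_commute (x := ⟨_, h2⟩) hXp (Subtype.ext (by
    change (g * x * g⁻¹) ^ p = 1
    rw [conj_pow, ← hx, pow_orderOf_eq_one, mul_one, mul_inv_cancel])) hxp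
    (fun h => hXp.ne_one (by rw [← hx, show x = 1 from congrArg Subtype.val h, orderOf_one]))
    (Subtype.ext (by
      have h3 := h1 (mem_zpowers x) _ (commutator_mem_commutator hg hxR)
      rw [commutatorElement_def] at h3
      change g * x * g⁻¹ * x = x * (g * x * g⁻¹)
      calc g * x * g⁻¹ * x = (g * x * g⁻¹ * x⁻¹ * x) * x := by group
        _ = _ := by rw [h3]; group))
  rw [← conj_zpow, ← show x ^ j = g * x * g⁻¹ from congrArg Subtype.val hj]
  exact zpow_mem (zpow_mem_zpowers x j) i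

/-- BG 3.10 (S1446). -/
theorem Frobenius_primact {K R M : Subgroup G} (hK1 : K ≠ ⊥) (hR1 : R ≠ ⊥)
    (hRK : R ≤ normalizer (K : Set G))
    (hfrob : ∀ x ∈ R, x ≠ 1 → K ⊓ centralizer ({x} : Set G) = ⊥)
    (hM1 : M ≠ ⊥) (hMn : Group.IsNilpotent M)
    (hKM : K ≤ normalizer (M : Set G)) (hRM : R ≤ normalizer (M : Set G))
    (hcK : (Nat.card K).Coprime (Nat.card M)) (hcR : (Nat.card R).Coprime (Nat.card M))
    (hCK : M ⊓ centralizer (K : Set G) = ⊥)
    (hpr : ∀ x ∈ R, x ≠ 1 → M ⊓ centralizer ({x} : Set G) = M ⊓ centralizer (R : Set G)) :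
    (Nat.card R).Prime ∧
      Nat.card M = Nat.card ↥(M ⊓ centralizer (R : Set G)) ^ Nat.card R ∧
      (IsCyclic ↥(M ⊓ centralizer (R : Set G)) → ⁅K, K⁆ ≤ centralizer (M : Set G)) := by
  have h1 := Frobenius_Wielandt_card hRK hfrob hKM hRM inferInstance hcK hcR hCK
  obtain ⟨x, hx, hx1, hxp⟩ := exists_prime_order_mem hR1
  have hxR : zpowers x ≤ R := zpowers_le.2 hx
  have h2 := Frobenius_Wielandt_card (hxR.trans hRK) (fun y hy => hfrob y (hxR hy)) hKM
    (hxR.trans hRM) inferInstance hcK (hcR.coprime_dvd_left (card_dvd_of_le hxR)) hCK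
  rw [centralizer_zpowers_eq, hpr x hx hx1, Nat.card_zpowers] at h2
  have h3 : 2 ≤ Nat.card ↥(M ⊓ centralizer (R : Set G)) := by
    by_contra h
    have h4 : Nat.card ↥(M ⊓ centralizer (R : Set G)) = 1 := by
      have := Nat.card_pos (α := ↥(M ⊓ centralizer (R : Set G)))
      omega
    rw [h4, one_pow] at h1
    exact hM1 (card_eq_one.1 h1)
  have hR : (Nat.card R).Prime := by
    rw [Nat.pow_right_injective h3 (h1.symm.trans h2)]
    exact hxp
  exact ⟨hR, h1, Frobenius_prime_cent_cyclic hRK hR (by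
    rw [← semiprime_of_prime hR x hx hx1, hfrob x hx hx1]) hMn hKM hRM hcK hcR⟩

end CfsgLib.FT
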