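import Mathlib
import Cfsg.Agent.Lib.FT.BGRank
import Cfsg.Agent.Lib.Regular
import Cfsg.Agent.Lib.CommCalc
import Cfsg.Agent.Lib.CoprimeAction
import Cfsg.Agent.Lib.PComplement

/-! Bender–Glauberman, section 4, first part (4.3–4.10). -/

set_option autoImplicit false

namespace CfsgLib.FT

open Subgroup Cfsg
open scoped commutatorElement

section

variable {G : Type*} [Group G] {p : ℕ}

theorem pow_eq_one_of_mem_omegaOne {R : Subgroup G}
    (h : ∀ x ∈ R, ∀ y ∈ R, x ^ p = 1 → y ^ p = 1 → (x * y) ^ p = 1) :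
    ∀ x ∈ omegaOne p R, x ^ p = 1 := by
  intro x hx
  suffices x ∈ R ∧ x ^ p = 1 from this.2
  induction hx using closure_induction with
  | mem x hx => exact hx
  | one => exact ⟨one_mem R, one_pow p⟩
  | mul x y _ _ hx hy => exact ⟨mul_mem hx.1 hy.1, h x hx.1 y hy.1 hx.2 hy.2⟩
  | inv x _ hx => exact ⟨inv_mem hx.1, by rw [inv_pow, hx.2, inv_one]⟩

theorem relIndex_le_card_of_fibers [Finite G] {K S T : Subgroup G} (f : G → G)
    (h1 : ∀ a ∈ S, f a ∈ T) (h2 : ∀ a ∈ S, ∀ b ∈ S, f a = f b → a⁻¹ * b ∈ K) :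
    K.relIndex S ≤ Nat.card T := by
  refine Nat.card_le_card_of_injective
    (fun q : S ⧸ K.subgroupOf S => (⟨f q.out, h1 _ q.out.2⟩ : T)) fun q q' h => ?_
  rw [← q.out_eq', ← q'.out_eq', QuotientGroup.eq]
  exact h2 _ q.out.2 _ q'.out.2 (congrArg Subtype.val h)

theorem conj_pow_eq_of_chain {x a b c : G} (ha : x * a * x⁻¹ = b * a) (hb : x * b * x⁻¹ = c * b)
    (hx : Commute x c) (hc : Commute c b) (n : ℕ) :
    x ^ n * a * (x ^ n)⁻¹ = c ^ n.choose 2 * b ^ n * a := by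
  induction n with
  | zero => simp
  | succ n ih =>
    have h1 : x ^ (n + 1) * a * (x ^ (n + 1))⁻¹ = x * (x ^ n * a * (x ^ n)⁻¹) * x⁻¹ := by
      rw [pow_succ']; group
    have h2 : x * (c ^ n.choose 2 * b ^ n * a) * x⁻¹ =
        (x * c * x⁻¹) ^ n.choose 2 * (x * b * x⁻¹) ^ n * (x * a * x⁻¹) := by
      simp only [conj_pow]; group
    rw [h1, ih, h2, ha, hb, hx.eq, mul_inv_cancel_right, hc.mul_pow, Nat.choose_succ_succ' n 1,
      Nat.choose_one_right, pow_add, pow_succ b, ((Commute.refl c).pow_pow n _).eq]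
    simp only [mul_assoc]

theorem pow_eq_one_of_chain (hp : Odd p) {x a : G} (hx : Commute x ⁅x, ⁅x, a⁆⁆)
    (hc : Commute ⁅x, ⁅x, a⁆⁆ ⁅x, a⁆) (hxp : x ^ p = 1) (hcp : ⁅x, ⁅x, a⁆⁆ ^ p = 1) :
    ⁅x, a⁆ ^ p = 1 := by
  have h := conj_pow_eq_of_chain (a := a) (by rw [commutatorElement_def]; group)
    (by rw [commutatorElement_def x ⁅x, a⁆]; group) hx hc p
  obtain ⟨m, rfl⟩ := hp
  have h1 : (2 * m + 1).choose 2 = (2 * m + 1) * m := by
    rw [Nat.choose_two_right, Nat.add_sub_cancel, mul_left_comm, Nat.mul_div_cancel_left _ two_pos]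
  rw [hxp, h1, pow_mul, hcp] at h
  simpa using h.symm

end

variable {G : Type*} [Group G] [Finite G] {p : ℕ} [hp : Fact p.Prime]

theorem isNilpotent_of_isPGroup {R : Subgroup G} (hR : IsPGroup p R) : Group.IsNilpotent R :=
  hR.isNilpotent

theorem le_centralizer_of_card_le_prime {R N : Subgroup G} (hR : IsPGroup p R)
    (hN : IsPGroup p N) (hNn : R ≤ normalizer (N : Set G)) (h : Nat.card N ≤ p) :
    R ≤ centralizer (N : Set G) := by
  obtain ⟨n, hn⟩ := IsPGroup.iff_card.1 hN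
  rcases PGrp.eq_one_or_eq_prime_of_le hn h with h1 | h1
  · rw [(eq_bot_iff_card N).2 h1]
    exact fun x _ => mem_centralizer_iff.2 (by simp)
  · exact le_centralizer_of_card_eq_prime hR hNn h1

theorem commutator_lt_of_isPGroup {R N : Subgroup G} (hR : IsPGroup p R) (hN : N ≤ R)
    (hNn : R ≤ normalizer (N : Set G)) (h : N ≠ ⊥) : ⁅N, R⁆ < N :=
  lt_of_le_not_ge (Cop.commutator_le_left_of_le_normalizer hNn) fun h' =>
    h (eq_bot_of_le_commutator_of_isNilpotent hR.isNilpotent hN h')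

theorem lcs_eq_bot_of_card_le {R : Subgroup G} (hR : IsPGroup p R) {n : ℕ} (hn : 1 ≤ n)
    (h : Nat.card R ≤ p ^ (n + 1)) : R.lowerCentralSeries n = ⊥ := by
  obtain ⟨m, hm⟩ := IsPGroup.iff_card.1 hR
  have hmn : m ≤ n + 1 := (Nat.pow_le_pow_iff_right hp.out.one_lt).1 (hm ▸ h)
  by_cases h2 : 2 ≤ m
  · have h3 := PGrp.lowerCentralSeries_eq_bot_of_card hm h2
    rw [eq_bot_iff, ← top_subtype_lowerCentralSeries, ← map_bot R.subtype, ← h3]
    exact map_mono (Subgroup.lowerCentralSeries_antitone _ (by omega))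
  · have h3 : IsCyclic R := isCyclic_of_card_le_prime hR
      (hm ▸ (Nat.pow_le_pow_right hp.out.pos (show m ≤ 1 by omega)).trans (pow_one p).le)
    refine eq_bot_iff.2 ((Subgroup.lowerCentralSeries_antitone _ hn).trans (le_of_eq ?_))
    exact commutator_eq_bot_iff_le_centralizer.2
      (le_centralizer_of_isMulCommutative (A := R) inferInstance)

omit [Finite G] in
theorem isRegular_of_lcs_eq_bot {R : Subgroup G} (hR : IsPGroup p R)
    (hc : R.lowerCentralSeries (p - 1) = ⊥) : IsRegularPGroup p R := by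
  refine Regular.isRegular_of_class_lt hR fun a b => ?_
  rw [← map_eq_bot_iff_of_injective _ R.subtype_injective, map_lowerCentralSeries, eq_bot_iff,
    ← hc]
  exact lowerCentralSeries_mono _ (map_subtype_le _)

theorem mul_pow_eq_one_of_lcs_eq_bot {R : Subgroup G} (hR : IsPGroup p R)
    (hc : R.lowerCentralSeries (p - 1) = ⊥) {x y : G} (hx : x ∈ R) (hy : y ∈ R) (hxp : x ^ p = 1)
    (hyp : y ^ p = 1) : (x * y) ^ p = 1 := by
  have := Regular.mul_pow_eq_one (isRegular_of_lcs_eq_bot hR hc) 1 (a := ⟨x, hx⟩) (b := ⟨y, hy⟩)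
    (Subtype.ext (by simpa using hxp)) (Subtype.ext (by simpa using hyp))
  simpa using congrArg Subtype.val this

/-- A `p`-group of `p`-rank at most one is cyclic (`p` odd). -/
theorem odd_pgroup_rank1_cyclic (hp2 : p ≠ 2) {R : Subgroup G} (hR : IsPGroup p R) :
    PRankLE p 1 R ↔ IsCyclic R :=
  ⟨fun h => (PGrp.isCyclic_or_quaternion_of_pRankLE_one hR h).resolve_right fun h => hp2 h.1,
    pRankLE_one_of_isCyclic⟩

omit [Finite G] in
theorem lcs_pred_eq_bot (hp2 : p ≠ 2) {R : Subgroup G}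
    (hc : R.lowerCentralSeries 2 = ⊥ ∨ (3 < p ∧ R.lowerCentralSeries 3 = ⊥)) :
    R.lowerCentralSeries (p - 1) = ⊥ := by
  have := hp.out.two_le
  rcases hc with h | ⟨h1, h⟩
  · exact eq_bot_iff.2 ((Subgroup.lowerCentralSeries_antitone _ (by omega)).trans h.le)
  · exact eq_bot_iff.2 ((Subgroup.lowerCentralSeries_antitone _ (by omega)).trans h.le)

/-- BG 4.3. -/
theorem exponent_odd_nil23 (hp2 : p ≠ 2) {R : Subgroup G} (hR : IsPGroup p R)
    (hc : R.lowerCentralSeries 2 = ⊥ ∨ (3 < p ∧ R.lowerCentralSeries 3 = ⊥)) :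
    (∀ x ∈ omegaOne p R, x ^ p = 1) ∧
      (⁅R, R⁆ ≤ omegaOne p R → ∀ x ∈ R, ∀ y ∈ R, (x * y) ^ p = x ^ p * y ^ p) := by
  have h := lcs_pred_eq_bot hp2 hc
  have h1 := pow_eq_one_of_mem_omegaOne fun x hx y hy => mul_pow_eq_one_of_lcs_eq_bot hR h hx hy
  refine ⟨h1, fun h2 x hx y hy => ?_⟩
  exact inv_mul_eq_one.1 (mem_bot.1 (HallPetrescu.inv_mul_pow_prime_mem hp.out R hx hy ⊥
    (fun c hc => h1 c (h2 hc)) h.le))

/-- BG 4.4(a): a maximal abelian normal subgroup of a `p`-group is self-centralizing; here as an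
existence statement. -/
theorem exists_SCN_ge {R B : Subgroup G} (hR : IsPGroup p R) (hBR : B ≤ R)
    (hB : IsMulCommutative B) (hn : R ≤ normalizer (B : Set G)) : ∃ A, B ≤ A ∧ IsSCN R A := by
  have := hR.isNilpotent
  have := normal_subgroupOf_of_le_normalizer hn
  obtain ⟨A, h1, h2, -, h4⟩ := PGrp.exists_scn_ge (B.subgroupOf R) inferInstance
  exact ⟨A.map R.subtype, (map_subgroupOf_eq_of_le hBR).ge.trans (map_mono h1),
    isSCN_map_subtype h4⟩

theorem IsSCN.isSylowIn (P : Sylow p G) {A : Subgroup G} (hA : IsSCN (P : Subgroup G) A) :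
    IsSylowIn p A (centralizer (A : Set G)) := by
  have := IsSylowIn.sylow_inf_of_le_normalizer P
    (hA.2.1.trans (Cop.normalizer_le_normalizer_centralizer A))
  rwa [hA.2.2] at this

/-- BG 4.4(b): `C_G(A) = A × O_{p'}(C_G(A))` for `A ∈ SCN(P)`, `P` Sylow. -/
theorem SCN_Sylow_cent_dprod (P : Sylow p G) {A : Subgroup G} (hA : IsSCN (P : Subgroup G) A) :
    A ⊔ (pPrimeCore p (centralizer (A : Set G))).map (centralizer (A : Set G)).subtype =
      centralizer (A : Set G) := by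
  obtain ⟨Q, hQ⟩ := (IsSCN.isSylowIn P hA).exists_sylow
  obtain ⟨N, hN, hNQ⟩ := PCompl.hnpc_exists_isComplement' (PCompl.hnpc_of_sylow_le_center Q (by
    rw [hQ]
    exact fun x hx => mem_center_iff.2 fun g =>
      Subtype.ext (mem_centralizer_iff.1 g.2 x hx).symm)) Q
  have h1 : N ≤ pPrimeCore p _ := le_pPrimeCore (by
    rw [← hNQ.index_eq_card]
    exact (hp.out.coprime_iff_not_dvd.2 Q.not_dvd_index).symm)
  refine le_antisymm (sup_le (IsSCN.le_centralizer hA) (map_subtype_le _)) ?_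
  conv_lhs => rw [← range_subtype (centralizer (A : Set G)), MonoidHom.range_eq_map,
    ← hNQ.sup_eq_top, Subgroup.map_sup, hQ, map_subgroupOf_eq_of_le (IsSCN.le_centralizer hA), sup_comm]
  exact sup_le_sup_left (map_mono h1) _

/-- BG 4.5(a). -/
theorem ex_odd_normal_p2Elem (hp2 : p ≠ 2) {R : Subgroup G} (hR : IsPGroup p R)
    (hc : ¬ IsCyclic R) : ∃ S : Subgroup G, S ≤ R ∧ R ≤ normalizer (S : Set G) ∧
      IsElementaryAbelian p S ∧ Nat.card S = p ^ 2 := by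
  obtain ⟨E, h1, h2, h3⟩ := PGrp.exists_normal_card_sq_of_odd hR hp2 hc
  exact ⟨E.map R.subtype, map_subtype_le E, le_normalizer_map_subtype E, elemAb_map h2 _,
    by rw [card_map_subtype, h3]⟩

omit [Finite G] in
theorem not_isCyclic_of_p2Elem_le {R E : Subgroup G} (h : E ≤ R) (hE : IsElementaryAbelian p E)
    (hc : p ^ 2 ≤ Nat.card E) : ¬ IsCyclic R := fun _ =>
  PGrp.not_isCyclic_of_isElementaryAbelian hE
    (lt_of_lt_of_le (by simpa using Nat.pow_lt_pow_right hp.out.one_lt one_lt_two) hc)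
    (isCyclic_of_le h)

theorem ohm1_extremal_odd_top (hp2 : p ≠ 2) (hG : IsPGroup p G) (hc : ¬ IsCyclic G)
    {X : Subgroup G} (hX : IsCyclic X) (hi : X.index = p) :
    IsElementaryAbelian p (omegaOne p (⊤ : Subgroup G)) ∧
      Nat.card (omegaOne p (⊤ : Subgroup G)) = p ^ 2 := by
  obtain ⟨S, hSn, hS, hS2⟩ := PGrp.exists_normal_card_sq_of_odd hG hp2 hc
  have := PGrp.normal_of_index_eq_prime hG hi
  have h1 : X ⊔ S = ⊤ := ((PGrp.isCoatom_iff_index_eq hG).2 hi).2 _ (left_lt_sup.2 fun h =>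
    not_isCyclic_of_p2Elem_le h hS hS2.ge hX)
  have h2 : ⁅(⊤ : Subgroup G), (⊤ : Subgroup G)⁆ ≤ X ⊓ S := by
    refine le_inf (PGrp.commutator_le_of_index_eq_prime X hi) ?_
    rw [← h1, CommCalc.commutator_sup_left, CommCalc.commutator_sup_right X S X,
      commutator_eq_bot_iff_le_centralizer.2 (le_centralizer_of_isMulCommutative inferInstance)]
    exact sup_le (sup_le bot_le (commutator_le_right _ _)) (commutator_le_left _ _)
  have h3 : (⊤ : Subgroup G).lowerCentralSeries 2 = ⊥ := by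
    refine Cop.commutator_eq_bot_iff_le_centralizer'.2 ((le_centralizer_of_card_le_prime
      (hG.to_subgroup ⊤) (hG.to_subgroup (X ⊓ S)) le_normalizer_of_normal ?_).trans
      (centralizer_antitone h2))
    exact card_le_of_isCyclic_of_pow_eq_one (isCyclic_of_le inf_le_left) fun x hx => hS.2 x hx.2
  have h4 := (exponent_odd_nil23 hp2 (hG.to_subgroup ⊤) (Or.inl h3)).1
  have h5 : S = omegaOne p ⊤ := by
    refine eq_of_le_of_card_le (le_omegaOne le_top hS.2) ?_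
    rw [← card_inf_mul_relIndex X, hS2, sq]
    refine Nat.mul_le_mul (card_le_of_isCyclic_of_pow_eq_one (isCyclic_of_le inf_le_left)
      fun x hx => h4 x hx.2) (Nat.le_of_dvd hp.out.pos ?_)
    exact hi ▸ relIndex_dvd_index_of_normal _ _
  exact h5 ▸ ⟨hS, hS2⟩

/-- BG 4.5(b). -/
theorem ohm1_extremal_odd (hp2 : p ≠ 2) {R : Subgroup G} (hR : IsPGroup p R) (hc : ¬ IsCyclic R)
    {X : Subgroup G} (hX : IsCyclic X) (hXR : X ≤ R) (hi : X.relIndex R = p) :
    IsElementaryAbelian p (omegaOne p R) ∧ Nat.card (omegaOne p R) = p ^ 2 := by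
  obtain ⟨h1, h2⟩ := ohm1_extremal_odd_top hp2 hR hc ((isCyclic_subgroupOf_iff hXR).2 hX) hi
  rw [← map_subtype_omegaOne_top, card_map_subtype]
  exact ⟨elemAb_map h1 _, h2⟩

theorem le_ucs_two_of_card_le_sq (hG : IsPGroup p G) (S : Subgroup G) [S.Normal]
    (h : Nat.card S ≤ p ^ 2) : S ≤ Subgroup.upperCentralSeries G 2 := by
  by_cases h1 : S = ⊥
  · exact h1 ▸ bot_le
  have h2 := PGrp.mul_card_le_card_of_lt (hG.to_subgroup S)
    (commutator_lt_of_isPGroup (hG.to_subgroup ⊤) le_top le_normalizer_of_normal h1)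
  have h3 := le_centralizer_of_card_le_prime (hG.to_subgroup ⊤) (hG.to_subgroup ⁅S, ⊤⁆)
    le_normalizer_of_normal (Nat.le_of_mul_le_mul_left (h2.trans (h.trans (sq p).le)) hp.out.pos)
  intro x hx
  refine Subgroup.mem_upperCentralSeries_succ_iff.2 fun y => ?_
  rw [Subgroup.upperCentralSeries_one]
  exact mem_center_iff.2 fun g => (mem_centralizer_iff.1 (h3 (mem_top g)) _
    (commutator_mem_commutator hx (mem_top y))).symm

omit [Finite G] hp in
theorem lcs_two_ucs_two : (Subgroup.upperCentralSeries G 2).lowerCentralSeries 2 = ⊥ :=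
  eq_bot_iff.2 ((commutator_mono ((commutator_mono le_rfl le_top).trans
    (commutator_upperCentralSeries_top_le G 1)) le_top).trans
    (commutator_upperCentralSeries_top_le G 0))

theorem ohm1_odd_ucn2_top (hp2 : p ≠ 2) (hG : IsPGroup p G) (hc : ¬ IsCyclic G) :
    ¬ IsCyclic (omegaOne p (Subgroup.upperCentralSeries G 2)) ∧
      ∀ x ∈ omegaOne p (Subgroup.upperCentralSeries G 2), x ^ p = 1 := by
  obtain ⟨S, hSn, hS, hS2⟩ := PGrp.exists_normal_card_sq_of_odd hG hp2 hc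
  exact ⟨not_isCyclic_of_p2Elem_le (le_omegaOne (le_ucs_two_of_card_le_sq hG S hS2.le) hS.2) hS
    hS2.ge, (exponent_odd_nil23 hp2 (hG.to_subgroup _) (Or.inl lcs_two_ucs_two)).1⟩

/-- BG 4.5(c). -/
theorem ohm1_odd_ucn2 (hp2 : p ≠ 2) {R : Subgroup G} (hR : IsPGroup p R) (hc : ¬ IsCyclic R) :
    ¬ IsCyclic (omegaOne p ((Subgroup.upperCentralSeries R 2).map R.subtype)) ∧
      ∀ x ∈ omegaOne p ((Subgroup.upperCentralSeries R 2).map R.subtype), x ^ p = 1 := by
  obtain ⟨h1, h2⟩ := ohm1_odd_ucn2_top hp2 hR hc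
  rw [← map_omegaOne_of_injective R.subtype_injective, isCyclic_map_subtype_iff]
  refine ⟨h1, ?_⟩
  rintro _ ⟨x, hx, rfl⟩
  exact congrArg Subtype.val (h2 x hx)

/-- BG 4.6. -/
theorem odd_normal_p2Elem_exists (hp2 : p ≠ 2) {R S : Subgroup G} (hR : IsPGroup p R)
    (hSR : S ≤ R) (hn : R ≤ normalizer (S : Set G)) (hc : ¬ IsCyclic S) :
    ∃ T : Subgroup G, T ≤ S ∧ R ≤ normalizer (T : Set G) ∧ IsElementaryAbelian p T ∧
      Nat.card T = p ^ 2 := by
  obtain ⟨h1, h2⟩ := ohm1_odd_ucn2 hp2 (hR.to_le hSR) hc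
  have h3 := (PGrp.omegaOne_le (p := p) _).trans (map_subtype_le (Subgroup.upperCentralSeries S 2))
  obtain ⟨T, h4, h5, h6⟩ := exists_norm_le_card_eq_pow hR (h3.trans hSR)
    ((hn.trans (normalizer_le_normalizer_map_subtype_of_characteristic S _)).trans
      (normalizer_le_normalizer_omegaOne _))
    (sq_le_card_of_not_isCyclic (hR.to_le (h3.trans hSR)) h1)
  exact ⟨T, h4.trans h3, h5, elemAb_of_card_eq_sq h6 fun x hx => h2 x (h4 hx), h6⟩

/-- Alperin: a maximal normal elementary abelian subgroup `Z` of a `p`-group, `p` odd, satisfies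
`Ω₁(C(Z)) = Z`. -/
theorem mem_of_max_normal_elemAb (hp2 : p ≠ 2) (hG : IsPGroup p G) {Z : Subgroup G} [Z.Normal]
    (hZ : IsElementaryAbelian p Z)
    (hmax : ∀ B : Subgroup G, B.Normal → IsElementaryAbelian p B → Z ≤ B → B = Z)
    {x : G} (hx : x ∈ centralizer (Z : Set G)) (hxp : x ^ p = 1) : x ∈ Z := by
  have := hG.isNilpotent
  have hodd := hp.out.odd_of_ne_two hp2
  obtain ⟨A, hZA, hAn, hAc, hA⟩ := PGrp.exists_scn_ge Z hZ.1
  have hAc' := PGrp.isMulCommutative_iff_forall.1 hAc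
  have hAZ : ∀ a ∈ A, a ^ p = 1 → a ∈ Z := fun a ha hap =>
    hmax _ (PGrp.normal_omegaOne A) (PGrp.isElementaryAbelian_omegaOne hAc)
      (le_omegaOne hZA hZ.2) ▸ mem_omegaOne ha hap
  have hmem : ∀ (x : G), ∀ a ∈ A, ⁅x, a⁆ ∈ A := fun x a ha =>
    commutator_le_right ⊤ A (commutator_mem_commutator (mem_top x) ha)
  have hcomm : ∀ x ∈ centralizer (Z : Set G), ∀ z ∈ Z, Commute x z := fun x hx z hz =>
    (mem_centralizer_iff.1 hx z hz).symm
  have key1 : ∀ x ∈ centralizer (Z : Set G), x ^ p = 1 → ∀ a ∈ A, ⁅x, a⁆ ∈ Z := by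
    intro x hx hxp a ha
    obtain ⟨k, hk⟩ := hG a
    induction k generalizing a with
    | zero => rw [pow_zero, pow_one] at hk; simp [hk]
    | succ k ih =>
      have h1 := ih _ (hmem x a ha) (by
        rw [← CommCalc.comm_pow_right (hAc' _ ha _ (hmem x a ha)),
          commutatorElement_eq_one_iff_commute]
        exact hcomm x hx _ (hAZ _ (pow_mem ha _) (by rw [← pow_mul, ← pow_succ, hk])))
      exact hAZ _ (hmem x a ha) (pow_eq_one_of_chain hodd (hcomm x hx _ h1)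
        (hAc' _ (hZA h1) _ (hmem x a ha)) hxp (hZ.2 _ h1))
  have key2 : ∀ x ∈ centralizer (Z : Set G), x ^ p = 1 → ∀ y ∈ centralizer (Z : Set G), y ^ p = 1 →
      ⁅x, y⁆ ∈ Z := by
    intro x hx hxp y hy hyp
    let Y := CommCalc.relCent Z (A : Set G) ⊓ centralizer (Z : Set G)
    have hY : ∀ x ∈ centralizer (Z : Set G), x ^ p = 1 → x ∈ Y := fun x hx hxp =>
      ⟨CommCalc.mem_relCent.2 ⟨le_normalizer_of_normal (mem_top x), key1 x hx hxp⟩, hx⟩
    have h1 : ⁅⁅Y, A⁆, Y⁆ = ⊥ := Cop.commutator_eq_bot_iff_le_centralizer'.2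
      (inf_le_right.trans (centralizer_antitone (commutator_le.2 fun g hg a ha =>
        (CommCalc.mem_relCent.1 hg.1).2 a ha)))
    have h2 := commutator_commutator_eq_bot_of_rotate h1 (by rwa [Subgroup.commutator_comm A])
    have h3 : ⁅x, y⁆ ∈ A := hA ▸ commutator_eq_bot_iff_le_centralizer.1 h2
      (commutator_mem_commutator (hY x hx hxp) (hY y hy hyp))
    have h4 := key1 x hx hxp _ h3
    exact hAZ _ h3 (pow_eq_one_of_chain hodd (hcomm x hx _ h4) (hAc' _ (hZA h4) _ h3) hxp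
      (hZ.2 _ h4))
  have key3 := pow_eq_one_of_mem_omegaOne (p := p) (R := centralizer (Z : Set G))
    fun x hx y hy hxp hyp => by
      have h := key2 y hy hyp x hx hxp
      rw [PGrp.mul_pow_prime_eq_of_odd hodd (hcomm x hx _ h).symm (hcomm y hy _ h).symm
        (hZ.2 _ h), hxp, hyp, one_mul]
  have := PGrp.normal_omegaOne (p := p) (centralizer (Z : Set G))
  by_contra hxZ
  obtain ⟨y, hy, hyZ, hyc⟩ := PGrp.exists_central_mod Z (omegaOne p (centralizer (Z : Set G)))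
    fun h => hxZ (h (mem_omegaOne hx hxp))
  exact hyZ (hmax _ (PGrp.normal_sup_zpowers_of_central_mod Z hyc)
    (elemAb_sup hZ (elemAb_zpowers (key3 y hy)) (zpowers_le.2 (PGrp.omegaOne_le _ hy)))
    le_sup_left ▸ mem_sup_right (mem_zpowers y))

theorem exists_normal_p3Elem_ge_top (hp2 : p ≠ 2) (hG : IsPGroup p G) (hr : ¬ PRankLE p 2 G)
    {E : Subgroup G} [E.Normal] (hE : IsElementaryAbelian p E) (hE2 : Nat.card E = p ^ 2) :
    ∃ C : Subgroup G, E ≤ C ∧ C.Normal ∧ IsElementaryAbelian p C ∧ Nat.card C = p ^ 3 := by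
  by_contra h
  have hlt : p ^ 2 < p ^ 3 := Nat.pow_lt_pow_right hp.out.one_lt (by norm_num)
  have hmax : ∀ B : Subgroup G, B.Normal → IsElementaryAbelian p B → E ≤ B → B = E := by
    intro B hBn hB hEB
    by_contra hne
    obtain ⟨K, h1, h2, h3, h4⟩ := PGrp.exists_normal_card_eq_pow_between hG E B hEB 3
      (hE2.le.trans hlt.le) (pow_succ_le_card_of_lt (elemAb_isPGroup hB)
        (hE2 ▸ card_lt_card_of_lt (lt_of_le_of_ne hEB (Ne.symm hne))))
    exact h ⟨K, h2, h1, elemAb_of_le hB h3, h4⟩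
  obtain ⟨A, hA, hA3⟩ := not_pRankLE_iff'.1 hr
  have h1 : A ⊓ centralizer (E : Set G) ≤ E := fun x hx =>
    mem_of_max_normal_elemAb hp2 hG hE hmax hx.2 (hA.2 x hx.1)
  have h2 := card_le_mul_card_inf_centralizer (elemAb_isPGroup hA) le_normalizer_of_normal hE2
  rw [hA3, pow_succ'] at h2
  have h3 := eq_of_le_of_card_le h1 (hE2 ▸ Nat.le_of_mul_le_mul_left h2 hp.out.pos)
  have h4 : A ≤ E := (le_inf le_rfl ((elemAb_le_centralizer hA).trans
    (centralizer_antitone (h3.ge.trans inf_le_left)))).trans h1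
  exact hlt.not_ge (hA3 ▸ hE2 ▸ card_le_of_le h4)

theorem exists_normal_p3Elem_ge (hp2 : p ≠ 2) {R E : Subgroup G} (hR : IsPGroup p R)
    (hr : ¬ PRankLE p 2 R) (hER : E ≤ R) (hn : R ≤ normalizer (E : Set G))
    (hE : IsElementaryAbelian p E) (hE2 : Nat.card E = p ^ 2) :
    ∃ C : Subgroup G, E ≤ C ∧ C ≤ R ∧ R ≤ normalizer (C : Set G) ∧ IsElementaryAbelian p C ∧
      Nat.card C = p ^ 3 := by
  have := normal_subgroupOf_of_le_normalizer hn
  obtain ⟨C, h1, h2, h3, h4⟩ := exists_normal_p3Elem_ge_top hp2 hR hr (elemAb_subgroupOf hE R)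
    (by rwa [card_subgroupOf_of_le hER])
  exact ⟨C.map R.subtype, (map_subgroupOf_eq_of_le hER).ge.trans (map_mono h1), map_subtype_le C,
    le_normalizer_map_subtype C, elemAb_map h3 _, by rw [card_map_subtype, h4]⟩

omit [Finite G] in
theorem not_isCyclic_of_not_pRankLE_two (hr : ¬ PRankLE p 2 G) : ¬ IsCyclic G := fun h =>
  hr (pRankLE_of_le_rank hp.out.pos (pRankLE_one_of_isCyclic h) one_le_two)

/-- BG 4.7, second form: a normal elementary abelian subgroup of order `p ^ 3`. -/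
theorem rank3_normal_abelem_p3 (hp2 : p ≠ 2) {R : Subgroup G} (hR : IsPGroup p R)
    (hr : ¬ PRankLE p 2 R) : ∃ C : Subgroup G, C ≤ R ∧ R ≤ normalizer (C : Set G) ∧
      IsElementaryAbelian p C ∧ Nat.card C = p ^ 3 := by
  obtain ⟨E, h1, h2, h3, h4⟩ := ex_odd_normal_p2Elem hp2 hR (not_isCyclic_of_not_pRankLE_two hr)
  obtain ⟨C, -, h⟩ := exists_normal_p3Elem_ge hp2 hR hr h1 h2 h3 h4
  exact ⟨C, h⟩

/-- BG 4.7 (= 5.1(a)): a `p`-group of rank at least 3 has an `SCN₃` subgroup. -/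
theorem rank3_SCN3 (hp2 : p ≠ 2) {R : Subgroup G} (hR : IsPGroup p R) (hr : ¬ PRankLE p 2 R) :
    ∃ A : Subgroup G, IsSCN R A ∧ ¬ PRankLE p 2 A := by
  obtain ⟨C, h1, h2, h3, h4⟩ := rank3_normal_abelem_p3 hp2 hR hr
  obtain ⟨A, h5, h6⟩ := exists_SCN_ge hR h1 h3.1 h2
  exact ⟨A, h6, not_pRankLE_iff.2 ⟨C, h5, h3, h4⟩⟩

/-- BG 5.1(b). -/
theorem normal_p2Elem_SCN3 (hp2 : p ≠ 2) {R E : Subgroup G} (hR : IsPGroup p R)
    (hr : ¬ PRankLE p 2 R) (hER : E ≤ R) (hn : R ≤ normalizer (E : Set G))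
    (hE : IsElementaryAbelian p E) (hE2 : Nat.card E = p ^ 2) :
    ∃ A : Subgroup G, E ≤ A ∧ IsSCN R A ∧ ¬ PRankLE p 2 A := by
  obtain ⟨C, h0, h1, h2, h3, h4⟩ := exists_normal_p3Elem_ge hp2 hR hr hER hn hE hE2
  obtain ⟨A, h5, h6⟩ := exists_SCN_ge hR h1 h3.1 h2
  exact ⟨A, h0.trans h5, h6, not_pRankLE_iff.2 ⟨C, h5, h3, h4⟩⟩

omit [Finite G] hp in
theorem isPGroup_of_pow_eq_one {R : Subgroup G} (he : ∀ x ∈ R, x ^ p = 1) : IsPGroup p R :=
  fun x => ⟨1, Subtype.ext (by simpa using he x x.2)⟩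

/-- BG 4.8(a). -/
theorem rank2_exponent_p_p3group {R : Subgroup G} (hr : PRankLE p 2 R)
    (he : ∀ x ∈ R, x ^ p = 1) : Nat.card R ≤ p ^ 3 := by
  have hR := isPGroup_of_pow_eq_one he
  obtain ⟨A, -, hA⟩ := exists_SCN_ge hR bot_le inferInstance le_normalizer_of_normal
  have h1 := pRankLE_iff.1 hr A hA.1 ⟨IsSCN.comm hA, fun x hx => he x (hA.1 hx)⟩
  by_cases h : Nat.card A ≤ p
  · have h2 := le_centralizer_of_card_le_prime hR (hR.to_le hA.1) hA.2.1 h
    exact (card_le_of_le ((le_inf le_rfl h2).trans hA.2.2.le)).trans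
      (h1.trans (Nat.pow_le_pow_right hp.out.pos (by norm_num)))
  · have h2 := le_antisymm h1 (pow_succ_le_card_of_lt (k := 1) (hR.to_le hA.1) (by simpa using h))
    have h3 := card_le_mul_card_inf_centralizer hR hA.2.1 h2
    rwa [hA.2.2, h2, ← pow_succ'] at h3

/-- A proper subgroup of a `p`-group lies in a normal subgroup of index `p`. -/
theorem exists_norm_relIndex_eq_prime {R X : Subgroup G} (hR : IsPGroup p R) (h : X < R) :
    ∃ S : Subgroup G, X ≤ S ∧ S < R ∧ R ≤ normalizer (S : Set G) ∧ S.relIndex R = p := by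
  obtain ⟨M, hM, hXM⟩ := (eq_top_or_exists_le_coatom (X.subgroupOf R)).resolve_left
    fun h' => h.not_ge (subgroupOf_eq_top.1 h')
  have hi := (PGrp.isCoatom_iff_index_eq hR).1 hM
  have := PGrp.normal_of_index_eq_prime hR hi
  have h1 : (M.map R.subtype).subgroupOf R = M :=
    comap_map_eq_self_of_injective R.subtype_injective M
  refine ⟨M.map R.subtype, (map_subgroupOf_eq_of_le h.le).ge.trans (map_mono hXM),
    lt_of_le_not_ge (map_subtype_le M) fun h' => hM.1 (h1 ▸ subgroupOf_eq_top.2 h'),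
    le_normalizer_map_subtype M, by rw [relIndex, h1, hi]⟩

/-- BG 4.8(b). -/
theorem exponent_ohm1_rank2 (hp3 : 3 < p) {R : Subgroup G} (hR : IsPGroup p R)
    (hr : PRankLE p 2 R) : ∀ x ∈ omegaOne p R, x ^ p = 1 := by
  induction R using WellFoundedLT.induction with
  | ind R ih =>
  refine pow_eq_one_of_mem_omegaOne fun x hx y hy hxp hyp => ?_
  rcases (zpowers_le.2 hx).eq_or_lt with h | h
  · rw [(commute_of_mem_zpowers (mem_zpowers x) (h ▸ hy)).mul_pow, hxp, hyp, one_mul]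
  obtain ⟨S, h1, h2, h3, -⟩ := exists_norm_relIndex_eq_prime hR h
  have h4 := rank2_exponent_p_p3group (pRankLE_mono hr ((PGrp.omegaOne_le S).trans h2.le))
    (ih S h2 (hR.to_le h2.le) (pRankLE_mono hr h2.le))
  have h5 : IsPGroup p ↥(zpowers y ⊔ omegaOne p S) :=
    hR.to_le (sup_le (zpowers_le.2 hy) ((PGrp.omegaOne_le S).trans h2.le))
  refine mul_pow_eq_one_of_lcs_eq_bot h5 (lcs_pred_eq_bot (by omega) (Or.inr ⟨hp3,
    lcs_eq_bot_of_card_le h5 (by norm_num) ?_⟩))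
    (mem_sup_right (mem_omegaOne (h1 (mem_zpowers x)) hxp)) (mem_sup_left (mem_zpowers y)) hxp hyp
  refine (Nat.le_of_dvd (Nat.mul_pos Nat.card_pos Nat.card_pos) (card_sup_dvd_mul ((zpowers_le.2 hy).trans
    (h3.trans (normalizer_le_normalizer_omegaOne S))))).trans ?_
  rw [pow_succ']
  exact Nat.mul_le_mul (card_le_of_isCyclic_of_pow_eq_one inferInstance (elemAb_zpowers hyp).2) h4

theorem quotient_p2_ohm1_aux (hp3 : 3 < p) (hG : IsPGroup p G)
    (h : Nat.card (omegaOne p (⊤ : Subgroup G)) ≤ p ^ 2) (Z : Subgroup G) [Z.Normal]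
    (hZ : Nat.card Z = p) : Nat.card (omegaOne p (⊤ : Subgroup (G ⧸ Z))) ≤ p ^ 2 := by
  by_contra h'
  have hQ := hG.to_quotient Z
  obtain ⟨U, hU, hU3⟩ : ∃ U : Subgroup (G ⧸ Z), (∀ x ∈ U, x ^ p = 1) ∧ Nat.card U = p ^ 3 := by
    by_cases hr : PRankLE p 2 (G ⧸ Z)
    · obtain ⟨U, h1, h2⟩ := exists_le_card_eq_pow (hQ.to_subgroup _)
        (pow_succ_le_card_of_lt (hQ.to_subgroup _) (not_le.1 h'))
      exact ⟨U, fun x hx => exponent_ohm1_rank2 hp3 (hQ.to_subgroup ⊤) (pRankLE_top.2 hr) x (h1 hx),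
        h2⟩
    · obtain ⟨U, h1, h2⟩ := not_pRankLE_iff'.1 hr
      exact ⟨U, h1.2, h2⟩
  have h1 := card_comap_mk' Z U
  set S := U.comap (QuotientGroup.mk' Z)
  rw [hU3, hZ, ← pow_succ] at h1
  have hreg := isRegular_of_lcs_eq_bot (hG.to_subgroup S) (lcs_pred_eq_bot (by omega)
    (Or.inr ⟨hp3, lcs_eq_bot_of_card_le (hG.to_subgroup S) (by norm_num) h1.le⟩))
  have h2 := relIndex_le_card_of_fibers (K := omegaOne p ⊤) (S := S) (T := Z) (fun a => a ^ p)
    (fun a ha => (QuotientGroup.eq_one_iff _).1 (hU _ ha)) fun a ha b hb hab => by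
      have := (Regular.pow_eq_pow_iff hreg 1 (⟨a, ha⟩ : S)⁻¹ (⟨b, hb⟩ : S)⁻¹).1
        (Subtype.ext (by simpa using hab))
      exact mem_omegaOne (mem_top _) (by simpa using congrArg Subtype.val this)
  have h3 := Nat.mul_le_mul ((card_le_of_le (inf_le_left (b := S))).trans h) h2
  rw [card_inf_mul_relIndex, h1, hZ, ← pow_succ] at h3
  exact absurd ((Nat.pow_le_pow_iff_right hp.out.one_lt).1 h3) (by norm_num)

theorem card_ohm1_le_of_surjective.{u} (hp3 : 3 < p) {H : Type*} [Group H] (X : Type u) [Group X]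
    [Finite X] : IsPGroup p X → Nat.card (omegaOne p (⊤ : Subgroup X)) ≤ p ^ 2 →
      ∀ f : X →* H, Function.Surjective f → Nat.card (omegaOne p (⊤ : Subgroup H)) ≤ p ^ 2 := by
  refine card_induction (P := fun X _ _ => IsPGroup p X →
    Nat.card (omegaOne p (⊤ : Subgroup X)) ≤ p ^ 2 → ∀ f : X →* H, Function.Surjective f →
      Nat.card (omegaOne p (⊤ : Subgroup H)) ≤ p ^ 2) (fun X _ _ ih => ?_) X
  intro hX h f hf
  by_cases hk : f.ker = ⊥
  · have hi := (f.ker_eq_bot_iff).1 hk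
    rwa [← map_top_of_surjective f hf, ← map_omegaOne_of_injective hi, card_map_of_injective hi]
  obtain ⟨Z, hZn, hZ, hZp⟩ := PGrp.exists_normal_le_card_eq_pow hX f.ker 1
    (pow_succ_le_card_of_lt (k := 0) (hX.to_subgroup _) (by
      rw [pow_zero]; exact (one_lt_card_iff_ne_bot _).2 hk))
  rw [pow_one] at hZp
  refine ih (X ⧸ Z) (card_quotient_lt fun h => hp.out.one_lt.ne' (by simpa [h] using hZp.symm))
    (hX.to_quotient Z) (quotient_p2_ohm1_aux hp3 hX h Z hZp) (QuotientGroup.lift Z f hZ)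
    (QuotientGroup.lift_surjective_of_surjective _ _ hf _)

/-- BG 4.9. -/
theorem quotient_p2_ohm1 (hp3 : 3 < p) (hG : IsPGroup p G)
    (h : Nat.card (omegaOne p (⊤ : Subgroup G)) ≤ p ^ 2) (T : Subgroup G) [T.Normal] :
    Nat.card (omegaOne p (⊤ : Subgroup (G ⧸ T))) ≤ p ^ 2 :=
  card_ohm1_le_of_surjective hp3 G hG h _ (QuotientGroup.mk'_surjective T)

theorem ohm1_metacyclic_p2Elem_top (hp2 : p ≠ 2) (hG : IsPGroup p G) (hm : IsMetacyclic G)
    (hc : ¬ IsCyclic G) : IsElementaryAbelian p (omegaOne p (⊤ : Subgroup G)) ∧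
      Nat.card (omegaOne p (⊤ : Subgroup G)) = p ^ 2 := by
  obtain ⟨N, hN, hNc, hq⟩ := hm
  obtain ⟨S, -, hS, hS2⟩ := PGrp.exists_normal_card_sq_of_odd hG hp2 hc
  have h1 := card_comap_mk' N (omegaOne p ⊤)
  set T := (omegaOne p ⊤).comap (QuotientGroup.mk' N)
  have h2 : omegaOne p ⊤ ≤ T :=
    map_le_iff_le_comap.1 ((map_omegaOne_le _ _).trans (omegaOne_mono le_top))
  have h3 : omegaOne p T = omegaOne p ⊤ := le_antisymm (omegaOne_mono le_top)
    ((omegaOne_omegaOne _).ge.trans (omegaOne_mono h2))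
  have h4 := not_isCyclic_of_p2Elem_le ((le_omegaOne le_top hS.2).trans h2) hS hS2.ge
  have h5 : N ≤ T := QuotientGroup.le_comap_mk' N _
  rw [← card_mul_relIndex h5, mul_comm, Nat.mul_left_inj Nat.card_pos.ne'] at h1
  obtain ⟨n, hn⟩ := IsPGroup.iff_card.1 ((hG.to_quotient N).to_subgroup (omegaOne p ⊤))
  rw [← h3]
  refine ohm1_extremal_odd hp2 (hG.to_subgroup T) h4 hNc h5 (h1 ▸ (PGrp.eq_one_or_eq_prime_of_le hn
    (card_omegaOne_le_of_isCyclic inferInstance)).resolve_left fun h => h4 ?_)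
  exact isCyclic_of_le (relIndex_eq_one.1 (h1.trans h))

/-- BG 4.10. -/
theorem ohm1_metacyclic_p2Elem (hp2 : p ≠ 2) {R : Subgroup G} (hR : IsPGroup p R)
    (hm : IsMetacyclic R) (hc : ¬ IsCyclic R) :
    IsElementaryAbelian p (omegaOne p R) ∧ Nat.card (omegaOne p R) = p ^ 2 := by
  obtain ⟨h1, h2⟩ := ohm1_metacyclic_p2Elem_top hp2 hR hm hc
  rw [← map_subtype_omegaOne_top, card_map_subtype]
  exact ⟨elemAb_map h1 _, h2⟩

end CfsgLib.FT
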