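import Mathlib
import Cfsg.Prelude.Def_OddOrderLocal
import Cfsg.Agent.Lib.CoreSolvable
import Cfsg.Agent.Lib.SylowIn

/-! Basic facts about a minimal simple group of odd order and its maximal subgroups
(the preliminaries of Bender–Glauberman, section 7). -/

set_option autoImplicit false

namespace CfsgLib.FT

open Subgroup Cfsg

variable {G : Type*} [Group G]

theorem mFT_odd (hG : IsMinSimpleOddOrder G) (H : Subgroup G) : Odd (Nat.card H) :=
  Odd.of_dvd_nat hG.1 (card_subgroup_dvd_card H)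

theorem mFT_odd_orderOf (hG : IsMinSimpleOddOrder G) (x : G) : Odd (orderOf x) :=
  Odd.of_dvd_nat hG.1 (orderOf_dvd_natCard x)

theorem mFT_prime_ne_two (hG : IsMinSimpleOddOrder G) {p : ℕ} (h : p ∣ Nat.card G) : p ≠ 2 := by
  rintro rfl
  exact (Nat.not_even_iff_odd.2 hG.1) (even_iff_two_dvd.2 h)

theorem mFT_prime_ne_two' (hG : IsMinSimpleOddOrder G) {p : ℕ} {H : Subgroup G}
    (h : p ∣ Nat.card H) : p ≠ 2 :=
  mFT_prime_ne_two hG (h.trans (card_subgroup_dvd_card H))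

theorem mFT_simple (hG : IsMinSimpleOddOrder G) : IsSimpleGroup G := hG.2.1

theorem mFT_nontrivial (hG : IsMinSimpleOddOrder G) : Nontrivial G := hG.2.1.toNontrivial

theorem mFT_sol (hG : IsMinSimpleOddOrder G) {H : Subgroup G} (h : H ≠ ⊤) : Group.IsSolvable H :=
  hG.2.2.2 H h

theorem mFT_not_solvable (hG : IsMinSimpleOddOrder G) : ¬ Group.IsSolvable G := fun h =>
  have := hG.2.1
  hG.2.2.1 ⟨⟨IsSimpleGroup.comm_iff_isSolvable.2 h⟩⟩

theorem mFT_ne_top_of_solvable (hG : IsMinSimpleOddOrder G) {H : Subgroup G}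
    (h : Group.IsSolvable H) : H ≠ ⊤ := by
  rintro rfl
  exact mFT_not_solvable hG (Group.isSolvable_of_surjective (f := (⊤ : Subgroup G).subtype)
    fun x => ⟨⟨x, mem_top x⟩, rfl⟩)

theorem mFT_pgroup_proper [Finite G] (hG : IsMinSimpleOddOrder G) {p : ℕ} [Fact p.Prime]
    {P : Subgroup G} (h : IsPGroup p P) : P ≠ ⊤ :=
  mFT_ne_top_of_solvable hG (isSolvable_of_isPGroup h)

theorem mFT_norm_proper (hG : IsMinSimpleOddOrder G) {H : Subgroup G} (h1 : H ≠ ⊥) (h : H ≠ ⊤) :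
    normalizer (H : Set G) ≠ ⊤ := fun h' =>
  have := hG.2.1
  ((normalizer_eq_top_iff.1 h').eq_bot_or_eq_top).elim h1 h

theorem mFT_center_eq_bot (hG : IsMinSimpleOddOrder G) : center G = ⊥ :=
  have := hG.2.1
  ((inferInstance : (center G).Normal).eq_bot_or_eq_top).resolve_right fun h =>
    hG.2.2.1 ⟨⟨fun x y => mem_center_iff.1 (h ▸ mem_top y) x⟩⟩

theorem mFT_cent1_proper (hG : IsMinSimpleOddOrder G) {x : G} (hx : x ≠ 1) :
    centralizer ({x} : Set G) ≠ ⊤ := fun h => hx (by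
  rw [← mem_bot, ← mFT_center_eq_bot hG, mem_center_iff]
  exact fun g => mem_centralizer_singleton_iff.1 (h ▸ mem_top g))

theorem mFT_cent_proper (hG : IsMinSimpleOddOrder G) {H : Subgroup G} (h1 : H ≠ ⊥) :
    centralizer (H : Set G) ≠ ⊤ := by
  obtain ⟨⟨x, hx⟩, hx1⟩ := ne_bot_iff_exists_ne_one.1 h1
  exact ne_top_of_le_ne_top (mFT_cent1_proper hG fun h => hx1 (Subtype.ext h))
    (centralizer_le (Set.singleton_subset_iff.2 hx))

theorem mFT_commutator_eq_top (hG : IsMinSimpleOddOrder G) : _root_.commutator G = ⊤ :=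
  have := hG.2.1
  ((inferInstance : (_root_.commutator G).Normal).eq_bot_or_eq_top).resolve_left fun h =>
    hG.2.2.1 ((commutator_eq_bot_iff G).1 h)

theorem mmax_exists [Finite G] {H : Subgroup G} (h : H ≠ ⊤) : ∃ M, IsCoatom M ∧ H ≤ M :=
  (eq_top_or_exists_le_coatom H).resolve_left h

theorem mmax_neq_bot [Finite G] (hG : IsMinSimpleOddOrder G) {M : Subgroup G} (hM : IsCoatom M) :
    M ≠ ⊥ := by
  rintro rfl
  have := mFT_nontrivial hG
  obtain ⟨x, hx⟩ := exists_ne (1 : G)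
  have h1 : zpowers x = ⊤ := hM.2 _ (bot_lt_iff_ne_bot.2 (zpowers_ne_bot.2 hx))
  exact mFT_ne_top_of_solvable hG (H := zpowers x) (Group.isSolvable_of_comm fun a b => mul_comm' a b) h1

/-- The normalizer of a nontrivial normal subgroup of a maximal subgroup `M` is `M`. -/
theorem mmax_normal (hG : IsMinSimpleOddOrder G) {M H : Subgroup G} (hM : IsCoatom M)
    (hHM : H ≤ M) (hn : M ≤ normalizer (H : Set G)) (h1 : H ≠ ⊥) : normalizer (H : Set G) = M :=
  ((hM.le_iff_eq (mFT_norm_proper hG h1 (ne_top_of_le_ne_top hM.1 hHM))).1 hn)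

theorem norm_mmax [Finite G] (hG : IsMinSimpleOddOrder G) {M : Subgroup G} (hM : IsCoatom M) :
    normalizer (M : Set G) = M :=
  mmax_normal hG hM le_rfl le_normalizer (mmax_neq_bot hG hM)

theorem mmax_cent_le (hG : IsMinSimpleOddOrder G) {M H : Subgroup G} (hM : IsCoatom M)
    (hHM : H ≤ M) (hn : M ≤ normalizer (H : Set G)) (h1 : H ≠ ⊥) : centralizer (H : Set G) ≤ M :=
  (centralizer_le_normalizer _).trans (mmax_normal hG hM hHM hn h1).le

theorem isCoatom_map_conj {M : Subgroup G} (hM : IsCoatom M) (g : G) :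
    IsCoatom (M.map (MulAut.conj g).toMonoidHom) :=
  ((MulAut.conj g).mapSubgroup.isCoatom_iff M).2 hM

theorem mmax_fitting_ne_bot [Finite G] (hG : IsMinSimpleOddOrder G) {M : Subgroup G}
    (hM : IsCoatom M) : fittingOf M ≠ ⊥ := by
  have := mFT_sol hG hM.1
  have := (nontrivial_iff_ne_bot M).2 (mmax_neq_bot hG hM)
  exact fun h => fitting_ne_bot ((map_eq_bot_iff_of_injective _ M.subtype_injective).1 h)

/-! ### Uniqueness subgroups -/

theorem inUniqueMaximal_iff {X M : Subgroup G} (hM : IsCoatom M) (hXM : X ≤ M) :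
    InUniqueMaximal X ↔ ∀ L, IsCoatom L → X ≤ L → L = M :=
  ⟨fun h L hL hXL => h.unique ⟨hL, hXL⟩ ⟨hM, hXM⟩, fun h => ⟨M, ⟨hM, hXM⟩, fun L hL => h L hL.1 hL.2⟩⟩

theorem InUniqueMaximal.eq {X M L : Subgroup G} (h : InUniqueMaximal X) (hM : IsCoatom M)
    (hXM : X ≤ M) (hL : IsCoatom L) (hXL : X ≤ L) : L = M := h.unique ⟨hL, hXL⟩ ⟨hM, hXM⟩

theorem InUniqueMaximal.ne_top {X : Subgroup G} (h : InUniqueMaximal X) : X ≠ ⊤ :=
  let ⟨_, hM⟩ := h.exists
  ne_top_of_le_ne_top hM.1.1 hM.2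

/-- A proper overgroup of a uniqueness subgroup lies in the unique maximal overgroup. -/
theorem InUniqueMaximal.le [Finite G] {X M H : Subgroup G} (h : InUniqueMaximal X)
    (hM : IsCoatom M) (hXM : X ≤ M) (hH : H ≠ ⊤) (hXH : X ≤ H) : H ≤ M := by
  obtain ⟨L, hL, hHL⟩ := mmax_exists hH
  exact InUniqueMaximal.eq h hM hXM hL (hXH.trans hHL) ▸ hHL

theorem InUniqueMaximal.mono [Finite G] {X Y : Subgroup G} (h : InUniqueMaximal X) (hXY : X ≤ Y)
    (hY : Y ≠ ⊤) : InUniqueMaximal Y := by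
  obtain ⟨M, hM, hYM⟩ := mmax_exists hY
  exact (inUniqueMaximal_iff hM hYM).2 fun L hL hYL =>
    InUniqueMaximal.eq h hM (hXY.trans hYM) hL (hXY.trans hYL)

theorem InUniqueMaximal.map_conj {X : Subgroup G} (h : InUniqueMaximal X) (g : G) :
    InUniqueMaximal (X.map (MulAut.conj g).toMonoidHom) := by
  obtain ⟨M, hM, hXM⟩ := h.exists
  refine (inUniqueMaximal_iff (isCoatom_map_conj hM g) (map_mono hXM)).2 fun L hL hXL => ?_
  rw [← InUniqueMaximal.eq h hM hXM (isCoatom_map_conj hL g⁻¹)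
    (by rw [← map_conj_inv_map_conj g X]; exact map_mono hXL), map_conj_map_conj_inv]

theorem InUniqueMaximal.normalizer_le [Finite G] (hG : IsMinSimpleOddOrder G) {X M : Subgroup G}
    (h : InUniqueMaximal X) (hM : IsCoatom M) (hXM : X ≤ M) : normalizer (X : Set G) ≤ M := by
  intro g hg
  rw [← norm_mmax hG hM, ← map_conj_eq_iff_mem_normalizer]
  exact InUniqueMaximal.eq h hM hXM (isCoatom_map_conj hM g)
    (by rw [← map_conj_eq_of_mem_normalizer hg]; exact map_mono hXM)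

theorem InUniqueMaximal.ne_bot [Finite G] (hG : IsMinSimpleOddOrder G) {X : Subgroup G}
    (h : InUniqueMaximal X) : X ≠ ⊥ := by
  rintro rfl
  obtain ⟨M, hM, hXM⟩ := h.exists
  refine hM.1 (top_le_iff.1 ?_)
  have := InUniqueMaximal.normalizer_le hG h hM hXM
  rwa [normalizer_eq_top_iff.2 inferInstance] at this

end CfsgLib.FT
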