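import Mathlib
import Cfsg.Agent.Lib.FT.BG3
import Cfsg.Agent.Lib.FT.BG4a
import Cfsg.Agent.Lib.FT.BG7a

/-! Group theoretic lemmas for Peterfalvi, sections 12 to 14. -/

set_option autoImplicit false
set_option linter.unusedSectionVars false

namespace CfsgLib.FT.P12

open Cfsg Subgroup
open scoped commutatorElement

variable {G : Type*} [Group G] [Finite G] {p : ℕ}

omit [Finite G] in
theorem orderOf_conj' (k g : G) : orderOf (k * g * k⁻¹) = orderOf g :=
  orderOf_injective (MulAut.conj k).toMonoidHom (MulAut.conj k).injective g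

omit [Finite G] in
theorem exists_ne_one {H : Subgroup G} (h : H ≠ ⊥) : ∃ x ∈ H, x ≠ 1 :=
  (H.bot_or_exists_ne_one).resolve_left h

theorem nil_sylow_norm [Fact p.Prime] {S H : Subgroup G} (hS : IsSylowIn p S H)
    (hH : Group.IsNilpotent H) : normalizer (H : Set G) ≤ normalizer (S : Set G) := by
  obtain ⟨P, rfl⟩ := hS.exists_sylow_map
  have : (P : Subgroup H).Characteristic := Sylow.characteristic_of_normal P inferInstance
  exact normalizer_le_normalizer_map_subtype_of_characteristic H _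

theorem nil_sylow_le [Fact p.Prime] {S H X : Subgroup G} (hS : IsSylowIn p S H)
    (hH : Group.IsNilpotent H) (hX : IsPGroup p X) (hXH : X ≤ H) : X ≤ S := by
  have h1 := le_normalizer.trans (nil_sylow_norm hS hH)
  have h2 := hS.eq_of_le (T := X ⊔ S) (hX.to_sup_of_normal_right' hS.isPGroup (hXH.trans h1))
    le_sup_right (sup_le hXH hS.le)
  exact le_sup_left.trans h2.le

omit [Finite G] in
theorem mem_of_coprime_relIndex {N L : Subgroup G} (hn : L ≤ normalizer (N : Set G)) {x : G}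
    (hx : x ∈ L) (h : (orderOf x).Coprime (N.relIndex L)) : x ∈ N := by
  have : (N.subgroupOf L).Normal := (normal_subgroupOf_iff_le_normalizer_inf ..).mpr
    (le_normalizer_inf hn le_normalizer)
  have := mem_of_coprime_index (N := N.subgroupOf L) (x := ⟨x, hx⟩) (by rwa [← orderOf_coe])
  exact this

omit [Finite G] in
theorem le_of_coprime_relIndex {N L P : Subgroup G} (hn : L ≤ normalizer (N : Set G))
    (hP : P ≤ L) (h : (Nat.card P).Coprime (N.relIndex L)) : P ≤ N := fun _ hx =>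
  mem_of_coprime_relIndex hn (hP hx) (h.coprime_dvd_left (orderOf_dvd_natCard P hx))

omit [Finite G] in
theorem pgroup_coprime [hp : Fact p.Prime] {P : Subgroup G} [Finite P] (hP : IsPGroup p P) {n : ℕ}
    (h : ¬ p ∣ n) : (Nat.card P).Coprime n := by
  obtain ⟨k, hk⟩ := IsPGroup.iff_card.mp hP
  rw [hk]; exact ((Nat.Prime.coprime_iff_not_dvd hp.out).mpr h).pow_left k

theorem pgroup_dvd [hp : Fact p.Prime] {P : Subgroup G} (hP : IsPGroup p P) (h : P ≠ ⊥) :
    p ∣ Nat.card P := by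
  obtain ⟨k, hk⟩ := IsPGroup.iff_card.mp hP
  rcases k with _ | k
  · exact absurd (card_eq_one.mp (by simpa using hk)) h
  · rw [hk]; exact dvd_pow_self p (Nat.succ_ne_zero k)

theorem not_dvd_of_coprime {a b : ℕ} (hp : p.Prime) (h : a.Coprime b) (ha : p ∣ a) : ¬ p ∣ b :=
  fun hb => hp.ne_one (Nat.eq_one_of_dvd_coprimes h ha hb)

omit [Finite G] in
theorem sylow_trans [hp : Fact p.Prime] {S U M : Subgroup G} (h : IsSylowIn p S U) (hU : U ≤ M)
    (hd : ¬ p ∣ U.relIndex M) : IsSylowIn p S M := by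
  refine ⟨h.le.trans hU, h.isPGroup, fun e => ?_⟩
  rw [← relIndex_mul_relIndex S U M h.le hU] at e
  exact ((Nat.Prime.dvd_mul hp.out).mp e).elim h.not_dvd hd

omit [Finite G] in
theorem mem_cent1 {x y : G} : y ∈ centralizer ({x} : Set G) ↔ x * y = y * x := by
  rw [mem_centralizer_singleton_iff, eq_comm]

omit [Finite G] in
theorem cent1_le_norm_zpowers (x : G) :
    centralizer ({x} : Set G) ≤ normalizer ((zpowers x : Subgroup G) : Set G) := by
  rw [← centralizer_zpowers_eq]; exact centralizer_le_normalizer _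

theorem mem_norm_zpowers {a x : G} (h : a * x * a⁻¹ ∈ zpowers x) :
    a ∈ normalizer ((zpowers x : Subgroup G) : Set G) := by
  refine mem_normalizer_of_conj_mem ?_
  rintro _ ⟨k, rfl⟩
  have : a * x ^ k * a⁻¹ = (a * x * a⁻¹) ^ k := by simp [conj_zpow]
  simp only
  rw [this]; exact zpow_mem h k

/-- The number of lines. -/
theorem card_dvd_succ_of_free_lines [hp : Fact p.Prime] {T E : Subgroup G}
    (hT : IsElementaryAbelian p T) (hT2 : Nat.card T = p ^ 2) (hET : E ≤ normalizer (T : Set G))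
    (hfree : ∀ a ∈ E, ∀ t ∈ T, t ≠ 1 → a * t * a⁻¹ ∈ zpowers t → a = 1) :
    Nat.card E ∣ p + 1 := by
  classical
  have ho : ∀ t ∈ T, t ≠ 1 → orderOf t = p := fun t ht h1 => orderOf_eq_prime (hT.2 t ht) h1
  let X := {t : G // t ∈ T ∧ t ≠ 1}
  have hk : ∀ (k : (ZMod p)ˣ) (t : X), t.1 ^ (k : ZMod p).val ≠ 1 := by
    intro k t h
    rw [← orderOf_dvd_iff_pow_eq_one, ho t.1 t.2.1 t.2.2] at h
    have := Nat.eq_zero_of_dvd_of_lt h (ZMod.val_lt _)
    rw [ZMod.val_eq_zero] at this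
    exact k.ne_zero this
  let act : MulAction (E × (ZMod p)ˣ) X :=
    { smul := fun g t => ⟨g.1 * t.1 ^ (g.2 : ZMod p).val * (g.1 : G)⁻¹,
        conj_mem_of_mem_normalizer (hET g.1.2) (pow_mem t.2.1 _), fun h => hk g.2 t (by
          simpa [mul_inv_eq_one] using h)⟩
      one_smul := fun t => Subtype.ext (by
        change ((1 : E) : G) * t.1 ^ ((1 : (ZMod p)ˣ) : ZMod p).val * ((1 : E) : G)⁻¹ = t.1
        simp [ZMod.val_one])
      mul_smul := fun g h t => Subtype.ext (by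
        change ((g.1 * h.1 : E) : G) * t.1 ^ ((g.2 * h.2 : (ZMod p)ˣ) : ZMod p).val *
          ((g.1 * h.1 : E) : G)⁻¹ = g.1 * (h.1 * t.1 ^ (h.2 : ZMod p).val * (h.1 : G)⁻¹) ^
            (g.2 : ZMod p).val * (g.1 : G)⁻¹
        rw [conj_pow, ← pow_mul, Units.val_mul, ZMod.val_mul, ← pow_eq_pow_mod _ (hT.2 _ t.2.1),
          mul_comm (h.2 : ZMod p).val]
        simp [mul_assoc]) }
  have hst : ∀ t : X, MulAction.stabilizer (E × (ZMod p)ˣ) t = ⊥ := by
    intro t
    rw [eq_bot_iff]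
    rintro ⟨a, k⟩ h
    have h' : (a : G) * t.1 ^ (k : ZMod p).val * (a : G)⁻¹ = t.1 := congrArg Subtype.val h
    have ha : (a : G)⁻¹ = 1 := hfree _ (inv_mem a.2) t.1 t.2.1 t.2.2 (by
      have : (a : G)⁻¹ * t.1 * (a : G)⁻¹⁻¹ = t.1 ^ (k : ZMod p).val := by
        conv_lhs => rw [← h']
        group
      rw [this]; exact npow_mem_zpowers _ _)
    rw [inv_eq_one] at ha
    rw [ha, one_mul, inv_one, mul_one] at h'
    have hk1 : (k : ZMod p).val ≡ 1 [MOD p] := by
      have := pow_eq_pow_iff_modEq.mp (h'.trans (pow_one _).symm)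
      rwa [ho t.1 t.2.1 t.2.2] at this
    have : (k : ZMod p) = 1 := by
      rw [← ZMod.natCast_zmod_val (k : ZMod p), (ZMod.natCast_eq_natCast_iff _ _ _).mpr hk1]; simp
    exact Prod.ext (Subtype.ext ha) (Units.ext this)
  have e := Nat.card_congr (MulAction.selfEquivOrbitsQuotientProd hst)
  have hX : Nat.card X = p ^ 2 - 1 := by
    have : Nat.card X = ((T : Set G) \ {1}).ncard := Nat.card_coe_set_eq ((T : Set G) \ {1})
    rw [this, Set.ncard_sdiff_singleton_of_mem (one_mem T), ← hT2]; rfl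
  rw [hX, Nat.card_prod, Nat.card_prod, Nat.card_eq_fintype_card (α := (ZMod p)ˣ),
    ZMod.card_units] at e
  have h1 : p ^ 2 - 1 = (p + 1) * (p - 1) := by
    have := Nat.sq_sub_sq p 1; simpa using this
  refine Nat.dvd_of_mul_dvd_mul_right (k := p - 1) (by have := hp.out.two_le; omega) ?_
  rw [← h1, e]; exact Dvd.intro_left _ rfl

/-- The numerical content of PF (12.12). -/
theorem two_mul_card_le_succ [hp : Fact p.Prime] (hp2 : p ≠ 2) {T E : Subgroup G}
    (hT : IsElementaryAbelian p T) (hT2 : Nat.card T = p ^ 2) (hET : E ≤ normalizer (T : Set G))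
    (hodd : Odd (Nat.card E)) (hreg : ∀ a ∈ E, a ≠ 1 → T ⊓ centralizer ({a} : Set G) = ⊥)
    {x : G} (hx : x ∈ T) (hN : ∀ a ∈ E, a ∈ normalizer ((zpowers x : Subgroup G) : Set G) → a = 1) :
    2 * Nat.card E ≤ p + 1 := by
  have hpo := hp.out.odd_of_ne_two hp2
  have hT1 : T ≠ ⊥ := by
    rintro rfl
    have := hp.out.two_le
    rw [card_bot] at hT2
    nlinarith
  by_cases hfree : ∀ a ∈ E, ∀ t ∈ T, t ≠ 1 → a * t * a⁻¹ ∈ zpowers t → a = 1
  · have h1 := card_dvd_succ_of_free_lines hT hT2 hET hfree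
    exact Nat.le_of_dvd (by omega) (Nat.Coprime.mul_dvd_of_dvd_of_dvd
      (Nat.coprime_two_left.2 hodd) hpo.add_one.two_dvd h1)
  push Not at hfree
  obtain ⟨a, ha, t, ht, ht1, ⟨k, hk⟩, ha1⟩ := hfree
  have hcop := semiregular_coprime hET hreg
  have hcomm : ∀ b ∈ E, b * a = a * b := by
    intro b hb
    have hm : ⁅b, a⁆ ∈ ⁅E, E⁆ := commutator_mem_commutator hb ha
    have hmE : ⁅b, a⁆ ∈ E := ((commutator_le_sup E E).trans (sup_idem E).le) hm
    have := der1_cent_abelem2 hET hodd hT hT2.le hm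
      ((hcop.coprime_dvd_left (orderOf_dvd_natCard E hmE)).coprime_dvd_right
        (hT2 ▸ dvd_pow_self p two_ne_zero))
    rw [← commutatorElement_eq_one_iff_mul_comm]
    by_contra h1
    refine hT1 ?_
    rw [← hreg _ hmE h1, eq_comm, inf_eq_left]
    intro s hs
    exact mem_cent1.mpr (this s hs).symm
  have hc : ∀ s ∈ T, ∀ s' ∈ T, Commute s s' := fun s hs s' hs' =>
    congrArg Subtype.val (hT.1.is_comm.comm ⟨s, hs⟩ ⟨s', hs'⟩)
  let V : Subgroup G :=
    { carrier := {s | s ∈ T ∧ a * s * a⁻¹ = s ^ k}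
      one_mem' := ⟨one_mem _, by simp⟩
      mul_mem' := fun {s s'} hs hs' => ⟨mul_mem hs.1 hs'.1, by
        rw [(hc s hs.1 s' hs'.1).mul_zpow, ← hs.2, ← hs'.2]; group⟩
      inv_mem' := fun {s} hs => ⟨inv_mem hs.1, by rw [inv_zpow, ← hs.2]; group⟩ }
  have hVT : V ≤ T := fun s hs => hs.1
  have hV1 : V ≠ ⊥ := fun h => ht1 (by
    have : t ∈ V := ⟨ht, hk.symm⟩
    rwa [h] at this)
  have hEV : E ≤ normalizer (V : Set G) := fun b hb => mem_normalizer_of_conj_mem fun s hs =>
    ⟨conj_mem_of_mem_normalizer (hET hb) hs.1, by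
      rw [conj_zpow, ← hs.2]
      calc a * (b * s * b⁻¹) * a⁻¹ = (a * b) * s * (a * b)⁻¹ := by group
        _ = _ := by rw [← hcomm b hb]; group⟩
  have hd := card_dvd_of_le hVT
  rw [hT2, Nat.dvd_prime_pow hp.out] at hd
  obtain ⟨i, hi, hVi⟩ := hd
  interval_cases i
  · exact absurd (card_eq_one.mp (by simpa using hVi)) hV1
  · have := odd_semiregular_card_lt hEV (fun b hb h1 => by
      rw [eq_bot_iff, ← hreg b hb h1]; exact inf_le_inf_right _ hVT) hV1
      (by rw [hVi]; simpa using hpo) hodd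
    rw [hVi] at this
    rw [pow_one] at this; omega
  · have hVeq := eq_of_le_of_card_le hVT (by rw [hVi, hT2])
    have hxV : x ∈ V := hVeq ▸ hx
    exact absurd (hN a ha (mem_norm_zpowers (by rw [hxV.2]; exact zpow_mem_zpowers _ _))) ha1

end CfsgLib.FT.P12
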