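import Mathlib
import Cfsg.Prelude.Def_OddOrderLocal
import Cfsg.Prelude.Def_PLocal
import Cfsg.Prelude.Def_Local
import Cfsg.Prelude.Def_HallClasses
import Cfsg.Agent.Lib.SylowIn
import Cfsg.Agent.Lib.Hall

/-! Vocabulary for Bender–Glauberman, sections 10–13 (ambient subgroups of a group `G`). -/

set_option autoImplicit false

namespace CfsgLib.FT

open Subgroup Cfsg

namespace BGN

/-- `𝐍(H)`: the normalizer of the subgroup `H`. -/
scoped notation "𝐍(" H ")" => Subgroup.normalizer (SetLike.coe H)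
/-- `𝐂(H)`: the centralizer of the subgroup `H`. -/
scoped notation "𝐂(" H ")" => Subgroup.centralizer (SetLike.coe H)
/-- `𝐂[x]`: the centralizer of the element `x`. -/
scoped notation "𝐂[" x "]" => Subgroup.centralizer ({x} : Set _)
/-- `g •ᶜ H = g H g⁻¹`. -/
scoped notation:75 g:76 " •ᶜ " H:75 => Subgroup.map (MulEquiv.toMonoidHom (MulAut.conj g)) H

end BGN

open BGN

variable {G : Type*} [Group G]

/-- `𝓜(X) = {M}`: `M` is the only maximal subgroup containing `X` (`M` maximal is assumed apart). -/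
def UniqMax (X M : Subgroup G) : Prop := X ≤ M ∧ ∀ L : Subgroup G, IsCoatom L → X ≤ L → L = M

/-- `A ∈ 𝓔_p^2(H)`: `A` is an elementary abelian subgroup of `H` of order `p ^ 2`. -/
def P2Elem (p : ℕ) (A H : Subgroup G) : Prop :=
  A ≤ H ∧ IsElementaryAbelian p A ∧ Nat.card A = p ^ 2

/-- `A` is maximal among the elementary abelian `p`-subgroups of the whole group (for `A`
elementary abelian: `A ∈ 𝓔_p^*(G)`). -/
def PMaxElem (p : ℕ) (A : Subgroup G) : Prop :=
  ∀ B : Subgroup G, IsElementaryAbelian p B → A ≤ B → B = A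

/-- `H` is not conjugate to `M`. -/
def NotConj (H M : Subgroup G) : Prop := ∀ g : G, H ≠ g •ᶜ M

/-- `H` acts semiregularly ("regularly" in BG) on `K`: `C_K(x) = 1` for all `x ∈ H^#`. -/
def SemiReg (K H : Subgroup G) : Prop := ∀ x ∈ H, x ≠ 1 → K ⊓ 𝐂[x] = ⊥

/-- `H` acts "in a prime manner" on `K`: `C_K(x) = C_K(H)` for all `x ∈ H^#`. -/
def SemiPrime (K H : Subgroup G) : Prop := ∀ x ∈ H, x ≠ 1 → K ⊓ 𝐂[x] = K ⊓ 𝐂(H)

/-- `K N / N` is nilpotent (for `N` normalized by `K`). -/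
def NilMod (K N : Subgroup G) : Prop := ∃ n : ℕ, K.lowerCentralSeries n ≤ N

/-- `M_β = O_{β(M)}(M)`. -/
abbrev betaCore (M : Subgroup G) : Subgroup G := piCoreOf (beta M) M

/-- Hypothesis 11.1 (without the maximality of `M` and the Sylow subgroup `P`). -/
structure ExceptionalMax (p : ℕ) (M A₀ A : Subgroup G) : Prop where
  not_sigma : p ∉ sigma M
  elem : P2Elem p A M
  le : A₀ ≤ A
  card : Nat.card A₀ = p
  norm_le : 𝐍(A₀) ≤ M

/-- The standing notation of BG section 12: `E` is a complement to `M_σ` in `M` (a Hall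
`σ(M)'`-subgroup), `Eᵢ` is a Hall `τᵢ(M)`-subgroup of `E`, and `E₂ E₁` is a group (in which `E₂` is
normal). -/
structure SigmaCompl (M E E₁ E₂ E₃ : Subgroup G) : Prop where
  hall : IsPiHallOf (sigma M)ᶜ E M
  hall₁ : IsPiHallOf (tau1 M) E₁ E
  hall₂ : IsPiHallOf (tau2 M) E₂ E
  hall₃ : IsPiHallOf (tau3 M) E₃ E
  norm₂ : E₁ ≤ 𝐍(E₂)

end CfsgLib.FT
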