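import Mathlib
import Cfsg.Agent.Lib.FT.BG4a
import Cfsg.Agent.Lib.FT.BG1
import Cfsg.Agent.Lib.MetacyclicMain
import Cfsg.Agent.Lib.Extraspecial
import Cfsg.Agent.Lib.FrobZGroup

/-! Bender–Glauberman, section 4, second part (4.11, 4.12, 4.15). -/

set_option autoImplicit false

namespace CfsgLib.FT

open Subgroup Cfsg
open scoped commutatorElement

variable {G : Type*} [Group G] [Finite G] {p : ℕ} [hp : Fact p.Prime]

theorem index_dvd_prime_of_lt (hG : IsPGroup p G) {K M : Subgroup G} (h : K < M)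
    (hK : K.index ≤ p ^ 2) : M.index ∣ p := by
  obtain ⟨n, hn⟩ := hG.index M
  have h1 := PGrp.mul_card_le_card_of_lt (hG.to_subgroup M) h
  have h2 : Nat.card K * (p * M.index) ≤ Nat.card K * (p * p) :=
    calc Nat.card K * (p * M.index) = p * Nat.card K * M.index := by ring
      _ ≤ Nat.card M * M.index := Nat.mul_le_mul_right _ h1
      _ = Nat.card K * K.index := by rw [card_mul_index, card_mul_index]
      _ ≤ _ := Nat.mul_le_mul_left _ (hK.trans (sq p).le)
  have h3 := Nat.le_of_mul_le_mul_left (Nat.le_of_mul_le_mul_left h2 Nat.card_pos) hp.out.pos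
  rcases PGrp.eq_one_or_eq_prime_of_le hn h3 with h | h <;> simp [h]

theorem metacyclic_of_card_commutator_le (hp2 : p ≠ 2) (hG : IsPGroup p G)
    (h : Nat.card (omegaOne p (⊤ : Subgroup G)) ≤ p ^ 2)
    (hc : Nat.card (_root_.commutator G) ≤ p) : IsMetacyclic G := by
  have hcc := isCyclic_of_card_le_prime (hG.to_subgroup _) hc
  have h1 := le_centralizer_of_card_le_prime (hG.to_subgroup ⊤) (hG.to_subgroup _)
    le_normalizer_of_normal hc
  have h2 : ∀ x ∈ _root_.commutator G, x ^ p = 1 := fun x hx => by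
    obtain ⟨n, hn⟩ := IsPGroup.iff_card.1 (hG.to_subgroup (_root_.commutator G))
    have h3 : Nat.card (_root_.commutator G) ∣ p := by
      rcases PGrp.eq_one_or_eq_prime_of_le hn hc with h | h <;> simp [h]
    exact orderOf_dvd_iff_pow_eq_one.1 ((orderOf_dvd_natCard _ hx).trans h3)
  have h3 := (exponent_odd_nil23 hp2 (hG.to_subgroup ⊤)
    (Or.inl (Cop.commutator_eq_bot_iff_le_centralizer'.2 h1))).2 (le_omegaOne le_top h2)
  let φ : G →* G := MonoidHom.mk' (· ^ p) fun x y => h3 x (mem_top x) y (mem_top y)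
  have h4 : φ.range.index ≤ p ^ 2 := by
    rw [index_range]
    exact (card_le_of_le (le_omegaOne le_top fun x hx => hx)).trans h
  obtain ⟨c₀, hc₀⟩ := (Subgroup.isCyclic_iff_exists_zpowers_eq_top _).1 hcc
  obtain ⟨c, hc1, hc2⟩ := Set.exists_max_image {c : G | _root_.commutator G ≤ zpowers c} orderOf
    (Set.toFinite _) ⟨c₀, hc₀.ge⟩
  have hn : (zpowers c).Normal := ⟨fun x hx g => by
    have := mul_mem (hc1 (commutator_mem_commutator (mem_top g) (mem_top x))) hx
    simpa [commutatorElement_def] using this⟩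
  refine ⟨zpowers c, hn, inferInstance, ?_⟩
  by_cases hcφ : c ∈ φ.range
  · obtain ⟨d, rfl⟩ := hcφ
    have h5 : orderOf d ≤ orderOf (d ^ p) :=
      hc2 d (le_trans hc1 (zpowers_le.2 (pow_mem (mem_zpowers d) p)))
    have h6 : d = 1 := by
      by_contra hd
      obtain ⟨k, hk⟩ := (IsPGroup.iff_orderOf.1 hG) d
      have hk0 : k ≠ 0 := fun h => hd (orderOf_eq_one_iff.1 (by rw [hk, h, pow_zero]))
      rw [orderOf_pow_of_dvd hp.out.ne_zero (hk ▸ dvd_pow_self p hk0)] at h5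
      exact (Nat.div_lt_self (orderOf_pos d) hp.out.one_lt).not_ge h5
    have h7 : φ d = 1 := by rw [h6, map_one]
    have : Subsingleton G := ⟨fun x y => by
      have key : ∀ x : G, x = 1 := fun x => orderOf_eq_one_iff.1 (le_antisymm (by
        simpa [h7] using hc2 x (le_trans hc1 (zpowers_le.2 (h7 ▸ one_mem _)))) (orderOf_pos x))
      rw [key x, key y]⟩
    exact isCyclic_of_surjective _ (QuotientGroup.mk'_surjective _)
  · have hQ := hG.to_quotient (zpowers c)
    rw [BurnsideBasis.isCyclic_iff_index_frattini_dvd hQ,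
      ← index_comap_of_surjective _ (QuotientGroup.mk'_surjective _)]
    refine index_dvd_prime_of_lt hG (lt_of_le_not_ge ?_ fun h => hcφ (h ?_)) h4
    · rintro _ ⟨x, rfl⟩
      exact PGrp.pow_prime_mem_frattini hQ (x : G ⧸ zpowers c)
    · exact QuotientGroup.le_comap_mk' _ _ (mem_zpowers c)

theorem p2_ohm1_metacyclic_top.{u} (hp3 : 3 < p) (X : Type u) [Group X] [Finite X] :
    IsPGroup p X → Nat.card (omegaOne p (⊤ : Subgroup X)) ≤ p ^ 2 → IsMetacyclic X := by
  refine card_induction (P := fun X _ _ => IsPGroup p X →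
    Nat.card (omegaOne p (⊤ : Subgroup X)) ≤ p ^ 2 → IsMetacyclic X) (fun G _ _ ih => ?_) X
  intro hG h
  have hp2 : p ≠ 2 := by omega
  by_cases hc : Nat.card (_root_.commutator G) ≤ p
  · exact metacyclic_of_card_commutator_le hp2 hG h hc
  let M : Subgroup G := closure ((· ^ p) '' (_root_.commutator G : Set G))
  have hM : M ≤ _root_.commutator G := (closure_le _).2 (by
    rintro _ ⟨x, hx, rfl⟩; exact pow_mem hx p)
  have hMn : M.Normal := by
    refine ⟨fun x hx g => ?_⟩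
    have : M.map (MulAut.conj g).toMonoidHom ≤ M := by
      rw [MonoidHom.map_closure, closure_le]
      rintro _ ⟨_, ⟨y, hy, rfl⟩, rfl⟩
      exact subset_closure ⟨g * y * g⁻¹, Normal.conj_mem inferInstance y hy g, by simp [conj_pow]⟩
    exact this ⟨x, hx, rfl⟩
  obtain ⟨T, hTn, hT, hTp, hTM⟩ : ∃ T : Subgroup G, T.Normal ∧ T ≤ _root_.commutator G ∧
      Nat.card T = p ∧ (M ≠ ⊥ → T ≤ M) := by
    by_cases hM1 : M = ⊥
    · obtain ⟨T, h1, h2, h3⟩ := PGrp.exists_normal_le_card_eq_pow hG (_root_.commutator G) 1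
        (by rw [pow_one]; omega)
      exact ⟨T, h1, h2, by rw [h3, pow_one], fun h => absurd hM1 h⟩
    · obtain ⟨T, h1, h2, h3⟩ := PGrp.exists_normal_le_card_eq_pow hG M 1
        (pow_succ_le_card_of_lt (k := 0) (hG.to_subgroup _)
          (by rw [pow_zero]; exact (one_lt_card_iff_ne_bot _).2 hM1))
      exact ⟨T, h1, h2.trans hM, by rw [h3, pow_one], fun _ => h2⟩
  have hT1 : T ≠ ⊥ := fun h => hp.out.one_lt.ne' (by simpa [h] using hTp.symm)
  have hTc := PGrp.le_center_of_card_eq_prime hG T hTp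
  have hTe := (elemAb_of_card_eq_prime hTp).2
  obtain ⟨a', b', r, ⟨m, hm⟩, hab, hgen⟩ := PGrp.exists_metacyclic_gens (hG.to_quotient T)
    (ih (G ⧸ T) (card_quotient_lt hT1) (hG.to_quotient T) (quotient_p2_ohm1 hp3 hG h T))
  obtain ⟨a, rfl⟩ := QuotientGroup.mk_surjective a'
  obtain ⟨b, rfl⟩ := QuotientGroup.mk_surjective b'
  have h1 : ∀ x ∈ _root_.commutator G, ∃ k : ℤ, ∃ t ∈ T, x = (a ^ p) ^ k * t := by
    intro x hx
    have h2 : (x : G ⧸ T) ∈ _root_.commutator (G ⧸ T) := by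
      rw [_root_.commutator_def, ← map_top_of_surjective _ (QuotientGroup.mk'_surjective T),
        ← map_commutator]
      exact ⟨x, hx, rfl⟩
    rw [PGrp.commutator_eq_zpowers_metacyclic hab hgen, hm] at h2
    obtain ⟨k, hk⟩ := h2
    refine ⟨m * k, ((a ^ p) ^ (m * k))⁻¹ * x, QuotientGroup.eq.1 ?_, by group⟩
    rw [← hk]
    simp [← zpow_natCast, ← zpow_mul, mul_assoc]
  have h2 : ∀ g : G, ∃ (i : ℤ) (j : ℕ), ∃ t ∈ T, g = a ^ i * b ^ j * t := fun g => by
    obtain ⟨i, j, hij⟩ := hgen g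
    exact ⟨i, j, (a ^ i * b ^ j)⁻¹ * g, QuotientGroup.eq.1 (by simp [hij]), by group⟩
  by_cases hTa : T ≤ zpowers a
  · have h3 : _root_.commutator G ≤ zpowers a := fun x hx => by
      obtain ⟨k, t, ht, rfl⟩ := h1 x hx
      exact mul_mem (zpow_mem (pow_mem (mem_zpowers a) p) k) (hTa ht)
    have hn : (zpowers a).Normal := ⟨fun x hx g => by
      have := mul_mem (h3 (commutator_mem_commutator (mem_top g) (mem_top x))) hx
      simpa [commutatorElement_def] using this⟩
    refine ⟨zpowers a, hn, inferInstance, ⟨⟨(b : G ⧸ zpowers a), fun q => ?_⟩⟩⟩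
    obtain ⟨g, rfl⟩ := QuotientGroup.mk_surjective q
    obtain ⟨i, j, t, ht, rfl⟩ := h2 g
    refine ⟨j, ?_⟩
    simp [(QuotientGroup.eq_one_iff _).2 (hTa ht), (QuotientGroup.eq_one_iff _).2 (mem_zpowers a)]
  have hM1 : M = ⊥ := by
    by_contra hM1
    refine hTa ((hTM hM1).trans ((closure_le _).2 ?_))
    rintro _ ⟨x, hx, rfl⟩
    obtain ⟨k, t, ht, rfl⟩ := h1 x hx
    simp only [SetLike.mem_coe]
    rw [Commute.mul_pow (mem_center_iff.1 (hTc ht) _), hTe t ht, mul_one]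
    exact pow_mem (zpow_mem (pow_mem (mem_zpowers a) p) k) p
  have hmem : ⁅a, b⁆ ∈ _root_.commutator G := commutator_mem_commutator (mem_top a) (mem_top b)
  have h3 : ⁅a, b⁆ ^ p = 1 := mem_bot.1 (hM1 ▸ subset_closure ⟨_, hmem, rfl⟩)
  obtain ⟨k, t, ht, hk⟩ := h1 _ hmem
  have h4 : Commute a ⁅a, b⁆ := hk ▸ (((Commute.refl a).pow_right p).zpow_right k).mul_right
    (mem_center_iff.1 (hTc ht) a)
  have h5 : Commute (a ^ p) b := by
    rw [← commutatorElement_eq_one_iff_commute, CommCalc.comm_pow_left h4, h3]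
  have h6 : Commute b ⁅a, b⁆ := hk ▸ (h5.symm.zpow_right k).mul_right (mem_center_iff.1 (hTc ht) b)
  have h7 : closure ({a, b} : Set G) = ⊤ := by
    refine frattini_nongenerating (eq_top_iff.2 fun g _ => ?_)
    obtain ⟨i, j, t, ht, rfl⟩ := h2 g
    exact mul_mem (mem_sup_left (mul_mem (zpow_mem (subset_closure (by simp)) i)
      (pow_mem (subset_closure (by simp)) j)))
      (mem_sup_right (PGrp.commutator_le_frattini hG (hT ht)))
  have h8 := Regular.commutator_closure_pair_le (N := zpowers ⁅a, b⁆) ((closure_le _).2 (by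
    rintro x (rfl | rfl) <;> refine centralizer_le_normalizer _ (mem_centralizer_iff.2 ?_) <;>
      rintro _ ⟨n, rfl⟩
    exacts [(h4.zpow_right n).symm, (h6.zpow_right n).symm])) (mem_zpowers _)
  rw [h7] at h8
  exact absurd ((card_le_of_le h8).trans
    (card_le_of_isCyclic_of_pow_eq_one inferInstance (elemAb_zpowers h3).2)) hc

/-- BG 4.11 (Huppert). -/
theorem p2_ohm1_metacyclic (hp3 : 3 < p) {R : Subgroup G} (hR : IsPGroup p R)
    (h : Nat.card (omegaOne p R) ≤ p ^ 2) : IsMetacyclic R :=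
  p2_ohm1_metacyclic_top hp3 R hR (by rwa [← map_subtype_omegaOne_top, card_map_subtype] at h)

theorem isCyclic_commutator_of_metacyclic {R : Subgroup G} (hR : IsPGroup p R)
    (hm : IsMetacyclic R) : IsCyclic ↥⁅R, R⁆ := by
  obtain ⟨a, b, r, -, h1, h2⟩ := PGrp.exists_metacyclic_gens hR hm
  rw [← map_subtype_commutator, isCyclic_map_subtype_iff,
    PGrp.commutator_eq_zpowers_metacyclic h1 h2]
  infer_instance

/-- A `p`-subgroup (`p` odd) whose elements of order `p` lie in a cyclic group is cyclic. -/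
theorem isCyclic_of_omegaOne_le (hp2 : p ≠ 2) {W S : Subgroup G} (hW : IsPGroup p W)
    (hS : IsCyclic S) (h : ∀ x ∈ W, x ^ p = 1 → x ∈ S) : IsCyclic W :=
  (odd_pgroup_rank1_cyclic hp2 hW).1 (pRankLE_iff.2 fun _ hA hAe =>
    (card_le_of_isCyclic_of_pow_eq_one (isCyclic_of_le fun x hx => h x (hA hx) (hAe.2 x hx))
      hAe.2).trans (pow_one p).ge)

theorem isMulCommutative_of_metacyclic_of_commutator_eq (hp2 : p ≠ 2) {T A : Subgroup G}
    (hT : IsPGroup p T) (hTm : IsMetacyclic T) (hA : A ≤ normalizer (T : Set G))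
    (hcop : (Nat.card A).Coprime p) (hTA : ⁅T, A⁆ = T) : IsMulCommutative T := by
  by_contra hna
  have hnc : ¬ IsCyclic T := fun _ => hna inferInstance
  obtain ⟨S, ⟨hSc, hS1, hS2, hS3⟩, hmax⟩ := exists_maximal_of_wellFoundedGT
    (fun S : Subgroup G => IsCyclic S ∧ ⁅T, T⁆ ≤ S ∧ S ≤ T ∧ A ≤ normalizer (S : Set G))
    ⟨⁅T, T⁆, isCyclic_commutator_of_metacyclic hT hTm, le_rfl, commutator_le_self T,
      Cop.le_normalizer_commutator hA hA⟩
  have hTS : T ≤ normalizer (S : Set G) :=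
    Cop.le_normalizer_of_commutator_le ((commutator_mono hS2 le_rfl).trans hS1) le_rfl
  have hTc : T ≤ centralizer (S : Set G) :=
    hTA.ge.trans (Frob.commutator_le_centralizer_of_isCyclic hTS hS3)
  have hcomm : ∀ x ∈ T, ∀ s ∈ S, Commute s x := fun x hx s hs => mem_centralizer_iff.1 (hTc hx) s hs
  let E : Subgroup G :=
    { carrier := {x | x ∈ T ∧ x ^ p ∈ S}
      one_mem' := ⟨one_mem T, by simp⟩
      inv_mem' := fun hx => ⟨inv_mem hx.1, by rw [inv_pow]; exact inv_mem hx.2⟩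
      mul_mem' := fun {x y} hx hy => ⟨mul_mem hx.1 hy.1, by
        have h := hS1 (commutator_mem_commutator hy.1 hx.1)
        rw [PGrp.mul_pow_eq_of_commute_commutator (hcomm x hx.1 _ h) (hcomm y hy.1 _ h)]
        exact mul_mem (mul_mem hx.2 hy.2) (pow_mem h _)⟩ }
  have hET : E ≤ T := fun x hx => hx.1
  have hSE : S ≤ E := fun x hx => ⟨hS2 hx, pow_mem hx p⟩
  have hΩ : omegaOne p T ≤ E := omegaOne_le_iff.2 fun x hx hxp => ⟨hx, hxp ▸ one_mem S⟩
  obtain ⟨W, hW1, hW2, hW3⟩ := Cop.maschke_section (E := E) (U := omegaOne p T ⊔ S) hcop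
    le_sup_right (sup_le hΩ hSE) ((commutator_mono hET hET).trans hS1) (fun x hx => hx.2)
    (fun a ha => mem_normalizer_of_conj_mem fun x hx => ⟨conj_mem_of_mem_normalizer (hA ha) hx.1,
      by rw [conj_pow]; exact conj_mem_of_mem_normalizer (hS3 ha) hx.2⟩)
    (le_normalizer_sup (hA.trans (normalizer_le_normalizer_omegaOne T)) hS3) hS3
  have hWT : W ≤ T := (le_sup_right.trans hW3.le).trans hET
  have hSW : S ≤ W := hW2.ge.trans inf_le_right
  have hWS : W ≤ S := hmax ⟨isCyclic_of_omegaOne_le hp2 (hT.to_le hWT) hSc fun x hx hxp =>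
    hW2.le ⟨mem_sup_left (mem_omegaOne (hWT hx) hxp), hx⟩, hS1.trans hSW, hWT, hW1⟩ hSW
  have hE : E = omegaOne p T ⊔ S := by
    rw [← hW3]; exact sup_eq_left.2 (hWS.trans le_sup_right)
  have hSb : S ≠ ⊥ := fun h => hna (isMulCommutative_of_le_centralizer
    (commutator_eq_bot_iff_le_centralizer.1 (eq_bot_iff.2 (h ▸ hS1))))
  have h1 : Nat.card E ≤ p * Nat.card S := by
    have h2 := card_sup_mul_card_inf ((PGrp.omegaOne_le (p := p) T).trans hTS)
    have h3 := card_le_of_le (le_inf (omegaOne_mono (p := p) hS2) (PGrp.omegaOne_le S))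
    rw [card_omegaOne_of_isCyclic (hT.to_le hS2) hSc hSb] at h3
    rw [(ohm1_metacyclic_p2Elem hp2 hT hTm hnc).2, ← hE] at h2
    refine Nat.le_of_mul_le_mul_right ((Nat.mul_le_mul_left _ h3).trans (h2.le.trans_eq ?_))
      hp.out.pos
    ring
  have := normal_subgroupOf_of_le_normalizer hTS
  have hQ := hT.to_quotient (S.subgroupOf T)
  have h2 : IsCyclic (T ⧸ S.subgroupOf T) := by
    rw [← isCyclic_top_iff, ← odd_pgroup_rank1_cyclic hp2 (hQ.to_subgroup ⊤), pRankLE_top,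
      pRankLE_iff']
    intro V hV
    have h3 := card_comap_mk' (S.subgroupOf T) V
    rw [card_subgroupOf_of_le hS2, ← card_map_subtype] at h3
    have h4 : (V.comap (QuotientGroup.mk' (S.subgroupOf T))).map T.subtype ≤ E := by
      rintro _ ⟨x, hx, rfl⟩
      exact ⟨x.2, (QuotientGroup.eq_one_iff (x ^ p)).1 (hV.2 _ hx)⟩
    rw [pow_one]
    exact Nat.le_of_mul_le_mul_right (h3.ge.trans ((card_le_of_le h4).trans h1)) Nat.card_pos
  refine hna ((QuotientGroup.mk' (S.subgroupOf T)).isMulCommutative_of_isCyclic_of_ker_le_center ?_)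
  rw [QuotientGroup.ker_mk']
  exact fun x hx => mem_center_iff.2 fun y => Subtype.ext (hcomm y y.2 x hx).symm

/-- BG 4.12 (Huppert). -/
theorem coprime_metacyclic_cent_sdprod (hp2 : p ≠ 2) {R A : Subgroup G} (hR : IsPGroup p R)
    (hRm : IsMetacyclic R) (hA : A ≤ normalizer (R : Set G)) (hcop : (Nat.card A).Coprime p) :
    IsMulCommutative ↥⁅R, A⁆ ∧ ⁅R, A⁆ ⊔ (R ⊓ centralizer (A : Set G)) = R ∧
      ⁅R, A⁆ ⊓ (R ⊓ centralizer (A : Set G)) = ⊥ ∧
      (¬ IsMulCommutative R → ¬ A ≤ centralizer (R : Set G) →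
        ⁅R, A⁆ ≠ ⊥ ∧ IsCyclic ↥⁅R, A⁆ ∧ (R ⊓ centralizer (A : Set G)) ≠ ⊥ ∧
          IsCyclic ↥(R ⊓ centralizer (A : Set G)) ∧ ⁅R, R⁆ ≤ ⁅R, A⁆) := by
  have hc := Cop.coprime_card_of_isPGroup hcop hR
  have hTR := Cop.commutator_le_left_of_le_normalizer hA
  have hT := hR.to_le hTR
  have hAT : A ≤ normalizer ((⁅R, A⁆ : Subgroup G) : Set G) := normalizer_commutator_ge_right R A
  have hTA := Cop.commutator_commutator_eq hA hc
  have h1 := isMulCommutative_of_metacyclic_of_commutator_eq hp2 hT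
    (PGrp.isMetacyclic_of_injective hRm _ (inclusion_injective hTR)) hAT hcop hTA
  have h2 := Cop.commutator_sup_centralizer hA hc (Or.inr (isSolvable_of_isPGroup hR))
  have h3 : ⁅R, A⁆ ⊓ (R ⊓ centralizer (A : Set G)) = ⊥ := by
    have := Cop.commutator_inf_centralizer_eq_bot hAT (Cop.coprime_card_of_isPGroup hcop hT) h1
    rw [hTA] at this
    exact eq_bot_iff.2 ((inf_le_inf_left _ inf_le_right).trans this.le)
  refine ⟨h1, h2, h3, fun hna hAc => ?_⟩
  have h4 : ⁅R, A⁆ ≠ ⊥ := fun h => hAc (Cop.commutator_eq_bot_iff_le_centralizer'.1 h)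
  have h5 : R ⊓ centralizer (A : Set G) ≠ ⊥ := fun h => hna (by rwa [← h2, h, sup_bot_eq])
  obtain ⟨hΩ, hΩ2⟩ := ohm1_metacyclic_p2Elem hp2 hR hRm fun _ => hna inferInstance
  have key : ∀ X Y : Subgroup G, X ≤ R → Y ≤ R → X ⊓ Y = ⊥ → Y ≠ ⊥ → IsCyclic X := by
    intro X Y hX hY hXY hY1
    by_contra hc
    obtain ⟨S, hS1, -, hS2, hS3⟩ := ex_odd_normal_p2Elem hp2 (hR.to_le hX) hc
    have h6 := eq_of_le_of_card_le (le_omegaOne (hS1.trans hX) hS2.2) (hΩ2.trans hS3.symm).le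
    exact omegaOne_ne_bot ((hR.to_le hY).card_eq_or_dvd.resolve_left fun h =>
      hY1 ((eq_bot_iff_card _).2 h)) (eq_bot_iff.2 (hXY ▸ le_inf
        ((omegaOne_mono hY).trans (h6.ge.trans hS1)) (PGrp.omegaOne_le Y)))
  have h6 := key _ _ inf_le_left hTR (by rw [inf_comm, h3]) h4
  refine ⟨h4, key _ _ hTR inf_le_left h3 h5, h5, h6, ?_⟩
  have hn : R ≤ normalizer ((⁅R, A⁆ : Subgroup G) : Set G) := normalizer_commutator_ge_left R A
  have h7 := inf_le_left (b := centralizer (A : Set G)) |>.trans hn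
  have h8 := Cop.commutator_le_left_of_le_normalizer h7
  conv_lhs => rw [← h2]
  refine CommCalc.commutator_sup_left_le le_normalizer h7
    (Cop.commutator_le_left_of_le_normalizer (h2.le.trans hn))
    (CommCalc.commutator_sup_right_le le_normalizer h7 (by rwa [Subgroup.commutator_comm]) ?_)
  rw [commutator_eq_bot_iff_le_centralizer.2 (le_centralizer_of_isMulCommutative inferInstance)]
  exact bot_le

/-- BG 4.15. -/
theorem critical_extraspecial {R S : Subgroup G} (hSR : S ≤ R) (hS : IsExtraspecial p S)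
    (h : ⁅S, R⁆ ≤ ⁅S, S⁆) : S ⊔ (R ⊓ centralizer (S : Set G)) = R := by
  have hZ : ⁅S, S⁆ = S ⊓ centralizer (S : Set G) := by
    rw [← map_subtype_commutator, hS.1.2.2, Cop.map_subtype_center]
  have hZp : Nat.card ↥⁅S, S⁆ = p := by
    rw [← map_subtype_commutator, card_map_subtype, hS.1.2.2, hS.2]
  have hZS := commutator_le_self S
  have h1 : ⁅⁅S, R⁆, S⁆ = ⊥ := commutator_eq_bot_iff_le_centralizer.2 (h.trans (hZ ▸ inf_le_right))
  have h2 := commutator_eq_bot_iff_le_centralizer.1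
    (commutator_commutator_eq_bot_of_rotate h1 (by rwa [Subgroup.commutator_comm R]))
  obtain ⟨E, h3, h4, -, h5, -, h6⟩ := PGrp.exists_symplectic_factor (G := R) (p := p)
    (Z := (⁅S, S⁆ : Subgroup G).subgroupOf R) (K := S.subgroupOf R)
    (by rwa [card_subgroupOf_of_le (hZS.trans hSR)]) le_rfl
    (fun x hx => mem_center_iff.2 fun y => Subtype.ext (mem_centralizer_iff.1 (h2 hx) y y.2))
    (subgroupOf_mono R hZS)
    (fun g hg => by
      have := PGrp.IsExtraspecial.pow_mem hS ⟨g, hg⟩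
      rw [← hS.1.2.2] at this
      rw [mem_subgroupOf, ← map_subtype_commutator]
      exact ⟨_, this, rfl⟩)
    (fun g hg r => h (commutator_mem_commutator hg r.2))
  have h7 : S.subgroupOf R ⊓ centralizer (E : Set R) ≤ E := fun x hx => h3 (by
    rw [mem_subgroupOf, hZ]
    refine ⟨hx.1, mem_centralizer_iff.2 fun s hs => ?_⟩
    obtain ⟨e, he, hes⟩ := h5 ⟨s, hSR hs⟩
    have h8 := PGrp.isMulCommutative_iff_forall.1 h6 _
      (mem_inf.2 ⟨mul_mem (inv_mem (h4 he)) hs, hes⟩) x hx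
    have h9 : Commute (e * (e⁻¹ * ⟨s, hSR hs⟩)) x :=
      Commute.mul_left (mem_centralizer_iff.1 hx.2 e he) h8
    rw [mul_inv_cancel_left] at h9
    exact congrArg Subtype.val h9)
  have h8 : E = S.subgroupOf R := le_antisymm h4 fun s hs => by
    obtain ⟨e, he, hes⟩ := h5 s
    simpa using mul_mem he (h7 (mem_inf.2 ⟨mul_mem (inv_mem (h4 he)) hs, hes⟩))
  refine le_antisymm (sup_le hSR inf_le_left) fun g hg => ?_
  obtain ⟨e, he, heg⟩ := h5 ⟨g, hg⟩
  rw [h8, centralizer_subgroupOf_of_le hSR] at heg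
  have h9 : (e : G) * (e⁻¹ * ⟨g, hg⟩ : R) ∈ S ⊔ (R ⊓ centralizer (S : Set G)) :=
    mul_mem (mem_sup_left (h4 he)) (mem_sup_right (mem_inf.2 ⟨(e⁻¹ * ⟨g, hg⟩).2, heg⟩))
  simpa using h9

end CfsgLib.FT
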