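import Mathlib
import Cfsg.Agent.Lib.FT.BG4b
import Cfsg.Agent.Lib.FT.BG2
import Cfsg.Agent.Lib.PComplementMore
import Cfsg.Agent.Lib.H5SylowIn

/-! Bender–Glauberman, section 4, third part (4.13, 4.14, 4.16, 4.17). -/

set_option autoImplicit false

namespace CfsgLib.FT

open Subgroup Cfsg
open scoped commutatorElement

variable {G : Type*} [Group G] [Finite G] {p : ℕ} [hp : Fact p.Prime]

theorem index_frattini_le_of_rank2 {H : Subgroup G} (hr : PRankLE p 2 H)
    (he : ∀ x ∈ H, x ^ p = 1) : (frattini H).index ≤ p ^ 2 := by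
  have hH := isPGroup_of_pow_eq_one he
  by_cases h : frattini H = ⊥
  · rw [h, index_bot]
    exact pRankLE_iff.1 hr H le_rfl ⟨((BurnsideBasis.frattini_eq_bot_iff hH).1 h).1, he⟩
  · have h1 := pow_succ_le_card_of_lt (k := 0) (hH.to_subgroup _)
      (by rw [pow_zero]; exact (one_lt_card_iff_ne_bot _).2 h)
    have h2 := (Nat.mul_le_mul_right _ h1).trans
      ((frattini H).card_mul_index.le.trans (rank2_exponent_p_p3group hr he))
    rw [zero_add, pow_one, pow_succ'] at h2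
    exact Nat.le_of_mul_le_mul_left h2 hp.out.pos

omit [Finite G] in
theorem prime_dvd_sq_sub_one_facts (hp2 : p ≠ 2) {q : ℕ} (hq : q.Prime) (h : q ∣ p ^ 2 - 1) :
    q < p ∧ (q ∣ (p + 1) / 2 ∨ q ∣ (p - 1) / 2) := by
  obtain ⟨m, hm⟩ := hp.out.odd_of_ne_two hp2
  have hm0 : 0 < m := by have := hp.out.two_le; omega
  have h1 : p ^ 2 - 1 = 2 ^ 2 * ((m + 1) * m) := by
    rw [hm]; exact Nat.sub_eq_of_eq_add (by ring)
  have h2 : q ∣ (m + 1) * m := by
    rcases (Nat.Prime.dvd_mul hq).1 (h1 ▸ h) with h | h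
    · rw [(Nat.prime_dvd_prime_iff_eq hq Nat.prime_two).1 (hq.dvd_of_dvd_pow h), mul_comm]
      exact (Nat.even_mul_succ_self m).two_dvd
    · exact h
  rw [show (p + 1) / 2 = m + 1 by omega, show (p - 1) / 2 = m by omega]
  rcases (Nat.Prime.dvd_mul hq).1 h2 with h | h
  · exact ⟨by have := Nat.le_of_dvd m.succ_pos h; omega, Or.inl h⟩
  · exact ⟨by have := Nat.le_of_dvd hm0 h; omega, Or.inr h⟩

/-- BG 4.13 and 4.14: primes dividing the order of the automorphism group of a `p`-group of rank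
at most two. -/
theorem pi_Aut_rank2_pgroup (hp2 : p ≠ 2) (hG : IsPGroup p G) (hr : PRankLE p 2 G) {q : ℕ}
    (hq : q.Prime) (hqp : q ≠ p) (hd : q ∣ Nat.card (MulAut G)) :
    q ∣ p ^ 2 - 1 ∧ q < p ∧ (q ∣ (p + 1) / 2 ∨ q ∣ (p - 1) / 2) := by
  suffices h : q ∣ p ^ 2 - 1 from ⟨h, prime_dvd_sq_sub_one_facts hp2 hq h⟩
  have := Fact.mk hq
  obtain ⟨α, hα⟩ := exists_prime_orderOf_dvd_card' q hd
  have hα1 : α ≠ 1 := fun h => hq.one_lt.ne (by rw [← hα, h, orderOf_one])
  have : Nontrivial G := by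
    by_contra h
    rw [not_nontrivial_iff_subsingleton] at h
    exact hα1 (MulEquiv.ext fun _ => Subsingleton.elim _ _)
  obtain ⟨H, hH, -, -, he, hf⟩ := critical_odd_aut hp2 hG
  have h1 : orderOf (MulAut.characteristic H α) = q :=
    ((Nat.dvd_prime hq).1 (hα ▸ orderOf_map_dvd _ α)).resolve_left fun h =>
      hα1 (hf α (hα ▸ (Nat.coprime_primes hq hp.out).2 hqp) fun x hx =>
        congrArg (fun β : MulAut H => (β ⟨x, hx⟩ : G)) (orderOf_eq_one_iff.1 h))
  obtain ⟨i, hi1, hi2, hi⟩ := PCompl.exists_dvd_pow_sub_one_of_dvd_card_mulAut (hG.to_subgroup H)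
    hq hqp (h1 ▸ orderOf_dvd_natCard _)
  have h2 := index_frattini_le_of_rank2 (pRankLE_subgroup hr H) he
  rw [BurnsideBasis.index_frattini_eq_pow_rank (hG.to_subgroup H),
    Nat.pow_le_pow_iff_right hp.out.one_lt] at h2
  obtain rfl | rfl : i = 1 ∨ i = 2 := by omega
  · exact hi.trans (Nat.pow_sub_one_dvd_pow_sub_one p (one_dvd 2))
  · exact hi

/-- BG 4.13 and 4.14 in ambient form. -/
theorem pi_norm_cent_rank2_pgroup (hp2 : p ≠ 2) {R A : Subgroup G} (hR : IsPGroup p R)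
    (hr : PRankLE p 2 R) (hA : A ≤ normalizer (R : Set G)) {q : ℕ} (hq : q.Prime) (hqp : q ≠ p)
    (hd : q ∣ (centralizer (R : Set G)).relIndex A) :
    q ∣ p ^ 2 - 1 ∧ q < p ∧ (q ∣ (p + 1) / 2 ∨ q ∣ (p - 1) / 2) :=
  pi_Aut_rank2_pgroup hp2 hR hr hq hqp (hd.trans (relIndex_centralizer_dvd_card_mulAut hA))

/-- A nonabelian group of order `p ^ 3` is extraspecial. -/
theorem isExtraspecial_of_card_eq_cube {S : Subgroup G} (h : Nat.card S = p ^ 3)
    (hna : ¬ IsMulCommutative S) : IsExtraspecial p S := by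
  have hS : IsPGroup p S := IsPGroup.of_card h
  refine PGrp.isExtraspecial_of_commutator_mem hS ?_ (fun a b => ?_) hna
  · obtain ⟨k, hk0, hk⟩ := IsPGroup.card_center_eq_prime_pow h (by norm_num)
    by_contra h1
    have h2 : 2 ≤ k := by
      by_contra h2
      exact h1 (by rw [hk, show k = 1 by omega, pow_one])
    have h3 : Nat.card (⊤ : Subgroup (S ⧸ center S)) ≤ p := by
      have h4 := (center S).card_mul_index
      rw [hk, h, pow_succ] at h4
      rw [card_top]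
      exact Nat.le_of_mul_le_mul_left (h4.le.trans (Nat.mul_le_mul_right _
        (Nat.pow_le_pow_right hp.out.pos h2))) (pow_pos hp.out.pos k)
    have := isCyclic_top_iff.1 (isCyclic_of_card_le_prime ((hS.to_quotient _).to_subgroup ⊤) h3)
    exact hna (isMulCommutative_of_isCyclic_quotient_center_self S)
  · have h1 := Cop.commutator_eq_bot_iff_le_centralizer'.1
      (lcs_eq_bot_of_card_le hS (n := 2) (by norm_num) h.le)
    exact mem_center_iff.2 fun g => Subtype.ext (mem_centralizer_iff.1 (h1 g.2) _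
      (commutator_mem_commutator a.2 b.2)).symm

omit [Finite G] hp in
theorem extraspecial_commutator_eq {S : Subgroup G} (hS : IsExtraspecial p S) :
    ⁅S, S⁆ = S ⊓ centralizer (S : Set G) := by
  rw [← map_subtype_commutator, hS.1.2.2, Cop.map_subtype_center]

omit [Finite G] hp in
theorem extraspecial_card_commutator {S : Subgroup G} (hS : IsExtraspecial p S) :
    Nat.card ↥⁅S, S⁆ = p := by
  rw [← map_subtype_commutator, card_map_subtype, hS.1.2.2, hS.2]

theorem sup_eq_of_card_le_mul {R B S : Subgroup G} (hR : IsPGroup p R) (hB : B ≤ R) (hS : S ≤ R)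
    (h : Nat.card R ≤ p * Nat.card B) (hSB : ¬ S ≤ B) : B ⊔ S = R :=
  eq_of_le_of_card_le (sup_le hB hS) (h.trans (PGrp.mul_card_le_card_of_lt
    (hR.to_le (sup_le hB hS)) (left_lt_sup.2 hSB)))

omit [Finite G] hp in
theorem exists_sq_eq_of_odd {A : Subgroup G} (hA : Odd (Nat.card A)) {a : G} (ha : a ∈ A) :
    ∃ b ∈ A, b * b = a := by
  obtain ⟨m, hm⟩ := Odd.of_dvd_nat hA (A.orderOf_dvd_natCard ha)
  exact ⟨a ^ (m + 1), pow_mem ha _, by
    rw [← pow_add, show m + 1 + (m + 1) = orderOf a + 1 by omega, pow_succ, pow_orderOf_eq_one,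
      one_mul]⟩

/-- BG 4.16 (Blackburn). -/
theorem rank2_coprime_comm_cprod (hp2 : p ≠ 2) {R A : Subgroup G} (hR : IsPGroup p R)
    (hR1 : R ≠ ⊥) (hr : PRankLE p 2 R) (hA : A ≤ normalizer (R : Set G))
    (hcop : (Nat.card A).Coprime p) (hAodd : Odd (Nat.card A)) (hRA : ⁅R, A⁆ = R) :
    3 < p ∧ (IsMulCommutative R ∨ ∃ R₁ R₂ : Subgroup G, R₁ ⊔ R₂ = R ∧
      (∀ a ∈ R₁, ∀ b ∈ R₂, a * b = b * a) ∧ ¬ IsMulCommutative R₁ ∧ Nat.card R₁ = p ^ 3 ∧
        Monoid.exponent R₁ = p ∧ IsCyclic R₂ ∧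
        closure {x : G | x ∈ R₂ ∧ x ^ p = 1} = ⁅R₁, R₁⁆) := by
  have hp3 : 3 < p := by
    obtain ⟨q, hq, hd⟩ := Nat.exists_prime_and_dvd (n := (centralizer (R : Set G)).relIndex A)
      fun h => hR1 (hRA ▸ Cop.commutator_eq_bot_iff_le_centralizer'.2 (relIndex_eq_one.1 h))
    have h1 := hd.trans (relIndex_dvd_card _ _)
    have h2 := (pi_norm_cent_rank2_pgroup hp2 hR hr hA hq
      (fun h => hq.one_lt.ne' (Nat.eq_one_of_dvd_coprimes hcop h1 h.dvd)) hd).2.1
    have h3 := hq.two_le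
    have h4 : q ≠ 2 := by rintro rfl; exact (Nat.not_even_iff_odd.2 hAodd) (even_iff_two_dvd.2 h1)
    omega
  refine ⟨hp3, ?_⟩
  by_cases hS2 : Nat.card (omegaOne p R) ≤ p ^ 2
  · exact Or.inl (hRA ▸ (coprime_metacyclic_cent_sdprod hp2 hR (p2_ohm1_metacyclic hp3 hR hS2)
      hA hcop).1)
  have he := exponent_ohm1_rank2 hp3 hR hr
  have hΩ : ∀ x ∈ R, x ^ p = 1 → x ∈ omegaOne p R := fun x => mem_omegaOne
  have hSR := PGrp.omegaOne_le (p := p) R
  have hNS := normalizer_le_normalizer_omegaOne (p := p) R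
  generalize omegaOne p R = S at *
  have hRS := le_normalizer.trans hNS
  have hAS := hA.trans hNS
  have hS := hR.to_le hSR
  have hS3 : Nat.card S = p ^ 3 := le_antisymm (rank2_exponent_p_p3group (pRankLE_mono hr hSR) he)
    (pow_succ_le_card_of_lt hS (not_le.1 hS2))
  have hna : ¬ IsMulCommutative S := fun h => hS2 (pRankLE_iff.1 hr S hSR ⟨h, he⟩)
  have hes := isExtraspecial_of_card_eq_cube hS3 hna
  have hZ := extraspecial_commutator_eq hes
  have hZp := extraspecial_card_commutator hes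
  have hZS := commutator_le_self S
  have hZc : ∀ s ∈ S, ∀ z ∈ ⁅S, S⁆, Commute s z := fun s hs z hz =>
    mem_centralizer_iff.1 (hZ.le hz).2 s hs
  have hC1 : ∀ x ∈ R ⊓ centralizer (S : Set G), x ^ p = 1 → x ∈ ⁅S, S⁆ := fun x hx hxp =>
    hZ ▸ ⟨hΩ x hx.1 hxp, hx.2⟩
  have hZC : ⁅S, S⁆ ≤ R ⊓ centralizer (S : Set G) := hZ ▸ inf_le_inf_right _ hSR
  have hCc := isCyclic_of_omegaOne_le hp2 (hR.to_le inf_le_left) (isCyclic_of_prime_card hZp) hC1
  by_cases hT : ⁅S, R⁆ ≤ ⁅S, S⁆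
  · refine Or.inr ⟨S, _, critical_extraspecial hSR hes hT,
      fun a ha b hb => mem_centralizer_iff.1 hb.2 a ha, hna, hS3, ?_, hCc,
      le_antisymm (omegaOne_le_iff.2 hC1) (le_omegaOne hZC fun x hx => he x (hZS hx))⟩
    have : Nontrivial S := (nontrivial_iff_ne_bot S).2 fun h => hna (h ▸ inferInstance)
    exact (Monoid.exponent_eq_prime_iff hp.out).2 fun g hg =>
      orderOf_eq_prime (Subtype.ext (he g g.2)) hg
  exfalso
  have hTS := commutator_lt_of_isPGroup hR hSR hRS fun h => hna (h ▸ inferInstance)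
  have hZT : ⁅S, S⁆ ≤ ⁅S, R⁆ := commutator_mono le_rfl hSR
  have hRT : R ≤ normalizer ((⁅S, R⁆ : Subgroup G) : Set G) := normalizer_commutator_ge_right S R
  have hAT := Cop.le_normalizer_commutator hAS hA
  have hmT : ∀ r ∈ R, ∀ s ∈ S, ⁅r, s⁆ ∈ ⁅S, R⁆ := fun r hr s hs =>
    Subgroup.commutator_comm R S ▸ commutator_mem_commutator hr hs
  have hRZ := Cop.le_normalizer_commutator hRS hRS
  have hT' : (∀ r ∈ R, ∀ s ∈ S, ⁅r, s⁆ ∈ ⁅S, S⁆) → False := fun h => hT (by
    rw [Subgroup.commutator_comm S R]; exact commutator_le.2 h)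
  generalize ⁅S, R⁆ = T at *
  have hcard : ∀ U : Subgroup G, U < S → Nat.card U ≤ p ^ 2 := fun U hU =>
    Nat.le_of_mul_le_mul_left ((PGrp.mul_card_le_card_of_lt hS hU).trans
      (by rw [hS3, pow_succ'])) hp.out.pos
  have hT2 : Nat.card T = p ^ 2 := le_antisymm (hcard T hTS) (by
    have := PGrp.mul_card_le_card_of_lt (hS.to_le hTS.le) (lt_of_le_not_ge hZT hT)
    rwa [hZp, ← sq] at this)
  have hTe := elemAb_of_card_eq_sq hT2 fun x hx => he x (hTS.le hx)
  have hTc := PGrp.isMulCommutative_iff_forall.1 hTe.1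
  have hSB : ¬ S ≤ R ⊓ centralizer (T : Set G) := fun h =>
    hT (hZ ▸ le_inf hTS.le (le_centralizer_comm (h.trans inf_le_right)))
  have hBS := sup_eq_of_card_le_mul hR inf_le_left hSR
    (card_le_mul_card_inf_centralizer hR hRT hT2) hSB
  have hTB : T ≤ R ⊓ centralizer (T : Set G) := le_inf (hTS.le.trans hSR) (elemAb_le_centralizer hTe)
  have hST : T = S ⊓ (R ⊓ centralizer (T : Set G)) := eq_of_le_of_card_le (le_inf hTS.le hTB)
    (hT2 ▸ hcard _ (inf_lt_left.2 hSB))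
  have hCB : R ⊓ centralizer (S : Set G) ≤ R ⊓ centralizer (T : Set G) :=
    inf_le_inf_left _ (centralizer_antitone hTS.le)
  have hAB := Cop.le_normalizer_inf_centralizer hA hAT
  have hRB := Cop.le_normalizer_inf_centralizer le_normalizer hRT
  have hAC := Cop.le_normalizer_inf_centralizer hA hAS
  have hBc : ∀ b ∈ R ⊓ centralizer (T : Set G), ∀ t ∈ T, Commute b t := fun b hb t ht =>
    (mem_centralizer_iff.1 hb.2 t ht).symm
  have hBR : R ⊓ centralizer (T : Set G) ≤ R := inf_le_left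
  generalize R ⊓ centralizer (T : Set G) = B at *
  obtain ⟨X, hX1, hX2, hX3⟩ := Cop.maschke_section (E := B)
    (U := T ⊔ (R ⊓ centralizer (S : Set G))) hcop le_sup_right (sup_le hTB hCB)
    (by
      have h1 : ⁅⁅B, S⁆, B⁆ = ⊥ := eq_bot_iff.2 ((commutator_mono (commutator_le.2 fun b hb s hs =>
        hmT b (hBR hb) s hs) le_rfl).trans (commutator_le.2 fun t ht b hb =>
          mem_bot.2 (hBc b hb t ht).symm.commutator_eq))
      exact le_inf ((commutator_le_self B).trans hBR) (commutator_eq_bot_iff_le_centralizer.1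
        (commutator_commutator_eq_bot_of_rotate h1 (by rwa [Subgroup.commutator_comm S]))))
    (fun b hb => ⟨pow_mem (hBR hb) p, mem_centralizer_iff.2 fun s hs => by
      have h1 := hmT b (hBR hb) s hs
      refine (commutatorElement_eq_one_iff_commute.1 ?_).symm
      rw [CommCalc.comm_pow_left (hBc b hb _ h1), hTe.2 _ h1]⟩)
    hAB (le_normalizer_sup hAT hAC) hAC
  have hXB : X ≤ B := le_sup_right.trans hX3.le
  have hCX : R ⊓ centralizer (S : Set G) ≤ X := hX2.ge.trans inf_le_right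
  obtain ⟨x, rfl⟩ := (Subgroup.isCyclic_iff_exists_zpowers_eq_top X).1
    (isCyclic_of_omegaOne_le hp2 (hR.to_le (hXB.trans hBR)) hCc fun x hx hxp =>
      hX2.le ⟨mem_sup_left (hST.ge ⟨hΩ x (hBR (hXB hx)) hxp, hXB hx⟩), hx⟩)
  have hx : x ∈ B := hXB (mem_zpowers x)
  obtain ⟨y, hy, hyT⟩ := SetLike.exists_of_lt hTS
  have hTy : T ⊔ zpowers y = S := sup_eq_of_card_le_mul hS hTS.le (zpowers_le.2 hy)
    (by rw [hS3, hT2, pow_succ']) fun h => hyT (h (mem_zpowers y))
  have hxT : ∀ s ∈ S, ⁅x, s⁆ ∈ T := hmT x (hBR hx)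
  have hzZ : ⁅x, y⁆ ∉ ⁅S, S⁆ := fun hz => by
    have h1 : S ≤ CommCalc.relCent ⁅S, S⁆ {x} := by
      conv_lhs => rw [← hTy]
      refine sup_le (fun t ht => CommCalc.mem_relCent.2 ⟨hRZ (hSR (hTS.le ht)), ?_⟩)
        (zpowers_le.2 (CommCalc.mem_relCent.2 ⟨hRZ (hSR hy), ?_⟩))
      · rintro _ rfl
        rw [(hBc _ hx t ht).symm.commutator_eq]; exact one_mem _
      · rintro _ rfl
        rw [← commutatorElement_inv]; exact inv_mem hz
    have h2 : S ≤ CommCalc.relCent ⁅S, S⁆ S := fun s hs =>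
      CommCalc.mem_relCent.2 ⟨hRZ (hSR hs), fun t ht => commutator_mem_commutator hs ht⟩
    have h3 : R ≤ CommCalc.relCent ⁅S, S⁆ S := by
      conv_lhs => rw [← hBS, ← hX3]
      refine sup_le (sup_le (sup_le (hTS.le.trans h2) fun c hc =>
        CommCalc.mem_relCent.2 ⟨hRZ hc.1, fun s hs => ?_⟩)
        (zpowers_le.2 (CommCalc.mem_relCent.2 ⟨hRZ (hBR hx), fun s hs => ?_⟩))) h2
      · rw [Commute.commutator_eq (mem_centralizer_iff.1 hc.2 s hs).symm]; exact one_mem _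
      · rw [← commutatorElement_inv]
        exact inv_mem ((CommCalc.mem_relCent.1 (h1 hs)).2 x rfl)
    exact hT' fun r hr => (CommCalc.mem_relCent.1 (h3 hr)).2
  have hwZ : ∀ u ∈ T, ⁅y, u⁆ ∈ ⁅S, S⁆ := fun u hu => commutator_mem_commutator hy (hTS.le hu)
  have hw1 : ⁅y, ⁅x, y⁆⁆ ≠ 1 := fun h => hzZ (hZ ▸ ⟨hTS.le (hxT y hy), by
    have : S ≤ centralizer {⁅x, y⁆} := by
      conv_lhs => rw [← hTy]
      exact sup_le (fun t ht => mem_centralizer_singleton_iff.2 (hTc t ht _ (hxT y hy)))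
        (zpowers_le.2 (mem_centralizer_singleton_iff.2 (commutatorElement_eq_one_iff_commute.1 h)))
    exact mem_centralizer_iff.2 fun s hs => mem_centralizer_singleton_iff.1 (this hs)⟩)
  have hpow : ∀ j : ℕ, ⁅y, ⁅x, y ^ j⁆⁆ = ⁅y, ⁅x, y⁆⁆ ^ j := fun j => by
    induction j with
    | zero => simp
    | succ j ih =>
      have h1 := hxT _ (pow_mem hy j)
      have h2 : ⁅y, y * ⁅x, y ^ j⁆ * y⁻¹⁆ = y * ⁅y, ⁅x, y ^ j⁆⁆ * y⁻¹ := by
        simp only [commutatorElement_def]; group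
      rw [pow_succ', CommCalc.comm_mul_right, CommCalc.comm_mul_right_of_commute
        (hZc _ (hTS.le (hxT y hy)) _ (hwZ _ (conj_mem_of_mem_normalizer (hRT (hSR hy)) h1))), h2,
        (hZc y hy _ (hwZ _ h1)).eq, mul_inv_cancel_right, ih, pow_succ']
  have hA2 : ∀ β ∈ A, ⁅β * β, y⁆ ∈ T := by
    intro β hβ
    obtain ⟨i, hi⟩ := mem_powers_iff_mem_zpowers.2
      (conj_mem_of_mem_normalizer (hX1 hβ) (mem_zpowers x))
    obtain ⟨t, ht, _, hy', hj⟩ := (mem_sup_iff_of_le_normalizer' ((zpowers_le.2 (hSR hy)).trans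
      hRT)).1 (hTy.ge (conj_mem_of_mem_normalizer (hAS hβ) hy))
    obtain ⟨j, rfl⟩ := mem_powers_iff_mem_zpowers.2 hy'
    simp only at hi hj
    have hyj := pow_mem hy j
    have h1 : β * ⁅x, y⁆ * β⁻¹ = ⁅x, y ^ j⁆ ^ i := by
      rw [conjugate_commutatorElement, ← hi, ← hj,
        CommCalc.comm_pow_left (hBc x hx _ (hxT _ (mul_mem (hTS.le ht) hyj))),
        CommCalc.comm_mul_right, (hBc x hx t ht).commutator_eq, one_mul,
        hTc t ht _ (hxT _ hyj), mul_inv_cancel_right]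
    have h2 : β * ⁅y, ⁅x, y⁆⁆ * β⁻¹ = (⁅y, ⁅x, y⁆⁆ ^ i) ^ (j * j) := by
      have h3 := pow_mem (hxT _ hyj) i
      rw [conjugate_commutatorElement, h1, ← hj, CommCalc.comm_mul_left_of_commute
        (hZc t (hTS.le ht) _ (commutator_mem_commutator hyj (hTS.le h3))),
        Commute.commutator_eq (hTc t ht _ h3), mul_one,
        CommCalc.comm_pow_left (hZc y hy _ (hwZ _ h3)),
        CommCalc.comm_pow_right (hZc _ (hTS.le (hxT _ hyj)) _ (hwZ _ (hxT _ hyj))), hpow,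
        ← pow_mul, ← pow_mul, ← pow_mul]
      congr 1; ring
    have h3 : β * ⁅y, ⁅x, y⁆⁆ * β⁻¹ = ⁅y, ⁅x, y⁆⁆ ^ i := by
      obtain ⟨k, hk⟩ := mem_powers_iff_mem_zpowers.2 (hCX (hZC (hwZ _ (hxT y hy))))
      simp only at hk
      rw [← hk, ← conj_pow, ← hi, ← pow_mul, ← pow_mul, mul_comm]
    have h4 : orderOf (⁅y, ⁅x, y⁆⁆ ^ i) = p :=
      orderOf_eq_prime (he _ (hZS (pow_mem (hwZ _ (hxT y hy)) i))) fun h =>
        hw1 (by rwa [h, conj_eq_one_iff] at h3)
    have h5 : j * j ≡ 1 [MOD p] := by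
      rw [← h4, ← pow_eq_pow_iff_modEq, pow_one, ← h2, h3]
    have h6 : (y ^ j) ^ j = y := by
      rw [← pow_mul, pow_eq_pow_of_modEq h5 (he y hy), pow_one]
    have h7 := commutator_mem_commutator hyj (hTS.le ht)
    have h8 : ⁅β * β, y⁆ = β * t * β⁻¹ * (t ^ j * (y * ⁅y ^ j, t⁆ ^ j.choose 2 * y⁻¹)) := by
      have h9 : ⁅β * β, y⁆ = β * (β * y * β⁻¹) * β⁻¹ * y⁻¹ := by
        rw [commutatorElement_def]; group
      have h10 : β * (t * y ^ j) * β⁻¹ = β * t * β⁻¹ * (β * y * β⁻¹) ^ j := by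
        rw [conj_pow]; group
      rw [h9, ← hj, h10, ← hj, PGrp.mul_pow_eq_of_commute_commutator
        (hZc t (hTS.le ht) _ h7).symm (hZc _ hyj _ h7).symm, h6]
      group
    rw [h8]
    exact mul_mem (conj_mem_of_mem_normalizer (hAT hβ) ht) (mul_mem (pow_mem ht j)
      (conj_mem_of_mem_normalizer (hRT (hSR hy)) (hZT (pow_mem h7 _))))
  have h1 : B ≤ CommCalc.relCent B A := fun b hb => CommCalc.mem_relCent.2 ⟨le_normalizer hb,
    fun a ha => Cop.commutator_le_left_of_le_normalizer hAB (commutator_mem_commutator hb ha)⟩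
  have h2 : R ≤ CommCalc.relCent B A := by
    conv_lhs => rw [← hBS, ← hTy]
    refine sup_le h1 (sup_le (hTB.trans h1)
      (zpowers_le.2 (CommCalc.mem_relCent.2 ⟨hRB (hSR hy), fun a ha => ?_⟩)))
    obtain ⟨β, hβ, rfl⟩ := exists_sq_eq_of_odd hAodd ha
    rw [← commutatorElement_inv]
    exact inv_mem (hTB (hA2 β hβ))
  exact hSB (hSR.trans (hRA.ge.trans (commutator_le.2 fun r hr =>
    (CommCalc.mem_relCent.1 (h2 hr)).2)))

omit hp in
/-- An element centralizing a coprime group modulo its Frattini subgroup centralizes it. -/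
theorem mem_centralizer_of_commutator_mem_frattini {H : Subgroup G} {x : G}
    (hx : x ∈ normalizer (H : Set G)) (hcop : (orderOf x).Coprime (Nat.card H))
    (h : ∀ e ∈ H, ⁅x, e⁆ ∈ (frattini H).map H.subtype) : x ∈ centralizer (H : Set G) := by
  refine Cop.commutator_eq_bot_iff_le_centralizer'.1 (Cop.commutator_eq_bot_of_le_frattini
    (by rwa [Nat.card_zpowers]) ?_) (mem_zpowers x)
  rw [Subgroup.commutator_comm]
  exact commutator_le.2 fun a ha => (CommCalc.mem_relCent.1 (zpowers_le.2 (CommCalc.mem_relCent.2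
    ⟨Cop.le_normalizer_frattini (zpowers_le.2 hx) (mem_zpowers x), h⟩) ha)).2

set_option linter.unusedVariables false in
/-- BG 4.17 without faithfulness: elements of `[A, A]` of order prime to `p` centralize `R`. -/
theorem der1_cent_rank2_pgroup (hp2 : p ≠ 2) {R A : Subgroup G} (hR : IsPGroup p R)
    (hr : PRankLE p 2 R) (hA : A ≤ normalizer (R : Set G)) (hAs : Group.IsSolvable A)
    (hAodd : Odd (Nat.card A)) {x : G} (hx : x ∈ ⁅A, A⁆) (hxp : (orderOf x).Coprime p) :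
    x ∈ centralizer (R : Set G) := by
  by_cases hR1 : R = ⊥
  · exact mem_centralizer_iff.2 (by simp [hR1])
  obtain ⟨H, hHR, -, hN, -, -, he, hf⟩ := critical_odd hp2 hR hR1
  have hH := hR.to_le hHR
  have hxA := commutator_le_self A hx
  refine hf x (hA hxA) hxp (mem_centralizer_of_commutator_mem_frattini (hN (hA hxA)) ?_
    (der1_cent_section2 (hA.trans hN) (Cop.le_normalizer_frattini (hA.trans hN)) (map_subtype_le _)
      (Cop.commutator_le_frattini_map hH) (fun _ => Cop.pow_mem_frattini_map hH) hAodd ?_ hx hxp))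
  · obtain ⟨n, hn⟩ := IsPGroup.iff_card.1 hH
    exact hn ▸ hxp.pow_right n
  · rw [H5.relIndex_map_subtype]
    exact index_frattini_le_of_rank2 (pRankLE_mono hr hHR) he

/-- BG 4.17. -/
theorem der1_Aut_rank2_pgroup (hp2 : p ≠ 2) {R A : Subgroup G} (hR : IsPGroup p R)
    (hr : PRankLE p 2 R) (hA : A ≤ normalizer (R : Set G)) (hAs : Group.IsSolvable A)
    (hAodd : Odd (Nat.card A)) (hfaith : A ⊓ centralizer (R : Set G) = ⊥) :
    IsPGroup p ↥⁅A, A⁆ :=
  H5.isPGroup_of_forall_coprime fun _ hx hxp => mem_bot.1 (hfaith.le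
    ⟨commutator_le_self A hx, der1_cent_rank2_pgroup hp2 hR hr hA hAs hAodd hx hxp⟩)

end CfsgLib.FT
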