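import Mathlib
import Cfsg.Agent.Lib.FT.BG4c
import Cfsg.Agent.Lib.CoprimeThompson

/-! Bender–Glauberman, section 4, last part (4.18–4.20). -/

set_option autoImplicit false

namespace CfsgLib.FT

open Subgroup Cfsg
open scoped commutatorElement

variable {G : Type*} [Group G] [Finite G] {p : ℕ} [hp : Fact p.Prime]

omit [Finite G] hp in
theorem ne_two_of_dvd_odd {n : ℕ} (hodd : Odd n) (h : p ∣ n) : p ≠ 2 := by
  rintro rfl
  exact (Nat.not_even_iff_odd.2 hodd) (even_iff_two_dvd.2 h)

omit [Finite G] hp in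
theorem map_commutator_of_surjective {G' : Type*} [Group G'] {f : G →* G'}
    (hf : Function.Surjective f) : (_root_.commutator G).map f = _root_.commutator G' := by
  rw [_root_.commutator_def, map_commutator, map_top_of_surjective f hf, _root_.commutator_def]

omit [Finite G] hp in
theorem normal_of_commutator_le {N : Subgroup G} (h : _root_.commutator G ≤ N) : N.Normal :=
  ⟨fun x hx g => by
    have := mul_mem (h (commutator_mem_commutator (mem_top g) (mem_top x))) hx
    simpa [commutatorElement_def] using this⟩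

omit hp in
theorem isPGroup_of_forall_prime_dvd (h : ∀ q : ℕ, q.Prime → q ∣ Nat.card G → q = p) :
    IsPGroup p G :=
  IsPGroup.of_card (Nat.eq_prime_pow_of_unique_prime_dvd Nat.card_pos.ne' fun h1 h2 => h _ h1 h2)

theorem eq_of_prime_dvd_card_isPGroup (hG : IsPGroup p G) {q : ℕ} (hq : q.Prime)
    (h : q ∣ Nat.card G) : q = p := by
  obtain ⟨n, hn⟩ := IsPGroup.iff_card.1 hG
  exact (Nat.prime_dvd_prime_iff_eq hq hp.out).1 (hq.dvd_of_dvd_pow (hn ▸ h))

/-- The common part of BG 4.18 and 5.6. -/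
theorem der1_complement_of_cent [Group.IsSolvable G] (hodd : Odd (Nat.card G))
    (h1 : ∀ x ∈ _root_.commutator (G ⧸ pPrimeCore p G), (orderOf x).Coprime p →
      x ∈ centralizer (pCore p (G ⧸ pPrimeCore p G) : Set (G ⧸ pPrimeCore p G)))
    (h2 : ∀ q : ℕ, q.Prime → q ≠ p →
      q ∣ (centralizer (pCore p (G ⧸ pPrimeCore p G) : Set (G ⧸ pPrimeCore p G))).index → q < p) :
    (∀ q : ℕ, q.Prime → q ∣ (pPrimeCore p G).index → q ≤ p) ∧
      ((p = 3 ∨ ∀ q : ℕ, q.Prime → q ∣ Nat.card G → p ≤ q) → HasNormalPComplement p G) ∧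
      HasNormalPComplement p ↥(_root_.commutator G) ∧
      (∀ L : Subgroup ↥(_root_.commutator G), (Nat.card L).Coprime p →
        L ≤ pPrimeCore p ↥(_root_.commutator G)) ∧
      _root_.commutator G ≤ pPrimePCore p G ∧ ((pPrimePCore p G).index).Coprime p := by
  have hC := centralizer_pCore_le (isPSolvable_of_isSolvable (G := G ⧸ pPrimeCore p G)
    inferInstance) (pPrimeCore_quotient_pPrimeCore p)
  have h3 : _root_.commutator (G ⧸ pPrimeCore p G) ≤ pCore p _ :=
    le_pCore (H5.isPGroup_of_forall_coprime fun x hx hxp =>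
      H5.eq_one_of_mem_of_coprime (pCore_isPGroup p) (hC (h1 x hx hxp)) hxp)
  have h4 : _root_.commutator G ≤ pPrimePCore p G := map_le_iff_le_comap.1
    ((map_commutator_of_surjective (QuotientGroup.mk'_surjective _)).le.trans h3)
  have h5 : ∀ q : ℕ, q.Prime → q ∣ (pPrimeCore p G).index → q ≤ p := fun q hq hd => by
    by_cases hqp : q = p
    · exact hqp.le
    rw [index, ← card_mul_index (centralizer (pCore p (G ⧸ pPrimeCore p G) : Set _))] at hd
    exact (h2 q hq hqp ((hq.dvd_mul.1 hd).resolve_left fun h =>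
      hqp (eq_of_prime_dvd_card_isPGroup ((pCore_isPGroup p).to_le hC) hq h))).le
  have h6 := PCompl.hnpc_of_le hnpc_pPrimePCore h4
  refine ⟨h5, fun h => PCompl.hnpc_of_isPGroup_quotient _ (pPrimeCore_coprime p)
    (isPGroup_of_forall_prime_dvd fun q hq hd => le_antisymm (h5 q hq hd) ?_), h6,
    fun L hL x hx => ?_, h4, ?_⟩
  · have hd' := hd.trans (card_quotient_dvd_card _)
    rcases h with rfl | h
    · have := hq.two_le
      have := ne_two_of_dvd_odd hodd hd'
      omega
    · exact h q hq hd'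
  · rw [PCompl.hnpc_pPrimeCore_eq_pResidual h6, PCompl.hnpc_mem_pResidual_iff h6]
    exact hL.coprime_dvd_left (L.orderOf_dvd_natCard hx)
  · obtain ⟨P⟩ : Nonempty (Sylow p (G ⧸ pPrimeCore p G)) := inferInstance
    have := normal_of_commutator_le (h3.trans (pCore_le_sylow P))
    rw [pPrimePCore, index_comap_of_surjective _ (QuotientGroup.mk'_surjective _),
      ← sylow_eq_pCore_of_normal P]
    exact (hp.out.coprime_iff_not_dvd.2 P.not_dvd_index).symm

/-- BG 4.18. -/
theorem rank2_der1_complement [Group.IsSolvable G] (hodd : Odd (Nat.card G))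
    (hpG : p ∣ Nat.card G) (hr : PRankLE p 2 G) :
    (∀ q : ℕ, q.Prime → q ∣ (pPrimeCore p G).index → q ≤ p) ∧
      ((p = 3 ∨ ∀ q : ℕ, q.Prime → q ∣ Nat.card G → p ≤ q) → HasNormalPComplement p G) ∧
      HasNormalPComplement p ↥(_root_.commutator G) ∧
      (∀ L : Subgroup ↥(_root_.commutator G), (Nat.card L).Coprime p →
        L ≤ pPrimeCore p ↥(_root_.commutator G)) ∧
      _root_.commutator G ≤ pPrimePCore p G ∧ ((pPrimePCore p G).index).Coprime p := by
  have hp2 := ne_two_of_dvd_odd hodd hpG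
  have h1 := pRankLE_subgroup ((pRankLE_quotient_iff_of_coprime _ (pPrimeCore_coprime p)).2 hr)
    (pCore p _)
  refine der1_complement_of_cent hodd (fun x hx hxp => der1_cent_rank2_pgroup hp2 (A := ⊤)
    (pCore_isPGroup p) h1 le_normalizer_of_normal inferInstance ?_ hx hxp) fun q hq hqp hd =>
    (pi_norm_cent_rank2_pgroup hp2 (A := ⊤) (pCore_isPGroup p) h1 le_normalizer_of_normal hq hqp
      (by rwa [relIndex_top_right])).2.1
  rw [card_top]
  exact Odd.of_dvd_nat hodd (card_quotient_dvd_card _)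

omit hp in
theorem le_normalizer_relCent {B V T : Subgroup G} (hV : B ≤ normalizer (V : Set G))
    (hT : B ≤ normalizer (T : Set G)) :
    B ≤ normalizer ((CommCalc.relCent V T : Subgroup G) : Set G) := fun b hb =>
  mem_normalizer_of_conj_mem fun x hx => by
    obtain ⟨h1, h2⟩ := CommCalc.mem_relCent.1 hx
    refine CommCalc.mem_relCent.2 ⟨mul_mem (mul_mem (hV hb) h1) (inv_mem (hV hb)), fun t ht => ?_⟩
    have := conj_mem_of_mem_normalizer (hV hb) (h2 _ (conj_mem_of_mem_normalizer' (hT hb) ht))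
    convert this using 1
    simp only [commutatorElement_def]; group

omit [Finite G] hp in
theorem commutator_sup_self_le {V N : Subgroup G} (h : N ≤ normalizer (V : Set G)) :
    ⁅V ⊔ N, V ⊔ N⁆ ≤ V ⊔ ⁅N, N⁆ := by
  have h1 : V ≤ normalizer ((V ⊔ ⁅N, N⁆ : Subgroup G) : Set G) := le_sup_left.trans le_normalizer
  have h2 := le_normalizer_sup h (normalizer_commutator_ge_left N N)
  refine CommCalc.commutator_sup_left_le h1 h2 ((Cop.commutator_le_left_of_le_normalizer
    (sup_le le_normalizer h)).trans le_sup_left) (CommCalc.commutator_sup_right_le h1 h2 ?_ le_sup_right)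
  rw [Subgroup.commutator_comm]
  exact (Cop.commutator_le_left_of_le_normalizer h).trans le_sup_left

/-- The common part of BG 4.19 and 5.7: if `G = V N`, `N` normalizes a `p`-group `R` with
`V R = U` and the `p'`-elements of `N'` centralize `R` modulo `V`, then `G'` centralizes the chief
factor `U / V`. -/
theorem commutator_le_of_chief_of_cent {U V R N : Subgroup G} (hUV : IsChiefFactor U V)
    (hR : IsPGroup p R) (hU : V ⊔ R = U) (hN : N ≤ normalizer (R : Set G)) (hVN : V ⊔ N = ⊤)
    (h : ∀ x ∈ ⁅N, N⁆, (orderOf x).Coprime p → ∀ r ∈ R, ⁅x, r⁆ ∈ V) :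
    ⁅U, _root_.commutator G⁆ ≤ V := by
  obtain ⟨h1, h2, h3, h4⟩ := hUV
  obtain ⟨P⟩ : Nonempty (Sylow p ↥⁅N, N⁆) := inferInstance
  have hP := IsSylowIn.of_sylow_subgroup P
  have hPR := hP.le.trans ((commutator_le_self N).trans hN)
  obtain ⟨x, hx, hxV, hxP⟩ := Cop.exists_commutator_mem_of_lt
    (hP.isPGroup.to_sup_of_normal_right' hR hPR).isNilpotent le_sup_right
    (le_normalizer_of_normal (H := V)) (sup_le hPR le_normalizer)
    fun h => h1.not_ge (hU.ge.trans (sup_le le_rfl h))
  have hK : ∀ g, ⁅g, x⁆ ∈ V → g ∈ CommCalc.relCent V {x} := fun g hg =>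
    CommCalc.mem_relCent.2 ⟨le_normalizer_of_normal (mem_top g), by rintro _ rfl; exact hg⟩
  have h5 : ⁅N, N⁆ ≤ CommCalc.relCent V {x} := le_of_forall_sylow_le fun q _ _ => by
    by_cases hqp : q = p
    · subst hqp
      exact ⟨P, fun g hg => hK g (by
        rw [← commutatorElement_inv]; exact inv_mem (hxP g (mem_sup_left hg)))⟩
    · obtain ⟨Q⟩ : Nonempty (Sylow q ↥⁅N, N⁆) := inferInstance
      refine ⟨Q, fun g hg => hK g (h g (map_subtype_le _ hg) ?_ x hx)⟩
      obtain ⟨k, hk⟩ := orderOf_eq_pow_of_mem_isPGroup (IsSylowIn.of_sylow_subgroup Q).isPGroup hg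
      exact hk ▸ ((Nat.coprime_primes Fact.out hp.out).2 hqp).pow_left k
  have h6 : _root_.commutator G ≤ CommCalc.relCent V {x} := by
    rw [_root_.commutator_def, ← hVN]
    exact (commutator_sup_self_le le_normalizer_of_normal).trans (sup_le (fun v hv => hK v
      (commutator_le_left V ⊤ (commutator_mem_commutator hv (mem_top x)))) h5)
  have h7 := normal_of_le_normalizer_top (le_normalizer_relCent (B := ⊤) (V := V)
    (T := _root_.commutator G) le_normalizer_of_normal le_normalizer_of_normal)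
  have h8 := (h4 (U ⊓ CommCalc.relCent V (_root_.commutator G)) inferInstance (le_inf h1.le
    fun v hv => CommCalc.mem_relCent.2 ⟨le_normalizer hv, fun t _ =>
      commutator_le_left V ⊤ (commutator_mem_commutator hv (mem_top t))⟩) inf_le_left).resolve_left
    fun h => hxV (h.le ⟨hU.le (mem_sup_right hx), CommCalc.mem_relCent.2
      ⟨le_normalizer_of_normal (mem_top x), fun t ht => by
        rw [← commutatorElement_inv]
        exact inv_mem ((CommCalc.mem_relCent.1 (h6 ht)).2 x rfl)⟩⟩)
  exact commutator_le.2 fun u hu => (CommCalc.mem_relCent.1 (h8.ge hu).2).2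

/-- BG 4.19. -/
theorem rank2_cent_chief [Group.IsSolvable G] (hodd : Odd (Nat.card G)) {N U V : Subgroup G}
    [N.Normal] (hr : PRankLE p 2 N) (hUV : IsChiefFactor U V) (hU : U ≤ N)
    (hpUV : ∃ k, V.relIndex U = p ^ k) : ⁅U, _root_.commutator G⁆ ≤ V := by
  obtain ⟨k, hk⟩ := hpUV
  have hp2 : p ≠ 2 := ne_two_of_dvd_odd hodd (((dvd_pow_self p fun h => hUV.1.not_ge
    (relIndex_eq_one.1 (by rw [hk, h, pow_zero]))).trans (hk ▸ relIndex_dvd_card V U)).trans
      (card_subgroup_dvd_card U))
  obtain ⟨R, hR⟩ := IsSylowIn.exists_in (p := p) U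
  have h1 := hR.sup_eq_of_relIndex_eq_pow hUV.1.le hk
  have := hUV.2.1
  refine commutator_le_of_chief_of_cent hUV hR.isPGroup h1 le_rfl (top_le_iff.1
    ((hR.frattini_le le_top le_normalizer_of_normal).trans (sup_le (h1.ge.trans
      (sup_le_sup_left le_normalizer V)) (inf_le_right.trans le_sup_right)))) fun x hx hxp r hr' => ?_
  rw [Commute.commutator_eq (mem_centralizer_iff.1 (der1_cent_rank2_pgroup hp2 hR.isPGroup
    (pRankLE_mono hr (hR.le.trans hU)) le_rfl inferInstance
    (Odd.of_dvd_nat hodd (card_subgroup_dvd_card _)) hx hxp) r hr').symm]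
  exact one_mem V

omit [Finite G] hp in
theorem isMinNormal_map_of_isChiefFactor {U V : Subgroup G} [V.Normal] (h : IsChiefFactor U V) :
    IsMinNormal (U.map (QuotientGroup.mk' V)) := by
  have := h.2.1
  refine ⟨Normal.map h.2.1 _ (QuotientGroup.mk'_surjective V), fun h1 => h.1.not_ge ?_,
    fun W hW hWU => ?_⟩
  · rwa [Subgroup.map_eq_bot_iff, QuotientGroup.ker_mk'] at h1
  · have h1 := map_comap_eq_self_of_surjective (QuotientGroup.mk'_surjective V) W
    rcases h.2.2.2 (W.comap (QuotientGroup.mk' V)) inferInstance (QuotientGroup.le_comap_mk' V W)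
      ((comap_mono hWU).trans (by rw [QuotientGroup.comap_map_mk']; exact sup_le h.1.le le_rfl))
      with h2 | h2
    · left; rw [← h1, h2, QuotientGroup.map_mk'_self]
    · right; rw [← h1, h2]

omit hp in
theorem exists_relIndex_eq_pow_of_isChiefFactor {U V : Subgroup G} (h : IsChiefFactor U V)
    (hU : Group.IsSolvable U) : ∃ q : ℕ, q.Prime ∧ ∃ k, V.relIndex U = q ^ k := by
  have := h.2.2.1
  obtain ⟨q, hq, h1⟩ := (isMinNormal_map_of_isChiefFactor h).exists_isPGroup (isSolvable_map hU _)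
  have := Fact.mk hq
  exact ⟨q, hq, card_map_mk'_eq_relIndex U V ▸ IsPGroup.iff_card.1 h1⟩

omit hp in
/-- BG 4.20(a). -/
theorem rank2_der1_sub_Fitting [Group.IsSolvable G] (hodd : Odd (Nat.card G))
    (hr : RankLE 2 (fittingSubgroup G)) : _root_.commutator G ≤ fittingSubgroup G := fun _ hx =>
  chief_stab_sub_Fitting_top fun U V hUV hU _ hu => by
    obtain ⟨q, hq, h⟩ := exists_relIndex_eq_pow_of_isChiefFactor hUV inferInstance
    have := Fact.mk hq
    exact rank2_cent_chief hodd (hr q hq) hUV hU h (commutator_mem_commutator hu hx)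

theorem rank2_min_p_complement [Group.IsSolvable G] (hodd : Odd (Nat.card G))
    (hr : RankLE 2 (fittingSubgroup G)) (hmin : ∀ q : ℕ, q.Prime → q ∣ Nat.card G → p ≤ q) :
    HasNormalPComplement p G := by
  have : IsMulCommutative (G ⧸ fittingSubgroup G) :=
    Normal.quotient_commutative_iff_commutator_le.2 (rank2_der1_sub_Fitting hodd hr)
  obtain ⟨N, hN, h1, k, hk⟩ := PCompl.hnpc_exists_normal
    (PCompl.hnpc_of_isMulCommutative (G := G ⧸ fittingSubgroup G) (p := p))
  refine PCompl.hnpc_of_index_eq_pow (N.comap (QuotientGroup.mk' _))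
    ((index_comap_of_surjective _ (QuotientGroup.mk'_surjective _)).trans hk) ?_
  by_cases hd : p ∣ Nat.card (N.comap (QuotientGroup.mk' _))
  · refine (rank2_der1_complement (Odd.of_dvd_nat hodd (card_subgroup_dvd_card _)) hd
      (pRankLE_iff.2 fun A hA hAe => pRankLE_iff.1 (hr p hp.out) A ?_ hAe)).2.1
      (Or.inr fun q hq h => hmin q hq (h.trans (card_subgroup_dvd_card _)))
    have := H5.eq_bot_of_isPGroup_of_coprime ((elemAb_isPGroup hAe).map (QuotientGroup.mk' _))
      (h1.coprime_dvd_left (card_dvd_of_le (map_le_iff_le_comap.2 hA)))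
    rwa [Subgroup.map_eq_bot_iff, QuotientGroup.ker_mk'] at this
  · exact PCompl.hnpc_of_not_dvd hd

omit hp in
theorem rankLE_fitting_of_normal {k : ℕ} (hr : RankLE k (fittingSubgroup G)) (K : Subgroup G)
    [hK : K.Normal] : RankLE k (fittingSubgroup K) :=
  rankLE_map_subtype_iff.1 (rankLE_mono hr (map_fitting_le_of_isSubnormal hK.isSubnormal))

theorem rank2_isPiHall_piCore.{u} (m : ℕ) (X : Type u) [Group X] [Finite X] :
    Group.IsSolvable X → Odd (Nat.card X) → RankLE 2 (fittingSubgroup X) →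
      IsPiHall {q | q.Prime ∧ m < q} (piCore {q | q.Prime ∧ m < q} X) := by
  refine card_induction (P := fun X _ _ => Group.IsSolvable X → Odd (Nat.card X) →
    RankLE 2 (fittingSubgroup X) → IsPiHall {q | q.Prime ∧ m < q} (piCore {q | q.Prime ∧ m < q} X))
    (fun G _ _ ih => ?_) X
  intro hs hodd hr
  suffices ∃ N : Subgroup G, N.Normal ∧ IsPiHall {q | q.Prime ∧ m < q} N by
    obtain ⟨N, _, hN⟩ := this
    exact Hall.eq_piCore_of_normal hN ▸ hN
  by_cases h : ∀ q : ℕ, q.Prime → q ∣ Nat.card G → m < q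
  · exact ⟨⊤, inferInstance, fun q hq hd => ⟨hq, h q hq (by simpa using hd)⟩,
      fun q hq _ => by simpa using hq.one_lt.ne'⟩
  push Not at h
  obtain ⟨q, hq, hqd, hqm⟩ := h
  have h1 : Nat.card G ≠ 1 := fun h => hq.one_lt.ne' (Nat.dvd_one.1 (h ▸ hqd))
  have := Fact.mk (Nat.minFac_prime h1)
  obtain ⟨K, hK, h2, k, hk⟩ := PCompl.hnpc_exists_normal (rank2_min_p_complement
    (p := (Nat.card G).minFac) hodd hr fun r hr hd => Nat.minFac_le_of_dvd hr.two_le hd)
  have h3 : K ≠ ⊤ := by
    rintro rfl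
    rw [card_top] at h2
    exact (Nat.minFac_prime h1).one_lt.ne' (Nat.eq_one_of_dvd_coprimes h2 (Nat.minFac_dvd _) dvd_rfl)
  refine ⟨_, normal_of_le_normalizer_top (le_normalizer_of_normal.trans
    (normalizer_le_normalizer_map_piCore _ K)), Hall.isPiHall_of_isPiHallOf
    (Hall.isPiHallOf_map_subtype (ih K (card_lt_of_ne_top h3) inferInstance
      (Odd.of_dvd_nat hodd (card_subgroup_dvd_card K)) (rankLE_fitting_of_normal hr K)))
    fun r hr hrm hd => ?_⟩
  have h4 := (Nat.prime_dvd_prime_iff_eq hr (Nat.minFac_prime h1)).1 (hr.dvd_of_dvd_pow (hk ▸ hd))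
  have := Nat.minFac_le_of_dvd hq.two_le hqd
  have := hrm.2
  omega

omit hp in
/-- BG 4.20. -/
theorem rank2_der1_nil [Group.IsSolvable G] (hodd : Odd (Nat.card G))
    (hr : RankLE 2 G ∨ RankLE 2 (fittingSubgroup G)) :
    Group.IsNilpotent ↥(_root_.commutator G) ∧
      (∀ (q : ℕ) [Fact q.Prime] (S : Sylow q G) (T : Subgroup ↥(S : Subgroup G)),
        T.Characteristic → T.map (S : Subgroup G).subtype ≤ ⁅(S : Subgroup G), (S : Subgroup G)⁆ →
        (T.map (S : Subgroup G).subtype).Normal) ∧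
      ∀ m : ℕ, ∃ N : Subgroup G, N.Characteristic ∧ IsPiHall {q | q.Prime ∧ m < q} N := by
  have hr' : RankLE 2 (fittingSubgroup G) := hr.elim (rankLE_subgroup · _) id
  have h1 := rank2_der1_sub_Fitting hodd hr'
  refine ⟨isNilpotent_of_le fitting_isNilpotent h1, fun q _ S T _ hT => ?_, fun m =>
    ⟨_, piCore_characteristic _, rank2_isPiHall_piCore m G inferInstance hodd hr'⟩⟩
  have h2 := normalizer_le_normalizer_map_subtype_of_characteristic (S : Subgroup G) T
  have := normal_of_commutator_le (h1.trans (le_sup_left (b := (S : Subgroup G))))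
  refine normal_of_le_normalizer_top (((IsSylowIn.of_sylow S le_sup_right).frattini_le le_top
    (le_normalizer_of_normal (H := fittingSubgroup G ⊔ S))).trans (sup_le (sup_le
      (fitting_le_of_forall_pCore_le fun r _ => ?_) (le_normalizer.trans h2))
      (inf_le_right.trans h2)))
  by_cases hrq : r = q
  · subst hrq
    exact (pCore_le_sylow S).trans (le_normalizer.trans h2)
  · refine le_trans ?_ ((centralizer_antitone (le_pCore_of_le_fitting (hT.trans
      ((commutator_mono le_top le_top).trans h1)) (S.isPGroup'.to_le (map_subtype_le T)))).trans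
      (centralizer_le_normalizer _))
    refine le_trans (le_pPrimeCore ?_)
      (Cop.commutator_eq_bot_iff_le_centralizer'.1 (commutator_pCore_pPrimeCore q))
    obtain ⟨n, hn⟩ := IsPGroup.iff_card.1 (pCore_isPGroup (G := G) r)
    exact hn ▸ ((Nat.coprime_primes Fact.out Fact.out).2 hrq).pow_left n

/-- BG 4.20(c), special case: the Sylow subgroup for the largest prime is normal. -/
theorem rank2_max_pcore_Sylow [Group.IsSolvable G] (hodd : Odd (Nat.card G))
    (hr : RankLE 2 (fittingSubgroup G)) (hmax : ∀ q : ℕ, q.Prime → q ∣ Nat.card G → q ≤ p)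
    (S : Sylow p G) : (S : Subgroup G).Normal := by
  have h := rank2_isPiHall_piCore (p - 1) G inferInstance hodd hr
  have h1 := Hall.le_of_normal_hall h (isPiSubgroup_mono (isPGroup_iff_isPiSubgroup.1 S.isPGroup')
    (by rintro _ rfl; exact ⟨hp.out, Nat.sub_one_lt hp.out.ne_zero⟩))
  rw [← (IsSylowIn.sylow_top S).eq_of_le (isPGroup_of_forall_prime_dvd fun q hq hd => le_antisymm
    (hmax q hq (hd.trans (card_subgroup_dvd_card _))) (Nat.le_of_pred_lt (h.1 q hq hd).2)) h1 le_top]
  infer_instance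

end CfsgLib.FT
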