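import Mathlib
import Cfsg.Prelude.Def_OddOrderLocal
import Cfsg.Prelude.Def_PLocal
import Cfsg.Prelude.Def_LocalEven
import Cfsg.Prelude.Def_Local
import Cfsg.Agent.Lib.FT.BG4d

/-! Bender–Glauberman, section 4: `p`-groups of small rank.  The results are proved in the files
`BG4a` (4.3–4.10), `BG4b` (4.11, 4.12, 4.15), `BG4c` (4.13, 4.14, 4.16, 4.17) and `BG4d`
(4.18–4.20). -/
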