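import Mathlib
import Cfsg.Agent.Lib.FT.BG4

/-! Bender–Glauberman, section 5 (first part): structure of narrow `p`-groups. -/

set_option autoImplicit false

namespace CfsgLib.FT

open Subgroup Cfsg
open scoped commutatorElement

variable {G : Type*} [Group G] [Finite G] {p : ℕ} [hp : Fact p.Prime]

omit [Finite G] hp in
theorem mem_of_maxElem {R E : Subgroup G} (hER : E ≤ R) (hE : IsElementaryAbelian p E)
    (hEmax : ∀ B : Subgroup G, B ≤ R → IsElementaryAbelian p B → E ≤ B → B = E) {x : G}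
    (hxR : x ∈ R) (hx : x ∈ centralizer (E : Set G)) (hxp : x ^ p = 1) : x ∈ E := by
  have h := hEmax (E ⊔ zpowers x) (sup_le hER (zpowers_le.2 hxR))
    (elemAb_sup hE (elemAb_zpowers hxp) (zpowers_le.2 hx)) le_sup_left
  rw [← h]
  exact mem_sup_right (mem_zpowers x)

theorem card_eq_prime_of_lt_of_ne_bot {Z E : Subgroup G} (hE2 : Nat.card E = p ^ 2) (h : Z < E)
    (hZ : Z ≠ ⊥) : Nat.card Z = p := by
  have h1 : Nat.card Z ∣ p ^ 2 := hE2 ▸ card_dvd_of_le h.le
  obtain ⟨k, hk, hk'⟩ := (Nat.dvd_prime_pow hp.out).1 h1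
  have h2 : k ≠ 0 := by
    rintro rfl
    exact hZ (card_eq_one.1 (by simpa using hk'))
  have h3 : k ≠ 2 := by
    rintro rfl
    exact h.ne (eq_of_le_of_card_ge h.le (by rw [hk', hE2]))
  have : k = 1 := by omega
  rw [hk', this, pow_one]

theorem eq_of_le_of_card_eq_prime {Z D : Subgroup G} (hZ : Nat.card Z = p) (h : D ≤ Z)
    (hD : D ≠ ⊥) : D = Z := by
  have h1 : Nat.card D ∣ p := hZ ▸ card_dvd_of_le h
  rcases (Nat.dvd_prime hp.out).1 h1 with h2 | h2
  · exact absurd (card_eq_one.1 h2) hD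
  · exact eq_of_le_of_card_ge h (by rw [h2, hZ])

theorem inf_eq_bot_of_card_eq_prime {S T : Subgroup G} (hS : Nat.card S = p) (h : ¬ S ≤ T) :
    S ⊓ T = ⊥ := by
  by_contra h'
  exact h (inf_eq_left.1 (eq_of_le_of_card_eq_prime hS inf_le_left h'))

omit [Finite G] in
theorem ne_bot_of_card_eq_prime {S : Subgroup G} (hS : Nat.card S = p) : S ≠ ⊥ := by
  rintro rfl
  rw [card_bot] at hS
  exact hp.out.one_lt.ne hS

omit [Finite G] hp in
theorem commutator_mem_omegaOne_center {w g : G}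
    (hw : w ∈ Subgroup.upperCentralSeries G 2) (hwp : w ^ p = 1) :
    ⁅w, g⁆ ∈ omegaOne p (center G) := by
  have h1 : ⁅w, g⁆ ∈ center G := by
    rw [← Subgroup.upperCentralSeries_one]
    exact commutator_upperCentralSeries_top_le G 1 (commutator_mem_commutator hw (mem_top g))
  refine mem_omegaOne h1 ?_
  rw [← CommCalc.comm_pow_left (mem_center_iff.1 h1 w), hwp, commutatorElement_one_left]

omit [Finite G] hp in
theorem normal_of_commutator_mem' {Z D : Subgroup G} (hZD : Z ≤ D)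
    (h : ∀ d ∈ D, ∀ g : G, ⁅d, g⁆ ∈ Z) : D.Normal := by
  refine ⟨fun d hd g => ?_⟩
  have : g * d * g⁻¹ = ⁅d, g⁆⁻¹ * d := by simp [commutatorElement_def, mul_assoc]
  rw [this]
  exact D.mul_mem (D.inv_mem (hZD (h d hd g))) hd

/-- BG 5.2, with `W = Ω₁(Z₂(G))` and `T = C(W)`. -/
theorem ohm1_ucn_p2maxElem (hp2 : p ≠ 2) (hG : IsPGroup p G) (hr : ¬ PRankLE p 2 G)
    {E : Subgroup G} (hE : IsElementaryAbelian p E) (hE2 : Nat.card E = p ^ 2)
    (hEmax : ∀ B : Subgroup G, IsElementaryAbelian p B → E ≤ B → B = E) :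
    ¬ E ≤ centralizer ((omegaOne p (Subgroup.upperCentralSeries G 2) : Subgroup G) : Set G) ∧
      Nat.card (omegaOne p (center G)) = p ∧
      (IsElementaryAbelian p (omegaOne p (Subgroup.upperCentralSeries G 2)) ∧
        Nat.card (omegaOne p (Subgroup.upperCentralSeries G 2)) = p ^ 2) ∧
      (centralizer ((omegaOne p (Subgroup.upperCentralSeries G 2) : Subgroup G) :
        Set G)).Characteristic ∧
      (centralizer ((omegaOne p (Subgroup.upperCentralSeries G 2) : Subgroup G) :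
        Set G)).index = p := by
  have hnc := not_isCyclic_of_not_pRankLE_two hr
  obtain ⟨hWnc, hWp⟩ := ohm1_odd_ucn2_top hp2 hG hnc
  set W := omegaOne p (Subgroup.upperCentralSeries G 2) with hW
  set Z := omegaOne p (center G) with hZ
  have hWch : W.Characteristic := PGrp.characteristic_omegaOne _
  have hZch : Z.Characteristic := PGrp.characteristic_omegaOne _
  have hmem : ∀ x ∈ centralizer (E : Set G), x ^ p = 1 → x ∈ E := fun x hx hxp =>
    mem_of_maxElem le_top hE (fun B _ => hEmax B) (mem_top x) hx hxp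
  have hEn : ¬ E.Normal := by
    intro hEn
    obtain ⟨C, h1, -, h3, h4⟩ := exists_normal_p3Elem_ge_top hp2 hG hr hE hE2
    rw [hEmax C h3 h1, hE2] at h4
    exact absurd (Nat.pow_right_injective hp.out.two_le h4) (by norm_num)
  have hZc : Z ≤ center G := PGrp.omegaOne_le _
  have hZp : ∀ x ∈ Z, x ^ p = 1 :=
    (PGrp.isElementaryAbelian_omegaOne (p := p) (A := center G) inferInstance).2
  have hZE : Z ≤ E := fun x hx => hmem x (center_le_centralizer _ (hZc hx)) (hZp x hx)
  have hZne : Z ≠ E := by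
    rintro h
    exact hEn (h ▸ inferInstance)
  have hZ1 : Z ≠ ⊥ := by
    have : Nontrivial G := by
      by_contra h
      rw [not_nontrivial_iff_subsingleton] at h
      exact hnc inferInstance
    have := hG.center_nontrivial
    obtain ⟨k, hk, hk'⟩ := (hG.to_subgroup (center G)).nontrivial_iff_card.1 inferInstance
    exact omegaOne_ne_bot (hk' ▸ dvd_pow_self p hk.ne')
  have hZcard : Nat.card Z = p := card_eq_prime_of_lt_of_ne_bot hE2 (lt_of_le_of_ne hZE hZne) hZ1
  have hWZ : ∀ w ∈ W, ∀ g, ⁅w, g⁆ ∈ Z := fun w hw g =>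
    commutator_mem_omegaOne_center (PGrp.omegaOne_le _ hw) (hWp w hw)
  have hZW : Z ≤ W := omegaOne_mono (by
    rw [← Subgroup.upperCentralSeries_one]
    exact Subgroup.upperCentralSeries_mono G (by norm_num))
  have hD : W ⊓ centralizer (E : Set G) = Z := by
    have h1 : Z ≤ W ⊓ centralizer (E : Set G) := le_inf hZW (hZc.trans (center_le_centralizer _))
    have h2 : W ⊓ centralizer (E : Set G) ≤ E := fun x hx => hmem x hx.2 (hWp x hx.1)
    have h3 : W ⊓ centralizer (E : Set G) ≠ E := by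
      intro h
      exact hEn (h ▸ normal_of_commutator_mem' h1 fun d hd g => hWZ d hd.1 g)
    have h4 := card_eq_prime_of_lt_of_ne_bot hE2 (lt_of_le_of_ne h2 h3)
      (fun h => hZ1 (eq_bot_iff.2 (h ▸ h1)))
    exact (eq_of_le_of_card_ge h1 (by rw [h4, hZcard])).symm
  have hW2 : p ^ 2 ≤ Nat.card W := sq_le_card_of_not_isCyclic (hG.to_subgroup W) hWnc
  have hEW : ¬ E ≤ centralizer (W : Set G) := by
    intro h
    have : W = Z := by rw [← hD]; exact (inf_eq_left.2 (le_centralizer_comm h)).symm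
    rw [this, hZcard] at hW2
    have := hp.out.one_lt
    nlinarith
  obtain ⟨e, heE, heZ⟩ := SetLike.exists_of_lt (lt_of_le_of_ne hZE hZne)
  have hEeq : Z ⊔ zpowers e = E := sup_eq_of_card_le_mul (elemAb_isPGroup hE) hZE
    (zpowers_le.2 heE) (by rw [hE2, hZcard, sq]) (fun h => heZ (h (mem_zpowers e)))
  have hCe : W ⊓ centralizer ({e} : Set G) = Z := by
    rw [← hD, ← hEeq]
    refine le_antisymm (inf_le_inf_left _ ?_) (inf_le_inf_left _ (centralizer_le ?_))
    · refine le_centralizer_comm (sup_le (hZc.trans (center_le_centralizer _)) ?_)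
      rw [zpowers_le, mem_centralizer_iff]
      intro x hx
      exact (mem_centralizer_iff.1 hx e rfl).symm
    · rintro _ rfl
      exact mem_sup_right (mem_zpowers _)
  have hWcard : Nat.card W = p ^ 2 := by
    refine le_antisymm ?_ hW2
    have h1 : (centralizer ({e} : Set G)).relIndex W ≤ Nat.card Z :=
      PGrp.relIndex_centralizer_le_card fun g hg => by
        rw [← commutatorElement_inv]; exact Z.inv_mem (hWZ g hg e)
    have h2 := card_inf_mul_relIndex (centralizer ({e} : Set G)) W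
    rw [inf_comm, hCe, hZcard] at h2
    rw [← h2, sq]
    exact Nat.mul_le_mul_left _ (hZcard ▸ h1)
  refine ⟨hEW, hZcard, ⟨elemAb_of_card_eq_sq hWcard hWp, hWcard⟩, inferInstance, ?_⟩
  have h1 := PGrp.index_centralizer_le_of_card_sq hG W hWcard
  obtain ⟨k, hk⟩ := hG.index (centralizer (W : Set G))
  rcases PGrp.eq_one_or_eq_prime_of_le hk h1 with h | h
  · exact absurd (by rw [index_eq_one.1 h]; exact le_top) hEW
  · exact h

theorem card_le_index_mul_card_inf (T C : Subgroup G) :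
    Nat.card C ≤ T.index * Nat.card ↥(T ⊓ C) := by
  rw [← card_inf_mul_relIndex T C, mul_comm]
  refine Nat.mul_le_mul_right _ ?_
  rw [← relIndex_top_right]
  exact relIndex_le_of_le_right le_top (by rw [relIndex_top_right]; exact index_ne_zero_of_finite)

theorem omegaOne_center_ne_bot (hG : IsPGroup p G) [Nontrivial G] :
    omegaOne p (center G) ≠ ⊥ := by
  have := hG.center_nontrivial
  obtain ⟨k, hk, hk'⟩ := (hG.to_subgroup (center G)).nontrivial_iff_card.1 inferInstance
  exact omegaOne_ne_bot (hk' ▸ dvd_pow_self p hk.ne')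

/-- If `C(S)` has rank at most two for `S` of order `p`, then `Ω₁(Z(G)) S` is a maximal elementary
abelian subgroup of order `p ^ 2`. -/
theorem maxElem_of_cent_rank2 (hG : IsPGroup p G) (hr : ¬ PRankLE p 2 G)
    {S : Subgroup G} (hS : Nat.card S = p) (hCS : PRankLE p 2 (centralizer (S : Set G))) :
    IsElementaryAbelian p (omegaOne p (center G) ⊔ S) ∧
      Nat.card ↥(omegaOne p (center G) ⊔ S) = p ^ 2 ∧
      ∀ B : Subgroup G, IsElementaryAbelian p B → omegaOne p (center G) ⊔ S ≤ B →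
        B = omegaOne p (center G) ⊔ S := by
  have hnc := not_isCyclic_of_not_pRankLE_two hr
  have : Nontrivial G := by
    by_contra h
    rw [not_nontrivial_iff_subsingleton] at h
    exact hnc inferInstance
  set Z := omegaOne p (center G) with hZ
  have hZc : Z ≤ center G := PGrp.omegaOne_le _
  have hZe : IsElementaryAbelian p Z :=
    PGrp.isElementaryAbelian_omegaOne (p := p) (A := center G) inferInstance
  have hZ1 : Z ≠ ⊥ := omegaOne_center_ne_bot hG
  have hE : IsElementaryAbelian p (Z ⊔ S) := elemAb_sup hZe (elemAb_of_card_eq_prime hS)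
    (le_centralizer_comm (hZc.trans (center_le_centralizer _)))
  have hB : ∀ B : Subgroup G, IsElementaryAbelian p B → S ≤ B → Nat.card B ≤ p ^ 2 :=
    fun B hB h => pRankLE_iff.1 hCS B ((elemAb_le_centralizer hB).trans (centralizer_antitone h)) hB
  have hlt : S < Z ⊔ S := by
    refine lt_of_le_of_ne le_sup_right fun h => hr ?_
    have h1 : Z = S := eq_of_le_of_card_eq_prime hS (h ▸ le_sup_left) hZ1
    have h2 : centralizer (S : Set G) = ⊤ := by
      rw [eq_top_iff]
      exact le_centralizer_comm (h1 ▸ hZc.trans (center_le_centralizer _))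
    rwa [h2, pRankLE_top] at hCS
  have hc : p ^ 2 ≤ Nat.card ↥(Z ⊔ S) := by
    have := PGrp.mul_card_le_card_of_lt (elemAb_isPGroup hE) hlt
    rwa [hS, ← sq] at this
  exact ⟨hE, le_antisymm (hB _ hE le_sup_right) hc, fun B h1 h2 =>
    (eq_of_le_of_card_le h2 ((hB B h1 (le_sup_right.trans h2)).trans hc)).symm⟩

/-- BG 5.3(d), with `T = C(Ω₁(Z₂(G)))`. -/
theorem narrow_cent_dprod (hp2 : p ≠ 2) (hG : IsPGroup p G) (hr : ¬ PRankLE p 2 G)
    {S : Subgroup G} (hS : Nat.card S = p) (hCS : PRankLE p 2 (centralizer (S : Set G))) :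
    IsCyclic ↥(centralizer ((omegaOne p (Subgroup.upperCentralSeries G 2) : Subgroup G) : Set G) ⊓
        centralizer (S : Set G)) ∧
      S ⊓ _root_.commutator G = ⊥ ∧
      S ⊓ centralizer ((omegaOne p (Subgroup.upperCentralSeries G 2) : Subgroup G) : Set G) = ⊥ ∧
      S ⊔ (centralizer ((omegaOne p (Subgroup.upperCentralSeries G 2) : Subgroup G) : Set G) ⊓
        centralizer (S : Set G)) = centralizer (S : Set G) := by
  obtain ⟨hE, hE2, hEmax⟩ := maxElem_of_cent_rank2 hG hr hS hCS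
  obtain ⟨h1, -, -, h4, h5⟩ := ohm1_ucn_p2maxElem hp2 hG hr hE hE2 hEmax
  set T := centralizer ((omegaOne p (Subgroup.upperCentralSeries G 2) : Subgroup G) : Set G)
  set Z := omegaOne p (center G) with hZ
  have hZc : Z ≤ center G := PGrp.omegaOne_le _
  have hST : ¬ S ≤ T := fun h => h1 (sup_le (hZc.trans (center_le_centralizer _)) h)
  have h3 : S ⊓ T = ⊥ := inf_eq_bot_of_card_eq_prime hS hST
  refine ⟨?_, eq_bot_iff.2 (h3 ▸ inf_le_inf_left S (PGrp.commutator_le_of_index_eq_prime T h5)),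
    h3, ?_⟩
  · have hlt : (Z ⊔ S) ⊓ T < Z ⊔ S := inf_lt_left.2 h1
    have hc : Nat.card ↥((Z ⊔ S) ⊓ T) ≤ p := by
      have := PGrp.mul_card_le_card_of_lt (elemAb_isPGroup hE) hlt
      rw [hE2, sq] at this
      exact Nat.le_of_mul_le_mul_left this hp.out.pos
    refine isCyclic_of_omegaOne_le hp2 (hG.to_subgroup _)
      (isCyclic_of_card_le_prime (hG.to_subgroup _) hc) fun x hx hxp => mem_inf.2 ⟨?_, hx.1⟩
    refine mem_of_maxElem le_top hE (fun B _ => hEmax B) (mem_top x) ?_ hxp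
    exact le_centralizer_comm (sup_le (hZc.trans (center_le_centralizer _))
      (le_centralizer_comm le_rfl)) hx.2
  · rw [sup_comm]
    refine sup_eq_of_card_le_mul (hG.to_subgroup _) inf_le_right
      (elemAb_le_centralizer (elemAb_of_card_eq_prime hS)) ?_ fun h => hST (h.trans inf_le_left)
    exact h5 ▸ card_le_index_mul_card_inf T _

theorem cent_rank2_of_narrow (hn : IsNarrow p G) (hr : ¬ PRankLE p 2 G) :
    ∃ S : Subgroup G, Nat.card S = p ∧ PRankLE p 2 (centralizer (S : Set G)) := by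
  rcases hn with h | ⟨R₀, R₁, h0, h1, -, h3, h4⟩
  · exact absurd h hr
  refine ⟨R₀, h0, pRankLE_iff.2 fun A hA hAe => ?_⟩
  have hc : R₁ ≤ centralizer (R₀ : Set G) := fun b hb => mem_centralizer_iff.2 fun a ha => h3 a ha b hb
  have hn : R₀ ≤ normalizer (R₁ : Set G) := (le_centralizer_comm hc).trans (centralizer_le_normalizer _)
  have h5 : Nat.card ↥(R₁ ⊓ A) ≤ p :=
    card_le_of_isCyclic_of_pow_eq_one (isCyclic_of_le inf_le_left) fun x hx => hAe.2 x hx.2
  have h6 : R₁.relIndex A ≤ p := by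
    refine (relIndex_le_of_le_right (h4 ▸ hA : A ≤ R₀ ⊔ R₁) index_ne_zero_of_finite).trans ?_
    rw [relIndex_sup_of_le_normalizer hn, ← h0]
    exact Nat.le_of_dvd Nat.card_pos (relIndex_dvd_card R₁ R₀)
  rw [← card_inf_mul_relIndex R₁ A, sq]
  exact Nat.mul_le_mul h5 h6

theorem cent_rank2_of_maxElem (hp2 : p ≠ 2) (hG : IsPGroup p G) (hr : ¬ PRankLE p 2 G)
    {E : Subgroup G} (hE : IsElementaryAbelian p E) (hE2 : Nat.card E = p ^ 2)
    (hEmax : ∀ B : Subgroup G, IsElementaryAbelian p B → E ≤ B → B = E) :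
    ∃ S : Subgroup G, S ≤ E ∧ Nat.card S = p ∧ PRankLE p 2 (centralizer (S : Set G)) := by
  obtain ⟨h1, h2, -⟩ := ohm1_ucn_p2maxElem hp2 hG hr hE hE2 hEmax
  set Z := omegaOne p (center G) with hZ
  have hZc : Z ≤ center G := PGrp.omegaOne_le _
  have hZe : IsElementaryAbelian p Z :=
    PGrp.isElementaryAbelian_omegaOne (p := p) (A := center G) inferInstance
  have hmem : ∀ x ∈ centralizer (E : Set G), x ^ p = 1 → x ∈ E := fun x hx hxp =>
    mem_of_maxElem le_top hE (fun B _ => hEmax B) (mem_top x) hx hxp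
  have hZE : Z ≤ E := fun x hx => hmem x (center_le_centralizer _ (hZc hx)) (hZe.2 x hx)
  have hEZ : ¬ E ≤ Z := fun h => h1 (h.trans (hZc.trans (center_le_centralizer _)))
  obtain ⟨e, heE, heZ⟩ := SetLike.not_le_iff_exists.1 hEZ
  have hEeq : Z ⊔ zpowers e = E := sup_eq_of_card_le_mul (elemAb_isPGroup hE) hZE
    (zpowers_le.2 heE) (by rw [hE2, h2, sq]) (fun h => heZ (h (mem_zpowers e)))
  have he1 : e ≠ 1 := by
    rintro rfl
    exact heZ Z.one_mem
  refine ⟨zpowers e, zpowers_le.2 heE, ?_, pRankLE_iff.2 fun A hA hAe => ?_⟩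
  · rw [Nat.card_zpowers]
    exact orderOf_eq_prime (hE.2 e heE) he1
  · rw [← hE2]
    refine card_le_of_le fun x hx => hmem x ?_ (hAe.2 x hx)
    rw [← hEeq]
    exact le_centralizer_comm (sup_le (hZc.trans (center_le_centralizer _))
      (le_centralizer_comm hA)) hx

theorem isNarrow_of_cent_rank2 (hp2 : p ≠ 2) (hG : IsPGroup p G) {S : Subgroup G}
    (hS : Nat.card S = p) (hCS : PRankLE p 2 (centralizer (S : Set G))) : IsNarrow p G := by
  by_cases hr : PRankLE p 2 G
  · exact Or.inl hr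
  obtain ⟨h1, -, h3, h4⟩ := narrow_cent_dprod hp2 hG hr hS hCS
  refine Or.inr ⟨S, _, hS, h1, eq_bot_iff.2 (h3 ▸ inf_le_inf_left S inf_le_left), ?_, h4⟩
  intro a ha b hb
  exact mem_centralizer_iff.1 hb.2 a ha

/-- BG 5.4. -/
theorem isNarrow_iff_exists_cent_rank2 (hp2 : p ≠ 2) {R : Subgroup G} (hR : IsPGroup p R)
    (hr : ¬ PRankLE p 2 R) :
    IsNarrow p R ↔ ∃ S : Subgroup G, S ≤ R ∧ Nat.card S = p ∧
      PRankLE p 2 ↥(R ⊓ centralizer (S : Set G)) := by
  constructor
  · intro hn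
    obtain ⟨S, h1, h2⟩ := cent_rank2_of_narrow hn hr
    refine ⟨S.map R.subtype, map_subtype_le S, by rw [card_map_subtype, h1], ?_⟩
    rw [← map_subtype_centralizer, pRankLE_map_subtype_iff]
    exact h2
  · rintro ⟨S, h1, h2, h3⟩
    refine isNarrow_of_cent_rank2 hp2 hR (S := S.subgroupOf R)
      (by rw [card_subgroupOf_of_le h1, h2]) ?_
    rw [← pRankLE_map_subtype_iff, map_subtype_centralizer, map_subgroupOf_eq_of_le h1]
    exact h3

/-- BG 5.3: a `p`-group of rank at least 3 is narrow iff it has a maximal elementary abelian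
subgroup of order `p ^ 2`. -/
theorem isNarrow_iff_exists_p2maxElem (hp2 : p ≠ 2) {R : Subgroup G} (hR : IsPGroup p R)
    (hr : ¬ PRankLE p 2 R) :
    IsNarrow p R ↔ ∃ E : Subgroup G, E ≤ R ∧ IsElementaryAbelian p E ∧ Nat.card E = p ^ 2 ∧
      ∀ B : Subgroup G, B ≤ R → IsElementaryAbelian p B → E ≤ B → B = E := by
  constructor
  · intro hn
    obtain ⟨S, h1, h2⟩ := cent_rank2_of_narrow hn hr
    obtain ⟨h3, h4, h5⟩ := maxElem_of_cent_rank2 hR hr h1 h2
    refine ⟨_, map_subtype_le _, elemAb_map h3 R.subtype, by rw [card_map_subtype, h4], ?_⟩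
    intro B hB hBe h
    rw [← h5 (B.subgroupOf R) (elemAb_subgroupOf hBe R) (map_le_iff_le_comap.1 h),
      map_subgroupOf_eq_of_le hB]
  · rintro ⟨E, h1, h2, h3, h4⟩
    obtain ⟨S, -, h5, h6⟩ := cent_rank2_of_maxElem hp2 hR hr (elemAb_subgroupOf h2 R)
      (by rw [card_subgroupOf_of_le h1, h3]) (fun B hB h => by
        rw [← h4 (B.map R.subtype) (map_subtype_le B) (elemAb_map hB _)
          (le_map_of_sgOf_le h1 h), map_subtype_sgOf])
    exact isNarrow_of_cent_rank2 hp2 hR h5 h6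

omit [Finite G] hp in
theorem isNarrow_of_equiv {G' : Type*} [Group G'] (e : G ≃* G') (h : IsNarrow p G) :
    IsNarrow p G' := by
  rcases h with h | ⟨R₀, R₁, h0, h1, h2, h3, h4⟩
  · exact Or.inl ((pRankLE_congr e).1 h)
  refine Or.inr ⟨R₀.map (e : G →* G'), R₁.map (e : G →* G'), ?_, ?_, ?_, ?_, ?_⟩
  · rw [card_map_of_injective e.injective, h0]
  · exact (R₁.equivMapOfInjective _ e.injective).isCyclic.1 h1
  · rw [← Subgroup.map_inf _ _ _ e.injective, h2, Subgroup.map_bot]
  · rintro _ ⟨a, ha, rfl⟩ _ ⟨b, hb, rfl⟩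
    rw [← map_mul, h3 a ha b hb, map_mul]
  · rw [← Subgroup.map_sup, h4]
    ext x
    obtain ⟨y, rfl⟩ := e.surjective x
    rw [mem_centralizer_iff]
    constructor
    · rintro ⟨z, hz, hzy⟩ _ ⟨a, ha, rfl⟩
      rw [← hzy, ← map_mul, mem_centralizer_iff.1 hz a ha, map_mul]
    · intro h
      refine ⟨y, mem_centralizer_iff.2 fun a ha => e.injective ?_, rfl⟩
      rw [map_mul, map_mul]
      exact h _ ⟨a, ha, rfl⟩

omit [Finite G] hp in
theorem isNarrow_congr {G' : Type*} [Group G'] (e : G ≃* G') : IsNarrow p G ↔ IsNarrow p G' :=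
  ⟨isNarrow_of_equiv e, isNarrow_of_equiv e.symm⟩

omit [Finite G] hp in
theorem isNarrow_map_of_inf_ker_eq_bot {G' : Type*} [Group G'] (f : G →* G') {R : Subgroup G}
    (h : R ⊓ f.ker = ⊥) (hn : IsNarrow p R) : IsNarrow p (R.map f) := by
  refine isNarrow_of_equiv (MulEquiv.ofBijective (f.subgroupMap R) ⟨?_, f.subgroupMap_surjective R⟩) hn
  rw [injective_iff_map_eq_one]
  intro x hx
  have : (x : G) ∈ R ⊓ f.ker := mem_inf.2 ⟨x.2, congrArg Subtype.val hx⟩
  rw [h, mem_bot] at this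
  exact Subtype.ext this

omit [Finite G] hp in
theorem isNarrow_map_conj_iff {R : Subgroup G} (g : G) :
    IsNarrow p (R.map (MulAut.conj g).toMonoidHom) ↔ IsNarrow p R :=
  (isNarrow_congr (R.equivMapOfInjective _ (MulAut.conj g).injective)).symm

omit [Finite G] hp in
theorem isNarrow_map_subtype_iff {H : Subgroup G} {R : Subgroup H} :
    IsNarrow p (R.map H.subtype) ↔ IsNarrow p R :=
  (isNarrow_congr (R.equivMapOfInjective _ H.subtype_injective)).symm

omit [Finite G] hp in
theorem isNarrow_subgroupOf_iff {H R : Subgroup G} (h : R ≤ H) :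
    IsNarrow p (R.subgroupOf H) ↔ IsNarrow p R :=
  isNarrow_congr (subgroupOfEquivOfLe h)

end CfsgLib.FT
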