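import Mathlib
import Cfsg.Agent.Lib.FT.BG5a

/-! Bender–Glauberman, section 5: narrow `p`-groups.  Statements 5.2–5.4 are in `BG5a`. -/

set_option autoImplicit false

namespace CfsgLib.FT

open Subgroup Cfsg
open scoped commutatorElement

variable {G : Type*} [Group G] [Finite G] {p : ℕ} [hp : Fact p.Prime]

/-- Action on a section of order at most `p`. -/
theorem section_prime_act {B K L : Subgroup G} (hBK : B ≤ normalizer (K : Set G))
    (hBL : B ≤ normalizer (L : Set G)) (hKL : K ≤ normalizer (L : Set G)) (hK : IsPGroup p K)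
    (h : L.relIndex K ≤ p) :
    (∀ x ∈ ⁅B, B⁆, ∀ k ∈ K, ⁅k, x⁆ ∈ L) ∧ ∀ b ∈ B, ∀ k ∈ K, ⁅k, b ^ (p - 1)⁆ ∈ L := by
  have hn : (L.subgroupOf K).Normal := normal_subgroupOf_of_le_normalizer hKL
  have hQ : IsPGroup p (K ⧸ L.subgroupOf K) := hK.to_quotient _
  have hc : Nat.card (K ⧸ L.subgroupOf K) = 1 ∨ Nat.card (K ⧸ L.subgroupOf K) = p := by
    obtain ⟨k, hk⟩ := IsPGroup.iff_card.1 hQ
    exact PGrp.eq_one_or_eq_prime_of_le hk h
  have hcyc : IsCyclic (K ⧸ L.subgroupOf K) :=
    isCyclic_of_card_dvd_prime (p := p) (by rcases hc with h | h <;> simp [h])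
  have hd : Nat.card (MulAut (K ⧸ L.subgroupOf K)) ∣ p - 1 := by
    rw [hcyc.card_mulAut]
    rcases hc with h | h
    · simp [h]
    · rw [h, Nat.totient_prime hp.out]
  set φ := Cop.sectionAction B K L hBK hBL
  refine ⟨fun x hx => ?_, fun b hb => ?_⟩
  · have h1 : ⁅B, B⁆ ≤ φ.ker.map B.subtype := by
      have h2 : _root_.commutator B ≤ φ.ker := by
        rw [_root_.commutator_def, commutator_le]
        intro a _ b _
        rw [MonoidHom.mem_ker, map_commutatorElement, commutatorElement_eq_one_iff_mul_comm]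
        refine (hcyc.mulAutMulEquiv _).injective ?_
        rw [map_mul, map_mul, mul_comm]
      have := map_mono (f := B.subtype) h2
      rwa [_root_.commutator_def, map_commutator, ← MonoidHom.range_eq_map, range_subtype] at this
    obtain ⟨y, hy, rfl⟩ := h1 hx
    exact (Cop.mem_ker_sectionAction hBK hBL y).1 hy
  · refine (Cop.mem_ker_sectionAction hBK hBL (⟨b, hb⟩ ^ (p - 1))).1 ?_
    rw [MonoidHom.mem_ker, map_pow]
    exact orderOf_dvd_iff_pow_eq_one.1 ((_root_.orderOf_dvd_natCard _).trans hd)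

/-- A `p'`-element normalizing a narrow group of rank at least three and centralizing all
characteristic sections of order at most `p` centralizes the group. -/
theorem mem_cent_narrow_of_sections (hp2 : p ≠ 2) {R : Subgroup G} (hR : IsPGroup p R)
    (hRn : IsNarrow p R) (hr : ¬ PRankLE p 2 R) {a : G} (ha : a ∈ normalizer (R : Set G))
    (hap : (orderOf a).Coprime p)
    (h : ∀ K L : Subgroup G, K ≤ R → normalizer (R : Set G) ≤ normalizer (K : Set G) →
      normalizer (R : Set G) ≤ normalizer (L : Set G) → L.relIndex K ≤ p → ∀ k ∈ K, ⁅k, a⁆ ∈ L) :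
    a ∈ centralizer (R : Set G) := by
  have hR1 : R ≠ ⊥ := by
    rintro rfl
    exact hr (pRankLE_of_card_le (by rw [card_bot]; exact Nat.one_le_pow _ _ hp.out.pos))
  obtain ⟨H, hHR, -, hN, -, hHc, he, hf⟩ := critical_odd hp2 hR hR1
  obtain ⟨S, hSR, hS, hCS⟩ := (isNarrow_iff_exists_cent_rank2 hp2 hR hr).1 hRn
  have hSe := elemAb_of_card_eq_prime hS
  have hB : ∀ B : Subgroup G, B ≤ R → IsElementaryAbelian p B → S ≤ B → Nat.card B ≤ p ^ 2 :=
    fun B h1 hB h => pRankLE_iff.1 hCS B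
      (le_inf h1 ((elemAb_le_centralizer hB).trans (centralizer_antitone h))) hB
  have hSH : ¬ S ≤ H := by
    intro hSH
    have h1 : IsElementaryAbelian p (H ⊓ centralizer (H : Set G)) :=
      ⟨isMulCommutative_of_le_centralizer (inf_le_right.trans (centralizer_antitone inf_le_left)),
        fun x hx => he x hx.1⟩
    have h2 := elemAb_sup hSe h1 (inf_le_right.trans (centralizer_antitone hSH))
    have h3 : S ⊔ (H ⊓ centralizer (H : Set G)) ≤ H := sup_le hSH inf_le_left
    have h4 : R ≤ normalizer ((S ⊔ (H ⊓ centralizer (H : Set G)) : Subgroup G) : Set G) :=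
      le_normalizer_iff_commutator_le_left.2
        ((commutator_mono h3 le_rfl).trans (hHc.trans le_sup_right))
    by_cases h5 : S ⊔ (H ⊓ centralizer (H : Set G)) = S
    · rw [h5] at h4
      exact hr (by rwa [inf_eq_left.2 (le_centralizer_of_card_eq_prime hR h4 hS)] at hCS)
    · have h6 := PGrp.mul_card_le_card_of_lt (elemAb_isPGroup h2)
        (lt_of_le_of_ne le_sup_left (Ne.symm h5))
      rw [hS, ← sq] at h6
      obtain ⟨C, h7, h8, -, h9, h10⟩ := exists_normal_p3Elem_ge hp2 hR hr (h3.trans hHR) h4 h2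
        (le_antisymm (hB _ (h3.trans hHR) h2 le_sup_left) h6)
      have := hB C h8 h9 (le_sup_left.trans h7)
      rw [h10] at this
      exact absurd ((Nat.pow_le_pow_iff_right hp.out.one_lt).1 this) (by norm_num)
  have hD : Nat.card ↥(H ⊓ centralizer (S : Set G)) ≤ p := by
    refine card_le_of_isCyclic_of_pow_eq_one ((odd_pgroup_rank1_cyclic hp2
      (hR.to_le (inf_le_left.trans hHR))).1 (pRankLE_iff.2 fun A hA hAe => ?_))
      fun x hx => he x hx.1
    have h1 := elemAb_sup hSe hAe (hA.trans inf_le_right)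
    have h2 := hB _ (sup_le hSR (hA.trans (inf_le_left.trans hHR))) h1 le_sup_left
    rw [card_sup_of_disjoint ((le_centralizer_comm (hA.trans inf_le_right)).trans
      (centralizer_le_normalizer _)) (inf_eq_bot_of_card_eq_prime hS
        fun h => hSH (h.trans (hA.trans inf_le_left))), hS, sq] at h2
    rw [pow_one]
    exact Nat.le_of_mul_le_mul_left h2 hp.out.pos
  obtain ⟨s, hs⟩ := (Subgroup.isCyclic_iff_exists_zpowers_eq_top S).1
    (isCyclic_of_card_le_prime (hR.to_le hSR) hS.le)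
  have key : ∀ n, ∀ K : Subgroup G, Nat.card K = n → K ≤ H →
      normalizer (R : Set G) ≤ normalizer (K : Set G) → ⁅K, zpowers a⁆ = ⊥ := by
    intro n
    induction n using Nat.strong_induction_on with
    | _ n ih =>
      intro K hn hKH hK
      by_cases hK1 : K = ⊥
      · simp [hK1]
      have hlt := commutator_lt_of_isPGroup hR (hKH.trans hHR) (le_normalizer.trans hK) hK1
      have hL : normalizer (R : Set G) ≤ normalizer ((⁅K, R⁆ : Subgroup G) : Set G) :=
        Cop.le_normalizer_commutator hK le_rfl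
      have h1 := ih _ (hn ▸ card_lt_card_of_lt hlt) ⁅K, R⁆ rfl (hlt.le.trans hKH) hL
      have h2 : (⁅K, R⁆ : Subgroup G).relIndex K ≤ p := by
        have h3 : (centralizer ({s} : Set G)).relIndex K ≤ Nat.card ↥⁅K, R⁆ :=
          PGrp.relIndex_centralizer_le_card fun g hg => by
            rw [← commutatorElement_inv]
            exact inv_mem (commutator_mem_commutator hg (hSR (hs ▸ mem_zpowers s)))
        have h4 : Nat.card ↥(centralizer ({s} : Set G) ⊓ K) ≤ p := by
          refine le_trans (card_le_of_le fun x hx => mem_inf.2 ⟨hKH hx.2, ?_⟩) hD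
          rw [← hs]
          refine le_centralizer_comm (A := zpowers s) (B := centralizer ({s} : Set G)) ?_ hx.1
          rw [zpowers_le, mem_centralizer_iff]
          intro y hy
          exact (mem_centralizer_iff.1 hy s rfl).symm
        have h5 := card_inf_mul_relIndex (centralizer ({s} : Set G)) K
        rw [← card_mul_relIndex hlt.le] at h5
        refine Nat.le_of_mul_le_mul_left (c := Nat.card ↥⁅K, R⁆) ?_ Nat.card_pos
        rw [← h5, mul_comm _ p]
        exact Nat.mul_le_mul h4 h3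
      refine Cop.commutator_eq_bot_of_le_of_centralizes ?_ h1 ?_
      · rw [zpowers_eq_closure]
        refine CommCalc.commutator_closure_right_le (by rintro _ rfl; exact hL ha) ?_
        rintro t ht _ rfl
        exact h K _ (hKH.trans hHR) hK hL h2 t ht
      · exact Cop.coprime_card_of_isPGroup (by rwa [Nat.card_zpowers])
          (hR.to_le (hlt.le.trans (hKH.trans hHR)))
  exact hf a ha hap (Cop.commutator_eq_bot_iff_le_centralizer'.1 (key _ H rfl le_rfl hN)
    (mem_zpowers a))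

/-- BG 5.5(a) without faithfulness: elements of `[A, A]` of order prime to `p` centralize `R`. -/
theorem der1_cent_narrow (hp2 : p ≠ 2) {R A : Subgroup G} (hR : IsPGroup p R) (hRn : IsNarrow p R)
    (hA : A ≤ normalizer (R : Set G)) (hAs : Group.IsSolvable A) (hAodd : Odd (Nat.card A))
    {x : G} (hx : x ∈ ⁅A, A⁆) (hxp : (orderOf x).Coprime p) : x ∈ centralizer (R : Set G) := by
  by_cases hr : PRankLE p 2 R
  · exact der1_cent_rank2_pgroup hp2 hR hr hA hAs hAodd hx hxp
  exact mem_cent_narrow_of_sections hp2 hR hRn hr (hA (commutator_le_self A hx)) hxp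
    fun K L h1 h2 h3 h4 => (section_prime_act (hA.trans h2) (hA.trans h3)
      (h1.trans (le_normalizer.trans h3)) (hR.to_le h1) h4).1 x hx

theorem pow_mem_cent_narrow' (hp2 : p ≠ 2) {R : Subgroup G} (hR : IsPGroup p R)
    (hRn : IsNarrow p R) (hr : ¬ PRankLE p 2 R) {a : G} (ha : a ∈ normalizer (R : Set G))
    (hap : (orderOf a).Coprime p) : a ^ (p - 1) ∈ centralizer (R : Set G) :=
  mem_cent_narrow_of_sections hp2 hR hRn hr (pow_mem ha _)
    (hap.coprime_dvd_left (orderOf_pow_dvd _))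
    fun _ _ h1 h2 h3 h4 => (section_prime_act h2 h3
      (h1.trans (le_normalizer.trans h3)) (hR.to_le h1) h4).2 a ha

/-- BG 5.5(b) without faithfulness. -/
theorem pow_mem_cent_narrow (hp2 : p ≠ 2) {R : Subgroup G} (hR : IsPGroup p R)
    (hRn : IsNarrow p R) (hr : ¬ PRankLE p 2 R) {a : G} (ha : a ∈ normalizer (R : Set G))
    (hodd : Odd (orderOf a)) (hap : (orderOf a).Coprime p) :
    a ^ (p - 1) ∈ centralizer (R : Set G) :=
  pow_mem_cent_narrow' hp2 hR hRn hr ha hap

theorem prime_dvd_pred_of_narrow (hp2 : p ≠ 2) {R A : Subgroup G} (hR : IsPGroup p R)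
    (hRn : IsNarrow p R) (hr : ¬ PRankLE p 2 R) (hA : A ≤ normalizer (R : Set G)) {q : ℕ}
    (hq : q.Prime) (hqp : q ≠ p) (hd : q ∣ (centralizer (R : Set G)).relIndex A) : q ∣ p - 1 := by
  have := Fact.mk hq
  obtain ⟨Q, hQ⟩ := IsSylowIn.exists_in (p := q) A
  have h1 : ¬ Q ≤ centralizer (R : Set G) := fun h =>
    hQ.not_dvd (hd.trans (relIndex_dvd_of_le_left A h))
  obtain ⟨a, haQ, ha⟩ := SetLike.not_le_iff_exists.1 h1
  obtain ⟨k, hk⟩ := orderOf_eq_pow_of_mem_isPGroup hQ.isPGroup haQ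
  by_contra h
  have h2 := pow_mem_cent_narrow' hp2 hR hRn hr (hA (hQ.le haQ))
    (hk ▸ ((Nat.coprime_primes hq hp.out).2 hqp).pow_left k)
  obtain ⟨m, hm⟩ := exists_pow_eq_self_of_coprime (x := a) (n := p - 1)
    (hk ▸ ((hq.coprime_iff_not_dvd.2 h).pow_left k).symm)
  exact ha (hm ▸ pow_mem h2 m)

theorem prime_lt_of_narrow (hp2 : p ≠ 2) {R A : Subgroup G} (hR : IsPGroup p R)
    (hRn : IsNarrow p R) (hA : A ≤ normalizer (R : Set G)) {q : ℕ}
    (hq : q.Prime) (hqp : q ≠ p) (hd : q ∣ (centralizer (R : Set G)).relIndex A) : q < p := by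
  by_cases hr : PRankLE p 2 R
  · exact (pi_norm_cent_rank2_pgroup hp2 hR hr hA hq hqp hd).2.1
  have := hp.out.two_le
  have := Nat.le_of_dvd (by omega) (prime_dvd_pred_of_narrow hp2 hR hRn hr hA hq hqp hd)
  omega

/-- BG 5.5(c) without faithfulness. -/
theorem prime_act_narrow (hp2 : p ≠ 2) {R A : Subgroup G} (hR : IsPGroup p R) (hRn : IsNarrow p R)
    (hA : A ≤ normalizer (R : Set G)) (hq : (Nat.card A).Prime) (hAodd : Odd (Nat.card A))
    (hc : ¬ A ≤ centralizer (R : Set G)) (hd : ¬ Nat.card A ∣ p * (p - 1)) :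
    2 * Nat.card A ∣ p + 1 ∧ (⁅R, A⁆ = R → ¬ IsMulCommutative R → Nat.card R = p ^ 3) := by
  have hqp : Nat.card A ≠ p := fun h => hd (h ▸ dvd_mul_right _ _)
  have hd' : ¬ Nat.card A ∣ p - 1 := fun h => hd (h.mul_left p)
  have hrel : ∀ X : Subgroup G, ¬ A ≤ X → X.relIndex A = Nat.card A := fun X hX =>
    ((Nat.dvd_prime hq).1 (relIndex_dvd_card X A)).resolve_left fun h => hX (relIndex_eq_one.1 h)
  have hcop : (Nat.card A).Coprime p := (Nat.coprime_primes hq hp.out).2 hqp
  have hr : PRankLE p 2 R := by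
    by_contra hr
    exact hd' (prime_dvd_pred_of_narrow hp2 hR hRn hr hA hq hqp (hrel _ hc).symm.dvd)
  obtain ⟨m, hm⟩ := hp.out.odd_of_ne_two hp2
  refine ⟨?_, fun hRA hna => ?_⟩
  · rcases (pi_norm_cent_rank2_pgroup hp2 hR hr hA hq hqp (hrel _ hc).symm.dvd).2.2 with h | h
    · rw [show p + 1 = 2 * ((p + 1) / 2) by omega]
      exact Nat.mul_dvd_mul_left 2 h
    · exact absurd (h.trans ⟨2, by omega⟩) hd'
  have hR1 : R ≠ ⊥ := by
    rintro rfl
    exact hna inferInstance
  obtain ⟨R₁, R₂, h1, h2, h3, h4, -, h6, h7⟩ :=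
    (rank2_coprime_comm_cprod hp2 hR hR1 hr hA hcop hAodd hRA).2.resolve_left hna
  have hc21 : R₂ ≤ centralizer (R₁ : Set G) := fun b hb =>
    mem_centralizer_iff.2 fun a ha => h2 a ha b hb
  have hc22 : R₂ ≤ centralizer (R₂ : Set G) := le_centralizer_of_isMulCommutative inferInstance
  have hc2 : R₂ ≤ centralizer (R : Set G) := h1 ▸ le_centralizer_comm
    (sup_le (le_centralizer_comm hc21) hc22)
  have hZ : R ⊓ centralizer (R : Set G) = R₂ := by
    refine le_antisymm (fun x hx => ?_) (le_inf (h1 ▸ le_sup_right) hc2)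
    obtain ⟨a, ha, b, hb, rfl⟩ := (mem_sup_iff_of_le_normalizer
      ((le_centralizer_comm hc21).trans (centralizer_le_normalizer _))).1 (h1.ge hx.1)
    refine mul_mem ?_ hb
    have h8 : a ∈ ⁅R₁, R₁⁆ := by
      rw [extraspecial_commutator_eq (isExtraspecial_of_card_eq_cube h4 h3)]
      exact mem_inf.2 ⟨ha, centralizer_antitone (h1 ▸ le_sup_left)
        ((mul_mem_cancel_right (hc2 hb)).1 hx.2)⟩
    rw [← h7] at h8
    exact (closure_le _).2 (fun y hy => hy.1) h8
  have hA2 : A ≤ centralizer (R₂ : Set G) := by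
    by_contra h
    have hR2 : R₂ ≠ ⊥ := by
      rintro rfl
      exact h fun a _ => mem_centralizer_iff.2 (by simp)
    obtain ⟨k, hk, hk'⟩ := (hR.to_le (h1 ▸ le_sup_right : R₂ ≤ R)).nontrivial_iff_card.1
      ((nontrivial_iff_ne_bot R₂).2 hR2)
    obtain ⟨n, rfl⟩ := Nat.exists_eq_succ_of_ne_zero hk.ne'
    have h8 := relIndex_cent_cyclic_pgroup_dvd (hZ ▸ Cop.le_normalizer_inf_centralizer hA hA) h6 hk'
    rw [hrel _ h] at h8
    exact hd' ((hcop.pow_right n).dvd_of_dvd_mul_left h8)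
  have h9 : R₂ ≤ R₁ := by
    refine (le_inf (h1 ▸ le_sup_right) (le_centralizer_comm hA2)).trans
      ((Cop.inf_centralizer_le_commutator_of_eq hA (Cop.coprime_card_of_isPGroup hcop hR)
        hRA).trans ?_)
    rw [← h1]
    refine (commutator_sup_self_le (hc21.trans (centralizer_le_normalizer _))).trans
      (sup_le le_rfl ?_)
    rw [commutator_eq_bot_iff_le_centralizer.2 hc22]
    exact bot_le
  rw [← h1, sup_eq_left.2 h9, h4]

/-- BG 5.5. -/
theorem Aut_narrow (hp2 : p ≠ 2) {R A : Subgroup G} (hR : IsPGroup p R) (hRn : IsNarrow p R)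
    (hA : A ≤ normalizer (R : Set G)) (hAs : Group.IsSolvable A) (hAodd : Odd (Nat.card A))
    (hfaith : A ⊓ centralizer (R : Set G) = ⊥) :
    (_root_.commutator ↥A ≤ pCore p ↥A ∧ ((pCore p ↥A).index).Coprime p) ∧
      (¬ PRankLE p 2 R → ∀ a ∈ A, (orderOf a).Coprime p → orderOf a ∣ p - 1) ∧
      ((Nat.card A).Prime → ¬ Nat.card A ∣ p * (p - 1) →
        2 * Nat.card A ∣ p + 1 ∧ (⁅R, A⁆ = R → ¬ IsMulCommutative R → Nat.card R = p ^ 3)) := by
  have h1 : _root_.commutator ↥A ≤ pCore p ↥A := by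
    refine le_pCore (H5.isPGroup_of_forall_coprime fun x hx hxp => Subtype.ext (mem_bot.1
      (hfaith.le (mem_inf.2 ⟨x.2, der1_cent_narrow hp2 hR hRn hA hAs hAodd ?_
        (by rwa [orderOf_coe])⟩))))
    have := mem_map_of_mem A.subtype hx
    rwa [_root_.commutator_def, map_commutator, ← MonoidHom.range_eq_map, range_subtype] at this
  refine ⟨⟨h1, ?_⟩, fun hr a ha hap => orderOf_dvd_of_pow_eq_one (mem_bot.1 (hfaith.le
    (mem_inf.2 ⟨pow_mem ha _, pow_mem_cent_narrow' hp2 hR hRn hr (hA ha) hap⟩))),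
    fun hq => prime_act_narrow hp2 hR hRn hA hq hAodd fun h => ?_⟩
  · obtain ⟨P⟩ : Nonempty (Sylow p A) := inferInstance
    have := normal_of_commutator_le (h1.trans (pCore_le_sylow P))
    rw [← sylow_eq_pCore_of_normal P]
    exact (hp.out.coprime_iff_not_dvd.2 P.not_dvd_index).symm
  · rw [inf_eq_left.2 h] at hfaith
    rw [hfaith, card_bot] at hq
    exact Nat.not_prime_one hq

/-- BG 5.6. -/
theorem narrow_der1_complement_max_pdiv [Group.IsSolvable G] (hodd : Odd (Nat.card G))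
    (hpG : p ∣ Nat.card G) (S : Sylow p G) (hS : IsNarrow p ↥(S : Subgroup G))
    (hpl : ¬ PRankLE p 2 ↥(S : Subgroup G) → PLengthLE p 1 G) :
    (∀ q : ℕ, q.Prime → q ∣ (pPrimeCore p G).index → q ≤ p) ∧
      ((p = 3 ∨ ∀ q : ℕ, q.Prime → q ∣ Nat.card G → p ≤ q) → HasNormalPComplement p G) ∧
      HasNormalPComplement p ↥(_root_.commutator G) ∧
      (∀ L : Subgroup ↥(_root_.commutator G), (Nat.card L).Coprime p →
        L ≤ pPrimeCore p ↥(_root_.commutator G)) ∧
      _root_.commutator G ≤ pPrimePCore p G ∧ ((pPrimePCore p G).index).Coprime p := by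
  by_cases hr : PRankLE p 2 ↥(S : Subgroup G)
  · exact rank2_der1_complement hodd hpG ((pRankLE_iff_sylow S).2 hr)
  have hp2 := ne_two_of_dvd_odd hodd hpG
  have h1 : IsNarrow p (pCore p (G ⧸ pPrimeCore p G)) := by
    rw [← map_eq_pCore_of_isSylowIn
      (IsSylowIn.of_sylow S (le_pPrimePCore_of_plength1 (hpl hr) S.isPGroup'))]
    refine isNarrow_map_of_inf_ker_eq_bot _ ?_ hS
    rw [QuotientGroup.ker_mk']
    exact disjoint_iff.1 (H5.disjoint_of_isPGroup_of_coprime S.isPGroup' (pPrimeCore_coprime p))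
  refine der1_complement_of_cent hodd (fun x hx hxp => der1_cent_narrow hp2 (A := ⊤)
    (pCore_isPGroup p) h1 le_normalizer_of_normal inferInstance ?_ hx hxp) fun q hq hqp hd =>
    prime_lt_of_narrow hp2 (A := ⊤) (pCore_isPGroup p) h1 le_normalizer_of_normal hq hqp
      (by rwa [relIndex_top_right])
  rw [card_top]
  exact Odd.of_dvd_nat hodd (card_quotient_dvd_card _)

omit hp in
theorem exists_maxElem_ge {R E : Subgroup G} (hER : E ≤ R) (hE : IsElementaryAbelian p E) :
    ∃ F : Subgroup G, E ≤ F ∧ F ≤ R ∧ IsElementaryAbelian p F ∧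
      ∀ B : Subgroup G, B ≤ R → IsElementaryAbelian p B → F ≤ B → B = F := by
  obtain ⟨F, h1, h2⟩ := Finite.exists_le_maximal
    (p := fun B : Subgroup G => B ≤ R ∧ IsElementaryAbelian p B) ⟨hER, hE⟩
  exact ⟨F, h1, h2.1.1, h2.1.2, fun B h3 h4 h5 => le_antisymm (h2.2 ⟨h3, h4⟩ h5) h5⟩

theorem isNarrow_of_cent_elemAb_rank2 (hp2 : p ≠ 2) {R E : Subgroup G} (hR : IsPGroup p R)
    (hER : E ≤ R) (hE : IsElementaryAbelian p E)
    (h : PRankLE p 2 ↥(R ⊓ centralizer (E : Set G))) : IsNarrow p R := by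
  by_cases hr : PRankLE p 2 R
  · exact Or.inl hr
  obtain ⟨F, h1, h2, h3, h4⟩ := exists_maxElem_ge hER hE
  refine (isNarrow_iff_exists_p2maxElem hp2 hR hr).2 ⟨F, h2, h3, le_antisymm (pRankLE_iff.1 h F
    (le_inf h2 ((elemAb_le_centralizer h3).trans (centralizer_antitone h1))) h3) ?_, h4⟩
  refine pow_succ_le_card_of_lt (k := 1) (elemAb_isPGroup h3) (not_le.1 fun h5 => hr ?_)
  have hR1 : R ≠ ⊥ := by
    rintro rfl
    exact hr (pRankLE_of_card_le (by rw [card_bot]; exact Nat.one_le_pow _ _ hp.out.pos))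
  have h6 : omegaOne p (R ⊓ centralizer (R : Set G)) ≠ ⊥ := by
    obtain ⟨k, hk, hk'⟩ := (hR.to_le (inf_le_left : R ⊓ centralizer (R : Set G) ≤ R)).nontrivial_iff_card.1
      ((nontrivial_iff_ne_bot _).2 (inf_centralizer_ne_bot_of_isNilpotent
        (isNilpotent_of_isPGroup hR) le_rfl le_normalizer hR1))
    exact omegaOne_ne_bot (hk' ▸ dvd_pow_self p hk.ne')
  have h7 : omegaOne p (R ⊓ centralizer (R : Set G)) ≤ F := omegaOne_le_iff.2 fun x hx hxp =>
    mem_of_maxElem h2 h3 h4 hx.1 (centralizer_antitone h2 hx.2) hxp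
  have h8 : Nat.card F = p := by
    obtain ⟨k, hk⟩ := IsPGroup.iff_card.1 (elemAb_isPGroup h3)
    rw [pow_one] at h5
    exact (PGrp.eq_one_or_eq_prime_of_le hk h5).resolve_left fun h =>
      h6 (eq_bot_iff.2 (card_eq_one.1 h ▸ h7))
  have h9 : R ≤ centralizer (F : Set G) := by
    rw [← eq_of_le_of_card_eq_prime h8 h7 h6]
    exact le_centralizer_comm ((PGrp.omegaOne_le _).trans inf_le_right)
  refine pRankLE_iff.2 fun A hA hAe => (card_le_of_le fun x hx =>
    mem_of_maxElem h2 h3 h4 (hA hx) (h9 (hA hx)) (hAe.2 x hx)).trans ?_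
  rw [h8]
  exact Nat.le_self_pow (by norm_num) p

/-- BG 5.7. -/
theorem rank2_cent_Fitting_der1 [Group.IsSolvable G] (hodd : Odd (Nat.card G)) {E : Subgroup G}
    (hE : E ≤ fittingSubgroup G) (hEe : IsElementaryAbelian p E)
    (hr : RankLE 2 ↥(fittingSubgroup G ⊓ centralizer (E : Set G))) :
    _root_.commutator G ≤ fittingSubgroup G := fun _ hx =>
  chief_stab_sub_Fitting_top fun U V hUV hU _ hu => by
    obtain ⟨q, hq, k, hk⟩ := exists_relIndex_eq_pow_of_isChiefFactor hUV inferInstance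
    have := Fact.mk hq
    have hq2 : q ≠ 2 := ne_two_of_dvd_odd hodd (((dvd_pow_self q fun h => hUV.1.not_ge
      (relIndex_eq_one.1 (by rw [hk, h, pow_zero]))).trans (hk ▸ relIndex_dvd_card V U)).trans
        (card_subgroup_dvd_card U))
    have hEp := le_pCore_of_le_fitting hE (elemAb_isPGroup hEe)
    have hn : IsNarrow q (pCore q G) := by
      by_cases hqp : q = p
      · subst hqp
        exact isNarrow_of_cent_elemAb_rank2 hq2 (pCore_isPGroup q) hEp hEe
          (pRankLE_mono (hr q hq) (inf_le_inf_right _ (pCore_le_fitting q)))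
      · refine Or.inl (pRankLE_mono (hr q hq) (le_inf (pCore_le_fitting q) fun y hy =>
          mem_centralizer_iff.2 fun e he => ?_))
        obtain ⟨a, ha⟩ := orderOf_eq_pow_of_mem_isPGroup (pCore_isPGroup q) hy
        obtain ⟨b, hb⟩ := orderOf_eq_pow_of_mem_isPGroup (elemAb_isPGroup hEe) he
        exact (commute_of_coprime_of_mem_isNilpotent fitting_isNilpotent (pCore_le_fitting q hy)
          (hE he) (by rw [ha, hb]; exact Nat.coprime_pow_primes a b hq hp.out hqp)).symm
    obtain ⟨Q, hQ⟩ := IsSylowIn.exists_in (p := q) U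
    have := hUV.2.1
    refine commutator_le_of_chief_of_cent hUV (R := pCore q G ⊓ U) (N := ⊤)
      ((pCore_isPGroup q).to_le inf_le_left) (le_antisymm (sup_le hUV.1.le inf_le_right)
        ((hQ.sup_eq_of_relIndex_eq_pow hUV.1.le hk).ge.trans (sup_le_sup_left
          (le_inf (le_pCore_of_le_fitting (hQ.le.trans hU) hQ.isPGroup) hQ.le) V)))
      le_normalizer_of_normal (sup_top_eq V) (fun y hy hyq r hr' => ?_)
      (commutator_mem_commutator hu hx)
    rw [Commute.commutator_eq (mem_centralizer_iff.1 (der1_cent_narrow hq2 (pCore_isPGroup q) hn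
      le_normalizer_of_normal inferInstance (by rwa [card_top]) hy hyq) r hr'.1).symm]
    exact one_mem V

end CfsgLib.FT
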