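import Mathlib
import Cfsg.Agent.Lib.FT.BG1
import Cfsg.Agent.Lib.H9Stable

/-! Bender–Glauberman, appendices A (`p`-stability) and B (the Puig subgroup). -/

set_option autoImplicit false

namespace CfsgLib.FT

open Subgroup Cfsg
open scoped commutatorElement

variable {G : Type*} [Group G]

/-- The Puig subgroup `L(S)` of a subgroup `S`, as a subgroup of `G`. -/
def puigOf (S : Subgroup G) : Subgroup G := (puigSubgroup S).map S.subtype

/-- `L_*(S)` of a subgroup `S`, as a subgroup of `G`. -/
def puigLowerOf (S : Subgroup G) : Subgroup G := (puigLower S).map S.subtype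

/-- `Z(L(S))`, as a subgroup of `G`. -/
def centerPuigOf (S : Subgroup G) : Subgroup G := puigOf S ⊓ centralizer (puigOf S : Set G)

/-- One Puig step inside `S`. -/
def puigStepIn (S X : Subgroup G) : Subgroup G :=
  sSup {A : Subgroup G | A ≤ S ∧ IsMulCommutative A ∧ X ≤ normalizer (A : Set G)}

/-- The Puig series of `S`, as subgroups of `G`. -/
def puigSeqOf (S : Subgroup G) (n : ℕ) : Subgroup G := (puigSeq S n).map S.subtype

theorem puigStepIn_le (S X : Subgroup G) : puigStepIn S X ≤ S := sSup_le fun _ h => h.1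

theorem le_puigStepIn {S X A : Subgroup G} (h1 : A ≤ S) (h2 : IsMulCommutative A)
    (h3 : X ≤ normalizer (A : Set G)) : A ≤ puigStepIn S X := le_sSup ⟨h1, h2, h3⟩

theorem puigStepIn_mono {S T X Y : Subgroup G} (h1 : S ≤ T) (h2 : Y ≤ X) :
    puigStepIn S X ≤ puigStepIn T Y :=
  sSup_le_sSup fun _ h => ⟨h.1.trans h1, h.2.1, h2.trans h.2.2⟩

theorem map_puigStep_le {G' : Type*} [Group G'] (f : G →* G') (X : Subgroup G) :
    (puigStep X).map f ≤ puigStep (X.map f) :=
  map_le_iff_le_comap.2 (sSup_le fun _ h => map_le_iff_le_comap.1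
    (le_sSup ⟨isMulCommutative_map' h.1 f, map_le_normalizer_map h.2 f⟩))

theorem map_puigStep_equiv {G' : Type*} [Group G'] (e : G ≃* G') (X : Subgroup G) :
    (puigStep X).map (e : G →* G') = puigStep (X.map (e : G →* G')) := by
  refine le_antisymm (map_puigStep_le _ X) ?_
  have := map_puigStep_le (e.symm : G' →* G) (X.map (e : G →* G'))
  rw [map_map, MulEquiv.coe_monoidHom_symm_comp_coe_monoidHom, Subgroup.map_id] at this
  have h := map_mono (f := (e : G →* G')) this
  rwa [map_map, MulEquiv.coe_monoidHom_comp_coe_monoidHom_symm, Subgroup.map_id] at h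

theorem map_puigSeq_equiv {G' : Type*} [Group G'] (e : G ≃* G') (n : ℕ) :
    (puigSeq G n).map (e : G →* G') = puigSeq G' n := by
  induction n with
  | zero => exact Subgroup.map_bot _
  | succ n ih => rw [puigSeq, puigSeq, map_puigStep_equiv, ih]

theorem map_puigSubgroup_equiv {G' : Type*} [Group G'] (e : G ≃* G') :
    (puigSubgroup G).map (e : G →* G') = puigSubgroup G' := by
  simp only [puigSubgroup, Subgroup.map_iInf (e : G →* G') e.injective, map_puigSeq_equiv]

theorem map_puigLower_equiv {G' : Type*} [Group G'] (e : G ≃* G') :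
    (puigLower G).map (e : G →* G') = puigLower G' := by
  simp only [puigLower, Subgroup.map_iSup, map_puigSeq_equiv]

theorem puigSeq_characteristic (n : ℕ) : (puigSeq G n).Characteristic :=
  characteristic_iff_map_eq.2 fun φ => map_puigSeq_equiv φ n

theorem map_subtype_puigStep (S : Subgroup G) (X : Subgroup S) :
    (puigStep X).map S.subtype = puigStepIn S (X.map S.subtype) := by
  refine le_antisymm (map_le_iff_le_comap.2 (sSup_le fun A h => map_le_iff_le_comap.1
    (le_puigStepIn (map_subtype_le _) (isMulCommutative_map' h.1 _)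
      (map_le_normalizer_map h.2 _)))) (sSup_le fun A h => le_map_of_sgOf_le h.1 (le_sSup
        ⟨isMulCommutative_sgOf h.2.1 S, ?_⟩))
  have := sgOf_le_normalizer h.2.2 S
  rwa [map_subtype_sgOf] at this

theorem puigSeqOf_zero (S : Subgroup G) : puigSeqOf S 0 = ⊥ := Subgroup.map_bot _

theorem puigSeqOf_succ (S : Subgroup G) (n : ℕ) :
    puigSeqOf S (n + 1) = puigStepIn S (puigSeqOf S n) := map_subtype_puigStep S _

theorem puigSeqOf_le (S : Subgroup G) (n : ℕ) : puigSeqOf S n ≤ S := map_subtype_le _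

theorem puigSeqOf_one (S : Subgroup G) : puigSeqOf S 1 = S := by
  refine le_antisymm (puigSeqOf_le S 1) fun x hx => ?_
  rw [puigSeqOf_succ, puigSeqOf_zero]
  exact le_puigStepIn (zpowers_le.2 hx) inferInstance bot_le (mem_zpowers x)

theorem normalizer_le_normalizer_puigSeqOf (S : Subgroup G) (n : ℕ) :
    normalizer (S : Set G) ≤ normalizer (puigSeqOf S n : Set G) :=
  haveI := puigSeq_characteristic (G := S) n
  normalizer_le_normalizer_map_subtype_of_characteristic S _

theorem puigOf_eq_iInf (S : Subgroup G) : puigOf S = ⨅ n, puigSeqOf S (2 * n + 1) :=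
  map_iInf _ S.subtype_injective _

theorem puigLowerOf_eq_iSup (S : Subgroup G) : puigLowerOf S = ⨆ n, puigSeqOf S (2 * n) :=
  Subgroup.map_iSup _ _

theorem puigSeqOf_even_le (S : Subgroup G) (n m : ℕ) :
    puigSeqOf S (2 * n) ≤ puigSeqOf S (2 * n + m) := by
  induction n generalizing m with
  | zero => rw [mul_zero, puigSeqOf_zero]; exact bot_le
  | succ n ih =>
    rw [show 2 * (n + 1) + m = 2 * n + m + 1 + 1 by ring, show 2 * (n + 1) = 2 * n + 1 + 1 by ring,
      puigSeqOf_succ, puigSeqOf_succ, puigSeqOf_succ, puigSeqOf_succ]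
    exact puigStepIn_mono le_rfl (puigStepIn_mono le_rfl (ih m))

theorem puigSeqOf_le_odd (S : Subgroup G) (n m : ℕ) :
    puigSeqOf S (2 * n + 1 + m) ≤ puigSeqOf S (2 * n + 1) := by
  rw [show 2 * n + 1 + m = 2 * n + m + 1 by ring, puigSeqOf_succ, puigSeqOf_succ]
  exact puigStepIn_mono le_rfl (puigSeqOf_even_le S n m)

theorem puigSeqOf_even_mono (S : Subgroup G) : Monotone fun n => puigSeqOf S (2 * n) :=
  monotone_nat_of_le_succ fun n => puigSeqOf_even_le S n 2

theorem puigSeqOf_odd_anti (S : Subgroup G) : Antitone fun n => puigSeqOf S (2 * n + 1) :=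
  antitone_nat_of_succ_le fun n => puigSeqOf_le_odd S n 2

theorem puigSeqOf_even_le_odd (S : Subgroup G) (n m : ℕ) :
    puigSeqOf S (2 * n) ≤ puigSeqOf S (2 * m + 1) :=
  ((puigSeqOf_even_mono S (Nat.le_add_right n m)).trans (puigSeqOf_even_le S (n + m) 1)).trans
    (puigSeqOf_odd_anti S (Nat.le_add_left m n))

theorem exists_puigSeqOf_stable [Finite G] (S : Subgroup G) :
    ∃ k, ∀ n, k ≤ n → puigSeqOf S (2 * n) = puigLowerOf S ∧ puigSeqOf S (2 * n + 1) = puigOf S := by
  obtain ⟨k, hk⟩ := WellFoundedGT.monotone_chain_condition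
    (⟨_, puigSeqOf_even_mono S⟩ : ℕ →o Subgroup G)
  have h1 : ∀ n, k ≤ n → puigSeqOf S (2 * n) = puigSeqOf S (2 * k) := fun n hn => (hk n hn).symm
  have h2 : ∀ n, k ≤ n → puigSeqOf S (2 * n + 1) = puigSeqOf S (2 * k + 1) := fun n hn => by
    rw [puigSeqOf_succ, puigSeqOf_succ, h1 n hn]
  refine ⟨k, fun n hn => ⟨?_, ?_⟩⟩
  · rw [puigLowerOf_eq_iSup]
    refine le_antisymm (le_iSup (fun n => puigSeqOf S (2 * n)) n) (iSup_le fun m => ?_)
    rw [h1 n hn, ← h1 (m + k) (Nat.le_add_left k m)]
    exact puigSeqOf_even_mono S (Nat.le_add_right m k)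
  · rw [puigOf_eq_iInf]
    refine le_antisymm (le_iInf fun m => ?_) (iInf_le (fun n => puigSeqOf S (2 * n + 1)) n)
    rw [h2 n hn, ← h2 (m + k) (Nat.le_add_left k m)]
    exact puigSeqOf_odd_anti S (Nat.le_add_right m k)

theorem puigStepIn_puigLowerOf [Finite G] (S : Subgroup G) :
    puigStepIn S (puigLowerOf S) = puigOf S := by
  obtain ⟨k, hk⟩ := exists_puigSeqOf_stable S
  rw [← (hk k le_rfl).1, ← puigSeqOf_succ, (hk k le_rfl).2]

theorem puigStepIn_puigOf [Finite G] (S : Subgroup G) :
    puigStepIn S (puigOf S) = puigLowerOf S := by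
  obtain ⟨k, hk⟩ := exists_puigSeqOf_stable S
  rw [← (hk k le_rfl).2, ← puigSeqOf_succ, ← (hk (k + 1) k.le_succ).1]
  rfl

theorem puigOf_le (S : Subgroup G) : puigOf S ≤ S := map_subtype_le _

theorem puigLowerOf_le (S : Subgroup G) : puigLowerOf S ≤ S := map_subtype_le _

theorem centerPuigOf_le (S : Subgroup G) : centerPuigOf S ≤ S := inf_le_left.trans (puigOf_le S)

theorem centerPuigOf_isMulCommutative (S : Subgroup G) : IsMulCommutative (centerPuigOf S) := by
  exact le_centralizer_iff_isMulCommutative.1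
    (inf_le_right.trans (centralizer_le (inf_le_left : centerPuigOf S ≤ puigOf S)))

theorem centerPuigOf_eq_map (S : Subgroup G) :
    centerPuigOf S = ((center ↥(puigSubgroup S)).map (puigSubgroup S).subtype).map S.subtype := by
  rw [Cop.map_subtype_center, map_inf _ _ _ S.subtype_injective, centerPuigOf, puigOf]
  ext x
  simp only [mem_inf]
  refine and_congr_right ?_
  rintro ⟨y, hy, rfl⟩
  rw [mem_map_iff_mem S.subtype_injective]
  exact ⟨fun h z hz => Subtype.ext (h z ⟨z, hz, rfl⟩), fun h _ ⟨z, hz, hz'⟩ =>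
    hz' ▸ congrArg Subtype.val (h z hz)⟩

theorem puigSubgroup_characteristic : (puigSubgroup G).Characteristic := by
  exact characteristic_iff_map_eq.2 fun φ => map_puigSubgroup_equiv φ

theorem puigLower_characteristic : (puigLower G).Characteristic := by
  exact characteristic_iff_map_eq.2 fun φ => map_puigLower_equiv φ

theorem exists_equiv_map_of_inf_ker {G' : Type*} [Group G'] (f : G →* G') (S : Subgroup G)
    (hf : S ⊓ f.ker = ⊥) : ∃ e : S ≃* S.map f,
      (S.map f).subtype.comp (e : S →* S.map f) = f.comp S.subtype := by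
  have hinj : Function.Injective (f.subgroupMap S) := by
    rw [← MonoidHom.ker_eq_bot_iff, eq_bot_iff]
    intro x hx
    have : f x = 1 := congrArg Subtype.val hx
    exact Subtype.ext (mem_bot.1 (hf ▸ ⟨x.2, this⟩))
  exact ⟨MulEquiv.ofBijective (f.subgroupMap S) ⟨hinj, f.subgroupMap_surjective S⟩, rfl⟩

theorem puigOf_map {G' : Type*} [Group G'] (f : G →* G') (S : Subgroup G)
    (hf : S ⊓ f.ker = ⊥) : puigOf (S.map f) = (puigOf S).map f := by
  obtain ⟨e, he⟩ := exists_equiv_map_of_inf_ker f S hf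
  rw [puigOf, puigOf, ← map_puigSubgroup_equiv e, map_map, map_map, he]

theorem puigLowerOf_map {G' : Type*} [Group G'] (f : G →* G') (S : Subgroup G)
    (hf : S ⊓ f.ker = ⊥) : puigLowerOf (S.map f) = (puigLowerOf S).map f := by
  obtain ⟨e, he⟩ := exists_equiv_map_of_inf_ker f S hf
  rw [puigLowerOf, puigLowerOf, ← map_puigLower_equiv e, map_map, map_map, he]

theorem centerPuigOf_map {G' : Type*} [Group G'] (f : G →* G') (S : Subgroup G)
    (hf : S ⊓ f.ker = ⊥) : centerPuigOf (S.map f) = (centerPuigOf S).map f := by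
  rw [centerPuigOf, puigOf_map f S hf]
  refine le_antisymm ?_ ((map_inf_le _ _ f).trans (inf_le_inf_left _
    (map_le_centralizer_map le_rfl f)))
  rintro _ ⟨⟨y, hy, rfl⟩, h2⟩
  refine ⟨y, ⟨hy, fun z hz => ?_⟩, rfl⟩
  have h3 : f z * f y = f y * f z := h2 _ ⟨z, hz, rfl⟩
  have h4 : z * y * (y * z)⁻¹ ∈ S ⊓ f.ker := by
    refine mem_inf.2 ⟨puigOf_le S (mul_mem (mul_mem hz hy) (inv_mem (mul_mem hy hz))), ?_⟩
    rw [MonoidHom.mem_ker, map_mul, map_inv, map_mul, map_mul, h3, mul_inv_cancel]
  exact mul_inv_eq_one.mp (mem_bot.1 (hf ▸ h4))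

theorem normalizer_le_normalizer_puigOf (S : Subgroup G) :
    normalizer (S : Set G) ≤ normalizer (puigOf S : Set G) := by
  have := puigSubgroup_characteristic (G := S)
  exact normalizer_le_normalizer_map_subtype_of_characteristic S _

theorem normalizer_le_normalizer_centerPuigOf (S : Subgroup G) :
    normalizer (S : Set G) ≤ normalizer (centerPuigOf S : Set G) := by
  exact Cop.le_normalizer_inf_centralizer (normalizer_le_normalizer_puigOf S)
    (normalizer_le_normalizer_puigOf S)

variable [Finite G]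

/-- An abelian subgroup of `S` normalized by `L_*(S)` (for instance a normal one) lies in `L(S)`. -/
theorem le_puigOf_of_abelian {S A : Subgroup G} (hA : A ≤ S) (hc : IsMulCommutative A)
    (hn : puigLowerOf S ≤ normalizer (A : Set G)) : A ≤ puigOf S := by
  rw [← puigStepIn_puigLowerOf]
  exact le_puigStepIn hA hc hn

/-- An abelian subgroup of `S` normalized by `L(S)` lies in `L_*(S)`. -/
theorem le_puigLowerOf_of_abelian {S A : Subgroup G} (hA : A ≤ S) (hc : IsMulCommutative A)
    (hn : puigOf S ≤ normalizer (A : Set G)) : A ≤ puigLowerOf S := by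
  rw [← puigStepIn_puigOf]
  exact le_puigStepIn hA hc hn

theorem puigLowerOf_le_puigOf (S : Subgroup G) : puigLowerOf S ≤ puigOf S := by
  rw [puigLowerOf_eq_iSup, puigOf_eq_iInf]
  exact iSup_le fun n => le_iInf fun m => puigSeqOf_even_le_odd S n m

/-- BG B.2. -/
theorem sub_Puig_eq {H S : Subgroup G} (hH : H ≤ S) (h : puigOf S ≤ H) : puigOf H = puigOf S := by
  have h1 : ∀ n, puigSeqOf H (2 * n) ≤ puigLowerOf S ∧ puigOf S ≤ puigSeqOf H (2 * n + 1) ∧
      puigSeqOf S (2 * n) ≤ puigLowerOf H ∧ puigOf H ≤ puigSeqOf S (2 * n + 1) := by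
    have a : ∀ X, X ≤ puigLowerOf S → puigOf S ≤ puigStepIn H X := fun X hX => by
      conv_lhs => rw [← puigStepIn_puigLowerOf]
      exact sSup_le fun A hA => le_puigStepIn ((le_puigOf_of_abelian hA.1 hA.2.1 hA.2.2).trans h)
        hA.2.1 (hX.trans hA.2.2)
    have b : ∀ X, X ≤ puigLowerOf H → puigOf H ≤ puigStepIn S X := fun X hX => by
      rw [← puigStepIn_puigLowerOf]
      exact puigStepIn_mono hH hX
    intro n
    induction n with
    | zero =>
      rw [puigSeqOf_succ, puigSeqOf_succ, mul_zero, puigSeqOf_zero, puigSeqOf_zero]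
      exact ⟨bot_le, a _ bot_le, bot_le, b _ bot_le⟩
    | succ n ih =>
      have c : puigSeqOf H (2 * (n + 1)) ≤ puigLowerOf S := by
        rw [show 2 * (n + 1) = 2 * n + 1 + 1 by ring, puigSeqOf_succ, ← puigStepIn_puigOf]
        exact puigStepIn_mono hH ih.2.1
      have d : puigSeqOf S (2 * (n + 1)) ≤ puigLowerOf H := by
        rw [show 2 * (n + 1) = 2 * n + 1 + 1 by ring, puigSeqOf_succ, ← puigStepIn_puigOf]
        refine sSup_le fun A hA => le_puigStepIn ?_ hA.2.1 (ih.2.2.2.trans hA.2.2)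
        refine (le_puigLowerOf_of_abelian hA.1 hA.2.1 (le_trans ?_ hA.2.2)).trans
          ((puigLowerOf_le_puigOf S).trans h)
        rw [puigOf_eq_iInf]
        exact iInf_le (fun n => puigSeqOf S (2 * n + 1)) n
      rw [puigSeqOf_succ, puigSeqOf_succ]
      exact ⟨c, a _ c, d, b _ d⟩
  refine le_antisymm ?_ ?_
  · rw [puigOf_eq_iInf S]; exact le_iInf fun n => (h1 n).2.2.2
  · rw [puigOf_eq_iInf H]; exact le_iInf fun n => (h1 n).2.1

variable {p : ℕ} [hp : Fact p.Prime]

theorem sub_cent_puigStepIn {S X : Subgroup G} (hS : IsPGroup p S) (hX : X ≤ S) :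
    S ⊓ centralizer (puigStepIn S X : Set G) ≤ puigStepIn S X := by
  have := hS.isNilpotent
  obtain ⟨A, -, h1, h2, h3⟩ := PGrp.exists_scn_ge (⊥ : Subgroup S) inferInstance
  have h4 : A.map S.subtype ≤ puigStepIn S X := le_puigStepIn (map_subtype_le _)
    (isMulCommutative_map' h2 _) (hX.trans (le_normalizer_map_subtype' A))
  rintro x ⟨hx, hc⟩
  refine h4 ⟨⟨x, hx⟩, h3.le fun a ha => Subtype.ext (hc a (h4 ⟨a, ha, rfl⟩)), rfl⟩

theorem sub_cent_puigSeqOf {S : Subgroup G} (hS : IsPGroup p S) (n : ℕ) :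
    S ⊓ centralizer (puigSeqOf S (n + 1) : Set G) ≤ puigSeqOf S (n + 1) := by
  rw [puigSeqOf_succ]
  exact sub_cent_puigStepIn hS (puigSeqOf_le S n)

/-- BG B.1: `C_S(L_*(S)) ≤ L_*(S)` for a `p`-group `S`. -/
theorem sub_cent_Puig_inf {S : Subgroup G} (hS : IsPGroup p S) :
    S ⊓ centralizer (puigLowerOf S : Set G) ≤ puigLowerOf S := by
  rw [← puigStepIn_puigOf]
  exact sub_cent_puigStepIn hS (puigOf_le S)

/-- BG B.1: `C_S(L(S)) ≤ L(S)` for a `p`-group `S`. -/
theorem sub_cent_Puig {S : Subgroup G} (hS : IsPGroup p S) :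
    S ⊓ centralizer (puigOf S : Set G) ≤ puigOf S := by
  rw [← puigStepIn_puigLowerOf]
  exact sub_cent_puigStepIn hS (puigLowerOf_le S)

/-- BG B.1: `Z(S) ≤ Z(L(S))`. -/
theorem center_le_centerPuigOf (S : Subgroup G) :
    S ⊓ centralizer (S : Set G) ≤ centerPuigOf S := by
  refine le_inf (le_puigOf_of_abelian inf_le_left (le_centralizer_iff_isMulCommutative.1
    (inf_le_right.trans (centralizer_le (inf_le_left : S ⊓ _ ≤ S)))) ((puigLowerOf_le S).trans
      (Cop.le_normalizer_inf_centralizer le_normalizer le_normalizer)))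
    (inf_le_right.trans (centralizer_le (puigOf_le S)))

theorem centerPuigOf_ne_bot {S : Subgroup G} (hS : IsPGroup p S) (h1 : S ≠ ⊥) :
    centerPuigOf S ≠ ⊥ := by
  exact ne_bot_of_le_ne_bot (inf_centralizer_ne_bot_of_isNilpotent hS.isNilpotent le_rfl
    le_normalizer h1) (center_le_centerPuigOf S)

omit [Finite G] in
theorem eq_bot_or_ne_two_of_odd (hodd : Odd (Nat.card G)) {A : Subgroup G} (hA : IsPGroup p A) :
    A = ⊥ ∨ p ≠ 2 := by
  have : Finite G := Nat.finite_of_card_ne_zero hodd.pos.ne'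
  refine or_iff_not_imp_left.2 fun h1 h2 => ?_
  subst h2
  obtain ⟨k, hk, hk'⟩ := (IsPGroup.nontrivial_iff_card hA).1 ((nontrivial_iff_ne_bot A).2 h1)
  exact (Nat.not_even_iff_odd.2 hodd) (even_iff_two_dvd.2
    ((hk' ▸ dvd_pow_self 2 hk.ne').trans (card_subgroup_dvd_card A)))

/-- BG A.4, elementwise core: in a solvable group of odd order a `p`-element acting quadratically
on a normal `p`-subgroup `P` lies in `O_p(G mod C(P))`. -/
theorem odd_p_stable_normal [Group.IsSolvable G] (hodd : Odd (Nat.card G)) (P : Subgroup G)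
    [P.Normal] (hP : IsPGroup p P) {A : Subgroup G} (hA : IsPGroup p A)
    (hquad : ⁅⁅P, A⁆, A⁆ = ⊥) :
    A.map (QuotientGroup.mk' (centralizer (P : Set G))) ≤
      pCore p (G ⧸ centralizer (P : Set G)) := by
  rcases eq_bot_or_ne_two_of_odd hodd hA with rfl | hp2
  · simp
  refine (map_mono le_normalClosure).trans (H9.map_normalClosure_le_pCore
    (isPSolvable_of_isSolvable inferInstance) (H9.stableHyp_of_odd hodd hp2) P hP fun x hx =>
      ⟨(hA ⟨x, hx⟩).imp fun _ h => congrArg Subtype.val h, fun a ha => ?_⟩)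
  rw [← mem_bot, ← hquad, commutator_comm, commutator_comm P]
  exact commutator_mem_commutator hx (commutator_mem_commutator hx ha)

/-- BG A.4(c) (S1464; the hypothesis that `O_{p'}(G) P` is normal is not needed). -/
theorem odd_p_stable [Group.IsSolvable G] (hodd : Odd (Nat.card G)) (P A : Subgroup G)
    (hP : IsPGroup p P) (hA : IsPGroup p A) (hAN : A ≤ normalizer (P : Set G))
    (hquad : ⁅⁅P, A⁆, A⁆ = ⊥) :
    (A.subgroupOf (normalizer (P : Set G))).map
        (QuotientGroup.mk' ((centralizer (P : Set G)).subgroupOf (normalizer (P : Set G))))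
      ≤ pCore p _ := by
  have h := odd_p_stable_normal (G := normalizer (P : Set G))
    (hodd.of_dvd_nat (card_subgroup_dvd_card _)) (P.subgroupOf _)
    (hP.comap_of_injective _ (subtype_injective _)) (A := A.subgroupOf _)
    (hA.comap_of_injective _ (subtype_injective _)) (by
      rw [← sgOf_commutator le_normalizer hAN, ← sgOf_commutator
        ((Cop.commutator_le_left_of_le_normalizer hAN).trans le_normalizer) hAN, hquad,
        bot_subgroupOf])
  have h2 : centralizer ((P.subgroupOf (normalizer (P : Set G)) : Subgroup _) : Set _) =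
      (centralizer (P : Set G)).subgroupOf (normalizer (P : Set G)) :=
    Subgroup.ext fun x => mem_centralizer_sgOf le_normalizer
  revert h
  generalize_proofs h3
  revert h3
  rw [h2]
  exact fun _ h => h

/-- BG A.5 (S1465). -/
theorem odd_abelian_gen_stable [Group.IsSolvable G] (hodd : Odd (Nat.card G)) (P : Subgroup G)
    [P.Normal] (hP : IsPGroup p P) (S : Set (Subgroup G))
    (hS : ∀ B ∈ S, IsMulCommutative B ∧ IsPGroup p B ∧ P ≤ normalizer (B : Set G)) :
    (sSup S).map (QuotientGroup.mk' (centralizer (P : Set G))) ≤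
        pCore p (G ⧸ centralizer (P : Set G)) ∧
      (pPrimeCore p G = ⊥ → pCore p G ⊓ centralizer (P : Set G) ≤ P → sSup S ≤ pCore p G) := by
  have h1 : (sSup S).map (QuotientGroup.mk' (centralizer (P : Set G))) ≤
      pCore p (G ⧸ centralizer (P : Set G)) := by
    refine map_le_iff_le_comap.2 (sSup_le fun B hB => map_le_iff_le_comap.1 ?_)
    obtain ⟨h1, h2, h3⟩ := hS B hB
    refine odd_p_stable_normal hodd P hP h2 (eq_bot_iff.2 ?_)
    rw [← H9.commutator_self_eq_bot_of_comm h1]
    exact commutator_mono (le_normalizer_iff_commutator_le_right.1 h3) le_rfl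
  refine ⟨h1, fun hO hC => (map_le_iff_le_comap.1 h1).trans (le_pCore ?_)⟩
  have h2 : IsPGroup p (centralizer (P : Set G)) := by
    rw [isPGroup_iff_isPiSubgroup, isPiSubgroup_iff_orderOf]
    intro x hx q hq hd
    by_contra hqp
    obtain ⟨c, hc⟩ := hd
    have hc0 : c ≠ 0 := fun h => (orderOf_pos x).ne' (by rw [hc, h, mul_zero])
    have h3 : orderOf (x ^ c) = q := by
      rw [orderOf_pow' _ hc0, hc, Nat.gcd_eq_right (dvd_mul_left c q),
        Nat.mul_div_cancel _ (Nat.pos_of_ne_zero hc0)]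
    have h4 : (Nat.card (zpowers (x ^ c))).Coprime p := by
      rw [Nat.card_zpowers, h3]; exact (Nat.coprime_primes hq hp.out).2 hqp
    have h5 := Cop.commutator_eq_bot_of_centralizer_le (A := zpowers (x ^ c)) (G := pCore p G)
      (N := P) (H9.le_normalizer_of_normal' _ _) (H9.le_normalizer_of_normal' _ _) hC
      (Cop.commutator_eq_bot_iff_le_centralizer'.2 (zpowers_le.2 (pow_mem hx c)))
      (Cop.coprime_card_of_isPGroup h4 hP)
    have h6 : zpowers (x ^ c) ≤ pCore p G := (Cop.commutator_eq_bot_iff_le_centralizer'.1 h5).trans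
      (centralizer_pCore_le (isPSolvable_of_isSolvable inferInstance) hO)
    have h7 := (Cop.coprime_card_of_isPGroup h4 (pCore_isPGroup p)).coprime_dvd_right
      (card_dvd_of_le h6)
    rw [Nat.coprime_self, Nat.card_zpowers, h3] at h7
    exact hq.one_lt.ne' h7
  exact (pCore_isPGroup p).comap_of_ker_isPGroup _ (by rwa [QuotientGroup.ker_mk'])

/-- BG B.3 (S1468). -/
theorem pcore_Sylow_Puig_sub [Group.IsSolvable G] (hodd : Odd (Nat.card G))
    (hO : pPrimeCore p G = ⊥) (S : Sylow p G) :
    puigLowerOf (S : Subgroup G) ≤ puigLowerOf (pCore p G) ∧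
      puigOf (pCore p G) ≤ puigOf (S : Subgroup G) := by
  have hTS : pCore p G ≤ S := pCore_le_sylow S
  have h1 : ∀ n, puigSeqOf (S : Subgroup G) (2 * n) ≤ puigSeqOf (pCore p G) (2 * n) := by
    intro n
    induction n with
    | zero => rw [mul_zero, puigSeqOf_zero]; exact bot_le
    | succ n ih =>
      have h2 : puigSeqOf (pCore p G) (2 * n + 1) ≤ puigSeqOf (S : Subgroup G) (2 * n + 1) := by
        rw [puigSeqOf_succ, puigSeqOf_succ]
        exact puigStepIn_mono hTS ih
      rw [show 2 * (n + 1) = 2 * n + 1 + 1 by ring, puigSeqOf_succ, puigSeqOf_succ _ (2 * n + 1)]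
      refine sSup_le fun A hA => le_puigStepIn ?_ hA.2.1 (h2.trans hA.2.2)
      have : (puigSeqOf (pCore p G) (2 * n + 1)).Normal := normal_of_le_normalizer_top
        ((H9.le_normalizer_of_normal' _ _).trans (normalizer_le_normalizer_puigSeqOf _ _))
      have h3 := (odd_abelian_gen_stable hodd (puigSeqOf (pCore p G) (2 * n + 1))
        ((pCore_isPGroup p).to_le (puigSeqOf_le _ _)) {A} (by
          rintro _ rfl
          exact ⟨hA.2.1, S.2.to_le hA.1, h2.trans hA.2.2⟩)).2 hO
        (sub_cent_puigSeqOf (pCore_isPGroup p) _)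
      rwa [sSup_singleton] at h3
  have h2 : puigLowerOf (S : Subgroup G) ≤ puigLowerOf (pCore p G) := by
    rw [puigLowerOf_eq_iSup, puigLowerOf_eq_iSup]
    exact iSup_mono h1
  refine ⟨h2, ?_⟩
  rw [← puigStepIn_puigLowerOf, ← puigStepIn_puigLowerOf]
  exact puigStepIn_mono hTS h2

/-- BG B.4(b). -/
theorem Puig_center_normal [Group.IsSolvable G] (hodd : Odd (Nat.card G))
    (hO : pPrimeCore p G = ⊥) (S : Sylow p G) : (centerPuigOf (S : Subgroup G)).Normal := by
  obtain ⟨h1, h2⟩ := pcore_Sylow_Puig_sub hodd hO S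
  set Y := centerPuigOf (pCore p G) with hY
  have hYn : Y.Normal := normal_of_le_normalizer_top
    ((H9.le_normalizer_of_normal' _ _).trans (normalizer_le_normalizer_centerPuigOf _))
  have hZY : centerPuigOf (S : Subgroup G) ≤ Y := by
    refine le_inf ?_ (inf_le_right.trans (centralizer_le h2))
    refine le_trans ?_ ((sub_cent_Puig_inf S.2).trans (h1.trans (puigLowerOf_le_puigOf _)))
    exact le_inf (centerPuigOf_le _) (inf_le_right.trans (centralizer_le (puigLowerOf_le_puigOf _)))
  have hYS : Y ≤ puigLowerOf (S : Subgroup G) := le_puigLowerOf_of_abelian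
    ((centerPuigOf_le _).trans (pCore_le_sylow S)) (centerPuigOf_isMulCommutative _)
    (H9.le_normalizer_of_normal' _ _)
  let C := (pCore p (G ⧸ centralizer (Y : Set G))).comap (QuotientGroup.mk' _)
  have hLC : puigOf (S : Subgroup G) ≤ C := by
    rw [← puigStepIn_puigLowerOf]
    exact map_le_iff_le_comap.1 (odd_abelian_gen_stable hodd Y
      ((pCore_isPGroup p).to_le (centerPuigOf_le _)) _
      fun B hB => ⟨hB.2.1, S.2.to_le hB.1, hYS.trans hB.2.2⟩).1
  have hSC : IsSylowIn p ((S : Subgroup G) ⊓ C) C := IsSylowIn.sylow_inf_normal S C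
  have hL : puigOf ((S : Subgroup G) ⊓ C) = puigOf (S : Subgroup G) :=
    sub_Puig_eq inf_le_left (le_inf (puigOf_le _) hLC)
  have hN : normalizer (((S : Subgroup G) ⊓ C : Subgroup G) : Set G) ≤
      normalizer (centerPuigOf (S : Subgroup G) : Set G) := by
    have := normalizer_le_normalizer_centerPuigOf ((S : Subgroup G) ⊓ C)
    rwa [centerPuigOf, hL] at this
  have hCY : centralizer (Y : Set G) ≤ C := fun x hx => by
    rw [mem_comap, QuotientGroup.mk'_apply, (QuotientGroup.eq_one_iff x).2 hx]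
    exact one_mem _
  obtain ⟨k, hk⟩ := (H9.pSec_iff_relIndex (p := p) (U := centralizer (Y : Set G)) (N := C)).1
    fun x hx => (pCore_isPGroup p ⟨_, hx⟩).imp fun k hk =>
      (QuotientGroup.eq_one_iff _).1 (congrArg Subtype.val hk)
  refine normal_of_le_normalizer_top ((hSC.frattini_le le_top
    (H9.le_normalizer_of_normal' _ _)).trans (sup_le ?_ (inf_le_right.trans hN)))
  rw [← hSC.sup_eq_of_relIndex_eq_pow hCY hk]
  exact sup_le ((centralizer_le hZY).trans (centralizer_le_normalizer _)) (le_normalizer.trans hN)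

/-- BG B.4(a). -/
theorem Puig_factorization [Group.IsSolvable G] (hodd : Odd (Nat.card G)) (S : Sylow p G) :
    pPrimeCore p G ⊔ normalizer (centerPuigOf (S : Subgroup G) : Set G) = ⊤ := by
  let f := QuotientGroup.mk' (pPrimeCore p G)
  have hf : Function.Surjective f := QuotientGroup.mk'_surjective _
  have hc := Cop.coprime_card_of_isPGroup (pPrimeCore_coprime (G := G) p) S.2
  have h1 := Puig_center_normal (G := G ⧸ pPrimeCore p G)
    (hodd.of_dvd_nat (card_quotient_dvd_card _)) (pPrimeCore_quotient_pPrimeCore p)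
    (S.mapSurjective hf)
  rw [Sylow.coe_mapSurjective, centerPuigOf_map f _
    (by rw [QuotientGroup.ker_mk']; exact inf_eq_bot_of_coprime hc.symm), ← normalizer_eq_top_iff,
    Cop.normalizer_map_mk' _ (hc.symm.coprime_dvd_left (card_dvd_of_le (centerPuigOf_le _)))
      (Or.inl inferInstance)] at h1
  have h2 := congrArg (comap f) h1
  rwa [comap_map_eq, QuotientGroup.ker_mk', comap_top, sup_comm] at h2

/-- BG B.4(b), ambient form. -/
theorem Puig_center_normal_of {H S : Subgroup G} (hH : Group.IsSolvable H)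
    (hodd : Odd (Nat.card H)) (hO : pPrimeCore p H = ⊥) (hS : IsSylowIn p S H) :
    H ≤ normalizer (centerPuigOf S : Set G) := by
  obtain ⟨P, rfl⟩ := hS.exists_sylow_map
  have := Puig_center_normal hodd hO P
  rw [centerPuigOf_map _ _ (by rw [ker_subtype, inf_bot_eq])]
  exact le_normalizer_map_subtype' _

/-- BG B.4(a), ambient form. -/
theorem Puig_factorization_of {H S : Subgroup G} (hH : Group.IsSolvable H)
    (hodd : Odd (Nat.card H)) (hS : IsSylowIn p S H) :
    (pPrimeCore p H).map H.subtype ⊔ (H ⊓ normalizer (centerPuigOf S : Set G)) = H := by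
  obtain ⟨P, rfl⟩ := hS.exists_sylow_map
  have h := congrArg (map H.subtype) (Puig_factorization hodd P)
  rw [Subgroup.map_sup, ← MonoidHom.range_eq_map, range_subtype] at h
  refine le_antisymm (sup_le (map_subtype_le _) inf_le_left) (h.ge.trans (sup_le_sup_left ?_ _))
  rw [centerPuigOf_map _ _ (by rw [ker_subtype, inf_bot_eq])]
  exact le_inf (map_subtype_le _) (le_normalizer_map _)

end CfsgLib.FT
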