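import Mathlib
import Cfsg.Agent.Lib.FT.BGAppAB

/-! Bender–Glauberman, section 6: additional results on solvable groups. -/

set_option autoImplicit false

namespace CfsgLib.FT

open Subgroup Cfsg
open scoped commutatorElement

variable {G : Type*} [Group G] [Finite G]

section

variable {p : ℕ} [hp : Fact p.Prime]

/-- BG 6.1 (S1457). -/
theorem odd_p_abelian_constrained [Group.IsSolvable G] (hodd : Odd (Nat.card G)) (S : Sylow p G)
    {A : Subgroup G} (hA : A ≤ (S : Subgroup G)) (hAc : IsMulCommutative A)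
    (hAn : (S : Subgroup G) ≤ normalizer (A : Set G)) : A ≤ pPrimePCore p G := by
  let f := QuotientGroup.mk' (pPrimeCore p G)
  have hf : Function.Surjective f := QuotientGroup.mk'_surjective _
  have hO := pPrimeCore_quotient_pPrimeCore (G := G) p
  have h := (odd_abelian_gen_stable (G := G ⧸ pPrimeCore p G)
    (hodd.of_dvd_nat (card_quotient_dvd_card _)) (pCore p _) (pCore_isPGroup p) {A.map f} (by
      rintro _ rfl
      exact ⟨isMulCommutative_map' hAc f, (S.2.to_le hA).map f,
        (pCore_le_sylow (S.mapSurjective hf)).trans (map_le_normalizer_map hAn f)⟩)).2 hO inf_le_left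
  rw [sSup_singleton] at h
  exact map_le_iff_le_comap.1 h

/-- BG 6.1, ambient form. -/
theorem odd_p_abelian_constrained_of {H S A : Subgroup G} (hH : Group.IsSolvable H)
    (hodd : Odd (Nat.card H)) (hS : IsSylowIn p S H) (hA : A ≤ S) (hAc : IsMulCommutative A)
    (hAn : S ≤ normalizer (A : Set G)) : A ≤ (pPrimePCore p H).map H.subtype := by
  obtain ⟨P, hP⟩ := hS.exists_sylow
  exact le_map_of_sgOf_le (hA.trans hS.le) (odd_p_abelian_constrained hodd P
    (hP ▸ comap_mono hA) (isMulCommutative_sgOf hAc H) (hP ▸ sgOf_le_normalizer hAn H))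

/-- BG 6.2 (with the Puig subgroup). -/
theorem Puig_center_p'core_normal [Group.IsSolvable G] (hodd : Odd (Nat.card G)) (S : Sylow p G) :
    (pPrimeCore p G ⊔ centerPuigOf (S : Subgroup G)).Normal := by
  refine normal_of_le_normalizer_top ?_
  rw [← Puig_factorization hodd S]
  refine sup_le (le_sup_left.trans le_normalizer) ?_
  exact (le_inf (H9.le_normalizer_of_normal' _ _) le_rfl).trans
    (normalizer_inf_normalizer_le_normalizer_sup _ _)

/-- BG 6.2, ambient form. -/
theorem Puig_center_p'core_normal_of {H S : Subgroup G} (hH : Group.IsSolvable H)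
    (hodd : Odd (Nat.card H)) (hS : IsSylowIn p S H) :
    H ≤ normalizer (((pPrimeCore p H).map H.subtype ⊔ centerPuigOf S : Subgroup G) : Set G) := by
  obtain ⟨P, rfl⟩ := hS.exists_sylow_map
  have := Puig_center_p'core_normal hodd P
  rw [centerPuigOf_map _ _ (by rw [ker_subtype, inf_bot_eq]), ← Subgroup.map_sup]
  exact le_normalizer_map_subtype' _

end

omit [Finite G] in
theorem eq_of_le_commutator_sup {K N : Subgroup G} (hK : Group.IsSolvable K) (hN : N ≤ K)
    (hn : K ≤ normalizer (N : Set G)) (h : K ≤ ⁅K, K⁆ ⊔ N) : N = K := by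
  have := (normal_subgroupOf_iff_le_normalizer hN).2 hn
  have h1 : _root_.commutator (K ⧸ N.subgroupOf K) = ⊤ := by
    rw [commutator_def, ← map_top_of_surjective _ (QuotientGroup.mk'_surjective (N.subgroupOf K)),
      ← map_commutator, eq_comm, Subgroup.map_eq_map_iff, QuotientGroup.ker_mk', top_sup_eq,
      eq_comm, eq_top_iff, ← map_subtype_le_map_subtype, ← MonoidHom.range_eq_map, range_subtype,
      Subgroup.map_sup, map_subgroupOf_eq_of_le hN, map_commutator, ← MonoidHom.range_eq_map,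
      range_subtype]
    exact h
  rcases subsingleton_or_nontrivial (K ⧸ N.subgroupOf K) with h2 | h2
  · exact le_antisymm hN (subgroupOf_eq_top.1 (QuotientGroup.subsingleton_iff.1 h2))
  · exact absurd h1 (Group.IsSolvable.commutator_lt_top_of_nontrivial _).ne

omit [Finite G] in
theorem commutator_sup_sup_le {K H : Subgroup G} (hH : H ≤ normalizer (K : Set G)) :
    ⁅K ⊔ H, K ⊔ H⁆ ≤ ⁅K, K⁆ ⊔ ⁅K, H⁆ ⊔ ⁅H, H⁆ := by
  have hKN : K ≤ normalizer ((⁅K, K⁆ ⊔ ⁅K, H⁆ ⊔ ⁅H, H⁆ : Subgroup G) : Set G) := by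
    rw [le_normalizer_iff_commutator_le_left]
    refine CommCalc.commutator_sup_left_le (le_sup_left.trans le_normalizer)
      (le_sup_right.trans le_normalizer) ?_ ?_
    · exact (commutator_mono (sup_le (commutator_le_self K)
        (Cop.commutator_le_left_of_le_normalizer hH)) le_rfl).trans (le_sup_left.trans le_sup_left)
    · rw [commutator_comm]
      exact (commutator_mono le_rfl (commutator_le_self H)).trans (le_sup_right.trans le_sup_left)
  have hHN : H ≤ normalizer ((⁅K, K⁆ ⊔ ⁅K, H⁆ ⊔ ⁅H, H⁆ : Subgroup G) : Set G) :=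
    (le_inf ((le_inf (Cop.le_normalizer_commutator hH hH)
      (normalizer_commutator_ge_right K H)).trans (normalizer_inf_normalizer_le_normalizer_sup _ _))
      (normalizer_commutator_ge_right H H)).trans (normalizer_inf_normalizer_le_normalizer_sup _ _)
  refine CommCalc.commutator_sup_left_le hKN hHN
    (CommCalc.commutator_sup_right_le hKN hHN (le_sup_left.trans le_sup_left)
      (le_sup_right.trans le_sup_left))
    (CommCalc.commutator_sup_right_le hKN hHN ?_ le_sup_right)
  rw [commutator_comm]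
  exact le_sup_right.trans le_sup_left

/-- BG 6.3(a). -/
theorem coprime_der1_sdprod {K H : Subgroup G} (hK : Group.IsSolvable K)
    (hH : H ≤ normalizer (K : Set G)) (hcop : (Nat.card H).Coprime (Nat.card K))
    (h : K ≤ ⁅K ⊔ H, K ⊔ H⁆) : ⁅K, H⁆ = K ∧ K ⊓ centralizer (H : Set G) ≤ ⁅K, K⁆ := by
  have h1 : ⁅K, H⁆ = K := by
    refine eq_of_le_commutator_sup hK (Cop.commutator_le_left_of_le_normalizer hH)
      (normalizer_commutator_ge_left K H) fun k hk => ?_
    have hle : ⁅K, K⁆ ⊔ ⁅K, H⁆ ≤ K :=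
      sup_le (commutator_le_self K) (Cop.commutator_le_left_of_le_normalizer hH)
    obtain ⟨a, ha, b, hb, rfl⟩ := (mem_sup_iff_of_le_normalizer' ((commutator_le_self H).trans
      ((le_inf (Cop.le_normalizer_commutator hH hH) (normalizer_commutator_ge_right K H)).trans
        (normalizer_inf_normalizer_le_normalizer_sup _ _)))).1 (commutator_sup_sup_le hH (h hk))
    have h2 : b ∈ H ⊓ K := ⟨commutator_le_self H hb, (K.mul_mem_cancel_left (hle ha)).1 hk⟩
    rw [inf_eq_bot_of_coprime hcop, mem_bot] at h2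
    rwa [h2, mul_one]
  exact ⟨h1, Cop.inf_centralizer_le_commutator_of_eq hH hcop h1⟩

theorem prime_nil_der1_coprime (hn : Group.IsNilpotent ↥(_root_.commutator G))
    (hp : (_root_.commutator G).index.Prime) :
    (Nat.card ↥(_root_.commutator G)).Coprime (_root_.commutator G).index := by
  set q := (_root_.commutator G).index with hq
  have := Fact.mk hp
  let K : Subgroup G := (pPrimeCore q (_root_.commutator G)).map (_root_.commutator G).subtype
  have hKc := pPrimeCore_characteristic (G := _root_.commutator G) q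
  have hKn : K.Normal := inferInstance
  have hKle : K ≤ _root_.commutator G := map_subtype_le _
  have h1 : IsPGroup q (G ⧸ K) := by
    intro x
    obtain ⟨x, rfl⟩ := QuotientGroup.mk_surjective x
    have h2 : x ^ q ∈ _root_.commutator G := pow_index_mem _ x
    obtain ⟨k, hk⟩ := pSec_pPrimePCore (p := q) (⟨_, h2⟩ : _root_.commutator G)
      (le_pPrimePCore_of_hnpc (N := ⊤) (PCompl.hnpc_top_iff.2 PCompl.hnpc_of_isNilpotent)
        (mem_top _))
    refine ⟨k + 1, ?_⟩
    rw [← QuotientGroup.mk_pow, QuotientGroup.eq_one_iff, pow_succ', pow_mul]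
    exact ⟨_, hk, rfl⟩
  have h2 : (_root_.commutator (G ⧸ K)).index = q := by
    rw [commutator_def, ← map_top_of_surjective _ (QuotientGroup.mk'_surjective K),
      ← map_commutator, index_map_eq _ (QuotientGroup.mk'_surjective K)
        (by rw [QuotientGroup.ker_mk']; exact hKle)]
    rfl
  have h3 : IsCyclic (G ⧸ K) := (BurnsideBasis.isCyclic_iff_index_frattini_dvd h1).2
    (h2 ▸ index_dvd_of_le (BurnsideBasis.commutator_le_frattini h1))
  have h4 : _root_.commutator G ≤ K := by
    rw [← QuotientGroup.ker_mk' K, ← Subgroup.map_eq_bot_iff, commutator_def, map_commutator]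
    exact H9.commutator_self_eq_bot_of_comm inferInstance
  exact (map_pPrimeCore_coprime q _).coprime_dvd_left (card_dvd_of_le h4)

/-- BG 6.3(b). -/
theorem prime_nil_der1_factor {M : Subgroup G} (hn : Group.IsNilpotent ↥⁅M, M⁆)
    (hp : ((⁅M, M⁆ : Subgroup G).relIndex M).Prime) :
    (Nat.card ↥⁅M, M⁆).Coprime ((⁅M, M⁆ : Subgroup G).relIndex M) ∧
      ∀ H : Subgroup G, ⁅M, M⁆ ⊔ H = M → ⁅M, M⁆ ⊓ H = ⊥ → ⁅M, M⁆ = ⁅M, H⁆ := by
  have h1 : (Nat.card ↥⁅M, M⁆).Coprime ((⁅M, M⁆ : Subgroup G).relIndex M) := by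
    rw [← map_subtype_commutator, relIndex, map_subtype_sgOf] at hp
    rw [← map_subtype_commutator, isNilpotent_map_subtype_iff] at hn
    rw [← map_subtype_commutator, relIndex, map_subtype_sgOf, card_map_subtype]
    exact prime_nil_der1_coprime hn hp
  refine ⟨h1, fun H h2 h3 => le_antisymm ?_ (commutator_mono le_rfl (h2 ▸ le_sup_right))⟩
  have hHM : H ≤ M := h2 ▸ le_sup_right
  have hn' : H ≤ normalizer ((⁅M, M⁆ : Subgroup G) : Set G) :=
    hHM.trans (normalizer_commutator_ge_left M M)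
  have h4 : (⁅M, M⁆ : Subgroup G).relIndex M = Nat.card H := by
    have := relIndex_sup_of_le_normalizer hn'
    rw [sup_comm, h2] at this
    rw [this, ← card_inf_mul_relIndex ⁅M, M⁆ H, h3, card_bot, one_mul]
  rw [← (coprime_der1_sdprod inferInstance hn' (h4 ▸ h1.symm) (by rw [h2])).1]
  exact commutator_mono (commutator_le_self M) le_rfl

/-- BG 6.5(a): `M = K U` with `K` normal. -/
theorem pprod_focal_coprime {K U H : Subgroup G} (hU : U ≤ normalizer (K : Set G)) (hH : H ≤ U)
    (hcop : (Nat.card H).Coprime (Nat.card K)) : H ⊓ ⁅K ⊔ U, K ⊔ U⁆ = H ⊓ ⁅U, U⁆ := by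
  refine le_antisymm (le_inf inf_le_left ?_)
    (inf_le_inf_left _ (commutator_mono le_sup_right le_sup_right))
  rintro h ⟨h1, h2⟩
  have h3 : ⁅K ⊔ U, K ⊔ U⁆ ≤ K ⊔ ⁅U, U⁆ := (commutator_sup_sup_le hU).trans (sup_le_sup_right
    (sup_le (commutator_le_self K) (Cop.commutator_le_left_of_le_normalizer hU)) _)
  obtain ⟨k, hk, u, hu, rfl⟩ :=
    (mem_sup_iff_of_le_normalizer' ((commutator_le_self U).trans hU)).1 (h3 h2)
  have hu' : u ∈ U := commutator_le_self U hu
  have hk' : k ∈ U := (U.mul_mem_cancel_right hu').1 (hH h1)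
  rw [← map_subtype_commutator] at hu ⊢
  obtain ⟨u, hu, rfl⟩ := hu
  refine ⟨⟨k, hk'⟩ * u, ?_, rfl⟩
  rw [SetLike.mem_coe, ← QuotientGroup.eq_one_iff, ← orderOf_eq_one_iff]
  refine (Nat.coprime_self _).1 (Nat.Coprime.coprime_dvd_left ?_
    (Nat.Coprime.coprime_dvd_right ?_ hcop))
  · refine (orderOf_map_dvd (QuotientGroup.mk' _) _).trans ?_
    rw [← orderOf_coe]
    exact H.orderOf_dvd_natCard h1
  · rw [QuotientGroup.mk_mul, (QuotientGroup.eq_one_iff u).2 hu, mul_one]
    refine (orderOf_map_dvd (QuotientGroup.mk' _) _).trans ?_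
    rw [← orderOf_coe]
    exact K.orderOf_dvd_natCard hk

/-- BG 6.5(c). -/
theorem pprod_trans_coprime {K U H : Subgroup G} (hU : U ≤ normalizer (K : Set G)) (hH : H ≤ U)
    (hcop : (Nat.card H).Coprime (Nat.card K)) (hs : Group.IsSolvable H ∨ Group.IsSolvable K)
    {g : G} (hg : g ∈ K ⊔ U) (h : H.map (MulAut.conj g).toMonoidHom ≤ U) :
    ∃ u ∈ U, ∃ c ∈ K ⊓ centralizer (H : Set G), g = u * c := by
  rw [sup_comm] at hg
  obtain ⟨u, hu, k, hk, rfl⟩ := (mem_sup_iff_of_le_normalizer hU).1 hg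
  obtain ⟨n, hn, c, hc, rfl⟩ := Cop.exists_mul_centralizer_of_commutator_mem (A := H) (N := K ⊓ U)
    ((le_inf (hH.trans hU) (hH.trans le_normalizer)).trans inf_normalizer_le_normalizer_inf)
    (hcop.coprime_dvd_right (card_dvd_of_le inf_le_left))
    (hs.imp_right fun h => isSolvable_of_le h inf_le_left) (g := k) fun a ha => by
      refine mem_inf.2 ⟨le_normalizer_iff_commutator_le_left.1 (hH.trans hU)
        (commutator_mem_commutator hk ha), ?_⟩
      have h1 := conj_mem_of_mem_normalizer' (le_normalizer hu) (h (conj_mem_map_conj ha))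
      have h2 := U.mul_mem h1 (U.inv_mem (hH ha))
      convert h2 using 1
      rw [commutatorElement_def]; group
  exact ⟨u * n, U.mul_mem hu hn.2, c, ⟨(K.mul_mem_cancel_left hn.1).1 hk, hc⟩,
    (mul_assoc _ _ _).symm⟩

/-- BG 6.5(b). -/
theorem pprod_norm_coprime_prod {K U H : Subgroup G} (hU : U ≤ normalizer (K : Set G))
    (hH : H ≤ U) (hcop : (Nat.card H).Coprime (Nat.card K))
    (hs : Group.IsSolvable H ∨ Group.IsSolvable K) :
    (K ⊔ U) ⊓ normalizer (H : Set G) =
      (K ⊓ centralizer (H : Set G)) ⊔ (U ⊓ normalizer (H : Set G)) := by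
  refine le_antisymm ?_ (sup_le (inf_le_inf le_sup_left (centralizer_le_normalizer _))
    (inf_le_inf_right _ le_sup_right))
  rintro g ⟨hg, hgn⟩
  obtain ⟨u, hu, c, hc, rfl⟩ := pprod_trans_coprime hU hH hcop hs hg
    ((map_conj_eq_of_mem_normalizer hgn).le.trans hH)
  exact mul_mem (mem_sup_right ⟨hu, (Subgroup.mul_mem_cancel_right _
    (centralizer_le_normalizer _ hc.2)).1 hgn⟩) (mem_sup_left hc)

variable {p : ℕ} [hp : Fact p.Prime]

/-- BG 6.6(a), first part. -/
theorem plength1_Sylow_prod (hpl : PLengthLE p 1 G) (S : Sylow p G) :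
    pPrimeCore p G ⊔ (S : Subgroup G) = pPrimePCore p G := by
  have h1 := le_pPrimePCore_of_plength1 hpl S.2
  obtain ⟨k, hk⟩ := (H9.pSec_iff_relIndex (p := p) (U := pPrimeCore p G)).1 pSec_pPrimePCore
  exact (IsSylowIn.of_sylow S h1).sup_eq_of_relIndex_eq_pow pPrimeCore_le_pPrimePCore' hk

/-- BG 6.6(a), second part. -/
theorem plength1_Frattini (hpl : PLengthLE p 1 G) (S : Sylow p G) :
    pPrimeCore p G ⊔ normalizer ((S : Subgroup G) : Set G) = ⊤ := by
  have := pPrimePCore_normal' (p := p) (G := G)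
  have h1 := (IsSylowIn.of_sylow S (le_pPrimePCore_of_plength1 hpl S.2)).frattini_le le_top
    (H9.le_normalizer_of_normal' _ _)
  rw [← plength1_Sylow_prod hpl S, top_inf_eq, sup_assoc, sup_eq_right.2 le_normalizer] at h1
  exact top_le_iff.1 h1

/-- BG 6.6(a), first part, ambient form. -/
theorem plength1_Sylow_prod_of {M S : Subgroup G} (hpl : PLengthLE p 1 M) (hS : IsSylowIn p S M) :
    (pPrimeCore p M).map M.subtype ⊔ S = (pPrimePCore p M).map M.subtype := by
  obtain ⟨P, rfl⟩ := hS.exists_sylow_map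
  rw [← Subgroup.map_sup, plength1_Sylow_prod hpl P]

/-- BG 6.6(a), second part, ambient form. -/
theorem plength1_Frattini_of {M S : Subgroup G} (hpl : PLengthLE p 1 M) (hS : IsSylowIn p S M) :
    (pPrimeCore p M).map M.subtype ⊔ (M ⊓ normalizer (S : Set G)) = M := by
  obtain ⟨P, rfl⟩ := hS.exists_sylow_map
  have h := congrArg (map M.subtype) (plength1_Frattini hpl P)
  rw [Subgroup.map_sup, ← MonoidHom.range_eq_map, range_subtype] at h
  exact le_antisymm (sup_le (map_subtype_le _) inf_le_left) (h.ge.trans (sup_le_sup_left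
    (le_inf (map_subtype_le _) (le_normalizer_map _)) _))

/-- BG 6.6(b). -/
theorem plength1_Sylow_sub_der1 {M S : Subgroup G} (hpl : PLengthLE p 1 M) (hS : IsSylowIn p S M)
    (h : S ≤ ⁅M, M⁆) : S ≤ ⁅M ⊓ normalizer (S : Set G), M ⊓ normalizer (S : Set G)⁆ := by
  have h1 := pprod_focal_coprime (K := (pPrimeCore p M).map M.subtype)
    (U := M ⊓ normalizer (S : Set G)) (H := S) (inf_le_left.trans (le_normalizer_map_subtype' _))
    (le_inf hS.le le_normalizer)
    (Cop.coprime_card_of_isPGroup (map_pPrimeCore_coprime p M) hS.isPGroup).symm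
  rw [plength1_Frattini_of hpl hS, inf_eq_left.2 h] at h1
  exact h1.le.trans inf_le_right

/-- BG 6.6(c). -/
theorem plength1_Sylow_trans {M S : Subgroup G} (hpl : PLengthLE p 1 M) (hS : IsSylowIn p S M)
    {Y : Set G} (hY : Y ⊆ S) {x : G} (hx : x ∈ M) (h : ∀ y ∈ Y, x * y * x⁻¹ ∈ S) :
    ∃ g ∈ M ⊓ normalizer (S : Set G), ∃ c ∈ M ⊓ centralizer Y, g * c = x := by
  have hYS : closure Y ≤ S := (closure_le _).2 hY
  obtain ⟨u, hu, c, hc, rfl⟩ := pprod_trans_coprime (K := (pPrimeCore p M).map M.subtype)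
    (U := M ⊓ normalizer (S : Set G)) (H := closure Y)
    (inf_le_left.trans (le_normalizer_map_subtype' _)) (hYS.trans (le_inf hS.le le_normalizer))
    (Cop.coprime_card_of_isPGroup (map_pPrimeCore_coprime p M) (hS.isPGroup.to_le hYS)).symm
    (Or.inl (isSolvable_of_isPGroup (hS.isPGroup.to_le hYS))) (g := x)
    (by rwa [plength1_Frattini_of hpl hS]) (by
      rw [MonoidHom.map_closure]
      refine le_trans ((closure_le _).2 ?_) (le_inf hS.le le_normalizer)
      rintro _ ⟨y, hy, rfl⟩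
      exact h y hy)
  exact ⟨u, hu, c, ⟨map_subtype_le _ hc.1, centralizer_le Subgroup.subset_closure hc.2⟩, rfl⟩

/-- BG 6.6(d). -/
theorem plength1_Sylow_Jsub {M S Q : Subgroup G} (hpl : PLengthLE p 1 M) (hS : IsSylowIn p S M)
    (hQ : IsPGroup p Q) (hQM : Q ≤ M) :
    ∃ x ∈ M ⊓ centralizer ((Q ⊓ S : Subgroup G) : Set G),
      Q.map (MulAut.conj x).toMonoidHom ≤ S := by
  obtain ⟨y, hy, h1⟩ := hS.exists_conj_le hQ hQM
  obtain ⟨g, hg, c, hc, rfl⟩ := plength1_Sylow_trans hpl hS (Y := (Q ⊓ S : Subgroup G))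
    (fun _ h => h.2) hy fun z hz => h1 (conj_mem_map_conj hz.1)
  refine ⟨c, hc, fun z hz => ?_⟩
  rw [map_conj_mul] at h1
  have := conj_mem_of_mem_normalizer' hg.2 (h1 (conj_mem_map_conj hz))
  simpa [mul_assoc] using this

/-- BG 6.7 (S1462). -/
theorem plength1_norm_pmaxElem [Group.IsSolvable G] (hp2 : p ≠ 2) (hpl : PLengthLE p 1 G)
    {E L : Subgroup G} (hE : IsElementaryAbelian p E)
    (hEmax : ∀ B : Subgroup G, IsElementaryAbelian p B → E ≤ B → B = E)
    (hL : (Nat.card L).Coprime p) (hEL : E ≤ normalizer (L : Set G)) : L ≤ pPrimeCore p G := by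
  let f := QuotientGroup.mk' (pPrimeCore p G)
  have hEp := isPGroup_of_isElementaryAbelian hE
  obtain ⟨S, hES⟩ := hEp.exists_le_sylow
  have hSf : (S : Subgroup G).map f = pCore p (G ⧸ pPrimeCore p G) :=
    map_eq_pCore_of_isSylowIn (IsSylowIn.of_sylow S (le_pPrimePCore_of_plength1 hpl S.2))
  have hinj : ∀ x ∈ (S : Subgroup G), f x = 1 → x = 1 := fun x hx h => by
    rw [← mem_bot, ← inf_eq_bot_of_coprime
      (Cop.coprime_card_of_isPGroup (pPrimeCore_coprime (G := G) p) S.2)]
    exact ⟨(QuotientGroup.eq_one_iff x).1 h, hx⟩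
  have hL' : (Nat.card (L.map f)).Coprime p := hL.coprime_dvd_left (card_map_dvd L f)
  have hd : pCore p (G ⧸ pPrimeCore p G) ⊓ L.map f = ⊥ :=
    inf_eq_bot_of_coprime (Cop.coprime_card_of_isPGroup hL' (pCore_isPGroup p)).symm
  have hET : E.map f ≤ pCore p (G ⧸ pPrimeCore p G) := hSf ▸ map_mono hES
  have h1 : E.map f ≤ centralizer ((L.map f : Subgroup _) : Set _) := by
    rw [← commutator_eq_bot_iff_le_centralizer, eq_bot_iff, ← hd]
    exact le_inf ((commutator_mono hET le_rfl).trans (commutator_le_left _ _))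
      (le_normalizer_iff_commutator_le_right.1 (map_le_normalizer_map hEL f))
  have h2 : L.map f ≤ centralizer (pCore p (G ⧸ pPrimeCore p G) : Set _) := by
    refine coprime_odd_faithful_cent_abelem hp2 (pCore_isPGroup p) hET
      ⟨isMulCommutative_map' hE.1 f, ?_⟩ (H9.le_normalizer_of_normal' _ _) hL' ?_
    · rintro _ ⟨x, hx, rfl⟩
      rw [← map_pow, hE.2 x hx, map_one]
    · rintro x ⟨hx, hc⟩ hxp
      rw [← hSf] at hx
      obtain ⟨x, hx, rfl⟩ := hx
      refine h1 ⟨x, ?_, rfl⟩
      have h3 : x ^ p = 1 := hinj _ (pow_mem hx p) (by rwa [map_pow])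
      have h4 : zpowers x ≤ centralizer (E : Set G) := zpowers_le.2 fun e he => by
        rw [← commutatorElement_eq_one_iff_mul_comm]
        refine hinj _ (commutator_le_self _ (commutator_mem_commutator (hES he) hx)) ?_
        rw [map_commutatorElement, commutatorElement_eq_one_iff_mul_comm]
        exact hc _ ⟨e, he, rfl⟩
      have h5 := hEmax (E ⊔ zpowers x) ⟨PGrp.isMulCommutative_sup hE.1 inferInstance h4, ?_⟩
        le_sup_left
      · exact h5 ▸ mem_sup_right (mem_zpowers x)
      · intro b hb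
        obtain ⟨e, he, _, ⟨n, rfl⟩, rfl⟩ := (mem_sup_iff_of_le_normalizer'
          (h4.trans (centralizer_le_normalizer _))).1 hb
        have h6 : Commute e (x ^ n) := h4 ⟨n, rfl⟩ e he
        rw [h6.mul_pow, hE.2 e he, one_mul, ← zpow_natCast, ← zpow_mul, mul_comm, zpow_mul,
          zpow_natCast, h3, one_zpow]
  have h3 : L.map f = ⊥ := by
    rw [← hd, inf_eq_right.2 (h2.trans (centralizer_pCore_le
      (isPSolvable_of_isSolvable inferInstance) (pPrimeCore_quotient_pPrimeCore p)))]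
  rwa [Subgroup.map_eq_bot_iff, QuotientGroup.ker_mk'] at h3

/-- BG 6.7, ambient form. -/
theorem plength1_norm_pmaxElem_of (hp2 : p ≠ 2) {M E L : Subgroup G} (hM : Group.IsSolvable M)
    (hpl : PLengthLE p 1 M) (hEM : E ≤ M) (hE : IsElementaryAbelian p E)
    (hEmax : ∀ B : Subgroup G, B ≤ M → IsElementaryAbelian p B → E ≤ B → B = E) (hLM : L ≤ M)
    (hL : (Nat.card L).Coprime p) (hEL : E ≤ normalizer (L : Set G)) :
    L ≤ (pPrimeCore p M).map M.subtype := by
  refine le_map_of_sgOf_le hLM (plength1_norm_pmaxElem hp2 hpl (E := E.subgroupOf M)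
    ⟨isMulCommutative_sgOf hE.1 M, fun x hx => Subtype.ext (hE.2 x hx)⟩ (fun B hB h => ?_)
    (by rwa [card_subgroupOf_of_le hLM]) (sgOf_le_normalizer hEL M))
  rw [← hEmax (B.map M.subtype) (map_subtype_le _) ⟨isMulCommutative_map' hB.1 _, ?_⟩
    (le_map_of_sgOf_le hEM h), map_subtype_sgOf]
  rintro _ ⟨x, hx, rfl⟩
  rw [← map_pow, hB.2 x hx, map_one]

end CfsgLib.FT
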