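import Mathlib
import Cfsg.Agent.Lib.FT.BG7a
import Cfsg.Agent.Lib.FT.BG5
import Cfsg.Agent.Lib.FT.BG6
import Cfsg.Agent.Lib.CoreSubnormal

/-! API for invariant `π`-subgroups, `π`-cores of subgroups and `p'`-cores of local subgroups. -/

set_option autoImplicit false

namespace CfsgLib.FT

open Subgroup Cfsg
open scoped commutatorElement

variable {G : Type*} [Group G]

theorem cent_zpowers (x : G) :
    centralizer ((zpowers x : Subgroup G) : Set G) = centralizer ({x} : Set G) := by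
  rw [zpowers_eq_closure, centralizer_closure]

theorem le_cent1_iff {A : Subgroup G} {x : G} :
    A ≤ centralizer ({x} : Set G) ↔ x ∈ centralizer (A : Set G) := by
  rw [← cent_zpowers, le_centralizer_iff, zpowers_le]

theorem cent_le_cent1 {A : Subgroup G} {x : G} (hx : x ∈ A) :
    centralizer (A : Set G) ≤ centralizer ({x} : Set G) :=
  centralizer_le (Set.singleton_subset_iff.2 hx)

theorem le_normalizer_cent1 {A : Subgroup G} {x : G} (hx : x ∈ centralizer (A : Set G)) :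
    A ≤ normalizer ((centralizer ({x} : Set G) : Subgroup G) : Set G) :=
  (le_cent1_iff.2 hx).trans le_normalizer

theorem piCoreOf_le' (π : Set ℕ) (X : Subgroup G) : piCoreOf π X ≤ X := map_subtype_le _

theorem piCoreOf_isPi [Finite G] (π : Set ℕ) (X : Subgroup G) : IsPiSubgroup π (piCoreOf π X) :=
  map_piCore_isPiSubgroup π X

theorem norm_le_norm_piCoreOf [Finite G] (π : Set ℕ) (X : Subgroup G) :
    normalizer (X : Set G) ≤ normalizer (piCoreOf π X : Set G) :=
  normalizer_le_normalizer_map_piCore π X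

theorem le_piCoreOf' {π : Set ℕ} {H A : Subgroup G} (h1 : A ≤ H) (h2 : H ≤ normalizer (A : Set G))
    (h : IsPiSubgroup π A) : A ≤ piCoreOf π H := le_map_piCore h1 h2 h

theorem piCoreOf_inf_le [Finite G] (π : Set ℕ) {H K : Subgroup G} (h : K ≤ H) :
    piCoreOf π H ⊓ K ≤ piCoreOf π K :=
  le_piCoreOf' inf_le_right (le_normalizer_inf ((h.trans le_normalizer).trans
    (norm_le_norm_piCoreOf π H)) le_normalizer) (isPiSubgroup_of_le (piCoreOf_isPi π H) inf_le_left)

theorem piCoreOf_congr_prime {π σ : Set ℕ} (h : ∀ q : ℕ, q.Prime → (q ∈ π ↔ q ∈ σ))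
    (X : Subgroup G) : piCoreOf π X = piCoreOf σ X := by
  unfold piCoreOf piCore
  congr 2
  ext N
  exact and_congr_right fun _ => forall_congr' fun q => forall_congr' fun hq =>
    forall_congr' fun _ => h q hq

theorem mem_primesNotDvd_of_isPGroup [Finite G] {p : ℕ} [hp : Fact p.Prime] {A : Subgroup G}
    (hA : IsPGroup p A) (h1 : A ≠ ⊥) {q : ℕ} (hq : q.Prime) :
    q ∈ primesNotDvd (Nat.card A) ↔ q ∈ ({p}ᶜ : Set ℕ) := by
  obtain ⟨k, hk, hk'⟩ := hA.nontrivial_iff_card.1 ((nontrivial_iff_ne_bot A).2 h1)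
  refine ⟨fun h h' => h.2 ?_, fun h => ⟨hq, fun h' => h (eq_of_prime_dvd_card_isPGroup hA hq h')⟩⟩
  rw [Set.mem_singleton_iff.1 h', hk']
  exact dvd_pow_self p hk.ne'

theorem piCoreOf_primesNotDvd_eq [Finite G] {p : ℕ} [hp : Fact p.Prime] {A : Subgroup G}
    (hA : IsPGroup p A) (h1 : A ≠ ⊥) (X : Subgroup G) :
    piCoreOf (primesNotDvd (Nat.card A)) X = (pPrimeCore p X).map X.subtype := by
  rw [piCoreOf_congr_prime (fun _ => mem_primesNotDvd_of_isPGroup hA h1), pPrimeCore_eq_piCore]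
  rfl

theorem coprime_of_isPi_primesNotDvd {G' : Type*} [Group G'] {n : ℕ} {P : Subgroup G'}
    {K : Subgroup G} (hP : ∀ r : ℕ, r.Prime → r ∣ Nat.card P → r ∣ n)
    (hK : IsPiSubgroup (primesNotDvd n) K) : (Nat.card P).Coprime (Nat.card K) :=
  Nat.Coprime.symm (Nat.coprime_of_dvd fun r hr h h' => (hK r hr h).2 (hP r hr h'))

theorem isPi_primesNotDvd_of_singleton {n q : ℕ} (hq : ¬ q ∣ n) {K : Subgroup G}
    (hK : IsPiSubgroup {q} K) : IsPiSubgroup (primesNotDvd n) K :=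
  fun r hr h => ⟨hr, Set.mem_singleton_iff.1 (hK r hr h) ▸ hq⟩

/-! ### Invariant subgroups -/

theorem mem_invSubgroups {H A Y : Subgroup G} {π : Set ℕ} :
    Y ∈ invSubgroups H A π ↔ Y ≤ H ∧ IsPiSubgroup π Y ∧ A ≤ normalizer (Y : Set G) := Iff.rfl

theorem mem_maxInv_top {A Q : Subgroup G} {π : Set ℕ} :
    Q ∈ maxInvSubgroups ⊤ A π ↔ IsPiSubgroup π Q ∧ A ≤ normalizer (Q : Set G) ∧
      ∀ R : Subgroup G, IsPiSubgroup π R → A ≤ normalizer (R : Set G) → Q ≤ R → R = Q :=
  ⟨fun h => ⟨h.1.2.1, h.1.2.2, fun R h1 h2 => h.2 R ⟨le_top, h1, h2⟩⟩,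
    fun h => ⟨⟨le_top, h.1, h.2.1⟩, fun R hR => h.2.2 R hR.2.1 hR.2.2⟩⟩

theorem exists_maxInv_ge [Finite G] {H A Y : Subgroup G} {π : Set ℕ} (h : Y ∈ invSubgroups H A π) :
    ∃ Q ∈ maxInvSubgroups H A π, Y ≤ Q := by
  obtain ⟨Q, h1, h2⟩ := Finite.exists_le_maximal (p := fun B => B ∈ invSubgroups H A π) h
  exact ⟨Q, ⟨h2.1, fun R hR h3 => le_antisymm (h2.2 hR h3) h3⟩, h1⟩

theorem exists_maxInv_top_ge [Finite G] {A Y : Subgroup G} {π : Set ℕ} (h1 : IsPiSubgroup π Y)
    (h2 : A ≤ normalizer (Y : Set G)) : ∃ Q ∈ maxInvSubgroups ⊤ A π, Y ≤ Q :=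
  exists_maxInv_ge ⟨le_top, h1, h2⟩

theorem le_normalizer_map_conj {A Q : Subgroup G} (h : A ≤ normalizer (Q : Set G)) {g : G}
    (hg : g ∈ normalizer (A : Set G)) :
    A ≤ normalizer ((Q.map (MulAut.conj g).toMonoidHom : Subgroup G) : Set G) := by
  rw [normalizer_map_conj, ← map_conj_eq_of_mem_normalizer hg]
  exact map_mono h

theorem maxInv_map_conj {A Q : Subgroup G} {π : Set ℕ} (h : Q ∈ maxInvSubgroups ⊤ A π) {g : G}
    (hg : g ∈ normalizer (A : Set G)) :
    Q.map (MulAut.conj g).toMonoidHom ∈ maxInvSubgroups ⊤ A π := by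
  obtain ⟨h1, h2, h3⟩ := mem_maxInv_top.1 h
  refine mem_maxInv_top.2 ⟨isPiSubgroup_map h1 _, le_normalizer_map_conj h2 hg, fun R h4 h5 h6 => ?_⟩
  rw [← h3 (R.map (MulAut.conj g⁻¹).toMonoidHom) (isPiSubgroup_map h4 _)
    (le_normalizer_map_conj h5 (inv_mem hg))
    (by rw [← map_conj_inv_map_conj g Q]; exact map_mono h6), map_conj_map_conj_inv]

theorem TransitivityHypothesis.le_piCoreOf {A X Y : Subgroup G} (hA : TransitivityHypothesis A)
    (hX : X ≠ ⊤) (hAX : A ≤ X) (hY : Y ≤ X) (hπ : IsPiSubgroup (primesNotDvd (Nat.card A)) Y)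
    (hn : A ≤ normalizer (Y : Set G)) : Y ≤ piCoreOf (primesNotDvd (Nat.card A)) X :=
  hA.2.2 X hX hAX ▸ le_sSup ⟨hY, hπ, hn⟩

theorem transitivityHypothesis_of_le [Finite G] {A : Subgroup G} (h1 : A ≠ ⊥) (h2 : A ≠ ⊤)
    (h : ∀ X Y : Subgroup G, X ≠ ⊤ → A ≤ X → Y ≤ X → IsPiSubgroup (primesNotDvd (Nat.card A)) Y →
      A ≤ normalizer (Y : Set G) → Y ≤ piCoreOf (primesNotDvd (Nat.card A)) X) :
    TransitivityHypothesis A :=
  ⟨h1, h2, fun X hX hAX => le_antisymm (sSup_le fun Y hY => h X Y hX hAX hY.1 hY.2.1 hY.2.2)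
    (le_sSup ⟨piCoreOf_le' _ X, piCoreOf_isPi _ X,
      hAX.trans (le_normalizer.trans (norm_le_norm_piCoreOf _ X))⟩)⟩

/-- Under the transitivity hypothesis, `O_{π'}(C(A))` contains all `π'`-subgroups of `C(A)`. -/
theorem TransitivityHypothesis.le_piCoreOf_cent [Finite G] (hG : IsMinSimpleOddOrder G)
    {A Y : Subgroup G} (hA : TransitivityHypothesis A) (hY : Y ≤ centralizer (A : Set G))
    (hπ : IsPiSubgroup (primesNotDvd (Nat.card A)) Y) :
    Y ≤ piCoreOf (primesNotDvd (Nat.card A)) (centralizer (A : Set G)) :=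
  (le_inf (TransitivityHypothesis.le_piCoreOf hA (mFT_norm_proper hG hA.1 hA.2.1) le_normalizer
    (hY.trans (centralizer_le_normalizer _)) hπ
    ((le_centralizer_comm hY).trans (centralizer_le_normalizer _))) hY).trans
    (piCoreOf_inf_le _ (centralizer_le_normalizer _))

/-! ### `p'`-cores -/

variable [Finite G] {p : ℕ} [hp : Fact p.Prime]

theorem le_normalizer_of_card_le_mul {P₁ P₂ : Subgroup G} (h2 : IsPGroup p P₂) (h : P₁ ≤ P₂)
    (hc : Nat.card P₂ ≤ p * Nat.card P₁) : P₂ ≤ normalizer (P₁ : Set G) := by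
  rcases h.lt_or_eq with h | rfl
  · have h1 := PGrp.mul_card_le_card_of_lt (h2.to_le inf_le_left)
      (lt_inf_normalizer_of_isPGroup h2 h)
    exact inf_eq_left.1 (eq_of_le_of_card_le inf_le_left (hc.trans h1))
  · exact le_normalizer

theorem le_p'core_of_le_p'pcore {X L : Subgroup G} (h : L ≤ (pPrimePCore p X).map X.subtype)
    (hL : (Nat.card L).Coprime p) : L ≤ (pPrimeCore p X).map X.subtype := by
  intro x hx
  obtain ⟨y, hy, rfl⟩ := h hx
  obtain ⟨k, hk⟩ := pSec_pPrimePCore y hy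
  obtain ⟨m, hm⟩ := exists_pow_eq_self_of_coprime (x := y) (n := p ^ k) (by
    rw [← orderOf_coe]
    exact ((hL.coprime_dvd_left (L.orderOf_dvd_natCard hx)).pow_right k).symm)
  exact mem_map_of_mem _ (hm ▸ pow_mem hk m)

theorem commutator_le_p'core {X Y A : Subgroup G} (hY : Y ≤ X) (hYp : (Nat.card Y).Coprime p)
    (hA : A ≤ (pPrimePCore p X).map X.subtype) (hn : A ≤ normalizer (Y : Set G)) :
    ⁅Y, A⁆ ≤ (pPrimeCore p X).map X.subtype := by
  have := pPrimePCore_normal' (p := p) (G := X)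
  refine le_p'core_of_le_p'pcore ((commutator_mono hY hA).trans ?_)
    (hYp.coprime_dvd_left (card_dvd_of_le (Cop.commutator_le_left_of_le_normalizer hn)))
  rw [Subgroup.commutator_comm]
  exact Cop.commutator_le_left_of_le_normalizer (le_normalizer_map_subtype _)

theorem p'core_cent_inf_le {X R : Subgroup G} (hX : Group.IsSolvable X) (hR : IsPGroup p R)
    (hRX : R ≤ X) :
    (pPrimeCore p (centralizer (R : Set G))).map (centralizer (R : Set G)).subtype ⊓ X ≤
      (pPrimeCore p X).map X.subtype :=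
  le_p'core_of_cent_pgroup hX hR hRX inf_le_right
    ((map_pPrimeCore_coprime p _).coprime_dvd_left (card_dvd_of_le inf_le_left))
    (inf_le_left.trans (map_subtype_le _))
    (le_normalizer_inf (inf_le_right.trans (le_normalizer.trans
      (normalizer_le_normalizer_map_pPrimeCore p _))) (inf_le_left.trans le_normalizer))

theorem p'core_cent1_inf_le {X : Subgroup G} (hX : Group.IsSolvable X) {R : Subgroup G}
    (hR : IsPGroup p R) {b : G} (hb : b ∈ R) (hbX : b ∈ X) :
    (pPrimeCore p (centralizer ({b} : Set G))).map (centralizer ({b} : Set G)).subtype ⊓ X ≤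
      (pPrimeCore p X).map X.subtype := by
  have := p'core_cent_inf_le hX (hR.to_le (zpowers_le.2 hb)) (zpowers_le.2 hbX)
  rwa [cent_zpowers] at this

theorem le_p'core_cent_of_SCN (P : Sylow p G) {A Y : Subgroup G} (hA : IsSCN (P : Subgroup G) A)
    (hY : Y ≤ centralizer (A : Set G)) (hYp : (Nat.card Y).Coprime p) :
    Y ≤ (pPrimeCore p (centralizer (A : Set G))).map (centralizer (A : Set G)).subtype := by
  refine Cop.le_of_coprime_relIndex hY (le_normalizer.trans
    (normalizer_le_normalizer_map_pPrimeCore p _)) ?_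
  have h := relIndex_sup_of_le_normalizer (H := A)
    (N := (pPrimeCore p (centralizer (A : Set G))).map (centralizer (A : Set G)).subtype)
    ((IsSCN.le_centralizer hA).trans (le_normalizer.trans
      (normalizer_le_normalizer_map_pPrimeCore p _)))
  rw [SCN_Sylow_cent_dprod P hA] at h
  rw [h]
  exact (Cop.coprime_card_of_isPGroup hYp (P.isPGroup'.to_le hA.1)).coprime_dvd_right
    (relIndex_dvd_card _ _)

end CfsgLib.FT
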