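import Mathlib
import Cfsg.Agent.Lib.FT.BG10Defs
import Cfsg.Agent.Lib.FT.BGRank
import Cfsg.Agent.Lib.FT.BG7b
import Cfsg.Agent.Lib.CoreElements
import Cfsg.Agent.Lib.CoreFitting
import Cfsg.Agent.Lib.CoprimePGroup
import Cfsg.Agent.Lib.CoprimeSylow
import Cfsg.Agent.Lib.CoprimeGen
import Cfsg.Agent.Lib.H1Misc
import Cfsg.Agent.Lib.CommCalc
import Cfsg.Agent.Lib.H8NilpotentHall

/-! Ambient toolkit for BG 10–13, part 1: conjugation, `π`-cores, Hall and Sylow subgroups,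
nilpotent and cyclic subgroups, subgroups of prime order. -/

set_option autoImplicit false

namespace CfsgLib.FT

open Subgroup Cfsg BGN
open scoped commutatorElement

variable {G : Type*} [Group G] {π : Set ℕ} {p : ℕ}

/-! ### Conjugation -/

theorem cj_cj (g h : G) (H : Subgroup G) : g •ᶜ (h •ᶜ H) = (g * h) •ᶜ H := by
  rw [map_map]; congr 1; ext x; simp [mul_assoc]

theorem cj_le_iff {g : G} {X H : Subgroup G} : g •ᶜ X ≤ H ↔ X ≤ g⁻¹ •ᶜ H :=
  ⟨fun h => by rw [← map_conj_inv_map_conj g X]; exact map_mono h,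
    fun h => by rw [← map_conj_map_conj_inv g H]; exact map_mono h⟩

theorem le_cj_iff {g : G} {X H : Subgroup G} : X ≤ g •ᶜ H ↔ g⁻¹ •ᶜ X ≤ H := by
  rw [cj_le_iff, inv_inv]

theorem cj_le_cj_iff {g : G} {X H : Subgroup G} : g •ᶜ X ≤ g •ᶜ H ↔ X ≤ H := by
  rw [cj_le_iff, map_conj_inv_map_conj]

theorem cj_inj {g : G} {X H : Subgroup G} : g •ᶜ X = g •ᶜ H ↔ X = H := by
  simp only [le_antisymm_iff, cj_le_cj_iff]

theorem cj_eq_iff {g : G} {X H : Subgroup G} : g •ᶜ X = H ↔ X = g⁻¹ •ᶜ H :=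
  ⟨fun h => by rw [← h, map_conj_inv_map_conj], fun h => by rw [h, map_conj_map_conj_inv]⟩

theorem cj_eq_bot_iff {g : G} {X : Subgroup G} : g •ᶜ X = ⊥ ↔ X = ⊥ :=
  map_eq_bot_iff_of_injective _ (MulAut.conj g).injective

theorem cj_top (g : G) : g •ᶜ (⊤ : Subgroup G) = ⊤ :=
  map_top_of_surjective _ (MulAut.conj g).surjective

theorem cj_eq_of_mem {g : G} {H : Subgroup G} (hg : g ∈ H) : g •ᶜ H = H :=
  map_conj_eq_of_mem_normalizer (le_normalizer hg)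

theorem cj_eq_of_mem_cent {g : G} {H : Subgroup G} (hg : g ∈ 𝐂(H)) : g •ᶜ H = H :=
  map_conj_eq_of_mem_normalizer (centralizer_le_normalizer _ hg)

theorem cj_le_of_norm {g : G} {X H : Subgroup G} (h : X ≤ H) (hg : g ∈ 𝐍(H)) : g •ᶜ X ≤ H :=
  map_conj_eq_of_mem_normalizer hg ▸ map_mono h

theorem le_cj_of_cent {g : G} {X H : Subgroup G} (h : X ≤ H) (hg : g ∈ 𝐂(X)) : X ≤ g •ᶜ H :=
  cj_eq_of_mem_cent hg ▸ map_mono h

theorem cj_sup (g : G) (H K : Subgroup G) : g •ᶜ (H ⊔ K) = g •ᶜ H ⊔ g •ᶜ K := Subgroup.map_sup _ _ _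

theorem cj_commutator (g : G) (H K : Subgroup G) : g •ᶜ ⁅H, K⁆ = ⁅g •ᶜ H, g •ᶜ K⁆ :=
  map_commutator _ _ _

theorem cj_cent1 (g x : G) : g •ᶜ 𝐂[x] = 𝐂[g * x * g⁻¹] := by
  rw [← H1.centralizer_zpowers_eq, ← H1.centralizer_zpowers_eq, ← centralizer_map_conj,
    MonoidHom.map_zpowers]
  rfl

theorem cj_zpowers (g x : G) : g •ᶜ zpowers x = zpowers (g * x * g⁻¹) :=
  MonoidHom.map_zpowers _ _

theorem isPi_cj {H : Subgroup G} (h : IsPiSubgroup π H) (g : G) : IsPiSubgroup π (g •ᶜ H) :=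
  isPiSubgroup_map h _

theorem hall_cj {H M : Subgroup G} (h : IsPiHallOf π H M) (g : G) :
    IsPiHallOf π (g •ᶜ H) (g •ᶜ M) :=
  Hall.isPiHallOf_map_of_injective h (MulAut.conj g).injective

theorem isCyclic_cj {H : Subgroup G} (h : IsCyclic H) (g : G) : IsCyclic (g •ᶜ H) :=
  (H.equivMapOfInjective _ (MulAut.conj g).injective).isCyclic.1 h

theorem comm_cj {H : Subgroup G} (h : IsMulCommutative H) (g : G) : IsMulCommutative (g •ᶜ H) :=
  inferInstance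

theorem le_norm_cj {g : G} {X H : Subgroup G} (h : X ≤ 𝐍(H)) : g •ᶜ X ≤ 𝐍(g •ᶜ H) := by
  rw [normalizer_map_conj]; exact map_mono h

theorem le_cent_cj {g : G} {X H : Subgroup G} (h : X ≤ 𝐂(H)) : g •ᶜ X ≤ 𝐂(g •ᶜ H) := by
  rw [centralizer_map_conj]; exact map_mono h

theorem relIndex_cj (g : G) (H K : Subgroup G) : (g •ᶜ H).relIndex (g •ᶜ K) = H.relIndex K :=
  relIndex_map_map_of_injective _ _ (MulAut.conj g).injective

theorem norm_le_norm_of_forall {H K : Subgroup G} (h : ∀ g : G, g •ᶜ H = H → g •ᶜ K = K) :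
    𝐍(H) ≤ 𝐍(K) := fun g hg =>
  mem_normalizer_of_map_conj_eq (h g (map_conj_eq_of_mem_normalizer hg))

theorem NotConj.ne {H M : Subgroup G} (h : NotConj H M) : H ≠ M := by
  have := h 1
  rwa [map_conj_one] at this

theorem NotConj.symm {H M : Subgroup G} (h : NotConj H M) : NotConj M H := fun g hg =>
  h g⁻¹ (by rw [hg, map_conj_inv_map_conj])

theorem NotConj.cj_left {H M : Subgroup G} (h : NotConj H M) (g : G) : NotConj (g •ᶜ H) M :=
  fun x hx => h (g⁻¹ * x) (by rw [← cj_cj, ← hx, map_conj_inv_map_conj])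

theorem NotConj.cj_right {H M : Subgroup G} (h : NotConj H M) (g : G) : NotConj H (g •ᶜ M) :=
  (h.symm.cj_left g).symm

theorem P2Elem.mono {A H K : Subgroup G} (h : P2Elem p A H) (hK : H ≤ K) : P2Elem p A K :=
  ⟨h.1.trans hK, h.2⟩

theorem P2Elem.of_le {A H K : Subgroup G} (h : P2Elem p A H) (hK : A ≤ K) : P2Elem p A K :=
  ⟨hK, h.2⟩

theorem P2Elem.isPGroup {A H : Subgroup G} (h : P2Elem p A H) : IsPGroup p A :=
  elemAb_isPGroup h.2.1

theorem P2Elem.comm {A H : Subgroup G} (h : P2Elem p A H) : IsMulCommutative A := h.2.1.1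

theorem P2Elem.le_cent {A H : Subgroup G} (h : P2Elem p A H) : A ≤ 𝐂(A) :=
  elemAb_le_centralizer h.2.1

theorem P2Elem.cj {A H : Subgroup G} (h : P2Elem p A H) (g : G) : P2Elem p (g •ᶜ A) (g •ᶜ H) :=
  ⟨map_mono h.1, elemAb_map h.2.1 _, by rw [card_map_conj, h.2.2]⟩

theorem P2Elem.not_rank [hp : Fact p.Prime] {A H : Subgroup G} (h : P2Elem p A H) :
    ¬ PRankLE p 1 H :=
  not_pRankLE_of_le h.1 h.2.1 (by rw [h.2.2]; exact Nat.pow_lt_pow_right hp.out.one_lt (by norm_num))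

theorem P2Elem.not_rank' [hp : Fact p.Prime] {A H : Subgroup G} (h : P2Elem p A H) :
    ¬ RankLE 1 H := fun h' => h.not_rank (h' p hp.out)

theorem P2Elem.not_isCyclic [Fact p.Prime] {A H : Subgroup G} (h : P2Elem p A H) :
    ¬ IsCyclic A := fun h' => (h.of_le le_rfl).not_rank (pRankLE_one_of_isCyclic h')

theorem P2Elem.ne_bot [Fact p.Prime] {A H : Subgroup G} (h : P2Elem p A H) : A ≠ ⊥ := by
  rintro rfl
  exact h.not_isCyclic inferInstance

theorem P2Elem.dvd_card {A H : Subgroup G} (h : P2Elem p A H) : p ∣ Nat.card H :=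
  (h.2.2 ▸ dvd_pow_self p two_ne_zero : p ∣ Nat.card A).trans (card_dvd_of_le h.1)

theorem exists_p2Elem [Finite G] [Fact p.Prime] {H : Subgroup G} (h : ¬ PRankLE p 1 H) :
    ∃ A, P2Elem p A H := not_pRankLE_iff.1 h

theorem PMaxElem.mem {A : Subgroup G} (h : PMaxElem p A) (hA : IsElementaryAbelian p A) {x : G}
    (hx : x ∈ 𝐂(A)) (hp : x ^ p = 1) : x ∈ A := by
  rw [← h (A ⊔ zpowers x) (elemAb_sup hA (elemAb_zpowers hp) (zpowers_le.2 hx)) le_sup_left]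
  exact mem_sup_right (mem_zpowers x)

theorem PMaxElem.omega_le {A R : Subgroup G} (h : PMaxElem p A) (hA : IsElementaryAbelian p A)
    (hR : R ≤ 𝐂(A)) : omegaOne p R ≤ A :=
  omegaOne_le_iff.2 fun _ hx hp => h.mem hA (hR hx) hp

theorem PMaxElem.cj {A : Subgroup G} (h : PMaxElem p A) (g : G) : PMaxElem p (g •ᶜ A) :=
  fun B hB hAB => by
    rw [← h (g⁻¹ •ᶜ B) (elemAb_map hB _) (cj_le_iff.1 hAB), map_conj_map_conj_inv]

theorem UniqMax.le {X M : Subgroup G} (h : UniqMax X M) : X ≤ M := h.1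

theorem UniqMax.eq {X M L : Subgroup G} (h : UniqMax X M) (hL : IsCoatom L) (hXL : X ≤ L) :
    L = M := h.2 L hL hXL

theorem UniqMax.inUniq {X M : Subgroup G} (h : UniqMax X M) (hM : IsCoatom M) :
    InUniqueMaximal X := ⟨M, ⟨hM, h.1⟩, fun L hL => h.2 L hL.1 hL.2⟩

theorem uniqMax_of_inUniq {X M : Subgroup G} (h : InUniqueMaximal X) (hM : IsCoatom M)
    (hXM : X ≤ M) : UniqMax X M := ⟨hXM, fun _ hL hXL => h.unique ⟨hL, hXL⟩ ⟨hM, hXM⟩⟩

theorem UniqMax.le_of_ne_top [Finite G] {X M H : Subgroup G} (h : UniqMax X M) (hXH : X ≤ H)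
    (hH : H ≠ ⊤) : H ≤ M := by
  obtain ⟨L, hL, hHL⟩ := (eq_top_or_exists_le_coatom H).resolve_left hH
  exact h.eq hL (hXH.trans hHL) ▸ hHL

theorem UniqMax.mono [Finite G] {X M H : Subgroup G} (h : UniqMax X M) (hXH : X ≤ H)
    (hH : H ≠ ⊤) : UniqMax H M :=
  ⟨h.le_of_ne_top hXH hH, fun _ hL hHL => h.eq hL (hXH.trans hHL)⟩

theorem UniqMax.cj {X M : Subgroup G} (h : UniqMax X M) (g : G) : UniqMax (g •ᶜ X) (g •ᶜ M) :=
  ⟨map_mono h.1, fun L hL hXL => by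
    rw [← h.eq (((MulAut.conj g⁻¹).mapSubgroup.isCoatom_iff L).2 hL) (cj_le_iff.1 hXL)]
    exact (map_conj_map_conj_inv g L).symm⟩

/-! ### `π`-numbers and `π`-subgroups -/

theorem isPi_of_isPGroup [Finite G] [Fact p.Prime] {X : Subgroup G} (hX : IsPGroup p X)
    (h : p ∈ π) : IsPiSubgroup π X :=
  isPiSubgroup_mono (isPGroup_iff_isPiSubgroup.1 hX) (Set.singleton_subset_iff.2 h)

theorem mem_of_isPi_of_isPGroup [Finite G] [hp : Fact p.Prime] {X : Subgroup G}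
    (hX : IsPGroup p X) (h1 : X ≠ ⊥) (h : IsPiSubgroup π X) : p ∈ π := by
  refine h p hp.out ?_
  obtain ⟨n, hn⟩ := IsPGroup.iff_card.1 hX
  rcases n with _ | n
  · exact absurd ((eq_bot_iff_card X).2 (by simpa using hn)) h1
  · rw [hn]; exact dvd_pow_self p n.succ_ne_zero

theorem dvd_card_of_isPGroup [Finite G] [Fact p.Prime] {X : Subgroup G}
    (hX : IsPGroup p X) (h1 : X ≠ ⊥) : p ∣ Nat.card X :=
  mem_of_isPi_of_isPGroup (π := {q | q ∣ Nat.card X}) hX h1 fun _ _ h => h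

theorem isPi_compl_of_not_dvd [hp : Fact p.Prime] {X : Subgroup G} (h : ¬ p ∣ Nat.card X) :
    IsPiSubgroup {p}ᶜ X := fun _ _ hq e => h (Set.mem_singleton_iff.1 e ▸ hq)

theorem isPi_inf_left {X Y : Subgroup G} (h : IsPiSubgroup π X) : IsPiSubgroup π (X ⊓ Y) :=
  isPiSubgroup_of_le h inf_le_left

theorem isPi_inf_right {X Y : Subgroup G} (h : IsPiSubgroup π Y) : IsPiSubgroup π (X ⊓ Y) :=
  isPiSubgroup_of_le h inf_le_right

theorem coprime_of_isPi {X Y : Subgroup G} (hX : IsPiSubgroup π X) (hY : IsPiSubgroup πᶜ Y) :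
    (Nat.card X).Coprime (Nat.card Y) := IsPiNum.coprime_compl hX hY

theorem inf_eq_bot_of_cop {X Y : Subgroup G} (h : (Nat.card X).Coprime (Nat.card Y)) :
    X ⊓ Y = ⊥ := disjoint_iff.1 (disjoint_of_coprime_natCard h)

theorem inf_eq_bot_of_isPi [Finite G] {X Y : Subgroup G} (hX : IsPiSubgroup π X)
    (hY : IsPiSubgroup πᶜ Y) : X ⊓ Y = ⊥ := inf_eq_bot_of_cop (coprime_of_isPi hX hY)

theorem eq_bot_of_isPi [Finite G] {X : Subgroup G} (hX : IsPiSubgroup π X)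
    (hY : IsPiSubgroup πᶜ X) : X = ⊥ := by simpa using inf_eq_bot_of_isPi hX hY

theorem coprime_of_isPGroup_of_isPi [Finite G] [Fact p.Prime] {X Y : Subgroup G}
    (hX : IsPGroup p X) (hY : IsPiSubgroup π Y) (hp : p ∉ π) :
    (Nat.card X).Coprime (Nat.card Y) :=
  (coprime_of_isPi hY (isPi_of_isPGroup hX hp)).symm

theorem coprime_of_isPGroup_ne [Finite G] {q : ℕ} [Fact p.Prime] [Fact q.Prime] {X Y : Subgroup G}
    (hX : IsPGroup p X) (hY : IsPGroup q Y) (h : p ≠ q) : (Nat.card X).Coprime (Nat.card Y) :=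
  coprime_of_isPGroup_of_isPi hX (isPGroup_iff_isPiSubgroup.1 hY) h

theorem coprime_mono {X Y X' Y' : Subgroup G} (h : (Nat.card X).Coprime (Nat.card Y))
    (hX : X' ≤ X) (hY : Y' ≤ Y) : (Nat.card X').Coprime (Nat.card Y') :=
  (h.coprime_dvd_left (card_dvd_of_le hX)).coprime_dvd_right (card_dvd_of_le hY)

theorem exists_prime_dvd_card [Finite G] {X : Subgroup G} (h : X ≠ ⊥) :
    ∃ q : ℕ, q.Prime ∧ q ∣ Nat.card X :=
  Nat.exists_prime_and_dvd fun h' => h ((eq_bot_iff_card X).2 h')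

theorem ne_bot_of_dvd_card [hp : Fact p.Prime] {X : Subgroup G} (h : p ∣ Nat.card X) : X ≠ ⊥ := by
  rintro rfl
  exact hp.out.one_lt.ne' (by simpa using h)

theorem isPi_sup' {X Y : Subgroup G} (h : Y ≤ 𝐍(X)) (hX : IsPiSubgroup π X)
    (hY : IsPiSubgroup π Y) : IsPiSubgroup π (X ⊔ Y) := by
  rw [sup_comm]; exact isPiSubgroup_sup h hY hX

theorem isPGroup_sup' {X Y : Subgroup G} (h : Y ≤ 𝐍(X)) (hX : IsPGroup p X)
    (hY : IsPGroup p Y) : IsPGroup p (X ⊔ Y : Subgroup G) :=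
  IsPGroup.to_sup_of_normal_left' hX hY h

/-! ### Subgroups of prime order -/

theorem exists_card_prime_le [Finite G] [Fact p.Prime] {H : Subgroup G} (h : p ∣ Nat.card H) :
    ∃ X ≤ H, Nat.card X = p := by
  obtain ⟨x, hx⟩ := exists_prime_orderOf_dvd_card' p h
  exact ⟨zpowers (x : G), zpowers_le.2 x.2, by rw [Nat.card_zpowers, Subgroup.orderOf_coe, hx]⟩

theorem isPGroup_of_card_prime {X : Subgroup G} (h : Nat.card X = p) : IsPGroup p X :=
  IsPGroup.of_card (n := 1) (by rw [h, pow_one])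

theorem ne_bot_of_card_prime [Fact p.Prime] {X : Subgroup G} (h : Nat.card X = p) : X ≠ ⊥ :=
  ne_bot_of_dvd_card h.symm.dvd

theorem isPi_of_card_prime [hp : Fact p.Prime] {X : Subgroup G} (h : Nat.card X = p) (hπ : p ∈ π) :
    IsPiSubgroup π X := by
  unfold IsPiSubgroup; rw [h]; exact isPiNum_prime hp.out hπ

theorem eq_of_card_prime [hp : Fact p.Prime] {X Y : Subgroup G} (h : Nat.card X = p) (hY : Y ≤ X)
    (h1 : Y ≠ ⊥) : Y = X := by
  have : Finite X := Nat.finite_of_card_ne_zero (h ▸ hp.out.ne_zero)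
  have : Finite Y := Finite.of_injective _ (inclusion_injective hY)
  rcases (Nat.dvd_prime hp.out).1 (h ▸ card_dvd_of_le hY) with h2 | h2
  · exact absurd ((eq_bot_iff_card Y).2 h2) h1
  · exact Subgroup.eq_of_le_of_card_ge hY (by rw [h, h2])

theorem le_or_inf_eq_bot [Fact p.Prime] {X : Subgroup G} (h : Nat.card X = p) (Y : Subgroup G) :
    X ≤ Y ∨ X ⊓ Y = ⊥ := by
  by_cases h1 : X ⊓ Y = ⊥
  · exact Or.inr h1
  · exact Or.inl (inf_eq_left.1 (eq_of_card_prime h inf_le_left h1))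

theorem zpowers_eq_prime [Fact p.Prime] {X : Subgroup G} (h : Nat.card X = p) {x : G}
    (hx : x ∈ X) (h1 : x ≠ 1) : zpowers x = X :=
  eq_of_card_prime h (zpowers_le.2 hx) (zpowers_ne_bot.2 h1)

theorem cent1_eq_of_card_prime [Fact p.Prime] {X : Subgroup G} (h : Nat.card X = p) {x : G}
    (hx : x ∈ X) (h1 : x ≠ 1) : 𝐂[x] = 𝐂(X) := by
  rw [← zpowers_eq_prime h hx h1, H1.centralizer_zpowers_eq]

theorem exists_mem_ne_one {X : Subgroup G} (h : X ≠ ⊥) : ∃ x ∈ X, x ≠ 1 := by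
  obtain ⟨⟨x, hx⟩, hx1⟩ := ne_bot_iff_exists_ne_one.1 h
  exact ⟨x, hx, fun e => hx1 (Subtype.ext e)⟩

theorem ne_bot_of_mem {X : Subgroup G} {x : G} (hx : x ∈ X) (h1 : x ≠ 1) : X ≠ ⊥ :=
  fun h => h1 (by rwa [h, mem_bot] at hx)

theorem card_zpowers_of_pow_eq_one [hp : Fact p.Prime] {x : G} (hx : x ^ p = 1) (h1 : x ≠ 1) :
    Nat.card (zpowers x) = p := by
  rw [Nat.card_zpowers, orderOf_eq_prime hx h1]

theorem pow_eq_one_of_card_prime {X : Subgroup G} (h : Nat.card X = p) {x : G} (hx : x ∈ X) :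
    x ^ p = 1 := by
  have := pow_card_eq_one' (x := (⟨x, hx⟩ : X))
  rw [h] at this
  exact congrArg Subtype.val this

theorem le_cent_of_card_prime [Fact p.Prime] {X : Subgroup G} (h : Nat.card X = p) : X ≤ 𝐂(X) :=
  elemAb_le_centralizer (elemAb_of_card_eq_prime h)

/-- A subgroup of prime order of `⟨x⟩`. -/
theorem exists_prime_le_zpowers [Finite G] {x : G} (h : x ≠ 1) :
    ∃ q : ℕ, q.Prime ∧ q ∣ orderOf x ∧ ∃ X ≤ zpowers x, Nat.card X = q := by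
  obtain ⟨q, hq, hd⟩ := exists_prime_dvd_card (zpowers_ne_bot.2 h)
  have := Fact.mk hq
  exact ⟨q, hq, Nat.card_zpowers x ▸ hd, exists_card_prime_le hd⟩

theorem cent1_le_cent {x : G} {X : Subgroup G} (h : X ≤ zpowers x) : 𝐂[x] ≤ 𝐂(X) := by
  rw [← H1.centralizer_zpowers_eq]; exact centralizer_antitone h

theorem cent_sup (X Y : Subgroup G) : 𝐂(X ⊔ Y) = 𝐂(X) ⊓ 𝐂(Y) :=
  le_antisymm (le_inf (centralizer_antitone le_sup_left) (centralizer_antitone le_sup_right))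
    (le_centralizer_comm (sup_le (le_centralizer_comm inf_le_left)
      (le_centralizer_comm inf_le_right)))

theorem cent_le_norm (X : Subgroup G) : 𝐂(X) ≤ 𝐍(X) := centralizer_le_normalizer _

theorem comm_eq_bot_iff {X Y : Subgroup G} : ⁅X, Y⁆ = ⊥ ↔ X ≤ 𝐂(Y) :=
  commutator_eq_bot_iff_le_centralizer

theorem comm_le_inf {X Y : Subgroup G} (hX : X ≤ 𝐍(Y)) (hY : Y ≤ 𝐍(X)) : ⁅X, Y⁆ ≤ X ⊓ Y :=
  le_inf (Cop.commutator_le_left_of_le_normalizer hY)
    (by rw [Subgroup.commutator_comm]; exact Cop.commutator_le_left_of_le_normalizer hX)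

theorem comm_le_right {X Y : Subgroup G} (hX : X ≤ 𝐍(Y)) : ⁅X, Y⁆ ≤ Y := by
  rw [Subgroup.commutator_comm]; exact Cop.commutator_le_left_of_le_normalizer hX

theorem le_cent_of_norm_of_inf {X Y : Subgroup G} (hX : X ≤ 𝐍(Y)) (hY : Y ≤ 𝐍(X))
    (h : X ⊓ Y = ⊥) : X ≤ 𝐂(Y) := comm_eq_bot_iff.1 (le_bot_iff.1 (h ▸ comm_le_inf hX hY))

theorem der_le (H : Subgroup G) : ⁅H, H⁆ ≤ H := comm_le_right le_normalizer

theorem norm_le_norm_der (H : Subgroup G) : 𝐍(H) ≤ 𝐍(⁅H, H⁆) :=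
  Cop.le_normalizer_commutator le_rfl le_rfl

theorem le_norm_der (H : Subgroup G) : H ≤ 𝐍(⁅H, H⁆) := le_normalizer.trans (norm_le_norm_der H)

theorem le_norm_of_der_le {H K : Subgroup G} (h1 : ⁅H, H⁆ ≤ K) (h2 : K ≤ H) : H ≤ 𝐍(K) :=
  Cop.le_normalizer_of_commutator_le ((commutator_mono le_rfl le_rfl).trans h1) h2 |>.trans le_rfl

theorem map_subtype_der (H : Subgroup G) : (_root_.commutator H).map H.subtype = ⁅H, H⁆ := by
  rw [_root_.commutator_def, map_commutator, ← MonoidHom.range_eq_map, range_subtype]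

theorem der_subgroupOf (H : Subgroup G) : ⁅H, H⁆.subgroupOf H = _root_.commutator H := by
  rw [← map_subtype_der, subgroupOf, comap_map_eq_self_of_injective H.subtype_injective]

theorem der_lt_of_solvable {H : Subgroup G} (hs : Group.IsSolvable H) (h1 : H ≠ ⊥) :
    ⁅H, H⁆ < H := by
  have := (nontrivial_iff_ne_bot H).2 h1
  refine lt_of_le_of_ne (der_le H) fun e => ?_
  have h := Group.IsSolvable.commutator_lt_top_of_nontrivial H
  rw [← der_subgroupOf, e, subgroupOf_self] at h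
  exact lt_irrefl _ h

theorem eq_bot_of_le_der {H : Subgroup G} (hs : Group.IsSolvable H) (h : H ≤ ⁅H, H⁆) : H = ⊥ := by
  by_contra h1
  exact (der_lt_of_solvable hs h1).not_ge h

/-- Dedekind's law. -/
theorem sup_inf_of_le {N U K : Subgroup G} (hn : U ≤ 𝐍(N)) (h : N ≤ K) :
    (N ⊔ U) ⊓ K = N ⊔ (U ⊓ K) := by
  refine le_antisymm (fun x hx => ?_) (sup_le (le_inf le_sup_left h) (inf_le_inf_right _ le_sup_right))
  obtain ⟨n, hn', u, hu, rfl⟩ := (mem_sup_iff_of_le_normalizer' hn).1 hx.1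
  exact mul_mem_sup hn' ⟨hu, (K.mul_mem_cancel_left (h hn')).1 hx.2⟩

/-- Dedekind's law. -/
theorem sup_inf_of_le' {N U K : Subgroup G} (hn : U ≤ 𝐍(N)) (h : U ≤ K) :
    (N ⊔ U) ⊓ K = (N ⊓ K) ⊔ U := by
  refine le_antisymm (fun x hx => ?_) (sup_le (inf_le_inf_right _ le_sup_left) (le_inf le_sup_right h))
  obtain ⟨n, hn', u, hu, rfl⟩ := (mem_sup_iff_of_le_normalizer' hn).1 hx.1
  exact mul_mem_sup ⟨hn', (K.mul_mem_cancel_right (h hu)).1 hx.2⟩ hu

theorem mem_sup_norm {N U : Subgroup G} (hn : U ≤ 𝐍(N)) {x : G} (hx : x ∈ N ⊔ U) :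
    ∃ n ∈ N, ∃ u ∈ U, n * u = x :=
  (mem_sup_iff_of_le_normalizer' hn).1 hx

theorem der_sup_le {N U : Subgroup G} (hn : U ≤ 𝐍(N)) : ⁅N ⊔ U, N ⊔ U⁆ ≤ N ⊔ ⁅U, U⁆ := by
  have h1 : U ≤ 𝐍(N ⊔ ⁅U, U⁆) := le_normalizer_sup hn (le_norm_der U)
  have h2 : N ≤ 𝐍(N ⊔ ⁅U, U⁆) := le_sup_left.trans le_normalizer
  have h3 : ⁅N, N ⊔ U⁆ ≤ N := Cop.commutator_le_left_of_le_normalizer (sup_le le_normalizer hn)
  refine CommCalc.commutator_sup_left_le h2 h1 (h3.trans le_sup_left) ?_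
  exact CommCalc.commutator_sup_right_le h2 h1 ((comm_le_right hn).trans le_sup_left) le_sup_right

end CfsgLib.FT
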