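import Mathlib
import Cfsg.Agent.Lib.FT.BG10T1
import Cfsg.Agent.Lib.H9PLength
import Cfsg.Agent.Lib.H5Kegel
import Cfsg.Agent.Lib.PComplement

/-! Ambient toolkit for BG 10–13, part 2: `π`-cores, Hall and Sylow subgroups, nilpotent and cyclic
subgroups. -/

set_option autoImplicit false

namespace CfsgLib.FT

open Subgroup Cfsg BGN
open scoped commutatorElement

variable {G : Type*} [Group G] {π : Set ℕ} {p : ℕ}

/-! ### `π`-cores -/

theorem piCoreOf_le (π : Set ℕ) (H : Subgroup G) : piCoreOf π H ≤ H := map_subtype_le _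

theorem le_norm_piCoreOf (π : Set ℕ) (H : Subgroup G) : H ≤ 𝐍(piCoreOf π H) :=
  le_normalizer_map_subtype _

theorem le_piCoreOf {H A : Subgroup G} (h1 : A ≤ H) (h2 : H ≤ 𝐍(A)) (h : IsPiSubgroup π A) :
    A ≤ piCoreOf π H := le_map_piCore h1 h2 h

theorem piCoreOf_mono_set [Finite G] {ρ : Set ℕ} (h : ∀ q : ℕ, q.Prime → q ∈ π → q ∈ ρ)
    (H : Subgroup G) : piCoreOf π H ≤ piCoreOf ρ H :=
  le_piCoreOf (piCoreOf_le _ _) (le_norm_piCoreOf _ _)
    fun q hq hd => h q hq (piCoreOf_isPi π H q hq hd)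

theorem piCoreOf_congr [Finite G] {ρ : Set ℕ} (h : ∀ q : ℕ, q.Prime → (q ∈ π ↔ q ∈ ρ))
    (H : Subgroup G) : piCoreOf π H = piCoreOf ρ H :=
  le_antisymm (piCoreOf_mono_set (fun q hq => (h q hq).1) H)
    (piCoreOf_mono_set (fun q hq => (h q hq).2) H)

theorem piCoreOf_cj [Finite G] (π : Set ℕ) (g : G) (M : Subgroup G) :
    piCoreOf π (g •ᶜ M) = g •ᶜ piCoreOf π M := by
  have key : ∀ (g : G) (M : Subgroup G), g •ᶜ piCoreOf π M ≤ piCoreOf π (g •ᶜ M) := fun g M =>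
    le_piCoreOf (map_mono (piCoreOf_le _ _)) (le_norm_cj (le_norm_piCoreOf _ _))
      (isPi_cj (piCoreOf_isPi _ _) g)
  refine le_antisymm ?_ (key g M)
  have := key g⁻¹ (g •ᶜ M)
  rwa [map_conj_inv_map_conj, ← le_cj_iff] at this

/-- `O_π(K) ≤ O_π(H)` for `K ⊴ H`. -/
theorem piCoreOf_le_of_norm [Finite G] {K H : Subgroup G} (h1 : K ≤ H) (h2 : H ≤ 𝐍(K)) :
    piCoreOf π K ≤ piCoreOf π H :=
  le_piCoreOf ((piCoreOf_le _ _).trans h1) (h2.trans (norm_le_norm_piCoreOf _ _))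
    (piCoreOf_isPi _ _)

theorem piCoreOf_subgroupOf (π : Set ℕ) (H : Subgroup G) :
    (piCoreOf π H).subgroupOf H = piCore π H :=
  comap_map_eq_self_of_injective H.subtype_injective _

theorem relIndex_piCoreOf (π : Set ℕ) (H : Subgroup G) :
    (piCoreOf π H).relIndex H = (piCore π H).index := by
  rw [relIndex, piCoreOf_subgroupOf]

theorem piCoreOf_compl_eq [Fact p.Prime] (H : Subgroup G) :
    piCoreOf {p}ᶜ H = (pPrimeCore p H).map H.subtype := by
  rw [pPrimeCore_eq_piCore]; rfl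

theorem piCoreOf_primesNotDvd [Finite G] [hp : Fact p.Prime] {n k : ℕ} (hn : n = p ^ (k + 1))
    (H : Subgroup G) : piCoreOf (primesNotDvd n) H = piCoreOf {p}ᶜ H :=
  piCoreOf_congr (fun q hq => by
    rw [hn]
    simp only [primesNotDvd, Set.mem_ofPred_eq, hq, true_and, Set.mem_compl_iff,
      Set.mem_singleton_iff, hq.prime.dvd_pow_iff_dvd k.succ_ne_zero,
      Nat.prime_dvd_prime_iff_eq hq hp.out]) H

theorem piCoreOf_isPGroup [Finite G] [Fact p.Prime] (H : Subgroup G) :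
    IsPGroup p (piCoreOf {p} H) := isPGroup_iff_isPiSubgroup.2 (piCoreOf_isPi _ _)

/-! ### Hall subgroups -/

theorem hall_isPi {H M : Subgroup G} (h : IsPiHallOf π H M) : IsPiSubgroup π H := h.2.1

theorem hall_relIndex {H M : Subgroup G} (h : IsPiHallOf π H M) : IsPiNum πᶜ (H.relIndex M) :=
  fun q hq hd hπ => h.2.2 q hq hπ hd

theorem hall_intro {H M : Subgroup G} (h1 : H ≤ M) (h2 : IsPiSubgroup π H)
    (h3 : IsPiNum πᶜ (H.relIndex M)) : IsPiHallOf π H M :=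
  ⟨h1, h2, fun q hq hπ hd => h3 q hq hd hπ⟩

theorem hall_congr {ρ : Set ℕ} {H M : Subgroup G} (h : IsPiHallOf π H M)
    (e : ∀ q : ℕ, q.Prime → q ∣ Nat.card M → (q ∈ π ↔ q ∈ ρ)) : IsPiHallOf ρ H M :=
  ⟨h.1, fun q hq hd => (e q hq (hd.trans (card_dvd_of_le h.1))).1 (h.2.1 q hq hd),
    fun q hq hρ hd => h.2.2 q hq ((e q hq (hd.trans (relIndex_dvd_card _ _))).2 hρ) hd⟩

theorem hall_of_le_of_isPi {H U M : Subgroup G} (h : IsPiHallOf π H M) (hU : IsPiSubgroup π U)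
    (h1 : H ≤ U) (h2 : U ≤ M) : IsPiHallOf π U M :=
  ⟨h2, hU, fun q hq hπ hd => h.2.2 q hq hπ (hd.trans (relIndex_dvd_of_le_left _ h1))⟩

theorem hall_trans {ρ : Set ℕ} {H K M : Subgroup G} (h1 : IsPiHallOf π H K)
    (h2 : IsPiHallOf ρ K M) (h : π ⊆ ρ) : IsPiHallOf π H M :=
  Hall.isPiHallOf_trans h1 h2.1 fun q hq hπ => h2.2.2 q hq (h hπ)

theorem hall_self {H : Subgroup G} (h : IsPiSubgroup π H) : IsPiHallOf π H H :=
  hall_intro le_rfl h (by rw [relIndex_self]; exact isPiNum_one _)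

theorem hall_dvd_card_iff {H M : Subgroup G} (h : IsPiHallOf π H M) {q : ℕ} (hq : q.Prime) :
    q ∣ Nat.card H ↔ q ∣ Nat.card M ∧ q ∈ π := by
  refine ⟨fun hd => ⟨hd.trans (card_dvd_of_le h.1), h.2.1 q hq hd⟩, fun ⟨hd, hπ⟩ => ?_⟩
  rw [← card_mul_relIndex h.1] at hd
  exact ((Nat.Prime.dvd_mul hq).1 hd).resolve_right (h.2.2 q hq hπ)

/-- A normal Hall `π`-subgroup contains every `π`-subgroup. -/
theorem le_hall_of_norm [Finite G] {H U M : Subgroup G} (hH : IsPiHallOf π H M)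
    (hU : IsPiSubgroup π U) (hUM : U ≤ M) (hn : U ≤ 𝐍(H)) : U ≤ H := by
  rw [Hall.eq_of_hallOf_le hH (isPi_sup' hn (hall_isPi hH) hU) (sup_le hH.1 hUM) le_sup_left]
  exact le_sup_right

/-- A Hall `π`-subgroup contains every `π`-subgroup that it normalizes. -/
theorem le_hall_of_norm' [Finite G] {H U M : Subgroup G} (hH : IsPiHallOf π H M)
    (hU : IsPiSubgroup π U) (hUM : U ≤ M) (hn : H ≤ 𝐍(U)) : U ≤ H := by
  rw [Hall.eq_of_hallOf_le hH (isPi_sup' hn hU (hall_isPi hH)) (sup_le hUM hH.1) le_sup_right]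
  exact le_sup_left

theorem piCoreOf_le_hall [Finite G] {H M : Subgroup G} (hH : IsPiHallOf π H M) :
    piCoreOf π M ≤ H :=
  le_hall_of_norm' hH (piCoreOf_isPi _ _) (piCoreOf_le _ _) (hH.1.trans (le_norm_piCoreOf _ _))

theorem hall_eq_piCoreOf [Finite G] {H M : Subgroup G} (hH : IsPiHallOf π H M) (hn : M ≤ 𝐍(H)) :
    H = piCoreOf π M := le_antisymm (le_piCoreOf hH.1 hn (hall_isPi hH)) (piCoreOf_le_hall hH)

theorem norm_le_norm_hall [Finite G] {H M : Subgroup G} (hH : IsPiHallOf π H M) (hn : M ≤ 𝐍(H)) :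
    𝐍(M) ≤ 𝐍(H) := hall_eq_piCoreOf hH hn ▸ norm_le_norm_piCoreOf π M

theorem hall_unique [Finite G] {H K M : Subgroup G} (hH : IsPiHallOf π H M) (hn : M ≤ 𝐍(H))
    (hK : IsPiHallOf π K M) : K = H :=
  Hall.eq_of_hallOf_le hK (hall_isPi hH) hH.1 (le_hall_of_norm hH (hall_isPi hK) hK.1 (hK.1.trans hn))

theorem relIndex_dvd_relIndex_of_norm {H K M : Subgroup G} (hHM : H ≤ M) (hK : K ≤ M)
    (hn : H ≤ 𝐍(K) ∨ K ≤ 𝐍(H)) [Finite G] : H.relIndex K ∣ H.relIndex M := by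
  have h1 : H.relIndex K = H.relIndex (H ⊔ K) := by
    have e1 := card_inf_mul_relIndex H K
    have e2 := card_mul_relIndex (le_sup_left : H ≤ H ⊔ K)
    have e3 : Nat.card ↥(H ⊔ K) * Nat.card ↥(H ⊓ K) = Nat.card H * Nat.card K := by
      rcases hn with hn | hn
      · exact card_sup_mul_card_inf hn
      · rw [sup_comm, inf_comm, mul_comm (Nat.card H)]; exact card_sup_mul_card_inf hn
    have hpos : 0 < Nat.card H * Nat.card ↥(H ⊓ K) := Nat.mul_pos Nat.card_pos Nat.card_pos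
    apply Nat.eq_of_mul_eq_mul_left hpos
    calc _ = Nat.card H * (Nat.card ↥(H ⊓ K) * H.relIndex K) := by ring
      _ = Nat.card ↥(H ⊔ K) * Nat.card ↥(H ⊓ K) := by rw [e1, e3]
      _ = _ := by rw [← e2]; ring
  rw [h1]
  exact relIndex_dvd_of_le_right' le_sup_left (sup_le hHM hK)
where
  relIndex_dvd_of_le_right' {H K L : Subgroup G} (h1 : H ≤ K) (h2 : K ≤ L) :
      H.relIndex K ∣ H.relIndex L := Dvd.intro _ (relIndex_mul_relIndex H K L h1 h2)

/-- Intersection of a Hall subgroup with a subgroup, one normalizing the other. -/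
theorem hall_inf [Finite G] {H K M : Subgroup G} (hH : IsPiHallOf π H M) (hK : K ≤ M)
    (hn : H ≤ 𝐍(K) ∨ K ≤ 𝐍(H)) : IsPiHallOf π (H ⊓ K) K :=
  hall_intro inf_le_right (isPi_inf_left (hall_isPi hH)) (by
    rw [inf_relIndex_right]
    exact (hall_relIndex hH).of_dvd (relIndex_dvd_relIndex_of_norm hH.1 hK hn))

theorem sup_eq_of_coprime_relIndex [Finite G] {H K M : Subgroup G} (hH : H ≤ M) (hK : K ≤ M)
    (h : (H.relIndex M).Coprime (K.relIndex M)) : H ⊔ K = M := by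
  refine le_antisymm (sup_le hH hK) (relIndex_eq_one.1 (Nat.eq_one_of_self_dvd_coprime h))
where
  Nat.eq_one_of_self_dvd_coprime {H K M : Subgroup G}
      (h : (H.relIndex M).Coprime (K.relIndex M)) : (H ⊔ K).relIndex M = 1 :=
    Nat.eq_one_of_dvd_coprimes h (relIndex_dvd_of_le_left _ le_sup_left)
      (relIndex_dvd_of_le_left _ le_sup_right)

theorem hall_sup_compl [Finite G] {H K M : Subgroup G} (hH : IsPiHallOf π H M)
    (hK : IsPiHallOf πᶜ K M) : H ⊔ K = M :=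
  sup_eq_of_coprime_relIndex hH.1 hK.1 ((hall_relIndex hH).coprime_compl (hall_relIndex hK))

theorem hall_sup [Finite G] {ρ : Set ℕ} {H K M : Subgroup G} (hH : IsPiHallOf π H M)
    (hK : IsPiHallOf ρ K M) (hn : K ≤ 𝐍(H)) : IsPiHallOf (π ∪ ρ) (H ⊔ K) M :=
  ⟨sup_le hH.1 hK.1, isPi_sup' hn (isPiSubgroup_mono (hall_isPi hH) Set.subset_union_left)
    (isPiSubgroup_mono (hall_isPi hK) Set.subset_union_right), fun q hq hπ hd => hπ.elim
      (fun h => hH.2.2 q hq h (hd.trans (relIndex_dvd_of_le_left _ le_sup_left)))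
      (fun h => hK.2.2 q hq h (hd.trans (relIndex_dvd_of_le_left _ le_sup_right)))⟩

theorem relIndex_dvd_card_of_sup {N U M : Subgroup G} (hn : U ≤ 𝐍(N)) (h : N ⊔ U = M) [Finite G] :
    U.relIndex M ∣ Nat.card N ∧ N.relIndex M ∣ Nat.card U := by
  have e3 := card_sup_mul_card_inf hn
  rw [sup_comm, h] at e3
  have e1 := card_mul_relIndex (h ▸ le_sup_right : U ≤ M)
  have e2 := card_mul_relIndex (h ▸ le_sup_left : N ≤ M)
  constructor
  · refine ⟨Nat.card ↥(U ⊓ N), Nat.eq_of_mul_eq_mul_left (Nat.card_pos (α := U)) ?_⟩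
    rw [← e3, ← e1]; ring
  · refine ⟨Nat.card ↥(U ⊓ N), Nat.eq_of_mul_eq_mul_left (Nat.card_pos (α := N)) ?_⟩
    rw [mul_comm, ← e3, ← e2]; ring

/-- If `M = N U` with `N ⊴ M` a `π'`-group then Hall `π`-subgroups of `U` are Hall in `M`. -/
theorem hall_of_sup [Finite G] {N U M H : Subgroup G} (hn : U ≤ 𝐍(N)) (h : N ⊔ U = M)
    (hN : IsPiSubgroup πᶜ N) (hH : IsPiHallOf π H U) : IsPiHallOf π H M :=
  Hall.isPiHallOf_trans hH (h ▸ le_sup_right)
    fun q hq hπ hd => hN q hq (hd.trans (relIndex_dvd_card_of_sup hn h).1) hπ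

/-- If `M = N U` with `N ⊴ M` a `π`-group and `U` a `π'`-group, then `N` is a Hall subgroup. -/
theorem hall_left_of_sup [Finite G] {N U M : Subgroup G} (hn : U ≤ 𝐍(N)) (h : N ⊔ U = M)
    (hN : IsPiSubgroup π N) (hU : IsPiSubgroup πᶜ U) : IsPiHallOf π N M :=
  hall_intro (h ▸ le_sup_left) hN (IsPiNum.of_dvd hU (relIndex_dvd_card_of_sup hn h).2)

theorem hall_compl_of_compl [Finite G] {N U M : Subgroup G} (hN : IsPiHallOf π N M)
    (hn : U ≤ 𝐍(N)) (h : N ⊔ U = M) (hi : N ⊓ U = ⊥) : IsPiHallOf πᶜ U M := by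
  have e := card_sup_of_disjoint hn (inf_comm N U ▸ hi)
  rw [sup_comm, h, ← card_mul_relIndex hN.1, mul_comm] at e
  have e' : N.relIndex M = Nat.card U := Nat.eq_of_mul_eq_mul_right Nat.card_pos e
  refine hall_of_sup hn h (by rw [compl_compl]; exact hall_isPi hN) (hall_self ?_)
  unfold IsPiSubgroup; rw [← e']; exact hall_relIndex hN

theorem le_of_isPi_of_relIndex [Finite G] {L N M : Subgroup G} (hLM : L ≤ M) (hn : M ≤ 𝐍(N))
    (hL : IsPiSubgroup π L) (h : IsPiNum πᶜ (N.relIndex M)) : L ≤ N :=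
  Cop.le_of_coprime_relIndex hLM hn (IsPiNum.coprime_compl hL h)

/-! ### Sylow subgroups -/

theorem sylow_iff_hall [Finite G] [Fact p.Prime] {S H : Subgroup G} :
    IsSylowIn p S H ↔ IsPiHallOf {p} S H := Cop.isPiHallOf_singleton_iff.symm

theorem sylow_of_hall [hp : Fact p.Prime] {S H M : Subgroup G} (hS : IsSylowIn p S H)
    (hH : IsPiHallOf π H M) (h : p ∈ π) : IsSylowIn p S M :=
  NilHall.isSylowIn_of_hallOf hp.out h hH hS

theorem sylow_trans [hp : Fact p.Prime] {S H M : Subgroup G} (hS : IsSylowIn p S H) (hH : H ≤ M)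
    (h : ¬ p ∣ H.relIndex M) : IsSylowIn p S M :=
  ⟨hS.le.trans hH, hS.isPGroup, fun hd => by
    rw [← relIndex_mul_relIndex S H M hS.le hH] at hd
    exact ((Nat.Prime.dvd_mul hp.out).1 hd).elim hS.not_dvd h⟩

theorem sylow_of_norm [Finite G] [Fact p.Prime] {S H : Subgroup G}
    (h : IsSylowIn p S (H ⊓ 𝐍(S))) : IsSylowIn p S H :=
  sylow_iff_hall.2 (Cop.sylowOf_of_sylowOf_normalizer (sylow_iff_hall.1 h))

theorem sylow_of_norm' [Finite G] [Fact p.Prime] {S K H : Subgroup G} (h : IsSylowIn p S K)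
    (h1 : S ≤ H) (h2 : H ⊓ 𝐍(S) ≤ K) : IsSylowIn p S H :=
  sylow_of_norm (h.mono (le_inf h1 le_normalizer) h2)

theorem le_sylow_of_norm [Finite G] [Fact p.Prime] {S H U : Subgroup G} (h : IsSylowIn p S H)
    (hU : IsPGroup p U) (hUH : U ≤ H) (hn : U ≤ 𝐍(S)) : U ≤ S :=
  le_hall_of_norm (sylow_iff_hall.1 h) (isPGroup_iff_isPiSubgroup.1 hU) hUH hn

theorem le_sylow_of_norm' [Finite G] [Fact p.Prime] {S H U : Subgroup G} (h : IsSylowIn p S H)
    (hU : IsPGroup p U) (hUH : U ≤ H) (hn : S ≤ 𝐍(U)) : U ≤ S :=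
  le_hall_of_norm' (sylow_iff_hall.1 h) (isPGroup_iff_isPiSubgroup.1 hU) hUH hn

theorem sylow_inf [Finite G] [Fact p.Prime] {S K M : Subgroup G} (hS : IsSylowIn p S M)
    (hK : K ≤ M) (hn : S ≤ 𝐍(K) ∨ K ≤ 𝐍(S)) : IsSylowIn p (S ⊓ K) K :=
  sylow_iff_hall.2 (hall_inf (sylow_iff_hall.1 hS) hK hn)

theorem sylow_of_sup [Finite G] [Fact p.Prime] {N U M S : Subgroup G} (hn : U ≤ 𝐍(N))
    (h : N ⊔ U = M) (hN : ¬ p ∣ Nat.card N) (hS : IsSylowIn p S U) : IsSylowIn p S M :=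
  sylow_iff_hall.2 (hall_of_sup hn h (isPi_compl_of_not_dvd hN) (sylow_iff_hall.1 hS))

theorem sylow_eq_bot [Finite G] [Fact p.Prime] {S H : Subgroup G} (h : IsSylowIn p S H)
    (hd : ¬ p ∣ Nat.card H) : S = ⊥ := by
  by_contra h1
  exact hd ((dvd_card_of_isPGroup h.isPGroup h1).trans (card_dvd_of_le h.le))

theorem le_of_forall_sylow [Finite G] {H K : Subgroup G}
    (h : ∀ (q : ℕ) [Fact q.Prime], q ∣ Nat.card H → ∃ S, IsSylowIn q S H ∧ S ≤ K) : H ≤ K :=
  le_of_forall_sylow_le fun q _ hd => by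
    obtain ⟨S, hS, hSK⟩ := h q hd
    obtain ⟨P, hP⟩ := hS.exists_sylow_map
    exact ⟨P, hP ▸ hSK⟩

theorem exists_inv_sylow_ge [Finite G] [Fact p.Prime] {A K U : Subgroup G} (hA : A ≤ 𝐍(K))
    (hcop : (Nat.card A).Coprime (Nat.card K)) (hs : Group.IsSolvable A ∨ Group.IsSolvable K)
    (hU : IsPGroup p U) (hUK : U ≤ K) (hAU : A ≤ 𝐍(U)) :
    ∃ P, IsSylowIn p P K ∧ A ≤ 𝐍(P) ∧ U ≤ P := by
  simpa only [sylow_iff_hall] using Cop.exists_invariant_sylowOf_ge hA hcop hs hU hUK hAU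

theorem exists_inv_sylow [Finite G] (p : ℕ) [Fact p.Prime] {A K : Subgroup G} (hA : A ≤ 𝐍(K))
    (hcop : (Nat.card A).Coprime (Nat.card K)) (hs : Group.IsSolvable A ∨ Group.IsSolvable K) :
    ∃ P, IsSylowIn p P K ∧ A ≤ 𝐍(P) := by
  simpa only [sylow_iff_hall] using Cop.exists_invariant_sylowOf p hA hcop hs

/-- If `A` acts coprimely and nontrivially on `K`, it acts nontrivially on an invariant Sylow
subgroup. -/
theorem exists_inv_sylow_not_cent [Finite G] {A B K : Subgroup G} (hA : A ≤ 𝐍(K))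
    (hcop : (Nat.card A).Coprime (Nat.card K)) (hs : Group.IsSolvable A ∨ Group.IsSolvable K)
    (h : ¬ K ≤ B) : ∃ (q : ℕ) (_ : Fact q.Prime) (Q : Subgroup G), IsSylowIn q Q K ∧ A ≤ 𝐍(Q) ∧
      ¬ Q ≤ B := by
  by_contra hc
  push Not at hc
  exact h (Cop.le_of_forall_invariant_sylowOf_le hA hcop hs fun q _ P _ hP hAP =>
    hc q inferInstance P (sylow_iff_hall.2 hP) hAP)

/-! ### Nilpotent subgroups -/

theorem le_cent_of_nil [Finite G] {H X Y : Subgroup G} (hH : Group.IsNilpotent H) (hX : X ≤ H)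
    (hY : Y ≤ H) (h : (Nat.card X).Coprime (Nat.card Y)) : X ≤ 𝐂(Y) := fun x hx =>
  mem_centralizer_iff.2 fun y hy => (commute_of_coprime_of_mem_isNilpotent hH (hX hx) (hY hy)
    ((h.coprime_dvd_left (X.orderOf_dvd_natCard hx)).coprime_dvd_right
      (Y.orderOf_dvd_natCard hy))).eq.symm

theorem piCoreOf_sup_of_nil [Finite G] (π : Set ℕ) {H : Subgroup G} (hH : Group.IsNilpotent H) :
    piCoreOf π H ⊔ piCoreOf πᶜ H = H := by
  rw [piCoreOf, piCoreOf, ← Subgroup.map_sup, top_le_piCore_sup_of_isNilpotent,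
    ← MonoidHom.range_eq_map, range_subtype]

theorem piCoreOf_hall_of_nil [Finite G] (π : Set ℕ) {H : Subgroup G} (hH : Group.IsNilpotent H) :
    IsPiHallOf π (piCoreOf π H) H :=
  hall_left_of_sup ((piCoreOf_le _ _).trans (le_norm_piCoreOf _ _)) (piCoreOf_sup_of_nil π hH)
    (piCoreOf_isPi _ _) (piCoreOf_isPi _ _)

theorem le_piCoreOf_of_nil [Finite G] {H U : Subgroup G} (hH : Group.IsNilpotent H) (hUH : U ≤ H)
    (hU : IsPiSubgroup π U) : U ≤ piCoreOf π H :=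
  le_hall_of_norm (piCoreOf_hall_of_nil π hH) hU hUH (hUH.trans (le_norm_piCoreOf _ _))

theorem hall_eq_piCoreOf_of_nil [Finite G] {H K : Subgroup G} (hH : Group.IsNilpotent H)
    (hK : IsPiHallOf π K H) : K = piCoreOf π H :=
  hall_unique (piCoreOf_hall_of_nil π hH) (le_norm_piCoreOf _ _) hK

theorem norm_le_norm_hall_of_nil [Finite G] {H K : Subgroup G} (hH : Group.IsNilpotent H)
    (hK : IsPiHallOf π K H) : 𝐍(H) ≤ 𝐍(K) :=
  hall_eq_piCoreOf_of_nil hH hK ▸ norm_le_norm_piCoreOf π H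

theorem norm_le_norm_sylow_of_nil [Finite G] [Fact p.Prime] {H S : Subgroup G}
    (hH : Group.IsNilpotent H) (hS : IsSylowIn p S H) : 𝐍(H) ≤ 𝐍(S) :=
  norm_le_norm_hall_of_nil hH (sylow_iff_hall.1 hS)

theorem nil_of_comm {H : Subgroup G} (h : IsMulCommutative H) : Group.IsNilpotent H :=
  NilHall.isNilpotent_of_isMulCommutative h

theorem nil_of_cyclic {H : Subgroup G} (h : IsCyclic H) : Group.IsNilpotent H :=
  nil_of_comm inferInstance

theorem comm_of_nil [Finite G] {H : Subgroup G} (hH : Group.IsNilpotent H)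
    (h : ∀ (q : ℕ) [Fact q.Prime] (S : Subgroup G), IsSylowIn q S H → IsMulCommutative S) :
    IsMulCommutative H := by
  refine isMulCommutative_of_le_centralizer (le_of_forall_sylow fun q _ _ => ?_)
  obtain ⟨S, hS⟩ := IsSylowIn.exists_in (p := q) H
  refine ⟨S, hS, le_centralizer_comm (le_of_forall_sylow fun r _ _ => ?_)⟩
  by_cases hrq : r = q
  · subst hrq
    exact ⟨S, hS, le_centralizer_of_isMulCommutative (h r S hS)⟩
  · obtain ⟨T, hT⟩ := IsSylowIn.exists_in (p := r) H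
    exact ⟨T, hT, le_cent_of_nil hH hT.le hS.le (coprime_of_isPGroup_ne hT.isPGroup hS.isPGroup hrq)⟩

theorem isZGroup_of_sylow [Finite G] {H : Subgroup G}
    (h : ∀ (q : ℕ) [Fact q.Prime] (S : Subgroup G), IsSylowIn q S H → IsCyclic S) : IsZGroup H :=
  ⟨fun q hq P => by
    have := Fact.mk hq
    exact isCyclic_map_subtype_iff.1 (h q _ (IsSylowIn.of_sylow_subgroup P))⟩

theorem cyclic_of_nil [Finite G] {H : Subgroup G} (hH : Group.IsNilpotent H)
    (h : ∀ (q : ℕ) [Fact q.Prime] (S : Subgroup G), IsSylowIn q S H → IsCyclic S) : IsCyclic H :=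
  have := isZGroup_of_sylow h
  inferInstance

theorem nil_of_forall_norm_sylow [Finite G] {H : Subgroup G}
    (h : ∀ (q : ℕ) [Fact q.Prime], q ∣ Nat.card H → ∃ S, IsSylowIn q S H ∧ H ≤ 𝐍(S)) :
    Group.IsNilpotent H :=
  isNilpotent_of_le (map_fitting_isNilpotent H) (le_of_forall_sylow fun q _ hd =>
    let ⟨S, hS, hn⟩ := h q hd
    ⟨S, hS, le_map_fitting hS.le hn hS.isPGroup.isNilpotent⟩)

theorem fittingOf_le (H : Subgroup G) : fittingOf H ≤ H := map_subtype_le _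

theorem fittingOf_nil [Finite G] (H : Subgroup G) : Group.IsNilpotent (fittingOf H) :=
  map_fitting_isNilpotent H

theorem norm_le_norm_fittingOf [Finite G] (H : Subgroup G) : 𝐍(H) ≤ 𝐍(fittingOf H) :=
  normalizer_le_normalizer_map_fitting H

theorem le_norm_fittingOf (H : Subgroup G) : H ≤ 𝐍(fittingOf H) := le_normalizer_map_subtype _

theorem le_fittingOf {H A : Subgroup G} (h1 : A ≤ H) (h2 : H ≤ 𝐍(A)) (h : Group.IsNilpotent A) :
    A ≤ fittingOf H := le_map_fitting h1 h2 h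

theorem exists_pCore_ne_bot' [Finite G] {H : Subgroup G} (hs : Group.IsSolvable H) (h1 : H ≠ ⊥) :
    ∃ (q : ℕ) (_ : Fact q.Prime), piCoreOf {q} H ≠ ⊥ := by
  have := (nontrivial_iff_ne_bot H).2 h1
  obtain ⟨q, hq, h⟩ := exists_pCore_ne_bot (G := H)
  have := Fact.mk hq
  refine ⟨q, this, fun e => h ?_⟩
  rw [pCore_eq_piCore]
  exact (map_eq_bot_iff_of_injective _ H.subtype_injective).1 e

/-! ### Cyclic subgroups -/

theorem mem_of_cyclic_of_pow [Finite G] {Y X : Subgroup G} (hc : IsCyclic Y) (h : X ≤ Y) {y : G}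
    (hy : y ∈ Y) (e : y ^ Nat.card X = 1) : y ∈ X := by
  classical
  have := Fintype.ofFinite Y
  have h1 := IsCyclic.card_pow_eq_one_le (α := Y) (n := Nat.card X) Nat.card_pos
  have h2 : (Finset.univ.filter fun a : Y => (a : G) ∈ X) =
      Finset.univ.filter fun a : Y => a ^ Nat.card X = 1 := by
    refine Finset.eq_of_subset_of_card_le (fun a ha => ?_) (h1.trans ?_)
    · simp only [Finset.mem_filter, Finset.mem_univ, true_and] at ha ⊢
      exact Subtype.ext (pow_eq_one_of_card_prime rfl ha)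
    · rw [← card_subgroupOf_of_le h, ← Fintype.card_subtype, Nat.card_eq_fintype_card]
      exact le_of_eq (Fintype.card_congr (Equiv.refl _))
  have h3 : (⟨y, hy⟩ : Y) ∈ Finset.univ.filter fun a : Y => a ^ Nat.card X = 1 :=
    Finset.mem_filter.2 ⟨Finset.mem_univ _, Subtype.ext e⟩
  rw [← h2] at h3
  exact (Finset.mem_filter.1 h3).2

theorem le_of_cyclic_of_card_dvd [Finite G] {Y X X' : Subgroup G} (hc : IsCyclic Y) (h : X ≤ Y)
    (h' : X' ≤ Y) (e : Nat.card X ∣ Nat.card X') : X ≤ X' := fun x hx =>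
  mem_of_cyclic_of_pow hc h' (h hx)
    (orderOf_dvd_iff_pow_eq_one.1 ((X.orderOf_dvd_natCard hx).trans e))

theorem eq_of_cyclic_of_card_eq [Finite G] {Y X X' : Subgroup G} (hc : IsCyclic Y) (h : X ≤ Y)
    (h' : X' ≤ Y) (e : Nat.card X = Nat.card X') : X = X' :=
  le_antisymm (le_of_cyclic_of_card_dvd hc h h' e.dvd) (le_of_cyclic_of_card_dvd hc h' h e.symm.dvd)

theorem norm_le_norm_of_cyclic [Finite G] {Y X : Subgroup G} (hc : IsCyclic Y) (h : X ≤ Y) :
    𝐍(Y) ≤ 𝐍(X) := fun g hg => mem_normalizer_of_map_conj_eq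
  (eq_of_cyclic_of_card_eq hc (cj_le_of_norm h hg) h (card_map_conj g X))

/-- In a cyclic group, the subgroup of order `p` lies in every subgroup of order divisible by `p`. -/
theorem le_of_cyclic_of_prime [Finite G] {Y X X' : Subgroup G} (hc : IsCyclic Y) (h : X ≤ Y)
    (h' : X' ≤ Y) (hX : Nat.card X = p) (hd : p ∣ Nat.card X') : X ≤ X' :=
  le_of_cyclic_of_card_dvd hc h h' (hX ▸ hd)

theorem le_cent_of_cyclic {Y X X' : Subgroup G} (hc : IsCyclic Y) (h : X ≤ Y) (h' : X' ≤ Y) :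
    X ≤ 𝐂(X') :=
  h.trans ((le_centralizer_of_isMulCommutative inferInstance).trans (centralizer_antitone h'))

theorem le_cent_of_comm {Y X X' : Subgroup G} (hc : IsMulCommutative Y) (h : X ≤ Y) (h' : X' ≤ Y) :
    X ≤ 𝐂(X') :=
  h.trans ((le_centralizer_of_isMulCommutative hc).trans (centralizer_antitone h'))

/-- A coprime operator group with a nontrivial fixed point on a cyclic `p`-group acts trivially. -/
theorem le_cent_of_cyclic_of_fixed [Finite G] [Fact p.Prime] {A Q : Subgroup G} (hQ : IsPGroup p Q)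
    (hc : IsCyclic Q) (hA : A ≤ 𝐍(Q)) (hAp : (Nat.card A).Coprime p) (h : Q ⊓ 𝐂(A) ≠ ⊥) :
    Q ≤ 𝐂(A) := by
  refine comm_eq_bot_iff.1 (Cop.commutator_eq_bot_of_centralizes_omega_abelian hQ inferInstance hA
    hAp fun x hx hxp => ?_)
  by_cases h1 : x = 1
  · rw [h1]; exact one_mem _
  exact (le_of_cyclic_of_prime hc (zpowers_le.2 hx) inf_le_left (card_zpowers_of_pow_eq_one hxp h1)
    (dvd_card_of_isPGroup (hQ.to_le inf_le_left) h) (mem_zpowers x)).2

end CfsgLib.FT
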