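import Mathlib
import Cfsg.Agent.Lib.FT.BG10T2
import Cfsg.Agent.Lib.FT.BG5
import Cfsg.Agent.Lib.FT.BG6

/-! Ambient toolkit for BG 10–13, part 3: nilpotence modulo a normal subgroup, ambient forms of the
rank two results of BG section 4. -/

set_option autoImplicit false

namespace CfsgLib.FT

open Subgroup Cfsg BGN
open scoped commutatorElement

variable {G : Type*} [Group G] {π : Set ℕ} {p : ℕ}

theorem cent_bot : 𝐂((⊥ : Subgroup G)) = ⊤ := top_le_iff.1 (le_centralizer_comm bot_le)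

theorem norm_bot : 𝐍((⊥ : Subgroup G)) = ⊤ := top_le_iff.1 (cent_bot.ge.trans (cent_le_norm _))

theorem ne_bot_of_norm_le {X M : Subgroup G} (hM : M ≠ ⊤) (h : 𝐍(X) ≤ M) : X ≠ ⊥ := by
  rintro rfl
  exact hM (top_le_iff.1 (norm_bot.ge.trans h))

theorem ne_bot_of_cent_le {X M : Subgroup G} (hM : M ≠ ⊤) (h : 𝐂(X) ≤ M) : X ≠ ⊥ := by
  rintro rfl
  exact hM (top_le_iff.1 (cent_bot.ge.trans h))

/-! ### `NilMod` -/

theorem NilMod.mono {K N K' N' : Subgroup G} (h : NilMod K N) (h1 : K' ≤ K) (h2 : N ≤ N') :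
    NilMod K' N' := let ⟨n, hn⟩ := h; ⟨n, ((lowerCentralSeries_mono n h1).trans hn).trans h2⟩

theorem nilMod_of_map_mk' {H : Subgroup G} {K N : Subgroup H} [N.Normal]
    (h : Group.IsNilpotent (K.map (QuotientGroup.mk' N))) :
    NilMod (K.map H.subtype) (N.map H.subtype) := by
  obtain ⟨n, hn⟩ := (isNilpotent_iff_lowerCentralSeries _).1 h
  refine ⟨n, ?_⟩
  rw [← map_lowerCentralSeries] at hn ⊢
  exact map_mono (by rwa [Subgroup.map_eq_bot_iff, QuotientGroup.ker_mk'] at hn)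

theorem NilMod.quotient {K N : Subgroup G} (h : NilMod K N) [(N.subgroupOf K).Normal] :
    Group.IsNilpotent (K ⧸ N.subgroupOf K) := by
  obtain ⟨n, hn⟩ := h
  refine Subgroup.nilpotent_iff_lowerCentralSeries.2 ⟨n, ?_⟩
  rw [← map_top_of_surjective _ (QuotientGroup.mk'_surjective (N.subgroupOf K)),
    ← map_lowerCentralSeries, Subgroup.map_eq_bot_iff, QuotientGroup.ker_mk', subgroupOf,
    ← map_le_iff_le_comap, top_subtype_lowerCentralSeries]
  exact hn

theorem nilMod_of_quotient {K N : Subgroup G} [(N.subgroupOf K).Normal]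
    (h : Group.IsNilpotent (K ⧸ N.subgroupOf K)) : NilMod K N := by
  have h1 : Group.IsNilpotent ((⊤ : Subgroup K).map (QuotientGroup.mk' (N.subgroupOf K))) :=
    inferInstance
  have := nilMod_of_map_mk' h1
  rw [← MonoidHom.range_eq_map, range_subtype] at this
  exact this.mono le_rfl (map_subgroupOf_le _ _)
where
  map_subgroupOf_le (N K : Subgroup G) : (N.subgroupOf K).map K.subtype ≤ N := map_comap_le _ _

theorem NilMod.nil_of_cent {K N C : Subgroup G} (h : NilMod K N) (hC : C ≤ K)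
    (hc : C ⊓ N ≤ 𝐂(C)) : Group.IsNilpotent C := by
  obtain ⟨n, hn⟩ := h.mono hC le_rfl
  refine isNilpotent_of_lowerCentralSeries_eq_bot (n := n + 1) ?_
  rw [Subgroup.lowerCentralSeries_succ, comm_eq_bot_iff]
  exact (le_inf (lowerCentralSeries_le_self C n) hn).trans hc

theorem NilMod.nil_of_inf {K N C : Subgroup G} (h : NilMod K N) (hC : C ≤ K) (hc : C ⊓ N = ⊥) :
    Group.IsNilpotent C := h.nil_of_cent hC (hc ▸ bot_le)

theorem normal_subgroupOf_of_le {K N : Subgroup G} (h : K ≤ 𝐍(N)) : (N.subgroupOf K).Normal :=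
  (normal_subgroupOf_iff_le_normalizer_inf.2 (le_normalizer_inf h le_normalizer))

theorem NilMod.comm_le [Finite G] {K N X Y : Subgroup G} (h : NilMod K N) (hn : K ≤ 𝐍(N))
    (hX : X ≤ K) (hY : Y ≤ K) (hc : (Nat.card X).Coprime (Nat.card Y)) : ⁅X, Y⁆ ≤ N := by
  have := normal_subgroupOf_of_le hn
  have := h.quotient
  refine commutator_le.2 fun x hx y hy => ?_
  have h1 : Commute ((⟨x, hX hx⟩ : K) : K ⧸ N.subgroupOf K) ((⟨y, hY hy⟩ : K) : K ⧸ N.subgroupOf K) := by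
    refine commute_of_coprime_of_isNilpotent ((hc.coprime_dvd_left ?_).coprime_dvd_right ?_)
    · exact (orderOf_map_dvd (QuotientGroup.mk' _) _).trans
        (by rw [← Subgroup.orderOf_coe]; exact X.orderOf_dvd_natCard hx)
    · exact (orderOf_map_dvd (QuotientGroup.mk' _) _).trans
        (by rw [← Subgroup.orderOf_coe]; exact Y.orderOf_dvd_natCard hy)
  have h2 : ((⁅(⟨x, hX hx⟩ : K), (⟨y, hY hy⟩ : K)⁆ : K) : K ⧸ N.subgroupOf K) = 1 := by
    rw [← QuotientGroup.mk'_apply, map_commutatorElement]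
    exact commutatorElement_eq_one_iff_commute.2 h1
  exact mem_subgroupOf.1 ((QuotientGroup.eq_one_iff _).1 h2)

theorem NilMod.le_sup_hall [Finite G] {K N X U : Subgroup G} (h : NilMod K N) (hn : K ≤ 𝐍(N))
    (hX : IsPiHallOf π X K) (hU : IsPiSubgroup π U) (hUK : U ≤ K) : U ≤ N ⊔ X := by
  have := normal_subgroupOf_of_le hn
  have hq := h.quotient
  set f := QuotientGroup.mk' (N.subgroupOf K)
  have h1 : IsPiHall π ((X.subgroupOf K).map f) :=
    Hall.isPiHall_map_of_surjective (Hall.isPiHallOf_iff.1 hX).2 (QuotientGroup.mk'_surjective _)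
  have h2 : (U.subgroupOf K).map f ≤ (X.subgroupOf K).map f := by
    have hq' : Group.IsNilpotent (⊤ : Subgroup (K ⧸ N.subgroupOf K)) := inferInstance
    rw [hall_eq_piCoreOf_of_nil hq' (Hall.isPiHallOf_top.2 h1)]
    exact le_piCoreOf_of_nil hq' le_top (isPiSubgroup_map (isPiSubgroup_subgroupOf hU K) _)
  rw [map_le_iff_le_comap, comap_map_eq, QuotientGroup.ker_mk'] at h2
  rw [← map_subgroupOf_eq_of_le hUK]
  refine (map_mono h2).trans ?_
  rw [Subgroup.map_sup, sup_comm]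
  exact sup_le_sup (map_comap_le _ _) (map_comap_le _ _)

/-- If `K N / N` is nilpotent, the preimage of a Hall subgroup is characteristic. -/
theorem NilMod.le_norm_sup_hall [Finite G] {K N X H : Subgroup G} (h : NilMod K N)
    (hn : K ≤ 𝐍(N)) (hX : IsPiHallOf π X K) (hK : H ≤ 𝐍(K)) (hN : H ≤ 𝐍(N)) :
    H ≤ 𝐍(N ⊔ X) := fun g hg => by
  refine mem_normalizer_of_map_conj_eq (Subgroup.eq_of_le_of_card_ge ?_ (card_map_conj _ _).ge)
  rw [cj_sup, map_conj_eq_of_mem_normalizer (hN hg)]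
  exact sup_le le_sup_left (h.le_sup_hall hn hX (isPi_cj (hall_isPi hX) g)
    (cj_le_of_norm hX.1 (hK hg)))

theorem NilMod.le_norm_sup_sylow [Finite G] [Fact p.Prime] {K N X H : Subgroup G} (h : NilMod K N)
    (hn : K ≤ 𝐍(N)) (hX : IsSylowIn p X K) (hK : H ≤ 𝐍(K)) (hN : H ≤ 𝐍(N)) :
    H ≤ 𝐍(N ⊔ X) := h.le_norm_sup_hall hn (sylow_iff_hall.1 hX) hK hN

/-- Frattini argument: if `X` is a Sylow subgroup of `K ⊴ H` and `K N / N` is nilpotent, then
`H = N N_H(X)`. -/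
theorem NilMod.frattini [Finite G] [Fact p.Prime] {K N X H : Subgroup G} (h : NilMod K N)
    (hNK : N ≤ K) (hKH : K ≤ H) (hX : IsSylowIn p X K) (hK : H ≤ 𝐍(K)) (hN : H ≤ 𝐍(N)) :
    N ⊔ (H ⊓ 𝐍(X)) = H := by
  refine le_antisymm (sup_le (hNK.trans hKH) inf_le_left) ?_
  have h1 := (hX.mono le_sup_right (sup_le hNK hX.le)).frattini_le
    ((sup_le hNK hX.le).trans hKH) (h.le_norm_sup_sylow (hKH.trans hN) hX hK hN)
  refine h1.trans (sup_le (sup_le le_sup_left ?_) le_sup_right)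
  exact (le_inf (hX.le.trans hKH) le_normalizer).trans le_sup_right

theorem nilMod_iInf [Finite G] {ι : Sort*} {K : Subgroup G} {N : ι → Subgroup G}
    (h : ∀ i, NilMod K (N i)) : NilMod K (⨅ i, N i) := by
  obtain ⟨n, hn⟩ := WellFoundedLT.antitone_chain_condition (Subgroup.lowerCentralSeries_antitone K)
  refine ⟨n, le_iInf fun i => ?_⟩
  obtain ⟨m, hm⟩ := h i
  rw [hn (max n m) (le_max_left _ _)]
  exact (Subgroup.lowerCentralSeries_antitone K (le_max_right _ _)).trans hm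

theorem nilMod_of_hall_compl [Finite G] [hp : Fact p.Prime] {K N : Subgroup G}
    (h : IsPiHallOf {p}ᶜ N K) (hn : K ≤ 𝐍(N)) : NilMod K N := by
  have := normal_subgroupOf_of_le hn
  refine nilMod_of_quotient (IsPGroup.isNilpotent (p := p) ?_)
  obtain ⟨k, hk⟩ := (isPiNum_singleton_iff hp.out (n := N.relIndex K) relIndex_ne_zero).1
    (by simpa using hall_relIndex h)
  exact IsPGroup.of_card hk
where
  relIndex_ne_zero {G : Type _} [Group G] [Finite G] {N K : Subgroup G} : N.relIndex K ≠ 0 :=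
    index_ne_zero_of_finite

theorem nilMod_bot_iff {K : Subgroup G} : NilMod K ⊥ ↔ Group.IsNilpotent K := by
  simp only [NilMod, le_bot_iff, isNilpotent_iff_lowerCentralSeries]

/-! ### Normal `p`-complements -/

theorem hall_of_hnpc [Finite G] [Fact p.Prime] {H : Subgroup G} (h : HasNormalPComplement p H) :
    IsPiHallOf {p}ᶜ (piCoreOf {p}ᶜ H) H := by
  obtain ⟨N, hN, h1, h2⟩ := PCompl.hnpc_exists_normal h
  have h3 := Hall.isPiHall_compl_singleton_iff.2 ⟨h1, h2⟩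
  rw [Hall.eq_piCore_of_normal h3] at h3
  exact Hall.isPiHallOf_map_subtype h3

theorem hall_piCoreOf_of_le [Finite G] {H K : Subgroup G} (h : IsPiHallOf π (piCoreOf π H) H)
    (hK : K ≤ H) : IsPiHallOf π (piCoreOf π K) K :=
  hall_of_le_of_isPi (hall_inf h hK (Or.inr (hK.trans (le_norm_piCoreOf _ _))))
    (piCoreOf_isPi _ _) (piCoreOf_inf_le _ hK) (piCoreOf_le _ _)

/-- If `H` has a normal `p`-complement, then `P ∩ H' = P'` for a Sylow `p`-subgroup `P`. -/
theorem sylow_inf_der_le [Finite G] [Fact p.Prime] {H P : Subgroup G}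
    (h : IsPiHallOf {p}ᶜ (piCoreOf {p}ᶜ H) H) (hP : IsSylowIn p P H) : P ⊓ ⁅H, H⁆ ≤ ⁅P, P⁆ := by
  have h1 : piCoreOf {p}ᶜ H ⊔ P = H :=
    hall_sup_compl h (by rw [compl_compl]; exact sylow_iff_hall.1 hP)
  have := pprod_focal_coprime (hP.le.trans (le_norm_piCoreOf {p}ᶜ H)) le_rfl
    (coprime_of_isPGroup_of_isPi hP.isPGroup (piCoreOf_isPi _ _) (by simp))
  rw [h1] at this
  exact this.le.trans inf_le_right

/-! ### Groups of odd order and small rank -/

theorem cyclic_of_rank1 [Finite G] [hp : Fact p.Prime] {P : Subgroup G} (hodd : Odd (Nat.card P))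
    (hP : IsPGroup p P) (hr : PRankLE p 1 P) : IsCyclic P := by
  by_cases h1 : P = ⊥
  · rw [h1]; infer_instance
  refine (odd_pgroup_rank1_cyclic ?_ hP).1 hr
  rintro rfl
  exact (Nat.not_even_iff_odd.2 hodd) (even_iff_two_dvd.2 (dvd_card_of_isPGroup hP h1))

theorem odd_of_le {H K : Subgroup G} (h : Odd (Nat.card K)) (hH : H ≤ K) : Odd (Nat.card H) :=
  Odd.of_dvd_nat h (card_dvd_of_le hH)

theorem cyclic_of_nil_of_rank1 [Finite G] {H : Subgroup G} (hodd : Odd (Nat.card H))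
    (hH : Group.IsNilpotent H) (hr : RankLE 1 H) : IsCyclic H :=
  cyclic_of_nil hH fun q hq _ hS =>
    cyclic_of_rank1 (odd_of_le hodd hS.le) hS.isPGroup (pRankLE_mono (hr q hq.out) hS.le)

theorem isZGroup_of_rank1 [Finite G] {H : Subgroup G} (hodd : Odd (Nat.card H)) (hr : RankLE 1 H) :
    IsZGroup H :=
  isZGroup_of_sylow fun q hq _ hS =>
    cyclic_of_rank1 (odd_of_le hodd hS.le) hS.isPGroup (pRankLE_mono (hr q hq.out) hS.le)

theorem exists_p2Elem_of_not_cyclic [Finite G] [Fact p.Prime] {P : Subgroup G}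
    (hodd : Odd (Nat.card P)) (hP : IsPGroup p P) (hc : ¬ IsCyclic P) : ∃ A, P2Elem p A P :=
  exists_p2Elem fun hr => hc (cyclic_of_rank1 hodd hP hr)

theorem rank2_plength1 [Finite G] [hp : Fact p.Prime] {H : Subgroup G} (hs : Group.IsSolvable H)
    (hodd : Odd (Nat.card H)) (hr : PRankLE p 2 H) : PLengthLE p 1 H := by
  by_cases hd : p ∣ Nat.card H
  · exact H9.pLengthLE_one_iff.2 (rank2_der1_complement hodd hd hr).2.2.2.2.2
  · exact H9.pLengthLE_of_coprime ((Nat.Prime.coprime_iff_not_dvd hp.out).2 hd).symm 1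

theorem rank2_der1_le_fittingOf [Finite G] {H : Subgroup G} (hs : Group.IsSolvable H)
    (hodd : Odd (Nat.card H)) (hr : RankLE 2 (fittingOf H)) : ⁅H, H⁆ ≤ fittingOf H := by
  rw [← map_subtype_der]
  exact map_mono (rank2_der1_sub_Fitting hodd (rankLE_map_subtype_iff.1 hr))

theorem rank2_max_sylow_norm [Finite G] [Fact p.Prime] {H S : Subgroup G}
    (hs : Group.IsSolvable H) (hodd : Odd (Nat.card H)) (hr : RankLE 2 H)
    (hmax : ∀ q : ℕ, q.Prime → q ∣ Nat.card H → q ≤ p) (hS : IsSylowIn p S H) : H ≤ 𝐍(S) := by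
  obtain ⟨P, rfl⟩ := hS.exists_sylow_map
  have := rank2_max_pcore_Sylow hodd (rankLE_subgroup hr _) hmax P
  exact le_normalizer_map_subtype _

theorem rank2_gt_hall [Finite G] {H : Subgroup G} (hs : Group.IsSolvable H)
    (hodd : Odd (Nat.card H)) (hr : RankLE 2 H) (m : ℕ) :
    IsPiHallOf {q | m < q} (piCoreOf {q | m < q} H) H := by
  obtain ⟨N, hN, h⟩ := (rank2_der1_nil hodd (Or.inl hr)).2.2 m
  have h1 : IsPiHallOf {q | m < q} (N.map H.subtype) H :=
    hall_congr (Hall.isPiHallOf_map_subtype h) fun q hq _ => by simp [hq]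
  rwa [← hall_eq_piCoreOf h1 (le_normalizer_map_subtype N)]

theorem exists_max_prime_dvd {n : ℕ} (h0 : n ≠ 0) (h1 : n ≠ 1) :
    ∃ q : ℕ, q.Prime ∧ q ∣ n ∧ ∀ r : ℕ, r.Prime → r ∣ n → r ≤ q := by
  have hne : n.primeFactors.Nonempty := Nat.nonempty_primeFactors.2 (by omega)
  have hm := Nat.mem_primeFactors.1 (n.primeFactors.max'_mem hne)
  exact ⟨_, hm.1, hm.2.1, fun r hr hd =>
    n.primeFactors.le_max' r (Nat.mem_primeFactors.2 ⟨hr, hd, h0⟩)⟩

theorem pRankLE_iff_of_hall [Finite G] [Fact p.Prime] {k : ℕ} {H M : Subgroup G}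
    (h : IsPiHallOf π H M) (hp : p ∈ π) : PRankLE p k M ↔ PRankLE p k H := by
  obtain ⟨S, hS⟩ := IsSylowIn.exists_in (p := p) H
  rw [pRankLE_iff_of_isSylowIn hS, pRankLE_iff_of_isSylowIn (sylow_of_hall hS h hp)]

theorem pRankLE_iff_of_sup [Finite G] [Fact p.Prime] {k : ℕ} {N U M : Subgroup G} (hn : U ≤ 𝐍(N))
    (h : N ⊔ U = M) (hN : ¬ p ∣ Nat.card N) : PRankLE p k M ↔ PRankLE p k U := by
  obtain ⟨S, hS⟩ := IsSylowIn.exists_in (p := p) U
  rw [pRankLE_iff_of_isSylowIn hS, pRankLE_iff_of_isSylowIn (sylow_of_sup hn h hN hS)]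

theorem not_rankLE_of_not_pRankLE [hp : Fact p.Prime] {k : ℕ} {H : Type*} [Group H]
    (h : ¬ PRankLE p k H) : ¬ RankLE k H := fun h' => h (h' p hp.out)

theorem dvd_card_of_dvd_sup [Finite G] [hp : Fact p.Prime] {N U : Subgroup G} (hn : U ≤ 𝐍(N))
    (h : p ∣ Nat.card ↥(N ⊔ U)) (hN : ¬ p ∣ Nat.card N) : p ∣ Nat.card U := by
  rw [sup_comm] at h
  exact ((Nat.Prime.dvd_mul hp.out).1 (h.trans (card_sup_dvd_mul hn))).resolve_right hN

end CfsgLib.FT
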