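import Cfsg.Agent.Lib.FT.PF6

/-!
# Peterfalvi, Section 7: non-existence of a certain type of group of odd order
-/

set_option autoImplicit false
set_option linter.unusedSectionVars false

namespace CfsgLib.FT

open Cfsg Subgroup
open scoped ComplexConjugate commutatorElement Classical

variable {G : Type*} [Group G] [Fintype G]
variable {L K H M : Subgroup G} {A : Set G} {R : G → Subgroup G} {α φ ψ χ ξ θ : G → ℂ}

theorem invDadeE {a : G} (ha : a ∈ A) :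
    invDade A R χ a = (Nat.card (R a) : ℂ)⁻¹ * ∑ r ∈ elems (R a : Set G), χ (a * r) :=
  Set.indicator_of_mem (s := A) ha
    fun a => (Nat.card (R a) : ℂ)⁻¹ * ∑ r ∈ elems (R a : Set G), χ (a * r)

theorem invDade_apply_of_notMem {a : G} (ha : a ∉ A) : invDade A R χ a = 0 :=
  Set.indicator_of_notMem (s := A) ha
    fun a => (Nat.card (R a) : ℂ)⁻¹ * ∑ r ∈ elems (R a : Set G), χ (a * r)

theorem invDade_on (h : DadeHypothesis A L R) (hχ : χ ∈ CF (⊤ : Subgroup G)) :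
    invDade A R χ ∈ CFon L A := by
  have key : ∀ y ∈ L, ∀ x, y * x * y⁻¹ ∈ A ↔ x ∈ A := fun y hy x =>
    ⟨fun hx => by simpa [mul_assoc] using h.conj_mem y⁻¹ (L.inv_mem hy) _ hx, h.conj_mem y hy x⟩
  refine mem_CFon.2 ⟨mem_CF.2 ⟨fun x hx => invDade_apply_of_notMem fun ha => hx (h.subset ha),
    fun y hy x => ?_⟩, fun _ => invDade_apply_of_notMem⟩
  by_cases hx : x ∈ A
  · rw [invDadeE hx, invDadeE ((key y hy x).2 hx), DadeJ h hx hy, card_map_conj',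
      sum_elems_map_conj]
    congr 1
    refine Finset.sum_congr rfl fun r _ => ?_
    rw [← CF_conj hχ (mem_top y) (x * r)]
    congr 1; group
  · rw [invDade_apply_of_notMem hx, invDade_apply_of_notMem ((key y hy x).not.2 hx)]

theorem invDade_of_const {a : G} (ha : a ∈ A) (hc : ∀ r ∈ R a, χ (a * r) = χ a) :
    invDade A R χ a = χ a := by
  rw [invDadeE ha, Finset.sum_congr rfl fun r hr => hc r (mem_elems.mp hr), sum_elems_const,
    nsmul_eq_mul, inv_mul_cancel_left₀ (card_ne_zero _)]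

theorem invDade_cfun1 : invDade A R (cf1 ⊤) = cfInd1 A := by
  ext a
  by_cases ha : a ∈ A
  · rw [invDade_of_const ha fun r _ => by simp [cf1_top], cfInd1_apply ha, cf1_apply (mem_top _)]
  · rw [invDade_apply_of_notMem ha, cfInd1_apply_of_notMem ha]

theorem invDade_restr {A1 : Set G} (hA1 : A1 ⊆ A) {a : G} (ha : a ∈ A1) :
    invDade A1 R χ a = invDade A R χ a := by
  rw [invDadeE ha, invDadeE (hA1 ha)]

/-- Peterfalvi (2.7), restated using `invDade`. -/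
theorem invDade_reciprocity (h : DadeHypothesis A L R) (hα : α ∈ CFon L A)
    (hχ : χ ∈ CF (⊤ : Subgroup G)) : cfdot ⊤ (Dade A R α) χ = cfdot L α (invDade A R χ) :=
  general_Dade_reciprocity h hα hχ fun _ ha => invDadeE ha

/-- Peterfalvi (7.2)(a). -/
theorem DadeK (h : DadeHypothesis A L R) (hα : α ∈ CFon L A) : invDade A R (Dade A R α) = α := by
  ext a
  by_cases ha : a ∈ A
  · rw [invDade_of_const ha fun r hr => ?_, Dade_id h (CFon_CF hα) ha]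
    rw [Dade_id h (CFon_CF hα) ha]
    simpa using DadeE h (CFon_CF hα) ha hr 1
  · rw [invDade_apply_of_notMem ha, CFon_zero hα ha]

theorem cfnorm_sub_Dade_invDade (h : DadeHypothesis A L R) (hχ : χ ∈ CF (⊤ : Subgroup G)) :
    cfnorm ⊤ (Dade A R (invDade A R χ) - χ) = cfnorm ⊤ χ - cfnorm L (invDade A R χ) := by
  rw [cfnorm_sub, cfnorm_Dade h (invDade_on h hχ), invDade_reciprocity h (invDade_on h hχ) hχ,
    cfdot_self, Complex.ofReal_re]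
  ring

/-- Peterfalvi (7.2)(b). -/
theorem leC_norm_invDade (h : DadeHypothesis A L R) (hχ : χ ∈ CF (⊤ : Subgroup G)) :
    cfnorm L (invDade A R χ) ≤ cfnorm ⊤ χ := by
  have := cfnorm_sub_Dade_invDade h hχ
  have h2 := cfnorm_nonneg (L := ⊤) (φ := Dade A R (invDade A R χ) - χ)
  linarith

theorem norm_invDade_eq_iff (h : DadeHypothesis A L R) (hχ : χ ∈ CF (⊤ : Subgroup G)) :
    cfnorm L (invDade A R χ) = cfnorm ⊤ χ ↔ χ = Dade A R (invDade A R χ) := by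
  have := cfnorm_sub_Dade_invDade h hχ
  refine ⟨fun e => (sub_eq_zero.1 (eq_zero_of_cfnorm_top (by linarith))).symm, fun e => ?_⟩
  rw [← e, sub_self, cfnorm_eq] at this
  simp only [Pi.zero_apply, norm_zero, ne_eq, OfNat.ofNat_ne_zero, not_false_eq_true, zero_pow,
    Finset.sum_const_zero, mul_zero] at this
  linarith

theorem indicator_dadeSupp_facts (hχ : χ ∈ CF (⊤ : Subgroup G)) :
    (dadeSupp A R).indicator χ ∈ CF (⊤ : Subgroup G) ∧
      invDade A R ((dadeSupp A R).indicator χ) = invDade A R χ ∧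
      cfnorm ⊤ ((dadeSupp A R).indicator χ) =
        (Nat.card G : ℝ)⁻¹ * ∑ g ∈ elems (dadeSupp A R), ‖χ g‖ ^ 2 := by
  refine ⟨mem_CF.2 ⟨fun x hx => absurd (mem_top x) hx, fun y hy x => ?_⟩, ?_, ?_⟩
  · by_cases hx : x ∈ dadeSupp A R
    · rw [Set.indicator_of_mem hx, Set.indicator_of_mem (dadeSupp_conj hx y), CF_conj hχ hy]
    · rw [Set.indicator_of_notMem hx, Set.indicator_of_notMem fun h1 => hx (by
        simpa [mul_assoc] using dadeSupp_conj h1 y⁻¹)]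
  · ext a
    by_cases ha : a ∈ A
    · rw [invDadeE ha, invDadeE ha]
      congr 1
      exact Finset.sum_congr rfl fun r hr =>
        Set.indicator_of_mem (by exact ⟨a, ha, r, mem_elems.mp hr, 1, by simp⟩) _
    · rw [invDade_apply_of_notMem ha, invDade_apply_of_notMem ha]
  · rw [cfnorm_eq_sum_of_supp (A := dadeSupp A R) (fun _ _ => mem_top _)
      fun x _ hx => Set.indicator_of_notMem hx _, card_top]
    congr 1
    exact Finset.sum_congr rfl fun g hg => by rw [Set.indicator_of_mem (mem_elems.mp hg)]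

/-- Peterfalvi (7.3). -/
theorem leC_cfnorm_invDade_support (h : DadeHypothesis A L R) (hχ : χ ∈ CF (⊤ : Subgroup G)) :
    cfnorm L (invDade A R χ) ≤ (Nat.card G : ℝ)⁻¹ * ∑ g ∈ elems (dadeSupp A R), ‖χ g‖ ^ 2 := by
  obtain ⟨h1, h2, h3⟩ := indicator_dadeSupp_facts (A := A) (R := R) hχ
  rw [← h3, ← h2]
  exact leC_norm_invDade h h1

theorem cfnorm_invDade_support_eq_iff (h : DadeHypothesis A L R) (hχ : χ ∈ CF (⊤ : Subgroup G)) :
    cfnorm L (invDade A R χ) = (Nat.card G : ℝ)⁻¹ * ∑ g ∈ elems (dadeSupp A R), ‖χ g‖ ^ 2 ↔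
      ∀ a ∈ A, ∀ r ∈ R a, χ (a * r) = χ a := by
  obtain ⟨h1, h2, h3⟩ := indicator_dadeSupp_facts (A := A) (R := R) hχ
  rw [← h3, ← h2, norm_invDade_eq_iff h h1, h2]
  have h4 := CFon_CF (invDade_on h hχ)
  constructor
  · intro e a ha r hr
    have h5 : ∀ r ∈ R a, χ (a * r) = invDade A R χ a := fun r hr => by
      have := congrFun e (1 * (a * r) * 1⁻¹)
      rw [DadeE h h4 ha hr, Set.indicator_of_mem (by exact ⟨a, ha, r, hr, 1, rfl⟩)] at this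
      simpa using this
    rw [h5 r hr, ← h5 1 (one_mem _), mul_one]
  · intro hc
    ext g
    by_cases hg : g ∈ dadeSupp A R
    · rw [Set.indicator_of_mem hg]
      obtain ⟨a, ha, r, hr, y, rfl⟩ := hg
      rw [DadeE h h4 ha hr, CF_conj hχ (mem_top y), invDade_of_const ha (hc a ha), hc a ha r hr]
    · rw [Set.indicator_of_notMem hg, Dade_apply_of_notMem hg]

theorem cfnormE_invDade (h : DadeHypothesis A L R) :
    cfnorm L (invDade A R χ) = (Nat.card L : ℝ)⁻¹ * ∑ a ∈ elems A, ‖invDade A R χ a‖ ^ 2 :=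
  cfnorm_eq_sum_of_supp h.subset fun _ _ ha => invDade_apply_of_notMem ha

/-- Peterfalvi (7.5), generalised to all class functions of norm 1. -/
theorem Dade_cover_inequality {I : Type*} [Fintype I] {L : I → Subgroup G} {A : I → Set G}
    {R : I → G → Subgroup G} (h : ∀ i, DadeHypothesis (A i) (L i) (R i))
    (hd : ∀ i j, i ≠ j → Disjoint (dadeSupp (A i) (R i)) (dadeSupp (A j) (R j)))
    (hχ : χ ∈ CF (⊤ : Subgroup G)) (h1 : cfnorm ⊤ χ = 1) {G0 : Set G}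
    (hG0 : G0 = (⋃ i, dadeSupp (A i) (R i))ᶜ) :
    (Nat.card G : ℝ)⁻¹ * (∑ g ∈ elems G0, ‖χ g‖ ^ 2 - G0.ncard) +
      ∑ i, (cfnorm (L i) (invDade (A i) (R i) χ) - ((A i).ncard : ℝ) / Nat.card (L i)) ≤ 0 := by
  have key : ∀ f : G → ℝ, ∑ g, f g = ∑ g ∈ elems G0, f g +
      ∑ i, ∑ g ∈ elems (dadeSupp (A i) (R i)), f g := fun f => by
    simp only [elems, Finset.sum_filter]
    rw [Finset.sum_comm, ← Finset.sum_add_distrib]
    refine Finset.sum_congr rfl fun g _ => ?_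
    by_cases hg : g ∈ G0
    · rw [if_pos hg, Finset.sum_eq_zero fun i _ => if_neg fun h2 => ?_, add_zero]
      rw [hG0] at hg
      exact hg (Set.mem_iUnion.2 ⟨i, h2⟩)
    · rw [if_neg hg, zero_add]
      rw [hG0, Set.notMem_compl_iff, Set.mem_iUnion] at hg
      obtain ⟨i, hi⟩ := hg
      rw [Finset.sum_eq_single i (fun j _ hj => if_neg fun h2 =>
        Set.disjoint_left.1 (hd j i hj) h2 hi) (by simp), if_pos hi]
  have hG : (0 : ℝ) < Nat.card G := Nat.cast_pos.2 Nat.card_pos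
  have h2 := key fun g => ‖χ g‖ ^ 2
  have h3 := key fun _ => 1
  rw [cfnorm_eq, elems_top, card_top, h2, mul_add, Finset.mul_sum Finset.univ] at h1
  simp only [Finset.sum_const, Finset.card_univ, card_elems_set, nsmul_eq_mul, mul_one,
    ← Nat.card_eq_fintype_card] at h3
  have h4 : ∑ i, ((A i).ncard : ℝ) / Nat.card (L i) =
      (Nat.card G : ℝ)⁻¹ * ∑ i, ((dadeSupp (A i) (R i)).ncard : ℝ) := by
    rw [Finset.mul_sum]
    refine Finset.sum_congr rfl fun i _ => ?_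
    have h5 : ((dadeSupp (A i) (R i)).ncard : ℝ) * Nat.card (L i) = (A i).ncard * Nat.card G := by
      exact_mod_cast card_dadeSupp (h i)
    have h6 := card_pos_real (L i)
    field_simp
    linarith
  have h5 := Finset.sum_le_sum fun i (_ : i ∈ Finset.univ) => leC_cfnorm_invDade_support (h i) hχ
  have h6 : (Nat.card G : ℝ)⁻¹ * G0.ncard +
      (Nat.card G : ℝ)⁻¹ * ∑ i, ((dadeSupp (A i) (R i)).ncard : ℝ) = 1 := by
    rw [← mul_add, ← h3, inv_mul_cancel₀ hG.ne']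
  rw [Finset.sum_sub_distrib, h4, mul_sub]
  linarith

theorem normal_of_Dade_sharp (h : DadeHypothesis (sharp H) L R) :
    H ≤ L ∧ L ≤ normalizer (H : Set G) := by
  refine ⟨fun x hx => ?_, le_normalizer_of_conj fun x hx a ha => ?_⟩
  · by_cases h1 : x = 1
    · exact h1 ▸ L.one_mem
    · exact h.subset ⟨hx, h1⟩
  · by_cases h1 : a = 1
    · simp [h1]
    · exact (h.conj_mem x hx a ⟨ha, h1⟩).1

theorem eq_sum_seqIndT (hHL : H ≤ L) (hn : L ≤ normalizer (H : Set G))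
    (hφ : φ ∈ CFon L (H : Set G)) :
    φ = ∑ ξ ∈ seqIndT H L, (cfdot L φ ξ / cfnorm L ξ) • ξ := by
  rw [← sub_eq_zero]
  set δ := φ - ∑ ξ ∈ seqIndT H L, (cfdot L φ ξ / cfnorm L ξ) • ξ with hδ
  have h1 : δ ∈ CFon L (H : Set G) := Submodule.sub_mem _ hφ
    (Submodule.sum_mem _ fun ξ hξ => Submodule.smul_mem _ _ (seqInd_on hn hξ))
  rw [← cfRes_of_supp (H := H) fun _ => CFon_zero h1]
  refine CF_eq_zero_of_ortho (cfRes_mem_CF hHL (CFon_CF h1)) fun θ hθ => ?_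
  have h2 : cfInd H L θ ∈ seqIndT H L := mem_seqIndT.2 ⟨θ, hθ, rfl⟩
  have h3 : (cfnorm L (cfInd H L θ) : ℂ) ≠ 0 := by exact_mod_cast (cfnorm_seqInd_pos hHL h2).ne'
  rw [← cfdot_cfRes_cfInd hHL (CFon_CF h1), hδ, cfdot_sub_left, cfdot_sum_smul_ortho (seqIndT H L)
    (fun ξ => ξ) _ (fun a ha b hb => seqInd_ortho hHL hn ha hb) h2, cfdot_self, div_mul_cancel₀ _ h3, sub_self]

theorem sum_seqIndT_apply (hHL : H ≤ L) (hn : L ≤ normalizer (H : Set G)) {x : G} (hx : x ≠ 1) :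
    ∑ ξ ∈ seqIndT H L, ξ 1 / cfnorm L ξ * ξ x = 0 := by
  have := congrFun (sum_seqInd_smul (P := fun _ => True) hHL hn fun _ _ _ _ => trivial) x
  simp only [Finset.sum_apply, Pi.smul_apply, smul_eq_mul, Finset.filter_true] at this
  rw [seqIndT, this, sum_irr_one_mul hx, mul_zero]

theorem eq_on_sharp_of_cfdot (hHL : H ≤ L) (hn : L ≤ normalizer (H : Set G)) {ξ0 : G → ℂ}
    (h0 : ξ0 ∈ seqIndT H L) (hφ : φ ∈ CF L) (hψ : ψ ∈ CF L)
    (h : ∀ ξ ∈ seqIndT H L, cfdot L (ξ - (ξ 1 / ξ0 1) • ξ0) φ = cfdot L (ξ - (ξ 1 / ξ0 1) • ξ0) ψ)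
    {x : G} (hx : x ∈ sharp H) : φ x = ψ x := by
  set δ := cf1 H * (φ - ψ) with hδ
  have h1 : δ ∈ CFon L (H : Set G) :=
    CFon_mul ⟨cf1_mem_CF_of_normal hHL hn, fun _ => cf1_apply_of_notMem⟩ (Submodule.sub_mem _ hφ hψ)
  have h2 : ∀ y ∈ H, δ y = φ y - ψ y := fun y hy => by simp [hδ, cf1_apply hy]
  have h3 : ∀ ξ ∈ seqIndT H L, cfdot L δ ξ = cfdot L δ ξ0 / ξ0 1 * ξ 1 := fun ξ hξ => by
    have h4 : cfdot L (ξ - (ξ 1 / ξ0 1) • ξ0) δ = 0 := by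
      rw [cfdot_congr_of_supp (A := sharp H) (ψ' := φ - ψ)
        (fun _ => CFon_zero (seqInd_sub_lin_on hHL hn hξ h0)) fun y hy => h2 y hy.1,
        cfdot_sub_right, h ξ hξ, sub_self]
    have h5 := cfdot_symm_zero h4
    rw [cfdot_sub_right, cfdot_smul_right, map_div₀, (seqInd_char hHL hξ).conj_one,
      (seqInd_char hHL h0).conj_one, sub_eq_zero] at h5
    rw [h5]; ring
  rw [← sub_eq_zero, ← h2 x hx.1, eq_sum_seqIndT hHL hn h1, Finset.sum_apply,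
    Finset.sum_congr rfl (g := fun ξ => cfdot L δ ξ0 / ξ0 1 * (ξ 1 / cfnorm L ξ * ξ x))
      fun ξ hξ => by rw [Pi.smul_apply, smul_eq_mul, h3 ξ hξ]; ring,
    ← Finset.mul_sum, sum_seqIndT_apply hHL hn hx.2, mul_zero]

theorem cfnorm_eq_of_eq_on_sharp (hHL : H ≤ L) (hφ : φ ∈ CFon L (sharp H))
    (hψ : ψ ∈ CFon L (H : Set G)) (h : ∀ x ∈ sharp H, φ x = ψ x) :
    cfnorm L φ = cfnorm L ψ - ‖ψ 1‖ ^ 2 / Nat.card L := by
  rw [cfnorm_eq_sum_of_supp (sharp_subset.trans hHL) fun _ _ => CFon_zero hφ,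
    cfnorm_eq_sum_of_supp (A := H) hHL fun _ _ => CFon_zero hψ,
    show elems (sharp H) = (elems (H : Set G)).erase 1 by
      ext y; simp [mem_elems, mem_sharp, and_comm],
    ← Finset.add_sum_erase _ _ (mem_elems.2 H.one_mem), Finset.sum_congr rfl fun y hy => by
      rw [h y ⟨mem_elems.1 (Finset.mem_erase.1 hy).2, (Finset.mem_erase.1 hy).1⟩]]
  ring

/-- Peterfalvi (7.7)(a). -/
theorem invDade_seqInd_sum_apply (h : DadeHypothesis (sharp H) L R) {ξ0 : G → ℂ}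
    (h0 : ξ0 ∈ seqIndT H L) (hχ : χ ∈ CF (⊤ : Subgroup G)) {x : G} (hx : x ∈ sharp H) :
    invDade (sharp H) R χ x = ∑ ξ ∈ (seqIndT H L).erase ξ0,
      conj (cfdot ⊤ (Dade (sharp H) R (ξ - (ξ 1 / ξ0 1) • ξ0)) χ) / cfnorm L ξ * ξ x := by
  obtain ⟨hHL, hn⟩ := normal_of_Dade_sharp h
  set c : (G → ℂ) → ℂ := fun ξ => cfdot ⊤ (Dade (sharp H) R (ξ - (ξ 1 / ξ0 1) • ξ0)) χ with hc
  have hc0 : c ξ0 = 0 := by
    simp only [hc, div_self (seqInd1_neq0 hHL h0), one_smul, sub_self, map_zero, cfdot_zero_left]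
  have h1 : ∀ ξ ∈ seqIndT H L,
      cfdot L ξ (∑ ξ ∈ seqIndT H L, (conj (c ξ) / cfnorm L ξ) • ξ) = c ξ := fun ξ hξ => by
    have h2 : (cfnorm L ξ : ℂ) ≠ 0 := by exact_mod_cast (cfnorm_seqInd_pos hHL hξ).ne'
    rw [← cfdot_conj, cfdot_sum_smul_ortho (seqIndT H L) (fun ξ => ξ) _
      (fun a ha b hb => seqInd_ortho hHL hn ha hb) hξ, cfdot_self, div_mul_cancel₀ _ h2,
      Complex.conj_conj]
  have h2 := eq_on_sharp_of_cfdot hHL hn h0 (CFon_CF (invDade_on h hχ))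
    (ψ := ∑ ξ ∈ seqIndT H L, (conj (c ξ) / cfnorm L ξ) • ξ)
    (Submodule.sum_mem _ fun ξ hξ => Submodule.smul_mem _ _ (seqInd_mem_CF hξ)) (fun ξ hξ => by
      rw [← invDade_reciprocity h (seqInd_sub_lin_on hHL hn hξ h0) hχ, cfdot_sub_left,
        cfdot_smul_left, h1 ξ hξ, h1 ξ0 h0, hc0, mul_zero, sub_zero]) hx
  rw [h2, Finset.sum_apply, Finset.sum_erase _ (by
    simp only [hc] at hc0; rw [hc0, map_zero, zero_div, zero_mul])]
  rfl

/-- Peterfalvi (7.7)(b). -/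
theorem invDade_seqInd_sum_norm (h : DadeHypothesis (sharp H) L R) {ξ0 : G → ℂ}
    (h0 : ξ0 ∈ seqIndT H L) (hχ : χ ∈ CF (⊤ : Subgroup G)) {c : (G → ℂ) → ℂ}
    (hc : ∀ ξ, c ξ = cfdot ⊤ (Dade (sharp H) R (ξ - (ξ 1 / ξ0 1) • ξ0)) χ) :
    cfnorm L (invDade (sharp H) R χ) =
      ∑ ξ ∈ (seqIndT H L).erase ξ0, ‖c ξ‖ ^ 2 / cfnorm L ξ -
        ‖∑ ξ ∈ (seqIndT H L).erase ξ0, conj (c ξ) / cfnorm L ξ * ξ 1‖ ^ 2 / Nat.card L := by
  obtain ⟨hHL, hn⟩ := normal_of_Dade_sharp h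
  rw [cfnorm_eq_of_eq_on_sharp hHL (invDade_on h hχ)
    (ψ := ∑ ξ ∈ (seqIndT H L).erase ξ0, (conj (c ξ) / cfnorm L ξ) • ξ)
    (Submodule.sum_mem _ fun ξ hξ =>
      Submodule.smul_mem _ _ (seqInd_on hn (Finset.mem_of_mem_erase hξ))) fun x hx => by
      rw [invDade_seqInd_sum_apply h h0 hχ hx, Finset.sum_apply]
      exact Finset.sum_congr rfl fun ξ _ => by rw [hc]; rfl,
    cfnorm_sum_of_ortho _ _ fun a ha b hb hab => by
      rw [cfdot_smul_left, cfdot_smul_right, seqInd_ortho hHL hn (Finset.mem_of_mem_erase ha)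
        (Finset.mem_of_mem_erase hb) hab, mul_zero, mul_zero], Finset.sum_apply]
  congr 1
  refine Finset.sum_congr rfl fun ξ hξ => ?_
  have := cfnorm_seqInd_pos hHL (Finset.mem_of_mem_erase hξ)
  rw [cfnorm_smul, norm_div, Complex.norm_conj, Complex.norm_real, Real.norm_of_nonneg this.le]
  field_simp

theorem nu_sub_lin (h : DadeHypothesis (sharp H) L R) {ν : CFMap G}
    (hν : CoherentWith L (seqIndD H L H ⊥) (Dade (sharp H) R) ν) {ζ : G → ℂ}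
    (hζ : ζ ∈ seqIndD H L H ⊥) (hζ1 : ζ 1 = H.relIndex L) (hξ : ξ ∈ seqIndD H L H ⊥) :
    Dade (sharp H) R (ξ - (ξ 1 / ζ 1) • ζ) = ν ξ - (ξ 1 / ζ 1) • ν ζ := by
  obtain ⟨hHL, hn⟩ := normal_of_Dade_sharp h
  rw [← hν.agree _ (sub_seqInd_zchar hHL seqInd_subT hξ hζ hζ1)
    (CFon_zero (seqInd_sub_lin_on hHL hn hξ hζ) one_notMem_sharp), map_sub, map_smul]

theorem cfdot_Ind1_cf1 (hHL : H ≤ L) : cfdot L (cfInd H L (cf1 H)) (cf1 L) = 1 := by
  rw [cfdot_cfInd_cfRes hHL cf1_mem_CF, cfRes_cf1 hHL, cfdot_cf1]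

theorem Ind1_one (hHL : H ≤ L) : cfInd H L (cf1 H) 1 = H.relIndex L := by
  rw [cfInd_one hHL, cf1_apply H.one_mem, mul_one]

/-- The sum `∑ (ξ 1 / e / ‖ξ‖²) ν ξ`. -/
theorem sum_nu_facts (hHL : H ≤ L) (hn : L ≤ normalizer (H : Set G)) {ν : CFMap G}
    (hν : ZIsom L (seqIndD H L H ⊥) ν) :
    (∀ ξ ∈ seqIndD H L H ⊥, cfdot ⊤ (∑ ξ ∈ seqIndD H L H ⊥,
      (ξ 1 / H.relIndex L / cfnorm L ξ) • ν ξ) (ν ξ) = ξ 1 / H.relIndex L) ∧
    cfnorm ⊤ (∑ ξ ∈ seqIndD H L H ⊥, (ξ 1 / H.relIndex L / cfnorm L ξ) • ν ξ) =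
      ((Nat.card H : ℝ) - 1) / H.relIndex L := by
  have ho : ∀ a ∈ seqIndD H L H ⊥, ∀ b ∈ seqIndD H L H ⊥, a ≠ b → cfdot ⊤ (ν a) (ν b) = 0 :=
    fun a ha b hb hab => by
      rw [hν.isom _ (subset_zspan ha) _ (subset_zspan hb), seqInd_ortho hHL hn ha hb hab]
  refine ⟨fun ξ hξ => ?_, ?_⟩
  · have h3 : (cfnorm L ξ : ℂ) ≠ 0 := by exact_mod_cast (cfnorm_seqInd_pos hHL hξ).ne'
    rw [cfdot_sum_smul_ortho _ _ _ ho hξ, hν.isom _ (subset_zspan hξ) _ (subset_zspan hξ),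
      cfdot_self, div_mul_cancel₀ _ h3]
  · have he := relIndex_pos_real H L
    rw [cfnorm_sum_of_ortho _ _ fun a ha b hb hab => by
      rw [cfdot_smul_left, cfdot_smul_right, ho a ha b hb hab, mul_zero, mul_zero],
      Finset.sum_congr rfl (g := fun ξ => (ξ 1).re ^ 2 / cfnorm L ξ / (H.relIndex L : ℝ) ^ 2),
      ← Finset.sum_div, sum_seqIndC1_square hHL hn]
    · field_simp
    · intro ξ hξ
      have h3 := cfnorm_seqInd_pos hHL hξ
      rw [cfnorm_smul, hν.cfnorm (subset_zspan hξ), (seqInd_char hHL hξ).one_eq_re, norm_div,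
        norm_div, Complex.norm_real, Complex.norm_real, Complex.norm_natCast,
        Real.norm_of_nonneg h3.le, Real.norm_of_nonneg (seqInd1_re_pos hHL hξ).le,
        Complex.ofReal_re]
      field_simp

/-- Peterfalvi (7.8)(a1). -/
theorem Dade_Ind1_sub_lin_a1 (h : DadeHypothesis (sharp H) L R) {ν : CFMap G}
    (hν : CoherentWith L (seqIndD H L H ⊥) (Dade (sharp H) R) ν)
    (h2 : 1 < (seqIndD H L H ⊥).card) {ζ : G → ℂ} (hirr : IsIrr L ζ) (hζ : ζ ∈ seqIndD H L H ⊥)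
    (hζ1 : ζ 1 = H.relIndex L) :
    (∀ ξ ∈ seqIndD H L H ⊥, cfdot ⊤ (ν ξ) (cf1 ⊤) = 0) ∧
      cfdot ⊤ (Dade (sharp H) R (cfInd H L (cf1 H) - ζ)) (cf1 ⊤) = 1 ∧
      Dade (sharp H) R (cfInd H L (cf1 H) - ζ) ∈ ZIrr (⊤ : Subgroup G) ∧
      cfnorm ⊤ (Dade (sharp H) R (cfInd H L (cf1 H) - ζ)) = H.relIndex L + 1 := by
  obtain ⟨hHL, hn⟩ := normal_of_Dade_sharp h
  have hβ := cfInd1_sub_lin_on hHL hn hζ hζ1
  refine ⟨?_, ?_, Dade_vchar h (cfInd1_sub_lin_vchar hHL hζ) fun _ => CFon_zero hβ, ?_⟩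
  · have h1 : ∀ ξ ∈ seqIndD H L H ⊥,
        cfdot ⊤ (ν ξ) (cf1 ⊤) = ξ 1 / ζ 1 * cfdot ⊤ (ν ζ) (cf1 ⊤) := fun ξ hξ => by
      rw [← sub_eq_zero, ← cfdot_smul_left, ← cfdot_sub_left, ← nu_sub_lin h hν hζ hζ1 hξ,
        cfdot_Dade_cf1 h (seqInd_sub_lin_on hHL hn hξ hζ), cfdot_sub_left, cfdot_smul_left,
        seqInd_ortho_1 hHL le_rfl hξ, seqInd_ortho_1 hHL le_rfl hζ, mul_zero, sub_zero]
    have h3 : cfdot ⊤ (ν ζ) (cf1 ⊤) = 0 := by
      by_contra h3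
      obtain ⟨ξ, hξ, hne⟩ := Finset.exists_mem_ne h2 ζ
      have h4 : cfdot ⊤ (ν ξ) (ν ζ) = 0 := by
        rw [hν.isom _ (subset_zspan hξ) _ (subset_zspan hζ), seqInd_ortho hHL hn hξ hζ hne]
      have h5 : cfdot ⊤ (ν ξ) (cf1 ⊤) = 0 := by
        rcases (hν.dirr (subset_zspan hζ) hirr).eq_or_neg_of_cfdot_ne
          (isIrr_cf1 ⊤).isDirr h3 with e | e
        · rwa [e] at h4
        · rwa [e, cfdot_neg_right, neg_eq_zero] at h4
      rw [h1 ξ hξ] at h5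
      exact mul_ne_zero (div_ne_zero (seqInd1_neq0 hHL hξ) (seqInd1_neq0 hHL hζ)) h3 h5
    intro ξ hξ
    rw [h1 ξ hξ, h3, mul_zero]
  · rw [cfdot_Dade_cf1 h hβ, cfdot_sub_left, seqInd_ortho_1 hHL le_rfl hζ, cfdot_Ind1_cf1 hHL,
      sub_zero]
  · rw [cfnorm_Dade h hβ, cfnorm_sub_of_ortho (cfdot_symm_zero (seqInd_ortho_Ind1 hHL hn le_rfl hζ)),
      cfnorm_Ind1 hHL hn, hirr.cfnorm]

/-- Peterfalvi (7.8)(a), (b). -/
theorem Dade_Ind1_sub_lin (h : DadeHypothesis (sharp H) L R) {ν : CFMap G}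
    (hν : CoherentWith L (seqIndD H L H ⊥) (Dade (sharp H) R) ν)
    (h2 : 1 < (seqIndD H L H ⊥).card) {ζ : G → ℂ} (hirr : IsIrr L ζ) (hζ : ζ ∈ seqIndD H L H ⊥)
    (hζ1 : ζ 1 = H.relIndex L) :
    ∃ (a : ℤ) (Γ : G → ℂ), (∀ ξ ∈ seqIndD H L H ⊥, cfdot ⊤ Γ (ν ξ) = 0) ∧
      cfdot ⊤ Γ (cf1 ⊤) = 0 ∧
      Dade (sharp H) R (cfInd H L (cf1 H) - ζ) = cf1 ⊤ - ν ζ +
        (a : ℂ) • ∑ ξ ∈ seqIndD H L H ⊥, (ξ 1 / H.relIndex L / cfnorm L ξ) • ν ξ + Γ ∧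
      cfnorm L (invDade (sharp H) R (ν ζ)) =
        1 - (H.relIndex L : ℝ) / Nat.card H +
          (a : ℝ) ^ 2 / H.relIndex L * ((Nat.card H - 1) / Nat.card H) -
          2 * (a : ℝ) / Nat.card H ∧
      cfnorm ⊤ Γ = H.relIndex L - 1 - (a : ℝ) ^ 2 * (Nat.card H - 1) / H.relIndex L + 2 * a ∧
      ((H.relIndex L : ℝ) ≤ (Nat.card H - 1) / 2 →
        1 - (H.relIndex L : ℝ) / Nat.card H ≤ cfnorm L (invDade (sharp H) R (ν ζ)) ∧
          cfnorm ⊤ Γ ≤ H.relIndex L - 1) := by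
  obtain ⟨hHL, hn⟩ := normal_of_Dade_sharp h
  obtain ⟨a1, a2, a3, a4⟩ := Dade_Ind1_sub_lin_a1 h hν h2 hirr hζ hζ1
  obtain ⟨s1, s2⟩ := sum_nu_facts hHL hn hν.toZIsom
  have hβ := cfInd1_sub_lin_on hHL hn hζ hζ1
  have hνζ := hν.virt _ (subset_zspan hζ)
  have hI := seqInd_ortho_Ind1 hHL hn le_rfl hζ
  have he := relIndex_pos_real H L
  have he' := relIndex_cast_ne_zero H L
  have hh := card_pos_real H
  set β := Dade (sharp H) R (cfInd H L (cf1 H) - ζ) with hβd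
  set s := ∑ ξ ∈ seqIndD H L H ⊥, (ξ 1 / H.relIndex L / cfnorm L ξ) • ν ξ with hs
  obtain ⟨b, hb⟩ := ZIrr_cfdot_int a3 hνζ
  have hconj : ∀ ξ ∈ seqIndD H L H ⊥, conj (ξ 1 / ζ 1) = ξ 1 / H.relIndex L := fun ξ hξ => by
    rw [map_div₀, (seqInd_char hHL hξ).conj_one, hζ1, Complex.conj_natCast]
  have hβν : ∀ ξ ∈ seqIndD H L H ⊥,
      cfdot ⊤ β (ν ξ) = (b + 1) * (ξ 1 / H.relIndex L) - cfdot L ζ ξ := fun ξ hξ => by
    have := Dade_isometry h hβ (seqInd_sub_lin_on hHL hn hξ hζ)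
    rw [nu_sub_lin h hν hζ hζ1 hξ, cfdot_sub_right, cfdot_smul_right, hb, cfdot_sub_left,
      cfdot_sub_right, cfdot_sub_right, cfdot_smul_right, cfdot_smul_right,
      cfdot_symm_zero (seqInd_ortho_Ind1 hHL hn le_rfl hξ), cfdot_symm_zero hI, hirr.cfdot_self,
      hconj ξ hξ] at this
    linear_combination this
  have hs1 : cfdot ⊤ s (cf1 ⊤) = 0 := by
    rw [hs, cfdot_sum_left]
    exact Finset.sum_eq_zero fun ξ hξ => by rw [cfdot_smul_left, a1 ξ hξ, mul_zero]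
  set Γ := β - (cf1 ⊤ - ν ζ + ((b + 1 : ℤ) : ℂ) • s) with hΓ
  have g1 : ∀ ξ ∈ seqIndD H L H ⊥, cfdot ⊤ Γ (ν ξ) = 0 := fun ξ hξ => by
    rw [hΓ, cfdot_sub_left, cfdot_add_left, cfdot_sub_left, cfdot_smul_left, hβν ξ hξ, s1 ξ hξ,
      cfdot_symm_zero (a1 ξ hξ), hν.isom _ (subset_zspan hζ) _ (subset_zspan hξ)]
    push_cast; ring
  have g2 : cfdot ⊤ Γ (cf1 ⊤) = 0 := by
    rw [hΓ, cfdot_sub_left, cfdot_add_left, cfdot_sub_left, cfdot_smul_left, a2, hs1, a1 ζ hζ,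
      cfdot_cf1]
    ring
  have g3 : cfdot ⊤ Γ s = 0 := by
    rw [hs, cfdot_sum_right]
    exact Finset.sum_eq_zero fun ξ hξ => by rw [cfdot_smul_right, g1 ξ hξ, mul_zero]
  have n1 : cfnorm L (invDade (sharp H) R (ν ζ)) =
      1 - (H.relIndex L : ℝ) / Nat.card H +
        ((b + 1 : ℤ) : ℝ) ^ 2 / H.relIndex L * ((Nat.card H - 1) / Nat.card H) -
        2 * ((b + 1 : ℤ) : ℝ) / Nat.card H := by
    have hψ : ζ + (((b + 1 : ℤ) : ℂ) / H.relIndex L) • cfInd H L (cf1 H) ∈ CFon L (H : Set G) :=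
      Submodule.add_mem _ (seqInd_on hn hζ) (Submodule.smul_mem _ _ (seqInd_on hn seqIndT_Ind1))
    have hII : cfdot L (cfInd H L (cf1 H)) (cfInd H L (cf1 H)) = H.relIndex L := by
      rw [cfdot_self, cfnorm_Ind1 hHL hn, Complex.ofReal_natCast]
    rw [cfnorm_eq_of_eq_on_sharp hHL (invDade_on h (ZIrr_mem_CF hνζ)) hψ fun x hx =>
      eq_on_sharp_of_cfdot hHL hn (seqInd_subT hζ) (CFon_CF (invDade_on h (ZIrr_mem_CF hνζ)))
        (CFon_CF hψ) (fun ξ hξ => ?_) hx]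
    · rw [cfnorm_add_of_ortho (by rw [cfdot_smul_right, hI, mul_zero]), hirr.cfnorm, cfnorm_smul,
        cfnorm_Ind1 hHL hn, Pi.add_apply, Pi.smul_apply, Ind1_one hHL, hζ1, smul_eq_mul,
        div_mul_cancel₀ _ he', norm_div, Complex.norm_intCast, Complex.norm_natCast,
        card_real_eq_relIndex_mul hHL, div_pow, sq_abs,
        show ((H.relIndex L : ℂ) + ((b + 1 : ℤ) : ℂ)) = ((H.relIndex L + (b + 1 : ℤ) : ℝ) : ℂ) by
          push_cast; ring, Complex.norm_real, Real.norm_eq_abs, sq_abs]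
      field_simp
      ring
    · rw [← invDade_reciprocity h (seqInd_sub_lin_on hHL hn hξ hζ) (ZIrr_mem_CF hνζ),
        cfdot_add_right, cfdot_smul_right, map_div₀, map_intCast, Complex.conj_natCast,
        cfdot_sub_left, cfdot_sub_left, cfdot_smul_left, cfdot_smul_left, hI, hirr.cfdot_self]
      rw [seqIndC1_rem hHL hn, Finset.mem_insert] at hξ
      rcases hξ with rfl | hξ
      · rw [Ind1_one hHL, hζ1, div_self he', one_smul, hb, cfdot_symm_zero hI, hII]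
        field_simp
        push_cast; ring
      · rw [nu_sub_lin h hν hζ hζ1 hξ, cfdot_sub_left, cfdot_smul_left,
          hν.isom _ (subset_zspan hξ) _ (subset_zspan hζ),
          hν.isom _ (subset_zspan hζ) _ (subset_zspan hζ), hirr.cfdot_self,
          seqInd_ortho_Ind1 hHL hn le_rfl hξ]
        ring
  have n2 : cfnorm ⊤ Γ = H.relIndex L - 1 -
      ((b + 1 : ℤ) : ℝ) ^ 2 * (Nat.card H - 1) / H.relIndex L + 2 * ((b + 1 : ℤ) : ℝ) := by
    have h3 : β = Γ + (cf1 ⊤ - ν ζ + ((b + 1 : ℤ) : ℂ) • s) := by rw [hΓ, sub_add_cancel]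
    rw [h3, cfnorm_add_of_ortho (by
        rw [cfdot_add_right, cfdot_sub_right, cfdot_smul_right, g1 ζ hζ, g2, g3]; ring),
      cfnorm_add, cfnorm_sub_of_ortho (cfdot_symm_zero (a1 ζ hζ)), (isIrr_cf1 ⊤).cfnorm,
      hν.cfnorm (subset_zspan hζ), hirr.cfnorm, cfnorm_intCast_smul, s2,
      cfdot_intCast_smul_right, cfdot_sub_left, cfdot_symm_zero hs1, ← cfdot_conj, s1 ζ hζ, hζ1,
      div_self he', map_one] at a4
    simp only [zero_sub, mul_neg, mul_one, Complex.neg_re, Complex.intCast_re] at a4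
    rw [mul_div_assoc]
    linarith
  refine ⟨b + 1, Γ, g1, g2, by rw [hΓ, add_sub_cancel], n1, n2, fun hle => ?_⟩
  have h3 : 0 ≤ ((b + 1 : ℤ) : ℝ) ^ 2 - ((b + 1 : ℤ) : ℝ) := by
    have : 0 ≤ (b + 1) ^ 2 - (b + 1) := by nlinarith [sq_nonneg (2 * b + 1), Int.emod_emod_of_dvd]
    exact_mod_cast this
  have h4 : 2 * ((b + 1 : ℤ) : ℝ) ≤ ((b + 1 : ℤ) : ℝ) ^ 2 * (Nat.card H - 1) / H.relIndex L := by
    rw [le_div_iff₀ he]
    nlinarith [sq_nonneg ((b + 1 : ℤ) : ℝ)]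
  refine ⟨?_, by linarith⟩
  rw [n1]
  have h5 := div_le_div_of_nonneg_right h4 hh.le
  have h6 : ((b + 1 : ℤ) : ℝ) ^ 2 * (Nat.card H - 1) / H.relIndex L / Nat.card H =
      ((b + 1 : ℤ) : ℝ) ^ 2 / H.relIndex L * ((Nat.card H - 1) / Nat.card H) := by ring
  linarith

theorem ncard_sharp_eq (H : Subgroup G) : (sharp H).ncard = Nat.card H - 1 := by
  rw [sharp, Set.ncard_diff_singleton_of_mem H.one_mem]
  rfl

theorem ncard_sharp_real (H : Subgroup G) (r : ℝ) :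
    (sharp H).ncard • r = ((Nat.card H : ℝ) - 1) * r := by
  rw [ncard_sharp_eq, nsmul_eq_mul, Nat.cast_sub Nat.card_pos, Nat.cast_one]

/-- Peterfalvi (7.8)(c). -/
theorem Dade_Ind1_sub_lin_c (h : DadeHypothesis (sharp H) L R) {ν : CFMap G}
    (hν : CoherentWith L (seqIndD H L H ⊥) (Dade (sharp H) R) ν) {ζ : G → ℂ}
    (hζ : ζ ∈ seqIndD H L H ⊥) (hζ1 : ζ 1 = H.relIndex L) (hχ : χ ∈ ZIrr (⊤ : Subgroup G))
    (ho : ∀ ξ ∈ seqIndD H L H ⊥, cfdot ⊤ χ (ν ξ) = 0) :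
    (∀ x ∈ sharp H, invDade (sharp H) R χ x =
        cfdot ⊤ (Dade (sharp H) R (cfInd H L (cf1 H) - ζ)) χ) ∧
      cfnorm L (invDade (sharp H) R χ) = ((Nat.card H : ℝ) - 1) / Nat.card L *
        (cfdot ⊤ (Dade (sharp H) R (cfInd H L (cf1 H) - ζ)) χ).re ^ 2 := by
  obtain ⟨hHL, hn⟩ := normal_of_Dade_sharp h
  have hβ := cfInd1_sub_lin_on hHL hn hζ hζ1
  obtain ⟨c, hc⟩ := ZIrr_cfdot_int
    (Dade_vchar h (cfInd1_sub_lin_vchar hHL hζ) fun _ => CFon_zero hβ) hχ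
  have h1 : ∀ x ∈ sharp H, invDade (sharp H) R χ x = c := fun x hx => by
    rw [eq_on_sharp_of_cfdot hHL hn (seqInd_subT hζ) (CFon_CF (invDade_on h (ZIrr_mem_CF hχ)))
      (ψ := (c : ℂ) • cf1 L) (Submodule.smul_mem _ _ cf1_mem_CF) (fun ξ hξ => ?_) hx,
      Pi.smul_apply, cf1_apply (hHL hx.1), smul_eq_mul, mul_one]
    rw [← invDade_reciprocity h (seqInd_sub_lin_on hHL hn hξ hζ) (ZIrr_mem_CF hχ),
      cfdot_intCast_smul_right, cfdot_sub_left, cfdot_smul_left, seqInd_ortho_1 hHL le_rfl hζ]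
    rw [seqIndC1_rem hHL hn, Finset.mem_insert] at hξ
    rcases hξ with rfl | hξ
    · rw [Ind1_one hHL, hζ1, div_self (relIndex_cast_ne_zero H L), one_smul, hc, cfdot_Ind1_cf1 hHL]
      ring
    · rw [nu_sub_lin h hν hζ hζ1 hξ, cfdot_sub_left, cfdot_smul_left, cfdot_symm_zero (ho ξ hξ),
        cfdot_symm_zero (ho ζ hζ), seqInd_ortho_1 hHL le_rfl hξ]
      ring
  rw [hc, cfnormE_invDade h]
  refine ⟨h1, ?_⟩
  rw [Finset.sum_congr rfl fun x hx => by rw [h1 x (mem_elems.1 hx)], Finset.sum_const,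
    card_elems_set, ncard_sharp_real, Complex.norm_intCast, sq_abs, Complex.intCast_re]
  ring

theorem disjoint_Dade_ortho {A1 A2 : Set G} {R1 R2 : G → Subgroup G}
    (hd : Disjoint (dadeSupp A1 R1) (dadeSupp A2 R2)) :
    cfdot ⊤ (Dade A1 R1 φ) (Dade A2 R2 ψ) = 0 := by
  refine cfdot_eq_zero_of_supp fun x _ => ?_
  by_cases hx : x ∈ dadeSupp A1 R1
  · exact Or.inr (Dade_apply_of_notMem (Set.disjoint_left.1 hd hx))
  · exact Or.inl (Dade_apply_of_notMem hx)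

/-- Uses of (4.1) in Sections 7 and 14; general form. -/
theorem disjoint_coherent_ortho' {L1 L2 : Subgroup G} {A1 A2 : Set G} {R1 R2 : G → Subgroup G}
    (h1 : DadeHypothesis A1 L1 R1) (h2 : DadeHypothesis A2 L2 R2)
    (hd : Disjoint (dadeSupp A1 R1) (dadeSupp A2 R2)) {S1 S2 : Finset (G → ℂ)} {ν1 ν2 : CFMap G}
    (hν1 : CoherentWith L1 S1 (Dade A1 R1) ν1) (hν2 : CoherentWith L2 S2 (Dade A2 R2) ν2)
    {χ1 χ2 : G → ℂ} (hi1 : IsIrr L1 χ1) (hχ1 : χ1 ∈ S1) (hc1 : cfConjC χ1 ∈ S1)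
    (hr1 : cfConjC χ1 ≠ χ1) (hi2 : IsIrr L2 χ2) (hχ2 : χ2 ∈ S2) (hc2 : cfConjC χ2 ∈ S2)
    (hr2 : cfConjC χ2 ≠ χ2) : cfdot ⊤ (ν1 χ1) (ν2 χ2) = 0 := by
  have key : ∀ {L : Subgroup G} {A : Set G} {R : G → Subgroup G} {S : Finset (G → ℂ)} {ν : CFMap G}
      {χ : G → ℂ}, DadeHypothesis A L R → CoherentWith L S (Dade A R) ν → IsIrr L χ → χ ∈ S →
      cfConjC χ ∈ S → cfConjC χ ≠ χ → IsDirr ⊤ (ν χ) ∧ IsDirr ⊤ (ν (cfConjC χ)) ∧
        cfdot ⊤ (ν χ) (ν (cfConjC χ)) = 0 ∧ ν χ - ν (cfConjC χ) = Dade A R (χ - cfConjC χ) ∧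
        ν χ 1 = ν (cfConjC χ) 1 := by
    intro L A R S ν χ h hν hi hχ hc hr
    have e : ν χ - ν (cfConjC χ) = Dade A R (χ - cfConjC χ) := by
      rw [← map_sub, hν.agree _ (sub_mem_zspan hχ hc)
        (by rw [Pi.sub_apply, cfConjC, ZIrr_cfAut_one hi.mem_ZIrr, sub_self])]
    refine ⟨hν.dirr (subset_zspan hχ) hi, hν.dirr (subset_zspan hc) (hi.cfAut _), ?_, e, ?_⟩
    · rw [hν.isom _ (subset_zspan hχ) _ (subset_zspan hc), hi.cfdot_ne (hi.cfAut _) hr.symm]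
    · rw [← sub_eq_zero, ← Pi.sub_apply, e, Dade1 h]
  obtain ⟨a1, a2, a3, a4, a5⟩ := key h1 hν1 hi1 hχ1 hc1 hr1
  obtain ⟨b1, b2, b3, b4, b5⟩ := key h2 hν2 hi2 hχ2 hc2 hr2
  exact orthonormal_vchar_diff_ortho a1 a2 b1 b2 a3 b3 (by rw [a4, b4, disjoint_Dade_ortho hd]) a5 b5

theorem disjoint_coherent_ortho (hodd : Odd (Nat.card G)) {L1 L2 H1 H2 : Subgroup G}
    {R1 R2 : G → Subgroup G} (h1 : DadeHypothesis (sharp H1) L1 R1)
    (h2 : DadeHypothesis (sharp H2) L2 R2)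
    (hd : Disjoint (dadeSupp (sharp H1) R1) (dadeSupp (sharp H2) R2)) {ν1 ν2 : CFMap G}
    (hν1 : CoherentWith L1 (seqIndD H1 L1 H1 ⊥) (Dade (sharp H1) R1) ν1)
    (hν2 : CoherentWith L2 (seqIndD H2 L2 H2 ⊥) (Dade (sharp H2) R2) ν2) {χ1 χ2 : G → ℂ}
    (hi1 : IsIrr L1 χ1) (hχ1 : χ1 ∈ seqIndD H1 L1 H1 ⊥) (hi2 : IsIrr L2 χ2)
    (hχ2 : χ2 ∈ seqIndD H2 L2 H2 ⊥) : cfdot ⊤ (ν1 χ1) (ν2 χ2) = 0 := by
  obtain ⟨a1, a2⟩ := normal_of_Dade_sharp h1
  obtain ⟨b1, b2⟩ := normal_of_Dade_sharp h2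
  exact disjoint_coherent_ortho' h1 h2 hd hν1 hν2 hi1 hχ1 (cfAut_seqInd _ hχ1)
    (seqInd_conjC_neq a1 a2 le_rfl (hodd.of_dvd_nat (card_subgroup_dvd_card L1)) hχ1) hi2 hχ2
    (cfAut_seqInd _ hχ2)
    (seqInd_conjC_neq b1 b2 le_rfl (hodd.of_dvd_nat (card_subgroup_dvd_card L2)) hχ2)

theorem cfdot_real_vchar_even (hodd : Odd (Nat.card L)) (hφ : φ ∈ ZIrr L) (hφr : cfConjC φ = φ)
    (hψ : ψ ∈ ZIrr L) (hψr : cfConjC ψ = ψ) :
    ∃ n : ℤ, cfdot L φ ψ = cfdot L φ (cf1 L) * cfdot L ψ (cf1 L) + 2 * n := by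
  obtain ⟨c, hc, -, -⟩ := ZIrr_exists_coeff hφ
  obtain ⟨d, hd, -, -⟩ := ZIrr_exists_coeff hψ
  have key : ∀ {φ : G → ℂ} {c : Irr L → ℤ}, cfConjC φ = φ → (∀ χ : Irr L, cfdot L φ χ = c χ) →
      ∀ χ : Irr L, c χ.conj = c χ := fun {φ c} hr hc χ => by
    have := hc χ.conj
    rw [← hr, show ((χ.conj : Irr L) : G → ℂ) = cfConjC χ from rfl, cfdot_cfConjC, hc,
      map_intCast] at this
    exact_mod_cast this.symm
  have h1 : (2 : ℤ) ∣ ∑ χ ∈ Finset.univ.erase (1 : Irr L), c χ * d χ := by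
    rw [← Nat.cast_ofNat, ← ZMod.intCast_zmod_eq_zero_iff_dvd, Int.cast_sum]
    refine Finset.sum_involution (fun χ _ => χ.conj) (fun χ _ => ?_) (fun χ hχ _ h => ?_)
      (fun χ hχ => ?_) fun χ _ => χ.conj_conj
    · rw [key hφr hc, key hψr hd, ← two_mul]
      exact mul_eq_zero_of_left rfl _
    · exact (Finset.mem_erase.1 hχ).1 ((Irr.conj_eq_self hodd χ).1 h)
    · exact Finset.mem_erase.2 ⟨(Irr.aut_eq_one _).not.2 (Finset.mem_erase.1 hχ).1,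
        Finset.mem_univ _⟩
  obtain ⟨n, hn⟩ := h1
  refine ⟨n, ?_⟩
  rw [cfdot_eq_sum_irr (ZIrr_mem_CF hφ), show cf1 L = ((1 : Irr L) : G → ℂ) from rfl, hc, hd,
    Finset.sum_congr rfl fun χ _ => by rw [hc, hd, map_intCast],
    ← Finset.add_sum_erase _ _ (Finset.mem_univ 1)]
  congr 1
  exact_mod_cast hn

/-- Peterfalvi (7.9). -/
theorem Dade_sub_lin_nonorthogonal (hodd : Odd (Nat.card G)) {L1 L2 H1 H2 : Subgroup G}
    {R1 R2 : G → Subgroup G} (h1 : DadeHypothesis (sharp H1) L1 R1)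
    (h2 : DadeHypothesis (sharp H2) L2 R2)
    (hd : Disjoint (dadeSupp (sharp H1) R1) (dadeSupp (sharp H2) R2)) {ν1 ν2 : CFMap G}
    (hν1 : CoherentWith L1 (seqIndD H1 L1 H1 ⊥) (Dade (sharp H1) R1) ν1)
    (hν2 : CoherentWith L2 (seqIndD H2 L2 H2 ⊥) (Dade (sharp H2) R2) ν2) {ζ1 ζ2 : G → ℂ}
    (hi1 : IsIrr L1 ζ1) (hζ1 : ζ1 ∈ seqIndD H1 L1 H1 ⊥) (hd1 : ζ1 1 = H1.relIndex L1)
    (hi2 : IsIrr L2 ζ2) (hζ2 : ζ2 ∈ seqIndD H2 L2 H2 ⊥) (hd2 : ζ2 1 = H2.relIndex L2) :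
    cfdot ⊤ (Dade (sharp H1) R1 (cfInd H1 L1 (cf1 H1) - ζ1)) (ν2 ζ2) ≠ 0 ∨
      cfdot ⊤ (Dade (sharp H2) R2 (cfInd H2 L2 (cf1 H2) - ζ2)) (ν1 ζ1) ≠ 0 := by
  have key : ∀ {L H : Subgroup G} {R : G → Subgroup G} {ν : CFMap G} {ζ : G → ℂ},
      DadeHypothesis (sharp H) L R → CoherentWith L (seqIndD H L H ⊥) (Dade (sharp H) R) ν →
      IsIrr L ζ → ζ ∈ seqIndD H L H ⊥ → ζ 1 = H.relIndex L →
      cfdot ⊤ (ν ζ) (cf1 ⊤) = 0 ∧ cfdot ⊤ (Dade (sharp H) R (cfInd H L (cf1 H) - ζ)) (cf1 ⊤) = 1 ∧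
      Dade (sharp H) R (cfInd H L (cf1 H) - ζ) - cf1 ⊤ + ν ζ ∈ ZIrr (⊤ : Subgroup G) ∧
      cfConjC (Dade (sharp H) R (cfInd H L (cf1 H) - ζ) - cf1 ⊤ + ν ζ) =
        Dade (sharp H) R (cfInd H L (cf1 H) - ζ) - cf1 ⊤ + ν ζ := by
    intro L H R ν ζ h hν hi hζ hζ1
    obtain ⟨hHL, hn⟩ := normal_of_Dade_sharp h
    have ho := hodd.of_dvd_nat (card_subgroup_dvd_card L)
    obtain ⟨a1, a2, a3, -⟩ :=
      Dade_Ind1_sub_lin_a1 h hν (seqInd_nontrivial hHL hn le_rfl ho hζ) hi hζ hζ1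
    refine ⟨a1 ζ hζ, a2, add_mem (sub_mem a3 cf1_mem_ZIrr) (hν.virt _ (subset_zspan hζ)), ?_⟩
    have e := hν.agree _ (sub_mem_zspan hζ (cfAut_seqInd (starRingEnd ℂ) hζ))
      (by rw [Pi.sub_apply, ZIrr_cfAut_one hi.mem_ZIrr, sub_self])
    rw [cfConjC, cfAut_add, cfAut_sub, ← Dade_aut, cfAut_sub, cfInd_cfAut, cf1_eq_cfInd1,
      cf1_eq_cfInd1, cfAut_cfInd1, cfAut_cfInd1,
      cfAut_Dade_coherent_seqInd h hν ho hHL hn le_rfl _ hζ hi]
    simp only [map_sub] at e ⊢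
    linear_combination (exp := 1) -e
  obtain ⟨a1, a2, a3, a4⟩ := key h1 hν1 hi1 hζ1 hd1
  obtain ⟨b1, b2, b3, b4⟩ := key h2 hν2 hi2 hζ2 hd2
  by_contra hc
  push Not at hc
  obtain ⟨n, hn⟩ := cfdot_real_vchar_even (L := ⊤) (by rwa [card_top]) a3 a4 b3 b4
  simp only [cfdot_add_left, cfdot_sub_left, cfdot_add_right, cfdot_sub_right] at hn
  rw [disjoint_Dade_ortho hd, a2, hc.1, ← cfdot_conj (φ := Dade (sharp H2) R2 _), b2, cfdot_cf1,
    cfdot_symm_zero b1, cfdot_symm_zero hc.2, a1, b1,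
    disjoint_coherent_ortho hodd h1 h2 hd hν1 hν2 hi1 hζ1 hi2 hζ2, map_one] at hn
  have : (2 * n : ℤ) = -1 := by
    have : ((2 * n : ℤ) : ℂ) = (-1 : ℤ) := by push_cast; linear_combination -hn
    exact_mod_cast this
  omega

theorem bessel_of_ortho {ι : Type*} (s : Finset ι) (f : ι → G → ℂ) (Γ : G → ℂ)
    (h : ∀ i ∈ s, ∀ j ∈ s, i ≠ j → cfdot L (f i) (f j) = 0)
    (h' : ∀ i ∈ s, cfdot L Γ (f i) = cfdot L (f i) (f i)) :
    ∑ i ∈ s, cfnorm L (f i) ≤ cfnorm L Γ := by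
  have h1 := cfnorm_nonneg (L := L) (φ := Γ - ∑ i ∈ s, f i)
  rw [cfnorm_sub, cfnorm_sum_of_ortho s f h, cfdot_sum_right,
    Finset.sum_congr rfl fun i hi => (h' i hi).trans cfdot_self, Complex.re_sum] at h1
  simp only [Complex.ofReal_re] at h1
  linarith

/-- Peterfalvi (7.10). -/
theorem coherent_Frobenius_bound (hodd : Odd (Nat.card G)) {I : Type*} [Fintype I]
    {L H : I → Subgroup G} (hsol : ∀ i, Group.IsSolvable (H i)) (hF : ∀ i, FrobKer (L i) (H i))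
    (hTI : ∀ i, NormedTI (sharp (H i)) ⊤ (L i))
    (hcop : ∀ i j, i ≠ j → (Nat.card (H i)).Coprime (Nat.card (H j)))
    (hcoh : ∀ i, Coherent (L i) (seqIndD (H i) (L i) (H i) ⊥) (cfInd (L i) ⊤))
    (h2 : 2 ≤ Fintype.card I) {G0 : Set G} (hG0 : G0 = (⋃ i, classSupport (sharp (H i)) ⊤)ᶜ) :
    ∃ (i : I) (e h : ℝ), e = (H i).relIndex (L i) ∧ h = Nat.card (H i) ∧
      (e - 1) * ((h - 2 * e - 1) / (e * h) + 2 / (h * (h + 2))) ≤ (G0.ncard - 1) / Nat.card G := by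
  have hL : ∀ i, Odd (Nat.card (L i)) := fun i => hodd.of_dvd_nat (card_subgroup_dvd_card _)
  have hHL := fun i => (hF i).le
  have hn := fun i => (hF i).normal
  have hD : ∀ i, DadeHypothesis (sharp (H i)) (L i) fun _ => ⊥ :=
    fun i => normedTI_Dade (hTI i) one_notMem_sharp
  have hsupp : ∀ i, dadeSupp (sharp (H i)) (fun _ => ⊥) = classSupport (sharp (H i)) ⊤ :=
    fun i => dadeSupp_of_bot fun _ _ => rfl
  have hd : ∀ i j, i ≠ j →
      Disjoint (dadeSupp (sharp (H i)) fun _ => ⊥) (dadeSupp (sharp (H j)) fun _ => ⊥) := by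
    intro i j hij
    rw [hsupp, hsupp, Set.disjoint_left]
    rintro _ ⟨a, ha, y, -, rfl⟩ ⟨b, hb, z, -, e⟩
    have h1 : orderOf a = orderOf b := by
      rw [← (MulAut.conj y).orderOf_eq, ← (MulAut.conj z).orderOf_eq b, MulAut.conj_apply, e,
        MulAut.conj_apply]
    exact ha.2 (orderOf_eq_one_iff.1 (Nat.eq_one_of_dvd_coprimes (hcop i j hij)
      (orderOf_dvd_card_of_mem ha.1) (h1 ▸ orderOf_dvd_card_of_mem hb.1)))
  have hν : ∀ i, ∃ ν, CoherentWith (L i) (seqIndD (H i) (L i) (H i) ⊥)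
      (Dade (sharp (H i)) fun _ => ⊥) ν := fun i => (hcoh i).congr_tau fun φ hφ h1 =>
    (Dade_Ind (hD i) (hTI i) (zcharD1_seqInd_on (hn i) hφ h1)).symm
  choose ν hν using hν
  have hirr : ∀ i, ∀ ξ ∈ seqIndD (H i) (L i) (H i) ⊥, IsIrr (L i) ξ := fun i ξ hξ => by
    obtain ⟨θ, h1, h2, rfl⟩ := seqIndC1P.1 hξ
    exact (hF i).cfInd_irr h1 h2
  have hζ : ∀ i, ∃ ζ ∈ seqIndD (H i) (L i) (H i) ⊥, ζ 1 = (H i).relIndex (L i) := fun i => by
    have h1 : ⁅H i, H i⁆ < H i := by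
      haveI := hsol i
      haveI : Nontrivial (H i) := (nontrivial_iff_ne_bot _).2 (hF i).ker_ne
      have := (map_lt_map_iff_of_injective (H i).subtype_injective).2
        (IsSolvable.commutator_lt_top_of_nontrivial (H i))
      rwa [commutator_def, map_commutator, ← MonoidHom.range_eq_map, range_subtype] at this
    obtain ⟨θ, h2, h3, -⟩ := exists_lin_ne_one h1 le_rfl
    exact ⟨_, seqIndC1P.2 ⟨θ, h2.isIrr, h3, rfl⟩, by rw [cfInd_one (hHL i), h2.one, mul_one]⟩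
  choose ζ hζ hζ1 using hζ
  haveI : Nonempty I := Fintype.card_pos_iff.1 (by omega)
  obtain ⟨k, -, hk⟩ := Finset.exists_min_image Finset.univ (fun i => Nat.card (H i))
    Finset.univ_nonempty
  refine ⟨k, _, _, rfl, rfl, ?_⟩
  set χ := ν k (ζ k) with hχ
  have hχZ : χ ∈ ZIrr (⊤ : Subgroup G) := (hν k).virt _ (subset_zspan (hζ k))
  have hχd : IsDirr ⊤ χ := (hν k).dirr (subset_zspan (hζ k)) (hirr k _ (hζ k))
  have hortho : ∀ i j, i ≠ j → ∀ φ ∈ seqIndD (H i) (L i) (H i) ⊥,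
      ∀ ψ ∈ seqIndD (H j) (L j) (H j) ⊥, cfdot ⊤ (ν i φ) (ν j ψ) = 0 :=
    fun i j hij φ hφ ψ hψ => disjoint_coherent_ortho hodd (hD i) (hD j) (hd i j hij) (hν i) (hν j)
      (hirr i φ hφ) hφ (hirr j ψ hψ) hψ
  have hS : ∀ i, 1 < (seqIndD (H i) (L i) (H i) ⊥).card :=
    fun i => seqInd_nontrivial (hHL i) (hn i) le_rfl (hL i) (hζ i)
  obtain ⟨a, Γ, -, -, g3, -, -, g4⟩ :=
    Dade_Ind1_sub_lin (hD k) (hν k) (hS k) (hirr k _ (hζ k)) (hζ k) (hζ1 k)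
  obtain ⟨g4, g5⟩ := g4 (odd_Frobenius_index_ler (hF k) (hL k))
  set β : I → G → ℂ := fun i =>
    Dade (sharp (H i)) (fun _ => ⊥) (cfInd (H i) (L i) (cf1 (H i)) - ζ i) with hβ
  have hβZ : ∀ i, β i ∈ ZIrr (⊤ : Subgroup G) := fun i =>
    (Dade_Ind1_sub_lin_a1 (hD i) (hν i) (hS i) (hirr i _ (hζ i)) (hζ i) (hζ1 i)).2.2.1
  set B := (Finset.univ.erase k).filter fun i => cfdot ⊤ (β i) χ = 0 with hB
  -- the bound on the sum over `B`
  have hsum : ∑ i ∈ B, ((Nat.card (H i) : ℝ) - 1) / (H i).relIndex (L i) ≤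
      (H k).relIndex (L k) - 1 := by
    choose c hc using fun i => ZIrr_cfdot_int (hβZ k) ((hν i).virt _ (subset_zspan (hζ i)))
    set s : I → G → ℂ := fun i => ∑ ξ ∈ seqIndD (H i) (L i) (H i) ⊥,
      (ξ 1 / (H i).relIndex (L i) / cfnorm (L i) ξ) • ν i ξ with hs
    have hBk : ∀ i ∈ B, i ≠ k := fun i hi => (Finset.mem_erase.1 (Finset.mem_filter.1 hi).1).1
    have hss : ∀ i j, i ≠ j → ∀ ψ ∈ seqIndD (H j) (L j) (H j) ⊥, cfdot ⊤ (s i) (ν j ψ) = 0 :=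
      fun i j hij ψ hψ => by
        rw [hs, cfdot_sum_left]
        exact Finset.sum_eq_zero fun ξ hξ => by
          rw [cfdot_smul_left, hortho i j hij ξ hξ ψ hψ, mul_zero]
    refine le_trans ?_ ((bessel_of_ortho B (fun i => (c i : ℂ) • s i) Γ
      (fun i _ j _ hij => ?_) fun i hi => ?_).trans g5)
    · refine Finset.sum_le_sum fun i hi => ?_
      rw [cfnorm_intCast_smul, (sum_nu_facts (hHL i) (hn i) (hν i).toZIsom).2]
      have h1 : c i ≠ 0 := fun e => by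
        rcases Dade_sub_lin_nonorthogonal hodd (hD k) (hD i) (hd k i (hBk i hi).symm) (hν k) (hν i)
          (hirr k _ (hζ k)) (hζ k) (hζ1 k) (hirr i _ (hζ i)) (hζ i) (hζ1 i) with h3 | h3
        · exact h3 (by rw [hc i, e, Int.cast_zero])
        · exact h3 (Finset.mem_filter.1 hi).2
      have h3 : (1 : ℝ) ≤ (c i : ℝ) ^ 2 := by exact_mod_cast (one_le_sq_iff_one_le_abs _).2 (Int.one_le_abs h1)
      exact le_mul_of_one_le_left (div_nonneg (sub_nonneg.2 (by exact_mod_cast Nat.card_pos))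
        (Nat.cast_nonneg _)) h3
    · rw [cfdot_smul_left, cfdot_smul_right, show s j = ∑ ξ ∈ _, _ from rfl, cfdot_sum_right,
        Finset.sum_eq_zero fun ξ hξ => by rw [cfdot_smul_right, hss i j hij ξ hξ, mul_zero],
        mul_zero, mul_zero]
    · have h1 : ∀ ξ ∈ seqIndD (H i) (L i) (H i) ⊥,
          cfdot ⊤ Γ (ν i ξ) = cfdot ⊤ ((c i : ℂ) • s i) (ν i ξ) := fun ξ hξ => by
        have h3 : cfdot ⊤ (β k) (ν i ξ - (ξ 1 / ζ i 1) • ν i (ζ i)) = 0 := by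
          rw [← nu_sub_lin (hD i) (hν i) (hζ i) (hζ1 i) hξ]
          exact disjoint_Dade_ortho (hd k i (hBk i hi).symm)
        rw [cfdot_sub_right, cfdot_smul_right, hc, sub_eq_zero, map_div₀,
          (seqInd_char (hHL i) hξ).conj_one, hζ1, Complex.conj_natCast, show β k = _ from g3,
          cfdot_add_left, cfdot_add_left, cfdot_sub_left, cfdot_smul_left,
          hss k i (hBk i hi).symm ξ hξ, hortho k i (hBk i hi).symm _ (hζ k) ξ hξ, cfdot_symm_zero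
          ((Dade_Ind1_sub_lin_a1 (hD i) (hν i) (hS i) (hirr i _ (hζ i)) (hζ i) (hζ1 i)).1 ξ hξ)]
          at h3
        rw [cfdot_smul_left, (sum_nu_facts (hHL i) (hn i) (hν i).toZIsom).1 ξ hξ]
        linear_combination h3
      rw [cfdot_smul_right, cfdot_smul_right (φ := (c i : ℂ) • s i)]
      congr 1
      conv_lhs => rw [show s i = ∑ ξ ∈ _, _ from rfl, cfdot_sum_right]
      conv_rhs => rw [cfdot_sum_right]
      exact Finset.sum_congr rfl fun ξ hξ => by rw [cfdot_smul_right, cfdot_smul_right, h1 ξ hξ]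
  have he : (1 : ℝ) < (H k).relIndex (L k) := by exact_mod_cast (hF k).one_lt_index
  have hh := card_pos_real (H k)
  -- the terms of the cover inequality
  have hterm : -(((H k).relIndex (L k) - 1) / (Nat.card (H k) + 2 : ℝ)) ≤
      ∑ i ∈ Finset.univ.erase k, (cfnorm (L i) (invDade (sharp (H i)) (fun _ => ⊥) χ) -
        ((sharp (H i)).ncard : ℝ) / Nat.card (L i)) := by
    refine le_trans (neg_le_neg (div_le_div_of_nonneg_right hsum (by positivity))) ?_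
    rw [Finset.sum_div, ← Finset.sum_neg_distrib, hB, Finset.sum_filter]
    refine Finset.sum_le_sum fun i hi => ?_
    have hik := (Finset.mem_erase.1 hi).1
    have h1 : (1 : ℝ) ≤ Nat.card (H i) := by exact_mod_cast Nat.card_pos
    have h3 := relIndex_pos_real (H i) (L i)
    rw [(Dade_Ind1_sub_lin_c (hD i) (hν i) (hζ i) (hζ1 i) hχZ
      fun ξ hξ => hortho k i hik.symm _ (hζ k) ξ hξ).2, ncard_sharp_eq, Nat.cast_sub Nat.card_pos,
      Nat.cast_one]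
    obtain ⟨m, hm⟩ := ZIrr_cfdot_int (hβZ i) hχZ
    rw [show cfdot ⊤ _ χ = m from hm, Complex.intCast_re]
    split_ifs with h4
    · have h5 : Nat.card (H k) + 2 ≤ Nat.card (H i) := by
        have h6 := hk i (Finset.mem_univ _)
        have h7 : Nat.card (H k) ≠ Nat.card (H i) := fun e => by
          have := hcop i k hik
          rw [e, Nat.coprime_self] at this
          exact (hF i).ker_ne (card_eq_one.1 this)
        obtain ⟨u, hu⟩ := odd_card_of_le (hHL i) (hL i)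
        obtain ⟨v, hv⟩ := odd_card_of_le (hHL k) (hL k)
        omega
      have h6 : (Nat.card (H k) + 2 : ℝ) ≤ Nat.card (H i) := by exact_mod_cast h5
      rw [show m = 0 by exact_mod_cast h4, card_real_eq_relIndex_mul (hHL i),
        ← div_div]
      have := div_le_div_of_nonneg_left (div_nonneg (sub_nonneg.2 h1) h3.le) (by positivity) h6
      simp only [Int.cast_zero, ne_eq, OfNat.ofNat_ne_zero, not_false_eq_true, zero_pow, mul_zero]
      linarith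
    · have h5 : m ≠ 0 := fun e => h4 (by rw [e, Int.cast_zero])
      have h6 : (1 : ℝ) ≤ (m : ℝ) ^ 2 := by exact_mod_cast (one_le_sq_iff_one_le_abs _).2 (Int.one_le_abs h5)
      exact sub_nonneg.2 (le_mul_of_one_le_right
        (div_nonneg (sub_nonneg.2 h1) (Nat.cast_nonneg _)) h6)
  have hcov := Dade_cover_inequality hD hd (ZIrr_mem_CF hχZ) hχd.cfnorm (G0 := G0)
    (by simp only [hsupp]; exact hG0)
  have h1G0 : (1 : G) ∈ G0 := by
    rw [hG0, Set.mem_compl_iff, Set.mem_iUnion]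
    rintro ⟨i, hi⟩
    exact one_notMem_dadeSupp (hD i) (hsupp i ▸ hi)
  have hχ1 : (1 : ℝ) ≤ ∑ g ∈ elems G0, ‖χ g‖ ^ 2 := by
    refine le_trans ?_ (Finset.single_le_sum (f := fun g => ‖χ g‖ ^ 2) (fun _ _ => sq_nonneg _)
      (mem_elems.2 h1G0))
    obtain ⟨n, hn⟩ := ZIrr_one_int hχZ
    have h3 : n ≠ 0 := fun e => hχd.one_ne_zero (by rw [hn, e, Int.cast_zero])
    simp only [hn, Complex.norm_intCast, sq_abs]
    exact_mod_cast (one_le_sq_iff_one_le_abs _).2 (Int.one_le_abs h3)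
  rw [← Finset.add_sum_erase _ _ (Finset.mem_univ k), ncard_sharp_eq, Nat.cast_sub Nat.card_pos,
    Nat.cast_one, card_real_eq_relIndex_mul (hHL k)] at hcov
  have hG : (0 : ℝ) < Nat.card G := Nat.cast_pos.2 Nat.card_pos
  have h3 := mul_le_mul_of_nonneg_left (sub_le_sub_right hχ1 (G0.ncard : ℝ)) (inv_pos.2 hG).le
  have h4 : (((H k).relIndex (L k) : ℝ) - 1) * ((Nat.card (H k) - 2 * (H k).relIndex (L k) - 1) /
      ((H k).relIndex (L k) * Nat.card (H k)) + 2 / (Nat.card (H k) * (Nat.card (H k) + 2))) =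
      1 - (H k).relIndex (L k) / Nat.card (H k) -
        (Nat.card (H k) - 1) / ((H k).relIndex (L k) * Nat.card (H k)) -
        ((H k).relIndex (L k) - 1) / (Nat.card (H k) + 2) := by
    field_simp
    ring
  rw [h4, div_eq_inv_mul _ (Nat.card G : ℝ)]
  linarith

/-- Peterfalvi (7.11). -/
theorem no_coherent_Frobenius_partition (hodd : Odd (Nat.card G)) {I : Type*} [Fintype I]
    {L H : I → Subgroup G} (hsol : ∀ i, Group.IsSolvable (H i)) (hF : ∀ i, FrobKer (L i) (H i))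
    (hTI : ∀ i, NormedTI (sharp (H i)) ⊤ (L i))
    (hcop : ∀ i j, i ≠ j → (Nat.card (H i)).Coprime (Nat.card (H j)))
    (hcoh : ∀ i, Coherent (L i) (seqIndD (H i) (L i) (H i) ⊥) (cfInd (L i) ⊤))
    (h2 : 2 ≤ Fintype.card I) : ∃ g : G, g ≠ 1 ∧ ∀ i, g ∉ classSupport (sharp (H i)) ⊤ := by
  by_contra hc
  push Not at hc
  obtain ⟨i, e, h, he, hh, h1⟩ := coherent_Frobenius_bound hodd hsol hF hTI hcop hcoh h2 rfl
  have h3 : (⋃ i, classSupport (sharp (H i)) ⊤)ᶜ.ncard ≤ 1 := by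
    refine (Set.ncard_le_ncard (t := {1}) fun g hg => ?_).trans (Set.ncard_singleton _).le
    by_contra h1
    obtain ⟨i, hi⟩ := hc g h1
    exact hg (Set.mem_iUnion.2 ⟨i, hi⟩)
  have h4 : (((⋃ i, classSupport (sharp (H i)) ⊤)ᶜ.ncard : ℝ) - 1) / Nat.card G ≤ 0 :=
    div_nonpos_of_nonpos_of_nonneg (sub_nonpos.2 (by exact_mod_cast h3)) (Nat.cast_nonneg _)
  have h5 : 1 < e := by rw [he]; exact_mod_cast (hF i).one_lt_index
  have h6 : 0 < h := hh ▸ card_pos_real _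
  have h7 := odd_Frobenius_index_ler (hF i) (hodd.of_dvd_nat (card_subgroup_dvd_card _))
  rw [← he, ← hh] at h7
  have h8 : 0 ≤ (h - 2 * e - 1) / (e * h) := div_nonneg (by linarith) (by positivity)
  have h9 : 0 < 2 / (h * (h + 2)) := by positivity
  have := mul_pos (sub_pos.2 h5) (add_pos_of_nonneg_of_pos h8 h9)
  linarith

end CfsgLib.FT
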