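import Cfsg.Agent.Lib.FT.PF4

/-!
# Peterfalvi, Section 5: coherence
-/

set_option autoImplicit false
set_option linter.unusedSectionVars false

namespace CfsgLib.FT

open Cfsg Subgroup
open scoped ComplexConjugate commutatorElement Classical

variable {G : Type*} [Group G] [Fintype G]
variable {L K H M : Subgroup G} {φ ψ χ ξ θ : G → ℂ}

/-! ### Sets of induced characters -/

section SeqInd

variable {P Q : Irr K → Prop}

theorem seqIndP : φ ∈ seqInd K L P ↔ ∃ θ : Irr K, P θ ∧ φ = cfInd K L θ := by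
  simp only [seqInd, Finset.mem_image, Finset.mem_filter, Finset.mem_univ, true_and]
  exact ⟨fun ⟨θ, h1, h2⟩ => ⟨θ, h1, h2.symm⟩, fun ⟨θ, h1, h2⟩ => ⟨θ, h1, h2.symm⟩⟩

theorem mem_seqIndT : φ ∈ seqIndT K L ↔ ∃ θ, IsIrr K θ ∧ φ = cfInd K L θ :=
  seqIndP.trans ⟨fun ⟨θ, _, h⟩ => ⟨θ, θ.2, h⟩, fun ⟨θ, h1, h⟩ => ⟨⟨θ, h1⟩, trivial, h⟩⟩

theorem mem_seqIndD : φ ∈ seqIndD K L H M ↔
    ∃ θ, IsIrr K θ ∧ M ≤ cfker K θ ∧ ¬ H ≤ cfker K θ ∧ φ = cfInd K L θ :=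
  seqIndP.trans ⟨fun ⟨θ, h1, h⟩ => ⟨θ, θ.2, h1.1, h1.2, h⟩,
    fun ⟨θ, h1, h2, h3, h⟩ => ⟨⟨θ, h1⟩, ⟨h2, h3⟩, h⟩⟩

theorem seqIndC1P : φ ∈ seqIndD K L K ⊥ ↔ ∃ θ, IsIrr K θ ∧ θ ≠ cf1 K ∧ φ = cfInd K L θ := by
  rw [mem_seqIndD]
  exact exists_congr fun θ => and_congr_right fun h => by simp [h.eq_cf1_iff]

theorem seqIndS (h : ∀ θ, P θ → Q θ) : seqInd K L P ⊆ seqInd K L Q := fun _ hφ => by
  obtain ⟨θ, h1, h2⟩ := seqIndP.mp hφ
  exact seqIndP.mpr ⟨θ, h θ h1, h2⟩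

theorem seqInd_subT : seqInd K L P ⊆ seqIndT K L := seqIndS fun _ _ => trivial

theorem seqIndDS {H' M' : Subgroup G} (hH : H ≤ H') (hM : M' ≤ M) :
    seqIndD K L H M ⊆ seqIndD K L H' M' :=
  seqIndS fun _ h => ⟨hM.trans h.1, fun h' => h.2 (hH.trans h')⟩

theorem seqInd_sub (hHK : H ≤ K) : seqIndD K L H M ⊆ seqIndD K L K ⊥ := seqIndDS hHK bot_le

theorem seqIndT_Ind1 : cfInd K L (cf1 K) ∈ seqIndT K L := mem_seqIndT.mpr ⟨_, isIrr_cf1 K, rfl⟩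

theorem seqInd_mem_CF (h : φ ∈ seqInd K L P) : φ ∈ CF L := by
  obtain ⟨θ, -, rfl⟩ := seqIndP.mp h
  exact cfInd_mem_CF

theorem seqInd_on (hn : L ≤ normalizer (K : Set G)) (h : φ ∈ seqInd K L P) :
    φ ∈ CFon L (K : Set G) := by
  obtain ⟨θ, -, rfl⟩ := seqIndP.mp h
  exact cfInd_normal_mem_CFon hn

theorem seqInd_char (hKL : K ≤ L) (h : φ ∈ seqInd K L P) : IsChar L φ := by
  obtain ⟨θ, -, rfl⟩ := seqIndP.mp h
  exact θ.isChar.cfInd hKL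

theorem seqInd_vcharW (hKL : K ≤ L) (h : φ ∈ seqInd K L P) : φ ∈ ZIrr L :=
  (seqInd_char hKL h).mem_ZIrr

theorem seqInd_vchar (hKL : K ≤ L) (h : φ ∈ zspan (seqInd K L P)) : φ ∈ ZIrr L :=
  zspan_le_ZIrr (fun _ => seqInd_vcharW hKL) h

theorem seqInd_neq0 (hKL : K ≤ L) (h : φ ∈ seqInd K L P) : φ ≠ 0 := by
  obtain ⟨θ, -, rfl⟩ := seqIndP.mp h
  exact θ.2.cfInd_ne_zero hKL

theorem seqInd1_neq0 (hKL : K ≤ L) (h : φ ∈ seqInd K L P) : φ 1 ≠ 0 :=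
  (seqInd_char hKL h).one_ne_zero (seqInd_neq0 hKL h)

theorem seqInd1_re_pos (hKL : K ≤ L) (h : φ ∈ seqInd K L P) : 0 < (φ 1).re :=
  (seqInd_char hKL h).one_re_pos (seqInd_neq0 hKL h)

theorem cfnorm_seqInd_pos (hKL : K ≤ L) (h : φ ∈ seqInd K L P) : 0 < cfnorm L φ :=
  cfnorm_pos (seqInd_mem_CF h) (seqInd_neq0 hKL h)

theorem seqInd_ortho (hKL : K ≤ L) (hn : L ≤ normalizer (K : Set G)) (h : φ ∈ seqInd K L P)
    (h' : ψ ∈ seqInd K L Q) (hne : φ ≠ ψ) : cfdot L φ ψ = 0 := by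
  obtain ⟨θ, -, rfl⟩ := seqIndP.mp h
  obtain ⟨θ', -, rfl⟩ := seqIndP.mp h'
  exact cfInd_irr_ortho hKL hn θ.2 θ'.2 hne

theorem dvd_index_seqInd1 (hKL : K ≤ L) (h : φ ∈ seqInd K L P) :
    ∃ n : ℕ, 0 < n ∧ φ 1 = K.relIndex L * n := by
  obtain ⟨θ, -, rfl⟩ := seqIndP.mp h
  obtain ⟨n, hn, h1⟩ := θ.2.exists_nat_one
  exact ⟨n, hn, by rw [cfInd_one hKL, h1]⟩

theorem zcharD1_seqInd_on (hn : L ≤ normalizer (K : Set G)) (h : φ ∈ zspan (seqInd K L P))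
    (h1 : φ 1 = 0) : φ ∈ CFon L (sharp K) :=
  mem_CFon_sharp.mpr ⟨zspan_mem_submodule (fun _ => seqInd_on hn) h, h1⟩

theorem zspan_mem_CFon_of_one {S : Finset (G → ℂ)} {A : Set G}
    (hA : ∀ ξ ∈ S, ξ ∈ CFon L (insert 1 A)) (h : φ ∈ zspan S) (h1 : φ 1 = 0) : φ ∈ CFon L A :=
  CFon_of_insert_one (zspan_mem_submodule hA h) h1

theorem seqInd_on_insert (hn : L ≤ normalizer (K : Set G)) {A : Set G} (hA : sharp K ⊆ A)
    (h : φ ∈ seqInd K L P) : φ ∈ CFon L (insert 1 A) :=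
  CFon_mono (fun x hx => by
    by_cases h1 : x = 1
    · exact Or.inl h1
    · exact Or.inr (hA ⟨hx, h1⟩)) (seqInd_on hn h)

theorem mem_seqInd (hKL : K ≤ L) (hn : L ≤ normalizer (K : Set G))
    (hP : ∀ θ, P θ → ∀ x (hx : x ∈ L), P (θ.conjg x (hn hx))) (θ : Irr K) :
    cfInd K L θ ∈ seqInd K L P ↔ P θ := by
  refine ⟨fun h => ?_, fun h => seqIndP.mpr ⟨θ, h, rfl⟩⟩
  obtain ⟨θ', h1, h2⟩ := seqIndP.mp h
  obtain ⟨x, hx, he⟩ := mem_cfclass.mp ((cfclass_Ind_irrP hKL hn θ'.2 θ.2).mp h2)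
  have : θ = θ'.conjg x (hn hx) := Irr.ext he.symm
  exact this ▸ hP θ' h1 x hx

theorem cfInd_mem_seqIndD (hKL : K ≤ L) (hn : L ≤ normalizer (K : Set G))
    (hH : L ≤ normalizer (H : Set G)) (hM : L ≤ normalizer (M : Set G)) (hθ : IsIrr K θ) :
    cfInd K L θ ∈ seqIndD K L H M ↔ M ≤ cfker K θ ∧ ¬ H ≤ cfker K θ := by
  refine mem_seqInd (P := fun θ => M ≤ cfker K θ ∧ ¬ H ≤ cfker K θ) hKL hn ?_ ⟨θ, hθ⟩
  intro θ' h x hx
  simpa only [Irr.coe_conjg, le_cfker_cfConjg (hn hx) (hM hx), le_cfker_cfConjg (hn hx) (hH hx)]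
    using h

theorem mem_seqIndD_iff_cfker (hKL : K ≤ L) (hH : L ≤ normalizer (H : Set G))
    (hM : L ≤ normalizer (M : Set G)) :
    φ ∈ seqIndD K L H M ↔ φ ∈ seqIndT K L ∧ M ≤ cfker L φ ∧ ¬ H ≤ cfker L φ := by
  rw [mem_seqIndD, mem_seqIndT]
  constructor
  · rintro ⟨θ, h1, h2, h3, rfl⟩
    exact ⟨⟨θ, h1, rfl⟩, (sub_cfker_Ind_irr hKL hM h1).mpr h2,
      fun h => h3 ((sub_cfker_Ind_irr hKL hH h1).mp h)⟩
  · rintro ⟨⟨θ, h1, rfl⟩, h2, h3⟩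
    exact ⟨θ, h1, (sub_cfker_Ind_irr hKL hM h1).mp h2,
      fun h => h3 ((sub_cfker_Ind_irr hKL hH h1).mpr h), rfl⟩

theorem seqIndC1_rem (hKL : K ≤ L) (hn : L ≤ normalizer (K : Set G)) :
    seqIndT K L = insert (cfInd K L (cf1 K)) (seqIndD K L K ⊥) := by
  ext φ
  rw [Finset.mem_insert, mem_seqIndT, seqIndC1P]
  constructor
  · rintro ⟨θ, h1, rfl⟩
    by_cases h : θ = cf1 K
    · exact Or.inl (h ▸ rfl)
    · exact Or.inr ⟨θ, h1, h, rfl⟩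
  · rintro (rfl | ⟨θ, h1, -, rfl⟩)
    · exact ⟨_, isIrr_cf1 K, rfl⟩
    · exact ⟨θ, h1, rfl⟩

theorem Ind1_notMem_seqIndD (hKL : K ≤ L) (hn : L ≤ normalizer (K : Set G)) (hHK : H ≤ K) :
    cfInd K L (cf1 K) ∉ seqIndD K L H M := by
  intro h
  obtain ⟨θ, h1, -, h3, h4⟩ := mem_seqIndD.mp h
  rw [(cfInd_irr_eq1 hKL hn h1).mp h4.symm, cfker_cf1] at h3
  exact h3 hHK

theorem cfAut_seqIndP (u : ℂ →+* ℂ) (hP : ∀ θ, P θ → P (θ.aut u)) (h : φ ∈ seqInd K L P) :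
    cfAut u φ ∈ seqInd K L P := by
  obtain ⟨θ, h1, rfl⟩ := seqIndP.mp h
  exact seqIndP.mpr ⟨θ.aut u, hP θ h1, cfInd_cfAut u⟩

theorem cfAut_seqIndT (u : ℂ →+* ℂ) (h : φ ∈ seqIndT K L) : cfAut u φ ∈ seqIndT K L :=
  cfAut_seqIndP u (fun _ h => h) h

theorem cfAut_seqInd (u : ℂ →+* ℂ) (h : φ ∈ seqIndD K L H M) : cfAut u φ ∈ seqIndD K L H M :=
  cfAut_seqIndP u (fun θ h => by simpa only [Irr.coe_aut, cfker_cfAut] using h) h

theorem seqInd_conjC_subset {H' M' : Subgroup G} (hH : H ≤ H') (hM : M' ≤ M) :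
    ConjCSubset (seqIndD K L H M) (seqIndD K L H' M') :=
  ⟨seqIndDS hH hM, fun _ => cfAut_seqInd _⟩

theorem seqInd_conjC_subset1 (hHK : H ≤ K) : ConjCSubset (seqIndD K L H M) (seqIndD K L K ⊥) :=
  seqInd_conjC_subset hHK bot_le

theorem seqIndD_nonempty (hHK : H ≤ K) (hM : K ≤ normalizer (M : Set G)) (hMH : M < H) :
    (seqIndD K L H M).Nonempty := by
  obtain ⟨x, hx, hxM⟩ := SetLike.exists_of_lt hMH
  obtain ⟨χ, h1, h2, h3⟩ := exists_irr_ker_not_mem (hMH.le.trans hHK) hM (hHK hx) hxM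
  exact ⟨_, mem_seqIndD.mpr ⟨χ, h1, h2, fun h => h3 (h hx), rfl⟩⟩

theorem seqInd_ortho_Ind1 (hKL : K ≤ L) (hn : L ≤ normalizer (K : Set G)) (hHK : H ≤ K)
    (h : φ ∈ seqIndD K L H M) : cfdot L φ (cfInd K L (cf1 K)) = 0 :=
  seqInd_ortho hKL hn h seqIndT_Ind1 fun he => Ind1_notMem_seqIndD hKL hn hHK (he ▸ h)

theorem seqInd_ortho_1 (hKL : K ≤ L) (hHK : H ≤ K) (h : φ ∈ seqIndD K L H M) :
    cfdot L φ (cf1 L) = 0 := by
  obtain ⟨θ, h1, -, h3, rfl⟩ := mem_seqIndD.mp h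
  rw [cfdot_cfInd_cfRes hKL cf1_mem_CF, cfRes_cf1 hKL]
  refine h1.cfdot_ne (isIrr_cf1 K) ?_
  rintro rfl
  exact h3 (by rw [cfker_cf1]; exact hHK)

theorem cfnorm_Ind1 (hKL : K ≤ L) (hn : L ≤ normalizer (K : Set G)) :
    cfnorm L (cfInd K L (cf1 K)) = K.relIndex L := by
  rw [cfnorm_Ind_irr hKL hn (isIrr_cf1 K),
    inf_eq_left.mpr fun x hx => mem_inertia_iff.mpr (cfConjg_cf1 (hn hx))]

theorem sum_Iirr_kerD_square (hHK : H ≤ K) (hMH : M ≤ H) (hH : K ≤ normalizer (H : Set G))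
    (hM : K ≤ normalizer (M : Set G)) :
    ∑ θ ∈ Finset.univ.filter (fun θ : Irr K => M ≤ cfker K θ ∧ ¬ H ≤ cfker K θ), θ 1 ^ 2 =
      H.relIndex K * (M.relIndex H - 1) := by
  have h1 := sum_irr_ker_sq (hMH.trans hHK) hM
  have h2 := sum_irr_ker_sq hHK hH
  rw [← Finset.sum_filter_add_sum_filter_not _ (fun θ : Irr K => H ≤ cfker K θ),
    Finset.filter_filter, Finset.filter_filter] at h1
  have h3 : (Finset.univ.filter fun θ : Irr K => M ≤ cfker K θ ∧ H ≤ cfker K θ) =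
      Finset.univ.filter fun θ : Irr K => H ≤ cfker K θ :=
    Finset.filter_congr fun θ _ => ⟨fun h => h.2, fun h => ⟨hMH.trans h, h⟩⟩
  rw [h3, h2, ← relIndex_mul_relIndex M H K hMH hHK] at h1
  push_cast at h1
  linear_combination h1

theorem sum_filter_cfInd_eq {N : Type*} [AddCommMonoid N] (hKL : K ≤ L)
    (hn : L ≤ normalizer (K : Set G))
    (hP : ∀ θ, P θ → ∀ x (hx : x ∈ L), P (θ.conjg x (hn hx))) {θ0 : Irr K} (h0 : P θ0)
    (f : (G → ℂ) → N) :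
    ∑ θ ∈ (Finset.univ.filter P).filter (fun θ : Irr K => cfInd K L θ = cfInd K L θ0), f θ =
      ∑ ξ ∈ cfclass L θ0, f ξ := by
  refine Finset.sum_bij (fun θ _ => (θ : G → ℂ)) ?_ ?_ ?_ (fun _ _ => rfl)
  · intro θ hθ
    exact (cfclass_Ind_irrP hKL hn θ0.2 θ.2).mp (Finset.mem_filter.mp hθ).2
  · intro θ _ θ' _ h
    exact Irr.ext h
  · intro ξ hξ
    obtain ⟨x, hx, rfl⟩ := mem_cfclass.mp hξ
    refine ⟨θ0.conjg x (hn hx), ?_, rfl⟩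
    simp only [Finset.mem_filter, Finset.mem_univ, true_and]
    exact ⟨hP θ0 h0 x hx, cfInd_cfConjg hx (hn hx)⟩

/-- Sums over sets of induced characters, via (1.5)(d). -/
theorem sum_seqInd_smul (hKL : K ≤ L) (hn : L ≤ normalizer (K : Set G))
    (hP : ∀ θ, P θ → ∀ x (hx : x ∈ L), P (θ.conjg x (hn hx))) :
    ∑ φ ∈ seqInd K L P, (φ 1 / cfnorm L φ) • φ =
      (K.relIndex L : ℂ) • ∑ θ ∈ Finset.univ.filter P, θ 1 • (θ : G → ℂ) := by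
  have hmap : ∀ θ ∈ Finset.univ.filter P, cfInd K L θ ∈ seqInd K L P := fun θ hθ =>
    seqIndP.mpr ⟨θ, (Finset.mem_filter.mp hθ).2, rfl⟩
  rw [← Finset.sum_fiberwise_of_maps_to hmap, Finset.smul_sum]
  refine Finset.sum_congr rfl fun φ hφ => ?_
  obtain ⟨θ0, h0, rfl⟩ := seqIndP.mp hφ
  rw [sum_filter_cfInd_eq hKL hn hP h0 (fun ξ => ξ 1 • ξ),
    ← scaled_cfResInd_sum_cfclass hKL hn θ0.2,
    cfRes_of_supp fun x hx => CFon_zero (cfInd_normal_mem_CFon hn) hx]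

theorem sum_seqInd_square (hKL : K ≤ L) (hn : L ≤ normalizer (K : Set G))
    (hP : ∀ θ, P θ → ∀ x (hx : x ∈ L), P (θ.conjg x (hn hx))) :
    ∑ φ ∈ seqInd K L P, (φ 1).re ^ 2 / cfnorm L φ =
      K.relIndex L * ∑ θ ∈ Finset.univ.filter P, (θ 1).re ^ 2 := by
  have h := congrFun (sum_seqInd_smul hKL hn hP) 1
  simp only [Finset.sum_apply, Pi.smul_apply, smul_eq_mul] at h
  apply Complex.ofReal_injective
  push_cast
  convert h using 2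
  · rename_i φ hφ
    rw [← (seqInd_char hKL hφ).one_eq_re]; ring
  · refine Finset.sum_congr rfl fun θ _ => ?_
    rw [← θ.isChar.one_eq_re, sq]

theorem sum_seqIndD_square (hKL : K ≤ L) (hn : L ≤ normalizer (K : Set G)) (hHK : H ≤ K)
    (hMH : M ≤ H) (hH : L ≤ normalizer (H : Set G)) (hM : L ≤ normalizer (M : Set G)) :
    ∑ φ ∈ seqIndD K L H M, (φ 1).re ^ 2 / cfnorm L φ = H.relIndex L * (M.relIndex H - 1) := by
  have hP : ∀ θ : Irr K, (M ≤ cfker K θ ∧ ¬ H ≤ cfker K θ) → ∀ x (hx : x ∈ L),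
      (M ≤ cfker K (θ.conjg x (hn hx)) ∧ ¬ H ≤ cfker K (θ.conjg x (hn hx))) := by
    intro θ' h x hx
    simpa only [Irr.coe_conjg, le_cfker_cfConjg (hn hx) (hM hx), le_cfker_cfConjg (hn hx) (hH hx)]
      using h
  rw [seqIndD, sum_seqInd_square hKL hn hP]
  have h := sum_Iirr_kerD_square hHK hMH (hKL.trans hH) (hKL.trans hM)
  apply Complex.ofReal_injective
  push_cast
  rw [← relIndex_mul_relIndex H K L hHK hKL]
  push_cast
  rw [mul_comm (H.relIndex K : ℂ), mul_assoc, ← h]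
  congr 1
  refine Finset.sum_congr (by congr) fun θ _ => ?_
  rw [← θ.isChar.one_eq_re]

theorem sum_seqIndC1_square (hKL : K ≤ L) (hn : L ≤ normalizer (K : Set G)) :
    ∑ φ ∈ seqIndD K L K ⊥, (φ 1).re ^ 2 / cfnorm L φ = K.relIndex L * (Nat.card K - 1) := by
  rw [sum_seqIndD_square hKL hn le_rfl bot_le hn le_normalizer_bot, relIndex_bot_left]

theorem size_irr_subseq_seqInd (hKL : K ≤ L) (hn : L ≤ normalizer (K : Set G))
    {S : Finset (G → ℂ)} (hS : S ⊆ seqIndT K L) (hirr : ∀ φ ∈ S, IsIrr L φ) :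
    K.relIndex L * S.card = (Finset.univ.filter fun θ : Irr K => cfInd K L θ ∈ S).card := by
  have h := card_imset_Ind_irr (P := fun θ : Irr K => cfInd K L θ ∈ S) hKL hn
    (fun θ h => hirr _ h) (fun θ h x hx => by
      simpa only [Irr.coe_conjg, cfInd_cfConjg hx (hn hx)] using h)
  have he : seqInd K L (fun θ : Irr K => cfInd K L θ ∈ S) = S := by
    ext φ
    rw [seqIndP]
    constructor
    · rintro ⟨θ, h, rfl⟩; exact h
    · intro h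
      obtain ⟨θ, -, rfl⟩ := seqIndP.mp (hS h)
      exact ⟨θ, h, rfl⟩
  rw [he] at h
  convert h.symm

theorem seqInd_conjC_ortho (hKL : K ≤ L) (hn : L ≤ normalizer (K : Set G)) (hHK : H ≤ K)
    (hodd : Odd (Nat.card L)) (h : φ ∈ seqIndD K L H M) : cfdot L φ (cfConjC φ) = 0 := by
  obtain ⟨θ, h1, -, h3, rfl⟩ := mem_seqIndD.mp h
  refine odd_induced_orthogonal hKL hn hodd h1 ?_
  rintro rfl
  exact h3 (by rw [cfker_cf1]; exact hHK)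

theorem seqInd_conjC_neq (hKL : K ≤ L) (hn : L ≤ normalizer (K : Set G)) (hHK : H ≤ K)
    (hodd : Odd (Nat.card L)) (h : φ ∈ seqIndD K L H M) : cfConjC φ ≠ φ := by
  intro he
  have h1 := seqInd_conjC_ortho hKL hn hHK hodd h
  rw [he, cfdot_self_eq_zero (seqInd_mem_CF h)] at h1
  exact seqInd_neq0 hKL h h1

theorem seqInd_nontrivial (hKL : K ≤ L) (hn : L ≤ normalizer (K : Set G)) (hHK : H ≤ K)
    (hodd : Odd (Nat.card L)) (h : φ ∈ seqIndD K L H M) : 1 < (seqIndD K L H M).card :=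
  Finset.one_lt_card.mpr ⟨_, cfAut_seqInd _ h, φ, h, seqInd_conjC_neq hKL hn hHK hodd h⟩

theorem cfInd1_sub_lin_on (hKL : K ≤ L) (hn : L ≤ normalizer (K : Set G)) (h : ξ ∈ seqInd K L P)
    (h1 : ξ 1 = K.relIndex L) : cfInd K L (cf1 K) - ξ ∈ CFon L (sharp K) :=
  mem_CFon_sharp.mpr ⟨Submodule.sub_mem _ (cfInd_normal_mem_CFon hn) (seqInd_on hn h),
    by simp [cfInd_one hKL, h1]⟩

theorem cfInd1_sub_lin_vchar (hKL : K ≤ L) (h : ξ ∈ seqInd K L P) :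
    cfInd K L (cf1 K) - ξ ∈ ZIrr L :=
  Submodule.sub_mem _ (isChar_cf1.cfInd hKL).mem_ZIrr (seqInd_vcharW hKL h)

theorem seqInd_sub_lin_on (hKL : K ≤ L) (hn : L ≤ normalizer (K : Set G)) (h : φ ∈ seqInd K L P)
    (h' : ξ ∈ seqInd K L Q) : φ - (φ 1 / ξ 1) • ξ ∈ CFon L (sharp K) :=
  mem_CFon_sharp.mpr ⟨Submodule.sub_mem _ (seqInd_on hn h)
    (Submodule.smul_mem _ _ (seqInd_on hn h')), by simp [seqInd1_neq0 hKL h']⟩

theorem sub_seqInd_zchar (hKL : K ≤ L) {S : Finset (G → ℂ)} (hS : S ⊆ seqIndT K L) (h : φ ∈ S)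
    (h' : ξ ∈ S) (h1 : ξ 1 = K.relIndex L) : φ - (φ 1 / ξ 1) • ξ ∈ zspan S := by
  obtain ⟨n, -, hn⟩ := dvd_index_seqInd1 hKL (hS h)
  rw [hn, h1, mul_div_cancel_left₀ _ (relIndex_cast_ne_zero K L)]
  exact Submodule.sub_mem _ (subset_zspan h) (natCast_smul_mem (subset_zspan h') n)

end SeqInd

/-! ### Coherence -/

section Coherence

variable {S S1 S2 : Finset (G → ℂ)} {τ τ' τ1 τ2 ν : CFMap G} {R : (G → ℂ) → Finset (G → ℂ)}

theorem ZIsom1.mono {G0 : Subgroup G} (h : ZIsom1 L G0 S τ) (hS : ∀ φ ∈ S1, φ ∈ zspan S) :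
    ZIsom1 L G0 S1 τ :=
  ⟨fun φ hφ h1 ψ hψ => h.isom φ (zspan_le hS hφ) h1 ψ (zspan_le hS hψ),
    fun φ hφ => h.virt φ (zspan_le hS hφ), fun φ hφ => h.one φ (zspan_le hS hφ)⟩

theorem ZIsom1.subset {G0 : Subgroup G} (h : ZIsom1 L G0 S τ) (hS : S1 ⊆ S) : ZIsom1 L G0 S1 τ :=
  h.mono fun _ hφ => subset_zspan (hS hφ)

theorem ZIsom1.congr {G0 : Subgroup G} (h : ZIsom1 L G0 S τ)
    (he : ∀ φ ∈ zspan S, φ 1 = 0 → τ' φ = τ φ) : ZIsom1 L G0 S τ' :=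
  ⟨fun φ hφ h1 ψ hψ h2 => by rw [he φ hφ h1, he ψ hψ h2, h.isom φ hφ h1 ψ hψ h2],
    fun φ hφ h1 => by rw [he φ hφ h1]; exact h.virt φ hφ h1,
    fun φ hφ h1 => by rw [he φ hφ h1]; exact h.one φ hφ h1⟩

theorem ZIsom.mono (h : ZIsom L S τ) (hS : ∀ φ ∈ S1, φ ∈ zspan S) : ZIsom L S1 τ :=
  ⟨fun φ hφ ψ hψ => h.isom φ (zspan_le hS hφ) ψ (zspan_le hS hψ),
    fun φ hφ => h.virt φ (zspan_le hS hφ)⟩

theorem ZIsom.cfnorm (h : ZIsom L S τ) (hφ : φ ∈ zspan S) : cfnorm ⊤ (τ φ) = cfnorm L φ :=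
  cfnorm_eq_of_cfdot (h.isom φ hφ φ hφ)

theorem ZIsom.dirr (h : ZIsom L S τ) (hφ : φ ∈ zspan S) (hχ : IsIrr L φ) : IsDirr ⊤ (τ φ) :=
  isDirr_of_cfnorm (h.virt φ hφ) (by rw [h.cfnorm hφ, hχ.cfnorm])

theorem zisom_of_gen (hv : ∀ φ ∈ S, τ φ ∈ ZIrr (⊤ : Subgroup G))
    (hi : ∀ φ ∈ S, ∀ ψ ∈ S, cfdot ⊤ (τ φ) (τ ψ) = cfdot L φ ψ) : ZIsom L S τ :=
  ⟨fun _ hφ _ hψ => cfdot_map_zspan hi hφ hψ, fun _ hφ => map_mem_of_zspan τ hv hφ⟩

theorem CoherentWith.coherent (h : CoherentWith L S τ τ1) : Coherent L S τ := ⟨τ1, h⟩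

theorem subgen_coherent_with (h : CoherentWith L S τ τ1) (hS : ∀ φ ∈ S1, φ ∈ zspan S) :
    CoherentWith L S1 τ τ1 :=
  ⟨h.toZIsom.mono hS, fun φ hφ => h.agree φ (zspan_le hS hφ)⟩

theorem subset_coherent_with (h : CoherentWith L S τ τ1) (hS : S1 ⊆ S) :
    CoherentWith L S1 τ τ1 := subgen_coherent_with h fun _ hφ => subset_zspan (hS hφ)

theorem subgen_coherent (h : Coherent L S τ) (hS : ∀ φ ∈ S1, φ ∈ zspan S) : Coherent L S1 τ :=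
  h.imp fun _ h => subgen_coherent_with h hS

theorem subset_coherent (h : Coherent L S τ) (hS : S1 ⊆ S) : Coherent L S1 τ :=
  h.imp fun _ h => subset_coherent_with h hS

theorem nil_coherent : Coherent L ∅ τ :=
  ⟨τ, zisom_of_gen (by simp) (by simp), fun _ _ _ => rfl⟩

theorem CoherentWith.congr_tau (h : CoherentWith L S τ τ1)
    (he : ∀ φ ∈ zspan S, φ 1 = 0 → τ φ = τ' φ) : CoherentWith L S τ' τ1 :=
  ⟨h.toZIsom, fun φ hφ h1 => (h.agree φ hφ h1).trans (he φ hφ h1)⟩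

theorem Coherent.congr_tau (h : Coherent L S τ) (he : ∀ φ ∈ zspan S, φ 1 = 0 → τ φ = τ' φ) :
    Coherent L S τ' := h.imp fun _ h => h.congr_tau he

theorem CoherentWith.congr (h : CoherentWith L S τ τ1) (he : ∀ φ ∈ S, τ2 φ = τ1 φ) :
    CoherentWith L S τ τ2 := by
  have he' : ∀ φ ∈ zspan S, τ2 φ = τ1 φ := fun φ hφ => map_congr_of_zspan he hφ
  exact ⟨⟨fun φ hφ ψ hψ => by rw [he' φ hφ, he' ψ hψ, h.isom φ hφ ψ hψ],
    fun φ hφ => he' φ hφ ▸ h.virt φ hφ⟩, fun φ hφ h1 => by rw [he' φ hφ, h.agree φ hφ h1]⟩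

/-- The projection `φ ↦ φ - (φ(1)/η(1)) η`. -/
noncomputable def pivotMap (η : G → ℂ) : CFMap G where
  toFun φ := φ - (φ 1 / η 1) • η
  map_add' φ ψ := by
    simp only [Pi.add_apply, add_div, add_smul]; abel
  map_smul' c φ := by
    simp only [Pi.smul_apply, smul_eq_mul, RingHom.id_apply, smul_sub, smul_smul, mul_div_assoc]

theorem pivotMap_apply (η φ : G → ℂ) : pivotMap η φ = φ - (φ 1 / η 1) • η := rfl

/-- Agreement with `τ` can be checked on the `φ - (φ(1)/η(1)) η`. -/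
theorem agree_of_pivot {η : G → ℂ} (hη : η 1 ≠ 0)
    (h : ∀ φ ∈ S, τ1 (φ - (φ 1 / η 1) • η) = τ (φ - (φ 1 / η 1) • η)) :
    ∀ φ ∈ zspan S, φ 1 = 0 → τ1 φ = τ φ := by
  intro φ hφ h1
  have := map_congr_of_zspan (τ := τ1 ∘ₗ pivotMap η) (τ' := τ ∘ₗ pivotMap η) h hφ
  simpa [pivotMap_apply, h1] using this

theorem CoherentWith.agree_pivot (h : CoherentWith L S τ τ1) {η : G → ℂ} (hφ : φ ∈ zspan S)
    (hη : η ∈ zspan S) (hφ' : φ ∈ ZIrr L) (hη' : η ∈ ZIrr L) (h0 : η 1 ≠ 0) :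
    τ1 (φ - (φ 1 / η 1) • η) = τ (φ - (φ 1 / η 1) • η) := by
  obtain ⟨m, hm⟩ := ZIrr_one_int hφ'
  obtain ⟨n, hn⟩ := ZIrr_one_int hη'
  have he : φ - (φ 1 / η 1) • η = (η 1)⁻¹ • ((n : ℂ) • φ - (m : ℂ) • η) := by
    rw [← hm, ← hn, smul_sub, smul_smul, smul_smul, inv_mul_cancel₀ h0, one_smul, div_eq_inv_mul]
  rw [he, map_smul, map_smul, h.agree _ (Submodule.sub_mem _ (intCast_smul_mem hφ n)
    (intCast_smul_mem hη m)) (by simp [hm, hn, mul_comm])]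

theorem ConjCSubset.refl (h : ∀ χ ∈ S, cfConjC χ ∈ S) : ConjCSubset S S := ⟨subset_rfl, h⟩

theorem ConjCSubset.trans (h : ConjCSubset S1 S2) (h' : S2 ⊆ S) : ConjCSubset S1 S :=
  ⟨h.1.trans h', h.2⟩

theorem Subcoherent.conjCSubset (h : Subcoherent L S τ R) : ConjCSubset S S :=
  ConjCSubset.refl h.conj_mem

theorem Subcoherent.vchar (h : Subcoherent L S τ R) (hχ : χ ∈ S) : χ ∈ ZIrr L :=
  (h.char χ hχ).mem_ZIrr

theorem Subcoherent.zspan_vchar (h : Subcoherent L S τ R) (hχ : χ ∈ zspan S) : χ ∈ ZIrr L :=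
  zspan_le_ZIrr (fun _ => h.vchar) hχ

theorem Subcoherent.ne_zero (h : Subcoherent L S τ R) (hχ : χ ∈ S) : χ ≠ 0 := by
  rintro rfl
  exact h.not_real 0 hχ (cfAut_zero _)

theorem Subcoherent.one_ne_zero (h : Subcoherent L S τ R) (hχ : χ ∈ S) : χ 1 ≠ 0 :=
  (h.char χ hχ).one_ne_zero (h.ne_zero hχ)

theorem Subcoherent.cfnorm_pos (h : Subcoherent L S τ R) (hχ : χ ∈ S) : 0 < cfnorm L χ :=
  FT.cfnorm_pos (h.char χ hχ).mem_CF (h.ne_zero hχ)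

theorem Subcoherent.ortho_conj (h : Subcoherent L S τ R) (hχ : χ ∈ S) :
    cfdot L χ (cfConjC χ) = 0 :=
  h.ortho χ hχ _ (h.conj_mem χ hχ) (h.not_real χ hχ).symm

theorem Subcoherent.sub_conj_mem (h : Subcoherent L S τ R) (hS : ConjCSubset S1 S) (hχ : χ ∈ S1) :
    χ - cfConjC χ ∈ zspan S1 ∧ (χ - cfConjC χ) 1 = 0 :=
  ⟨Submodule.sub_mem _ (subset_zspan hχ) (subset_zspan (hS.2 χ hχ)), by
    simp [(h.char χ (hS.1 hχ)).conj_one]⟩

theorem Subcoherent.cfnorm_tau (h : Subcoherent L S τ R) (hφ : φ ∈ zspan S) (h1 : φ 1 = 0) :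
    cfnorm ⊤ (τ φ) = cfnorm L φ :=
  cfnorm_eq_of_cfdot (h.isom.isom φ hφ h1 φ hφ h1)

theorem Subcoherent.cfnorm_sub_conj (h : Subcoherent L S τ R) (hχ : χ ∈ S) :
    cfnorm ⊤ (τ (χ - cfConjC χ)) = 2 * cfnorm L χ := by
  obtain ⟨h1, h2⟩ := h.sub_conj_mem h.conjCSubset hχ
  rw [h.cfnorm_tau h1 h2, cfnorm_sub_of_ortho (h.ortho_conj hχ), cfnorm_cfConjC, two_mul]

theorem Subcoherent.card_R (h : Subcoherent L S τ R) (hχ : χ ∈ S) :
    ((R χ).card : ℝ) = 2 * cfnorm L χ := by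
  rw [← h.cfnorm_sub_conj hχ, h.R_sum χ hχ, (h.R_orthonormal χ hχ).cfnorm_sum]

theorem subset_subcoherent (h : Subcoherent L S τ R) (hS : ConjCSubset S1 S) :
    Subcoherent L S1 τ R :=
  ⟨fun χ hχ => h.char χ (hS.1 hχ), fun χ hχ => h.not_real χ (hS.1 hχ), hS.2, h.isom.subset hS.1,
    fun χ hχ φ hφ => h.ortho χ (hS.1 hχ) φ (hS.1 hφ), fun χ hχ => h.R_virt χ (hS.1 hχ),
    fun χ hχ => h.R_orthonormal χ (hS.1 hχ), fun χ hχ => h.R_sum χ (hS.1 hχ),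
    fun χ hχ φ hφ => h.R_ortho χ (hS.1 hχ) φ (hS.1 hφ)⟩

theorem Subcoherent.congr_tau (h : Subcoherent L S τ R)
    (he : ∀ φ ∈ zspan S, φ 1 = 0 → τ' φ = τ φ) : Subcoherent L S τ' R := by
  refine ⟨h.char, h.not_real, h.conj_mem, h.isom.congr he, h.ortho, h.R_virt, h.R_orthonormal,
    fun χ hχ => ?_, h.R_ortho⟩
  obtain ⟨h1, h2⟩ := h.sub_conj_mem h.conjCSubset hχ
  rw [he _ h1 h2, h.R_sum χ hχ]

theorem subset_ortho_subcoherent (h : Subcoherent L S τ R) (hS : S1 ⊆ S) (hχ : χ ∈ S)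
    (hχ1 : χ ∉ S1) (hφ : φ ∈ zspan S1) : cfdot L φ χ = 0 :=
  cfdot_zspan_left (fun ξ hξ => h.ortho ξ (hS hξ) χ hχ fun he => hχ1 (he ▸ hξ)) hφ

theorem subcoherent_split (h : Subcoherent L S τ R) (hχ : χ ∈ S) {β : G → ℂ}
    (hβ : β ∈ ZIrr (⊤ : Subgroup G)) :
    ∃ X ∈ zspan (R χ), ∃ Y ∈ ZIrr (⊤ : Subgroup G), β = X - Y ∧ (∀ α ∈ R χ, cfdot ⊤ Y α = 0) ∧
      cfdot ⊤ X Y = 0 := by
  obtain ⟨X, hX, Y, hY, h1, h2, h3⟩ := (h.R_orthonormal χ hχ).exists_split (h.R_virt χ hχ) hβ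
  exact ⟨X, hX, -Y, Submodule.neg_mem _ hY, by rw [h1, sub_neg_eq_add],
    fun α hα => by rw [cfdot_neg_left, h2 α hα, neg_zero], by rw [cfdot_neg_right, h3, neg_zero]⟩

/-- The map `φ ↦ -ν(φ̄)` (on virtual characters). -/
noncomputable def dualIso (ν : CFMap G) : CFMap G :=
  -ν ∘ₗ LinearMap.funLeft ℂ ℂ fun x : G => x⁻¹

theorem dualIso_apply (hφ : φ ∈ ZIrr L) : dualIso ν φ = -ν (cfConjC φ) := by
  have : LinearMap.funLeft ℂ ℂ (fun x : G => x⁻¹) φ = cfConjC φ :=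
    funext fun x => (ZIrr_cfConjC_apply hφ x).symm
  simp only [dualIso, LinearMap.neg_apply, LinearMap.comp_apply, this]

theorem dual_coherence (h : Subcoherent L S τ R) (hν : CoherentWith L S τ ν) (h2 : S.card ≤ 2) :
    CoherentWith L S τ (dualIso ν) := by
  have hc : ∀ φ ∈ zspan S, cfConjC φ ∈ zspan S := fun φ hφ => cfAut_mem_zspan _ h.conj_mem hφ
  refine ⟨⟨fun φ hφ ψ hψ => ?_, fun φ hφ => ?_⟩, ?_⟩
  · rw [dualIso_apply (h.zspan_vchar hφ), dualIso_apply (h.zspan_vchar hψ), cfdot_neg_left,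
      cfdot_neg_right, neg_neg, hν.isom _ (hc φ hφ) _ (hc ψ hψ),
      cfdot_cfAut_ZIrr _ (h.zspan_vchar hφ) (h.zspan_vchar hψ)]
  · rw [dualIso_apply (h.zspan_vchar hφ)]
    exact Submodule.neg_mem _ (hν.virt _ (hc φ hφ))
  rcases S.eq_empty_or_nonempty with rfl | ⟨η, hη⟩
  · intro φ hφ _
    exact map_congr_of_zspan (by simp) hφ
  refine agree_of_pivot (h.one_ne_zero hη) fun φ hφ => ?_
  have hS : ({η, cfConjC η} : Finset (G → ℂ)) = S :=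
    Finset.eq_of_subset_of_card_le (by
      intro ξ hξ
      rcases Finset.mem_insert.mp hξ with rfl | hξ
      · exact hη
      · exact Finset.mem_singleton.mp hξ ▸ h.conj_mem η hη)
      (by rw [Finset.card_pair (h.not_real η hη).symm]; exact h2)
  rw [← hS] at hφ
  rcases Finset.mem_insert.mp hφ with rfl | hφ
  · rw [div_self (h.one_ne_zero hη), one_smul, sub_self, map_zero, map_zero]
  · obtain ⟨h3, h4⟩ := h.sub_conj_mem h.conjCSubset hη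
    have h5 : cfConjC η 1 = η 1 := (h.char η hη).conj_one
    have h6 : cfConjC (η - cfConjC η) = -(η - cfConjC η) := by
      rw [cfConjC, cfAut_sub, neg_sub]; exact congrArg _ cfConjC_cfConjC
    rw [Finset.mem_singleton.mp hφ, h5,
      div_self (h.one_ne_zero hη), one_smul, ← neg_sub η, map_neg, map_neg,
      dualIso_apply (h.zspan_vchar h3), h6, map_neg, neg_neg, hν.agree _ h3 h4]

theorem coherent_seqInd_conjCirr (h : Subcoherent L S τ R) (hν : CoherentWith L S τ ν)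
    (hχ : χ ∈ S) (hirr : IsIrr L χ) :
    IsDirr ⊤ (ν χ) ∧ IsDirr ⊤ (ν (cfConjC χ)) ∧ cfdot ⊤ (ν χ) (ν (cfConjC χ)) = 0 ∧
      ν χ 1 = ν (cfConjC χ) 1 := by
  obtain ⟨h3, h4⟩ := h.sub_conj_mem h.conjCSubset hχ
  refine ⟨hν.toZIsom.dirr (subset_zspan hχ) hirr,
    hν.toZIsom.dirr (subset_zspan (h.conj_mem χ hχ)) (hirr.cfAut _), ?_, ?_⟩
  · rw [hν.isom _ (subset_zspan hχ) _ (subset_zspan (h.conj_mem χ hχ)), h.ortho_conj hχ]
  · have := h.isom.one _ h3 h4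
    rw [← hν.agree _ h3 h4, map_sub, Pi.sub_apply] at this
    exact sub_eq_zero.mp this

theorem cfdot_sub_conj_eq_zero (h1 : cfdot L φ χ = 0) (h2 : cfdot L φ (cfConjC χ) = 0) :
    cfdot L (φ - cfConjC φ) (χ - cfConjC χ) = 0 := by
  rw [cfdot_sub_left, cfdot_sub_right, cfdot_sub_right, h1, h2, cfdot_cfConjC, cfdot_cfConjC_left,
    h1, h2]
  simp

theorem orthonormal_pair_neg {X : Subgroup G} {α β : G → ℂ} (hα : IsIrr X α) (hβ : IsIrr X β)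
    (hne : α ≠ β) : Orthonormal' X {α, -β} := by
  refine orthonormal'_iff.mpr ⟨fun γ hγ => ?_, fun γ hγ δ hδ hne' => ?_⟩
  · rcases Finset.mem_insert.mp hγ with rfl | hγ
    · exact hα.cfdot_self
    · rw [Finset.mem_singleton.mp hγ]; exact hβ.isDirr.neg.cfdot_self
  · simp only [Finset.mem_insert, Finset.mem_singleton] at hγ hδ
    rcases hγ with rfl | rfl <;> rcases hδ with rfl | rfl
    · exact absurd rfl hne'
    · rw [cfdot_neg_right, hα.cfdot_ne hβ hne, neg_zero]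
    · rw [cfdot_neg_left, hβ.cfdot_ne hα hne.symm, neg_zero]
    · exact absurd rfl hne'

/-- Peterfalvi (5.3)(a). -/
theorem irr_subcoherent (hirr : ∀ χ ∈ S, IsIrr L χ) (hc : ∀ χ ∈ S, cfConjC χ ∈ S)
    (hr : ∀ χ ∈ S, cfConjC χ ≠ χ) (hτ : ZIsom1 L ⊤ S τ) : ∃ R, Subcoherent L S τ R := by
  have hz : ∀ χ ∈ S, χ - cfConjC χ ∈ zspan S ∧ (χ - cfConjC χ) 1 = 0 := fun χ hχ =>
    ⟨Submodule.sub_mem _ (subset_zspan hχ) (subset_zspan (hc χ hχ)), by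
      simp [(hirr χ hχ).isChar.conj_one]⟩
  have hex : ∀ χ ∈ S, ∃ α β, IsIrr ⊤ α ∧ IsIrr ⊤ β ∧ α ≠ β ∧ τ (χ - cfConjC χ) = α - β := by
    intro χ hχ
    obtain ⟨h1, h2⟩ := hz χ hχ
    refine vchar_norm2 (hτ.virt _ h1 h2) (hτ.one _ h1 h2) ?_
    rw [cfnorm_eq_of_cfdot (hτ.isom _ h1 h2 _ h1 h2), cfnorm_sub_of_ortho
      ((hirr χ hχ).cfdot_ne ((hirr χ hχ).cfAut _) (hr χ hχ).symm), cfnorm_cfConjC,
      (hirr χ hχ).cfnorm]
    norm_num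
  choose! a b ha hb hab he using hex
  refine ⟨fun χ => {a χ, -b χ}, fun χ hχ => (hirr χ hχ).isChar, hr, hc, hτ,
    fun χ hχ φ hφ hne => (hirr χ hχ).cfdot_ne (hirr φ hφ) hne, fun χ hχ α hα => ?_,
    fun χ hχ => orthonormal_pair_neg (ha χ hχ) (hb χ hχ) (hab χ hχ), fun χ hχ => ?_,
    fun χ hχ φ hφ h1 h2 α hα β hβ => ?_⟩
  · rcases Finset.mem_insert.mp hα with rfl | hα
    · exact (ha χ hχ).mem_ZIrr
    · rw [Finset.mem_singleton.mp hα]; exact Submodule.neg_mem _ (hb χ hχ).mem_ZIrr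
  · rw [Finset.sum_pair ((ha χ hχ).ne_neg (hb χ hχ)), he χ hχ, sub_eq_add_neg]
  · have hone : ∀ χ ∈ S, a χ 1 = b χ 1 := fun χ hχ => by
      have := hτ.one _ (hz χ hχ).1 (hz χ hχ).2
      rwa [he χ hχ, Pi.sub_apply, sub_eq_zero] at this
    have h3 := hτ.isom _ (hz φ hφ).1 (hz φ hφ).2 _ (hz χ hχ).1 (hz χ hχ).2
    rw [cfdot_sub_conj_eq_zero h1 h2, he φ hφ, he χ hχ] at h3
    obtain ⟨k1, k2, k3, k4⟩ := vchar_pairs_orthonormal (ha φ hφ).isDirr (hb φ hφ).isDirr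
      (ha χ hχ).isDirr (hb χ hχ).isDirr ((ha φ hφ).cfdot_ne (hb φ hφ) (hab φ hφ))
      ((ha χ hχ).cfdot_ne (hb χ hχ) (hab χ hχ)) one_ne_zero one_ne_zero (by simpa using h3)
      (hone φ hφ) (by simpa using hone χ hχ)
    simp only [Finset.mem_insert, Finset.mem_singleton] at hα hβ
    rcases hα with rfl | rfl <;> rcases hβ with rfl | rfl <;>
      simp [cfdot_neg_left, cfdot_neg_right, k1, k2, k3, k4]

/-- The set `R(μ_j)` of Peterfalvi (5.3)(b). -/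
noncomputable def prTIRmu (L W W1 W2 : Subgroup G) (j : Irr W2) : Finset (G → ℂ) :=
  (Finset.univ.image fun i => (prTIsign L W W1 W2 j : ℂ) • cycEta ⊤ W W1 W2 i j) ∪
    Finset.univ.image fun i => -((prTIsign L W W1 W2 j : ℂ) • cycEta ⊤ W W1 W2 i j.conj)

theorem mem_prTIRmu {W W1 W2 : Subgroup G} {j : Irr W2} {α : G → ℂ} :
    α ∈ prTIRmu L W W1 W2 j ↔ ∃ i, α = (prTIsign L W W1 W2 j : ℂ) • cycEta ⊤ W W1 W2 i j ∨
      α = -((prTIsign L W W1 W2 j : ℂ) • cycEta ⊤ W W1 W2 i j.conj) := by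
  simp only [prTIRmu, Finset.mem_union, Finset.mem_image, Finset.mem_univ, true_and, exists_or,
    eq_comm]

theorem PrimeDade.ne_one_of_mem {A A0 : Set G} {RD : G → Subgroup G} {W W1 W2 : Subgroup G}
    (h : PrimeDade L K H A A0 RD W W1 W2) {j : Irr W2}
    (hj : prTIred L W W1 W2 j ∈ seqIndD K L H ⊥) : j ≠ 1 := by
  rintro rfl
  rw [← h.prTI.cfInd_prTIres, h.prTI.prTIres0] at hj
  exact Ind1_notMem_seqIndD h.prTI.K_le h.prTI.normal h.H_le hj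

theorem PrimeDade.seqInd_on {A A0 : Set G} {RD : G → Subgroup G} {W W1 W2 : Subgroup G}
    (h : PrimeDade L K H A A0 RD W W1 W2) (hφ : φ ∈ seqIndD K L H ⊥) :
    φ ∈ CFon L (insert 1 A) := by
  obtain ⟨θ, h1, -, h2, rfl⟩ := mem_seqIndD.mp hφ
  exact h.prDade_Ind_irr_on h1 h2

theorem PrimeDade.zisom1 {A A0 : Set G} {RD : G → Subgroup G} {W W1 W2 : Subgroup G}
    (h : PrimeDade L K H A A0 RD W W1 W2) (hS : S ⊆ seqIndD K L H ⊥) :
    ZIsom1 L ⊤ S (Dade A0 RD) :=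
  Dade_ZIsom1 h.dade (fun _ hξ => seqInd_vcharW h.prTI.K_le (hS hξ))
    fun _ hξ => CFon_mono (Set.insert_subset_insert h.A_subset) (h.seqInd_on (hS hξ))

theorem PrimeDade.Dade_vanish {A A0 : Set G} {RD : G → Subgroup G} {W W1 W2 : Subgroup G}
    (h : PrimeDade L K H A A0 RD W W1 W2) (hφ : φ ∈ CFon L (K : Set G)) :
    ∀ x ∈ cycTIset W W1 W2, Dade A0 RD φ x = 0 := fun x hx => by
  rw [Dade_id h.dade (CFon_CF hφ) (h.cycTIset_subset hx)]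
  exact CFon_zero hφ (h.supp_disjoint ⟨x, hx, 1, L.one_mem, by simp⟩)

theorem CycTI.cfdot_sign_cycEta {W W1 W2 G0 : Subgroup G} (h : CycTI G0 W W1 W2) (k : Irr W2)
    (i i' : Irr W1) (j j' : Irr W2) :
    cfdot G0 ((prTIsign L W W1 W2 k : ℂ) • cycEta G0 W W1 W2 i j)
      ((prTIsign L W W1 W2 k : ℂ) • cycEta G0 W W1 W2 i' j') =
      if i = i' ∧ j = j' then 1 else 0 := by
  rw [cfdot_smul_left, cfdot_intCast_smul_right, ← mul_assoc, prTIsign_mul_self, one_mul,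
    h.cfdot_cycEta]

theorem prTIRmu_ortho {W W1 W2 : Subgroup G} {j : Irr W2} {β : G → ℂ}
    (h1 : ∀ i, cfdot ⊤ β (cycEta ⊤ W W1 W2 i j) = 0)
    (h2 : ∀ i, cfdot ⊤ β (cycEta ⊤ W W1 W2 i j.conj) = 0) :
    ∀ α ∈ prTIRmu L W W1 W2 j, cfdot ⊤ β α = 0 := by
  intro α hα
  obtain ⟨i, rfl | rfl⟩ := mem_prTIRmu.mp hα
  · rw [cfdot_smul_right, h1, mul_zero]
  · rw [cfdot_neg_right, cfdot_smul_right, h2, mul_zero, neg_zero]

theorem CycTI.prTIRmu_orthonormal {W W1 W2 : Subgroup G} (h : CycTI ⊤ W W1 W2) {j : Irr W2}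
    (hj : j.conj ≠ j) : Orthonormal' ⊤ (prTIRmu L W W1 W2 j) := by
  refine orthonormal'_iff.mpr ⟨fun α hα => ?_, fun α hα β hβ hne => ?_⟩
  · obtain ⟨i, rfl | rfl⟩ := mem_prTIRmu.mp hα
    · rw [h.cfdot_sign_cycEta, if_pos ⟨rfl, rfl⟩]
    · rw [cfdot_neg_left, cfdot_neg_right, neg_neg, h.cfdot_sign_cycEta, if_pos ⟨rfl, rfl⟩]
  · obtain ⟨i, rfl | rfl⟩ := mem_prTIRmu.mp hα <;> obtain ⟨i', rfl | rfl⟩ := mem_prTIRmu.mp hβ
    · rw [h.cfdot_sign_cycEta, if_neg]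
      rintro ⟨rfl, -⟩; exact hne rfl
    · rw [cfdot_neg_right, h.cfdot_sign_cycEta, if_neg fun h => hj h.2.symm, neg_zero]
    · rw [cfdot_neg_left, h.cfdot_sign_cycEta, if_neg fun h => hj h.2, neg_zero]
    · rw [cfdot_neg_left, cfdot_neg_right, neg_neg, h.cfdot_sign_cycEta, if_neg]
      rintro ⟨rfl, -⟩; exact hne rfl

theorem CycTI.sign_cycEta_injective {W W1 W2 : Subgroup G} (h : CycTI ⊤ W W1 W2) (k j : Irr W2) :
    Function.Injective fun i => (prTIsign L W W1 W2 k : ℂ) • cycEta ⊤ W W1 W2 i j :=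
  fun _ _ he => (h.cycEta_inj.mp (smul_right_injective _ (prTIsign_ne_zero k) he)).1

theorem CycTI.prTIRmu_disjoint {W W1 W2 : Subgroup G} (h : CycTI ⊤ W W1 W2) (j : Irr W2) :
    Disjoint (Finset.univ.image fun i => (prTIsign L W W1 W2 j : ℂ) • cycEta ⊤ W W1 W2 i j)
      (Finset.univ.image fun i => -((prTIsign L W W1 W2 j : ℂ) • cycEta ⊤ W W1 W2 i j.conj)) := by
  rw [Finset.disjoint_left]
  intro α h1 h2
  obtain ⟨i, -, rfl⟩ := Finset.mem_image.mp h1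
  obtain ⟨i', -, he⟩ := Finset.mem_image.mp h2
  rw [← smul_neg] at he
  exact h.cycEta_ne_neg _ _ _ _ (smul_right_injective _ (prTIsign_ne_zero j) he).symm

theorem CycTI.sum_prTIRmu {W W1 W2 : Subgroup G} (h : CycTI ⊤ W W1 W2) (j : Irr W2) :
    ∑ α ∈ prTIRmu L W W1 W2 j, α = (prTIsign L W W1 W2 j : ℂ) •
      (∑ i, cycEta ⊤ W W1 W2 i j - ∑ i, cycEta ⊤ W W1 W2 i j.conj) := by
  rw [prTIRmu, Finset.sum_union (h.prTIRmu_disjoint j),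
    Finset.sum_image (h.sign_cycEta_injective j j).injOn,
    Finset.sum_image fun _ _ _ _ he => h.sign_cycEta_injective j j.conj (neg_injective he),
    smul_sub, Finset.smul_sum, Finset.smul_sum, Finset.sum_neg_distrib, sub_eq_add_neg]

/-- Peterfalvi (5.3)(b). -/
theorem prDade_subcoherent {A A0 : Set G} {RD : G → Subgroup G} {W W1 W2 : Subgroup G}
    (h : PrimeDade L K H A A0 RD W W1 W2) (hS : ConjCSubset S (seqIndD K L H ⊥))
    (hr : ∀ χ ∈ S, cfConjC χ ≠ χ) :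
    ∃ R, Subcoherent L S (Dade A0 RD) R ∧
      (∀ φ ∈ S, IsIrr L φ → ∀ α ∈ R φ, ∀ i j, cfdot ⊤ α (cycEta ⊤ W W1 W2 i j) = 0) ∧
      ∀ j, R (prTIred L W W1 W2 j) = prTIRmu L W W1 W2 j := by
  have hKL := h.prTI.K_le
  have hn := h.prTI.normal
  have hτ := h.zisom1 hS.1
  set S1 := S.filter (IsIrr L) with hS1
  obtain ⟨R1, hR1⟩ := irr_subcoherent (L := L) (S := S1) (τ := Dade A0 RD)
    (fun χ hχ => (Finset.mem_filter.mp hχ).2)
    (fun χ hχ => Finset.mem_filter.mpr ⟨hS.2 χ (Finset.mem_filter.mp hχ).1,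
      (Finset.mem_filter.mp hχ).2.cfAut _⟩)
    (fun χ hχ => hr χ (Finset.mem_filter.mp hχ).1) (hτ.subset (Finset.filter_subset _ _))
  let R : (G → ℂ) → Finset (G → ℂ) := fun χ =>
    if hχ : ∃ j, χ = prTIred L W W1 W2 j then prTIRmu L W W1 W2 hχ.choose else R1 χ
  have hRmu : ∀ j, R (prTIred L W W1 W2 j) = prTIRmu L W W1 W2 j := fun j => by
    have hχ : ∃ j', prTIred L W W1 W2 j = prTIred L W W1 W2 j' := ⟨j, rfl⟩
    simp only [R, dif_pos hχ]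
    rw [← h.prTI.prTIred_inj hχ.choose_spec]
  have hRirr : ∀ χ, IsIrr L χ → R χ = R1 χ := fun χ hχ => by
    refine dif_neg ?_
    rintro ⟨j, rfl⟩
    exact h.prTI.prTIred_not_irr j hχ
  have hcases : ∀ χ ∈ S, (χ ∈ S1 ∧ R χ = R1 χ) ∨
      ∃ j, j ≠ 1 ∧ j.conj ≠ j ∧ χ = prTIred L W W1 W2 j ∧ R χ = prTIRmu L W W1 W2 j := by
    intro χ hχ
    obtain ⟨θ, h1, -, -, he⟩ := mem_seqIndD.mp (hS.1 hχ)
    rcases h.prTI.cfInd_red_cases h1 with h2 | ⟨j, -, h2⟩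
    · exact Or.inl ⟨Finset.mem_filter.mpr ⟨hχ, he ▸ h2⟩, hRirr χ (he ▸ h2)⟩
    · have h3 : j ≠ 1 := h.ne_one_of_mem (h2 ▸ he ▸ hS.1 hχ)
      exact Or.inr ⟨j, h3, fun h4 => h3 ((Irr.conj_eq_self h.cycTI.odd_W2 j).mp h4), he.trans h2,
        by rw [he, h2, hRmu]⟩
  have ho : ∀ φ ∈ S1, ∀ α ∈ R1 φ, ∀ i j, cfdot ⊤ α (cycEta ⊤ W W1 W2 i j) = 0 := by
    intro φ hφ α hα i j
    obtain ⟨m1, m2⟩ := hR1.sub_conj_mem hR1.conjCSubset hφ
    have hon := seqInd_on hn (hS.1 (Finset.mem_filter.mp hφ).1)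
    have k1 := h.cycTI.NC_norm (hR1.isom.virt _ m1 m2)
    rw [hR1.cfnorm_sub_conj hφ, (Finset.mem_filter.mp hφ).2.cfnorm, mul_one] at k1
    have k2 : cycNC ⊤ W W1 W2 (Dade A0 RD (φ - cfConjC φ)) ≤ 2 := by exact_mod_cast k1
    have k3 := h.cycTI.ortho_of_NC_lt Dade_mem_CF
      (h.Dade_vanish (Submodule.sub_mem _ hon (cfAut_mem_CFon (starRingEnd ℂ) hon)))
      (lt_of_le_of_lt k2 (lt_min h.cycTI.three_le_W1 h.cycTI.three_le_W2)) i j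
    by_contra hne
    have hon := hR1.R_orthonormal φ hφ
    have k4 : cfdot ⊤ (Dade A0 RD (φ - cfConjC φ)) α = 1 := by
      rw [hR1.R_sum φ hφ, hon.cfdot_sum_subset subset_rfl hα, if_pos hα]
    rcases (isDirr_of_cfdot (hR1.R_virt φ hφ α hα) (hon.self hα)).eq_or_neg_of_cfdot_ne
      (h.cycTI.cycEta_dirr i j) hne with he | he
    · rw [he] at k4; exact zero_ne_one (k3.symm.trans k4)
    · rw [he, cfdot_neg_right] at k4
      exact zero_ne_one ((neg_eq_zero.mpr k3).symm.trans k4)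
  refine ⟨R, ⟨fun χ hχ => seqInd_char hKL (hS.1 hχ), hr, hS.2, hτ,
    fun χ hχ φ hφ hne => seqInd_ortho hKL hn (hS.1 hχ) (hS.1 hφ) hne, fun χ hχ α hα => ?_,
    fun χ hχ => ?_, fun χ hχ => ?_, fun χ hχ φ hφ h1 h2 α hα β hβ => ?_⟩,
    fun φ hφ hirr α hα => ho φ (Finset.mem_filter.mpr ⟨hφ, hirr⟩) α (hRirr φ hirr ▸ hα), hRmu⟩
  · rcases hcases χ hχ with ⟨h1, h2⟩ | ⟨j, -, -, -, h2⟩ <;> rw [h2] at hα
    · exact hR1.R_virt χ h1 α hα
    · obtain ⟨i, rfl | rfl⟩ := mem_prTIRmu.mp hα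
      · exact intCast_smul_mem (h.cycTI.cycEta_vchar _ _) _
      · exact Submodule.neg_mem _ (intCast_smul_mem (h.cycTI.cycEta_vchar _ _) _)
  · rcases hcases χ hχ with ⟨h1, h2⟩ | ⟨j, -, hj, -, h2⟩ <;> rw [h2]
    · exact hR1.R_orthonormal χ h1
    · exact h.cycTI.prTIRmu_orthonormal hj
  · rcases hcases χ hχ with ⟨h1, h2⟩ | ⟨j, hj, -, rfl, h2⟩ <;> rw [h2]
    · exact hR1.R_sum χ h1
    · rw [h.cycTI.sum_prTIRmu, cfConjC, ← h.prTI.prTIred_aut]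
      refine h.prDade_sub_TIred hj (fun h1 => hj ((Irr.aut_eq_one _).mp h1)) ?_
      rw [h.prTI.prTIred_aut, ZIrr_cfAut_one (h.prTI.prTIred_char j).mem_ZIrr]
  · rcases hcases χ hχ with ⟨k1, k2⟩ | ⟨j, -, -, rfl, k2⟩ <;> rw [k2] at hβ <;>
      rcases hcases φ hφ with ⟨k3, k4⟩ | ⟨k, -, -, rfl, k4⟩ <;> rw [k4] at hα
    · exact hR1.R_ortho χ k1 φ k3 h1 h2 α hα β hβ
    · exact cfdot_symm_zero (prTIRmu_ortho (fun i => ho χ k1 β hβ i _) (fun i => ho χ k1 β hβ i _)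
        α hα)
    · exact prTIRmu_ortho (fun i => ho φ k3 α hα i _) (fun i => ho φ k3 α hα i _) β hβ
    · have hw : (Nat.card W1 : ℂ) ≠ 0 := card_ne_zero W1
      rw [cfConjC, ← h.prTI.prTIred_aut] at h2
      rw [h.prTI.cfdot_prTIred] at h1 h2
      have n1 : k ≠ j := fun he => hw (by rwa [if_pos he] at h1)
      have n2 : k ≠ j.conj := fun he => hw (by rwa [if_pos he] at h2)
      have n3 : k.conj ≠ j := fun he => n2 (by rw [← he, Irr.conj_conj])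
      have n4 : k.conj ≠ j.conj := fun he => n1 (Irr.aut_injective _ he)
      refine prTIRmu_ortho (fun i => cfdot_symm_zero (prTIRmu_ortho (fun i' => ?_) (fun i' => ?_)
        α hα)) (fun i => cfdot_symm_zero (prTIRmu_ortho (fun i' => ?_) (fun i' => ?_) α hα)) β hβ
      all_goals rw [h.cycTI.cfdot_cycEta, if_neg]
      exacts [fun h => n1 h.2.symm, fun h => n3 h.2.symm, fun h => n2 h.2.symm,
        fun h => n4 h.2.symm]

/-- Peterfalvi (5.4), in a form that does not mention the isometry `τ₁`: `X - Y` stands for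
`(χ - ψ)^τ₁` and `n` for the norm of `ψ`. -/
theorem subcoherent_norm' (h : Subcoherent L S τ R) (hχ : χ ∈ S) {X Y : G → ℂ} {n : ℝ}
    (hβ : X - Y ∈ ZIrr (⊤ : Subgroup G)) (hn : cfnorm ⊤ (X - Y) = cfnorm L χ + n)
    (hd : cfdot ⊤ (X - Y) (τ (χ - cfConjC χ)) = cfdot L χ χ) (hXY : cfdot ⊤ X Y = 0)
    (hY : ∀ α ∈ R χ, cfdot ⊤ Y α = 0) :
    cfnorm L χ ≤ cfnorm ⊤ X ∧ (n ≤ cfnorm ⊤ Y →
      cfnorm ⊤ X = cfnorm L χ ∧ cfnorm ⊤ Y = n ∧ ∃ E ⊆ R χ, X = ∑ α ∈ E, α) := by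
  have ho := h.R_orthonormal χ hχ
  have hint : ∀ α ∈ R χ, ∃ n : ℤ, cfdot ⊤ X α = n := fun α hα => by
    obtain ⟨n, hn⟩ := ZIrr_cfdot_int hβ (h.R_virt χ hχ α hα)
    exact ⟨n, by rwa [cfdot_sub_left, hY α hα, sub_zero] at hn⟩
  choose! c hc using hint
  have h1 : cfnorm L χ = ∑ α ∈ R χ, (c α : ℝ) := by
    apply Complex.ofReal_injective
    rw [← cfdot_self, ← hd, h.R_sum χ hχ, cfdot_sum_right]
    push_cast
    refine Finset.sum_congr rfl fun α hα => ?_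
    rw [cfdot_sub_left, hY α hα, sub_zero, hc α hα]
  set P := ∑ γ ∈ R χ, cfdot ⊤ X γ • γ with hP
  have h2 : cfnorm ⊤ P = ∑ α ∈ R χ, (c α : ℝ) ^ 2 := by
    rw [hP, ho.cfnorm_sum_smul]
    refine Finset.sum_congr rfl fun α hα => ?_
    rw [hc α hα, Complex.norm_intCast, sq_abs]
  have h3 : cfnorm ⊤ X = cfnorm ⊤ (X - P) + cfnorm ⊤ P := by
    rw [← cfnorm_add_of_ortho, sub_add_cancel]
    rw [hP, cfdot_sum_right]
    refine Finset.sum_eq_zero fun α hα => ?_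
    rw [cfdot_smul_right, ho.cfdot_sub_proj X hα, mul_zero]
  have h4 : ∀ α ∈ R χ, (c α : ℝ) ≤ (c α : ℝ) ^ 2 := fun α _ => by
    exact_mod_cast Int.le_self_sq (c α)
  have h5 := Finset.sum_le_sum h4
  have h6 : 0 ≤ cfnorm ⊤ (X - P) := cfnorm_nonneg
  refine ⟨by linarith, fun hn' => ?_⟩
  rw [cfnorm_sub_of_ortho hXY] at hn
  refine ⟨by linarith, by linarith, (R χ).filter fun α => c α = 1, Finset.filter_subset _ _, ?_⟩
  have h7 : X = P := sub_eq_zero.mp (eq_zero_of_cfnorm_top (by linarith))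
  have h8 := (Finset.sum_eq_sum_iff_of_le h4).mp (by linarith)
  rw [h7, hP, Finset.sum_filter]
  refine Finset.sum_congr rfl fun α hα => ?_
  have h9 : c α = c α ^ 2 := by exact_mod_cast h8 α hα
  rw [hc α hα]
  split_ifs with h10
  · rw [h10]; simp
  · have : c α = 0 := by
      have : c α * (c α - 1) = 0 := by linear_combination -h9
      rcases mul_eq_zero.mp this with h | h
      · exact h
      · exact absurd (sub_eq_zero.mp h) h10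
    rw [this]; simp

/-- Peterfalvi (5.4). -/
theorem subcoherent_norm (h : Subcoherent L S τ R) (hχ : χ ∈ S) (h1 : cfdot L χ ψ = 0)
    (h2 : cfdot L (cfConjC χ) ψ = 0) (hτ1 : ZIsom L {χ - ψ, χ - cfConjC χ} τ1)
    (he : τ1 (χ - cfConjC χ) = τ (χ - cfConjC χ)) {X Y : G → ℂ} (hβ : τ1 (χ - ψ) = X - Y)
    (hXY : cfdot ⊤ X Y = 0) (hY : ∀ α ∈ R χ, cfdot ⊤ Y α = 0) :
    cfnorm L χ ≤ cfnorm ⊤ X ∧ (cfnorm L ψ ≤ cfnorm ⊤ Y →
      cfnorm ⊤ X = cfnorm L χ ∧ cfnorm ⊤ Y = cfnorm L ψ ∧ ∃ E ⊆ R χ, X = ∑ α ∈ E, α) := by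
  have m1 : χ - ψ ∈ zspan {χ - ψ, χ - cfConjC χ} := subset_zspan (by simp)
  have m2 : χ - cfConjC χ ∈ zspan {χ - ψ, χ - cfConjC χ} := subset_zspan (by simp)
  refine subcoherent_norm' h hχ (hβ ▸ hτ1.virt _ m1) ?_ ?_ hXY hY
  · rw [← hβ, hτ1.cfnorm m1, cfnorm_sub_of_ortho h1]
  · rw [← hβ, ← he, hτ1.isom _ m1 _ m2, cfdot_sub_left, cfdot_sub_right, cfdot_sub_right,
      h.ortho_conj hχ, cfdot_symm_zero h1, cfdot_symm_zero h2]
    simp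

/-- Peterfalvi (5.5), without mentioning `τ₁`. -/
theorem coherent_sum_subseq' (h : Subcoherent L S τ R) (hχ : χ ∈ S) {X : G → ℂ}
    (hX : X ∈ ZIrr (⊤ : Subgroup G)) (hn : cfnorm ⊤ X = cfnorm L χ)
    (hd : cfdot ⊤ X (τ (χ - cfConjC χ)) = cfdot L χ χ) : ∃ E ⊆ R χ, X = ∑ α ∈ E, α := by
  exact ((subcoherent_norm' (Y := 0) (n := 0) h hχ (by simpa using hX) (by simpa using hn)
    (by simpa using hd) cfdot_zero_right fun _ _ => cfdot_zero_left).2 (by simp)).2.2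

/-- Peterfalvi (5.5). -/
theorem coherent_sum_subseq (h : Subcoherent L S τ R) (hχ : χ ∈ S)
    (hτ1 : ZIsom L {χ, cfConjC χ} τ1) (he : τ1 (χ - cfConjC χ) = τ (χ - cfConjC χ)) :
    ∃ E ⊆ R χ, τ1 χ = ∑ α ∈ E, α := by
  have m1 : χ ∈ zspan {χ, cfConjC χ} := subset_zspan (by simp)
  have m2 : cfConjC χ ∈ zspan {χ, cfConjC χ} := subset_zspan (by simp)
  refine coherent_sum_subseq' h hχ (hτ1.virt _ m1) (hτ1.cfnorm m1) ?_
  rw [← he, hτ1.isom _ m1 _ (Submodule.sub_mem _ m1 m2), cfdot_sub_right, h.ortho_conj hχ, sub_zero]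

theorem mem_coherent_sum_subseq (h : Subcoherent L S τ R) (hS : ConjCSubset S1 S)
    (hτ1 : CoherentWith L S1 τ τ1) (hχ : χ ∈ S1) : ∃ E ⊆ R χ, τ1 χ = ∑ α ∈ E, α := by
  obtain ⟨h1, h2⟩ := h.sub_conj_mem hS hχ
  refine coherent_sum_subseq h (hS.1 hχ) (hτ1.toZIsom.mono fun ξ hξ => ?_) (hτ1.agree _ h1 h2)
  rcases Finset.mem_insert.mp hξ with rfl | hξ
  · exact subset_zspan hχ
  · exact Finset.mem_singleton.mp hξ ▸ subset_zspan (hS.2 χ hχ)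

theorem cfdot_map_zspan_left {X : Subgroup G} {α : G → ℂ} (h : ∀ ξ ∈ S, cfdot X (τ ξ) α = 0)
    (hφ : φ ∈ zspan S) : cfdot X (τ φ) α = 0 := by
  obtain ⟨c, rfl⟩ := mem_zspan_iff.mp hφ
  rw [map_sum, cfdot_sum_left]
  exact Finset.sum_eq_zero fun ξ hξ => by rw [map_smul, cfdot_smul_left, h ξ hξ, mul_zero]

theorem ConjCSubset.conj_notMem (hS : ConjCSubset S1 S) (hχ : χ ∉ S1) : cfConjC χ ∉ S1 :=
  fun h => hχ (by simpa using hS.2 _ h)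

theorem coherent_ortho_supp (h : Subcoherent L S τ R) (hS : ConjCSubset S1 S)
    (hτ1 : CoherentWith L S1 τ τ1) (hχ : χ ∈ S) (hχ1 : χ ∉ S1) (hφ : φ ∈ zspan S1) :
    ∀ α ∈ R χ, cfdot ⊤ (τ1 φ) α = 0 := by
  intro α hα
  refine cfdot_map_zspan_left (fun ξ hξ => ?_) hφ
  obtain ⟨E, hE, he⟩ := mem_coherent_sum_subseq h hS hτ1 hξ
  rw [he, cfdot_sum_left]
  refine Finset.sum_eq_zero fun β hβ => h.R_ortho χ hχ ξ (hS.1 hξ) ?_ ?_ β (hE hβ) α hα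
  · exact subset_ortho_subcoherent h hS.1 hχ hχ1 (subset_zspan hξ)
  · exact subset_ortho_subcoherent h hS.1 (h.conj_mem χ hχ) (hS.conj_notMem hχ1) (subset_zspan hξ)

theorem coherent_ortho (h : Subcoherent L S τ R) (hS1 : ConjCSubset S1 S)
    (hτ1 : CoherentWith L S1 τ τ1) (hS2 : ConjCSubset S2 S) (hτ2 : CoherentWith L S2 τ τ2)
    (hd : Disjoint S1 S2) (hφ : φ ∈ zspan S1) (hψ : ψ ∈ zspan S2) :
    cfdot ⊤ (τ1 φ) (τ2 ψ) = 0 := by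
  refine cfdot_symm_zero (cfdot_map_zspan_left (fun ξ hξ => cfdot_symm_zero ?_) hψ)
  obtain ⟨E, hE, he⟩ := mem_coherent_sum_subseq h hS2 hτ2 hξ
  rw [he, cfdot_sum_right]
  exact Finset.sum_eq_zero fun β hβ => coherent_ortho_supp h hS1 hτ1 (hS2.1 hξ)
    (Finset.disjoint_right.mp hd hξ) hφ β (hE hβ)

theorem bridge_coherent_with (h : Subcoherent L S τ R) (hS1 : ConjCSubset S1 S)
    (hτ1 : CoherentWith L S1 τ τ1) (hS2 : ConjCSubset S2 S) (hτ2 : CoherentWith L S2 τ τ2)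
    (hd : Disjoint S1 S2) (hχ : χ ∈ S1) (hφ : φ ∈ zspan S2) (h1 : χ 1 = φ 1)
    (he : τ (χ - φ) = τ1 χ - τ2 φ) :
    ∃ ν, CoherentWith L (S1 ∪ S2) τ ν ∧ (∀ ξ ∈ S1, ν ξ = τ1 ξ) ∧ ∀ ξ ∈ S2, ν ξ = τ2 ξ := by
  have hsub : S1 ∪ S2 ⊆ S := Finset.union_subset hS1.1 hS2.1
  obtain ⟨ν, hν⟩ := exists_linear_of_ortho (L := L) (S := S1 ∪ S2)
    (fun ξ hξ ζ hζ => h.ortho ξ (hsub hξ) ζ (hsub hζ))
    (fun ξ hξ => by
      rw [Ne, cfdot_self_eq_zero (h.char ξ (hsub hξ)).mem_CF]; exact h.ne_zero (hsub hξ))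
    (fun ξ => if ξ ∈ S1 then τ1 ξ else τ2 ξ)
  have e1 : ∀ ξ ∈ S1, ν ξ = τ1 ξ := fun ξ hξ => by
    rw [hν ξ (Finset.mem_union_left _ hξ), if_pos hξ]
  have e2 : ∀ ξ ∈ S2, ν ξ = τ2 ξ := fun ξ hξ => by
    rw [hν ξ (Finset.mem_union_right _ hξ), if_neg (Finset.disjoint_right.mp hd hξ)]
  refine ⟨ν, ⟨zisom_of_gen (fun ξ hξ => ?_) (fun ξ hξ ζ hζ => ?_), ?_⟩, e1, e2⟩
  · rcases Finset.mem_union.mp hξ with hξ | hξ
    · exact e1 ξ hξ ▸ hτ1.virt _ (subset_zspan hξ)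
    · exact e2 ξ hξ ▸ hτ2.virt _ (subset_zspan hξ)
  · rcases Finset.mem_union.mp hξ with hξ | hξ <;> rcases Finset.mem_union.mp hζ with hζ | hζ
    · rw [e1 ξ hξ, e1 ζ hζ, hτ1.isom _ (subset_zspan hξ) _ (subset_zspan hζ)]
    · rw [e1 ξ hξ, e2 ζ hζ, coherent_ortho h hS1 hτ1 hS2 hτ2 hd (subset_zspan hξ) (subset_zspan hζ),
        subset_ortho_subcoherent h hS1.1 (hS2.1 hζ) (Finset.disjoint_right.mp hd hζ)
          (subset_zspan hξ)]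
    · rw [e2 ξ hξ, e1 ζ hζ,
        coherent_ortho h hS2 hτ2 hS1 hτ1 hd.symm (subset_zspan hξ) (subset_zspan hζ),
        subset_ortho_subcoherent h hS2.1 (hS1.1 hζ) (Finset.disjoint_left.mp hd hζ)
          (subset_zspan hξ)]
    · rw [e2 ξ hξ, e2 ζ hζ, hτ2.isom _ (subset_zspan hξ) _ (subset_zspan hζ)]
  have h0 := h.one_ne_zero (hS1.1 hχ)
  refine agree_of_pivot h0 fun ξ hξ => ?_
  rcases Finset.mem_union.mp hξ with hξ | hξ
  · rw [← hτ1.agree_pivot (subset_zspan hξ) (subset_zspan hχ) (h.vchar (hS1.1 hξ))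
      (h.vchar (hS1.1 hχ)) h0, map_sub, map_sub, map_smul, map_smul, e1 ξ hξ, e1 χ hχ]
  · have e3 : ξ - (ξ 1 / χ 1) • χ = (ξ - (ξ 1 / φ 1) • φ) - (ξ 1 / χ 1) • (χ - φ) := by
      rw [h1, smul_sub]; abel
    rw [e3, map_sub τ, map_smul τ, he, ← hτ2.agree_pivot (subset_zspan hξ) hφ (h.vchar (hS2.1 hξ))
      (h.zspan_vchar (zspan_mono hS2.1 hφ)) (h1 ▸ h0)]
    simp only [map_sub, map_smul, e1 χ hχ, e2 ξ hξ, map_congr_of_zspan e2 hφ]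

theorem bridge_coherent (h : Subcoherent L S τ R) (hS1 : ConjCSubset S1 S)
    (hτ1 : CoherentWith L S1 τ τ1) (hS2 : ConjCSubset S2 S) (hτ2 : CoherentWith L S2 τ τ2)
    (hd : Disjoint S1 S2) (hχ : χ ∈ S1) (hφ : φ ∈ zspan S2) (h1 : χ 1 = φ 1)
    (he : τ (χ - φ) = τ1 χ - τ2 φ) : Coherent L (S1 ∪ S2) τ :=
  (bridge_coherent_with h hS1 hτ1 hS2 hτ2 hd hχ hφ h1 he).imp fun _ h => h.1

theorem Subcoherent.conjCSubset_pair (h : Subcoherent L S τ R) (hχ : χ ∈ S) :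
    ConjCSubset {χ, cfConjC χ} S := by
  refine ⟨fun ξ hξ => ?_, fun ξ hξ => ?_⟩ <;> rcases Finset.mem_insert.mp hξ with rfl | hξ
  · exact hχ
  · exact Finset.mem_singleton.mp hξ ▸ h.conj_mem χ hχ
  · simp
  · rw [Finset.mem_singleton.mp hξ]; simp

theorem Subcoherent.cfdot_self_ne_zero (h : Subcoherent L S τ R) (hχ : χ ∈ S) :
    cfdot L χ χ ≠ 0 := by
  rw [Ne, cfdot_self_eq_zero (h.char χ hχ).mem_CF]; exact h.ne_zero hχ

theorem pair_coherent_with (h : Subcoherent L S τ R) (hχ : χ ∈ S) {X : G → ℂ}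
    (hX : X ∈ ZIrr (⊤ : Subgroup G)) (hn : cfnorm ⊤ X = cfnorm L χ)
    (hd : cfdot ⊤ X (τ (χ - cfConjC χ)) = cfdot L χ χ) :
    ∃ τ2, CoherentWith L {χ, cfConjC χ} τ τ2 ∧ τ2 χ = X := by
  have hS := h.conjCSubset_pair hχ
  obtain ⟨h3, h4⟩ := h.sub_conj_mem h.conjCSubset hχ
  obtain ⟨ν, hν⟩ := exists_linear_of_ortho (L := L) (S := {χ, cfConjC χ})
    (fun ξ hξ ζ hζ => h.ortho ξ (hS.1 hξ) ζ (hS.1 hζ))
    (fun ξ hξ => h.cfdot_self_ne_zero (hS.1 hξ))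
    (fun ξ => if ξ = χ then X else X - τ (χ - cfConjC χ))
  have e1 : ν χ = X := by rw [hν χ (by simp), if_pos rfl]
  have e2 : ν (cfConjC χ) = X - τ (χ - cfConjC χ) := by
    rw [hν _ (by simp), if_neg (h.not_real χ hχ)]
  have hXX : cfdot ⊤ X X = cfdot L χ χ := by rw [cfdot_self, cfdot_self, hn]
  have hd' : cfdot ⊤ (τ (χ - cfConjC χ)) X = cfdot L χ χ := by
    rw [← cfdot_conj, hd, cfdot_conj]
  have hDD : cfdot ⊤ (τ (χ - cfConjC χ)) (τ (χ - cfConjC χ)) = 2 * cfdot L χ χ := by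
    rw [cfdot_self, cfdot_self, h.cfnorm_sub_conj hχ]; push_cast; rfl
  refine ⟨ν, ⟨zisom_of_gen (fun ξ hξ => ?_) (fun ξ hξ ζ hζ => ?_), ?_⟩, e1⟩
  · simp only [Finset.mem_insert, Finset.mem_singleton] at hξ
    rcases hξ with rfl | rfl
    · exact e1 ▸ hX
    · exact e2 ▸ Submodule.sub_mem _ hX (h.isom.virt _ h3 h4)
  · simp only [Finset.mem_insert, Finset.mem_singleton] at hξ hζ
    rcases hξ with hξ | hξ <;> rcases hζ with hζ | hζ <;> rw [hξ, hζ]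
    · rw [e1, hXX]
    · rw [e1, e2, cfdot_sub_right, hXX, hd, h.ortho_conj hχ, sub_self]
    · rw [e1, e2, cfdot_sub_left, hXX, hd', cfdot_symm_zero (h.ortho_conj hχ), sub_self]
    · rw [e2, cfdot_sub_left, cfdot_sub_right, cfdot_sub_right, hXX, hd, hd', hDD,
        cfdot_self (φ := cfConjC χ), cfnorm_cfConjC, ← cfdot_self]
      ring
  refine agree_of_pivot (h.one_ne_zero hχ) fun ξ hξ => ?_
  rcases Finset.mem_insert.mp hξ with rfl | hξ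
  · rw [div_self (h.one_ne_zero hχ), one_smul, sub_self, map_zero, map_zero]
  · have h5 : cfConjC χ 1 = χ 1 := (h.char χ hχ).conj_one
    rw [Finset.mem_singleton.mp hξ, h5, div_self (h.one_ne_zero hχ), one_smul, map_sub ν, e1, e2,
      ← neg_sub χ, map_neg]
    abel

theorem Subcoherent.cfdot_tau_sub_conj (h : Subcoherent L S τ R) (hχ : χ ∈ S) {X : G → ℂ}
    (hX : ∀ α ∈ R χ, cfdot ⊤ X α = 0) : cfdot ⊤ X (τ (χ - cfConjC χ)) = 0 := by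
  rw [h.R_sum χ hχ, cfdot_sum_right]
  exact Finset.sum_eq_zero hX

/-- Peterfalvi (5.6.3). -/
theorem extend_coherent_with (h : Subcoherent L S τ R) (hS : ConjCSubset S1 S)
    (hτ1 : CoherentWith L S1 τ τ1) (hφ : φ ∈ S1) (hχ : χ ∈ S) (hχ1 : χ ∉ S1) {a : ℤ}
    (h1 : χ 1 = a * φ 1) {X : G → ℂ} (hX : cfdot ⊤ X ((a : ℂ) • τ1 φ) = 0)
    (he : τ (χ - (a : ℂ) • φ) = X - (a : ℂ) • τ1 φ) :
    Coherent L (insert χ (insert (cfConjC χ) S1)) τ := by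
  have hφ' : (a : ℂ) • φ ∈ zspan S1 := intCast_smul_mem (subset_zspan hφ) a
  have hβ : χ - (a : ℂ) • φ ∈ zspan S :=
    Submodule.sub_mem _ (subset_zspan hχ) (zspan_mono hS.1 hφ')
  have hβ1 : (χ - (a : ℂ) • φ) 1 = 0 := by simp [h1]
  obtain ⟨h3, h4⟩ := h.sub_conj_mem h.conjCSubset hχ
  have o1 : cfdot L ((a : ℂ) • φ) χ = 0 := subset_ortho_subcoherent h hS.1 hχ hχ1 hφ'
  have o2 : cfdot L ((a : ℂ) • φ) (cfConjC χ) = 0 :=
    subset_ortho_subcoherent h hS.1 (h.conj_mem χ hχ) (hS.conj_notMem hχ1) hφ'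
  rw [← map_smul] at hX he
  have hXe : X = τ (χ - (a : ℂ) • φ) + τ1 ((a : ℂ) • φ) := by rw [he, sub_add_cancel]
  obtain ⟨τ2, hτ2, e2⟩ := pair_coherent_with h hχ (X := X)
    (hXe ▸ Submodule.add_mem _ (h.isom.virt _ hβ hβ1) (hτ1.virt _ hφ'))
    (by
      have := h.cfnorm_tau hβ hβ1
      rw [he, cfnorm_sub_of_ortho hX, cfnorm_sub_of_ortho (cfdot_symm_zero o1),
        hτ1.toZIsom.cfnorm hφ'] at this
      linarith)
    (by
      rw [hXe, cfdot_add_left, h.isom.isom _ hβ hβ1 _ h3 h4,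
        h.cfdot_tau_sub_conj hχ (coherent_ortho_supp h hS hτ1 hχ hχ1 hφ'), cfdot_sub_left,
        cfdot_sub_right, cfdot_sub_right, o1, o2, h.ortho_conj hχ]
      ring)
  have := bridge_coherent h (h.conjCSubset_pair hχ) hτ2 hS hτ1
    (by simp [hχ1, hS.conj_notMem hχ1]) (Finset.mem_insert_self _ _) hφ' (by simpa using h1)
    (by rw [he, e2])
  rwa [Finset.insert_union, ← Finset.insert_eq] at this

/-- Peterfalvi (5.6). -/
theorem extend_coherent (h : Subcoherent L S τ R) (hS : ConjCSubset S1 S) (hc : Coherent L S1 τ)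
    {ξ1 : G → ℂ} (hξ1 : ξ1 ∈ S1) (hχ : χ ∈ S) (hχ1 : χ ∉ S1) (hdvd : ∃ a : ℕ, χ 1 = a * ξ1 1)
    (hlt : 2 * (χ 1).re * (ξ1 1).re < ∑ ξ ∈ S1, (ξ 1).re ^ 2 / cfnorm L ξ) :
    Coherent L (insert χ (insert (cfConjC χ) S1)) τ := by
  obtain ⟨τ1, hτ1⟩ := hc
  obtain ⟨a, ha⟩ := hdvd
  have hφ' : (a : ℂ) • ξ1 ∈ zspan S1 := natCast_smul_mem (subset_zspan hξ1) a
  have hβ : χ - (a : ℂ) • ξ1 ∈ zspan S :=
    Submodule.sub_mem _ (subset_zspan hχ) (zspan_mono hS.1 hφ')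
  have hβ1 : (χ - (a : ℂ) • ξ1) 1 = 0 := by simp [ha]
  obtain ⟨h3, h4⟩ := h.sub_conj_mem h.conjCSubset hχ
  have o1 : ∀ φ ∈ zspan S1, cfdot L φ χ = 0 := fun φ => subset_ortho_subcoherent h hS.1 hχ hχ1
  have o2 : cfdot L ((a : ℂ) • ξ1) (cfConjC χ) = 0 :=
    subset_ortho_subcoherent h hS.1 (h.conj_mem χ hχ) (hS.conj_notMem hχ1) hφ'
  obtain ⟨X, hX, Y, hY, he, hYR, hXY⟩ := subcoherent_split h hχ (h.isom.virt _ hβ hβ1)
  have hXo : ∀ φ ∈ zspan S1, cfdot ⊤ (τ1 φ) X = 0 := fun φ hφ =>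
    cfdot_zspan_right (coherent_ortho_supp h hS hτ1 hχ hχ1 hφ) hX
  have hnorm : cfnorm ⊤ (X - Y) = cfnorm L χ + cfnorm L ((a : ℂ) • ξ1) := by
    rw [← he, h.cfnorm_tau hβ hβ1, cfnorm_sub_of_ortho (cfdot_symm_zero (o1 _ hφ'))]
  have hXn := (subcoherent_norm' h hχ (he ▸ h.isom.virt _ hβ hβ1) hnorm (by
    rw [← he, h.isom.isom _ hβ hβ1 _ h3 h4, cfdot_sub_left, cfdot_sub_right, cfdot_sub_right,
      o1 _ hφ', o2, h.ortho_conj hχ]; ring) hXY hYR).1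
  rw [cfnorm_sub_of_ortho hXY] at hnorm
  set V := τ1 ((a : ℂ) • ξ1) - Y with hV
  have hVZ : V ∈ ZIrr (⊤ : Subgroup G) := Submodule.sub_mem _ (hτ1.virt _ hφ') hY
  obtain ⟨lam, hlam⟩ := ZIrr_cfdot_int hVZ (hτ1.virt _ (subset_zspan hξ1))
  obtain ⟨d, hd⟩ := (h.char ξ1 (hS.1 hξ1)).exists_nat_one
  have hd0 : (d : ℂ) ≠ 0 := hd ▸ h.one_ne_zero (hS.1 hξ1)
  have hdpos : (0 : ℝ) < d := by
    have : d ≠ 0 := by exact_mod_cast hd0
    positivity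
  have key : ∀ ξ ∈ S1, cfdot ⊤ V (τ1 ξ) = lam * ξ 1 / d := by
    intro ξ hξ
    obtain ⟨m, hm⟩ := (h.char ξ (hS.1 hξ)).exists_nat_one
    have hγ : (d : ℂ) • ξ - (m : ℂ) • ξ1 ∈ zspan S1 :=
      Submodule.sub_mem _ (natCast_smul_mem (subset_zspan hξ) d)
        (natCast_smul_mem (subset_zspan hξ1) m)
    have hγ1 : ((d : ℂ) • ξ - (m : ℂ) • ξ1) 1 = 0 := by simp [hm, hd, mul_comm]
    have h0 : cfdot ⊤ V (τ1 ((d : ℂ) • ξ - (m : ℂ) • ξ1)) = 0 := by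
      have e : V = τ1 ((a : ℂ) • ξ1) + τ (χ - (a : ℂ) • ξ1) - X := by rw [he, hV]; abel
      rw [e, cfdot_sub_left, cfdot_add_left, cfdot_symm_zero (hXo _ hγ), hτ1.isom _ hφ' _ hγ,
        hτ1.agree _ hγ hγ1, h.isom.isom _ hβ hβ1 _ (zspan_mono hS.1 hγ) hγ1, cfdot_sub_left,
        cfdot_symm_zero (o1 _ hγ)]
      ring
    rw [map_sub, map_smul, map_smul, cfdot_sub_right, cfdot_natCast_smul_right,
      cfdot_natCast_smul_right, hlam] at h0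
    rw [hm]; field_simp; linear_combination h0
  set Sg := ∑ ξ ∈ S1, (ξ 1).re ^ 2 / cfnorm L ξ with hSg
  set P := ∑ ξ ∈ S1, (((ξ 1).re / cfnorm L ξ : ℝ) : ℂ) • τ1 ξ with hP
  have hPn : cfnorm ⊤ P = Sg := by
    rw [hP, cfnorm_sum_of_ortho]
    · refine Finset.sum_congr rfl fun ξ hξ => ?_
      have := (h.cfnorm_pos (hS.1 hξ)).ne'
      rw [cfnorm_smul, hτ1.toZIsom.cfnorm (subset_zspan hξ), Complex.norm_real, Real.norm_eq_abs,
        sq_abs]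
      field_simp
    · intro ξ hξ ζ hζ hne
      rw [cfdot_smul_left, cfdot_smul_right, hτ1.isom _ (subset_zspan hξ) _ (subset_zspan hζ),
        h.ortho ξ (hS.1 hξ) ζ (hS.1 hζ) hne, mul_zero, mul_zero]
  have hVP : cfdot ⊤ V P = ((lam * Sg / d : ℝ) : ℂ) := by
    rw [hP, cfdot_sum_right, hSg, Finset.mul_sum, Finset.sum_div]
    push_cast
    refine Finset.sum_congr rfl fun ξ hξ => ?_
    rw [cfdot_smul_right, key ξ hξ, ← Complex.ofReal_div, Complex.conj_ofReal,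
      Complex.ofReal_div, ← (h.char ξ (hS.1 hξ)).one_eq_re]
    ring
  have hCS := norm_cfdot_sq_le (L := ⊤) (φ := V) (ψ := P)
  rw [hVP, hPn, Complex.norm_real, Real.norm_eq_abs, sq_abs] at hCS
  have hYn : cfnorm ⊤ Y = cfnorm L ((a : ℂ) • ξ1) + cfnorm ⊤ V - 2 * (a * lam) := by
    have e : Y = τ1 ((a : ℂ) • ξ1) - V := by rw [hV]; abel
    rw [e, cfnorm_sub, hτ1.toZIsom.cfnorm hφ', map_smul, cfdot_smul_left,
      ← ZIrr_cfdot_comm hVZ (hτ1.virt _ (subset_zspan hξ1)), hlam]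
    simp
  have hVle : cfnorm ⊤ V ≤ 2 * (a * lam) := by linarith
  rw [ha, hd] at hlt
  simp only [Complex.mul_re, Complex.natCast_re, Complex.natCast_im, mul_zero, sub_zero] at hlt
  have hV0 : (0 : ℝ) ≤ cfnorm ⊤ V := cfnorm_nonneg
  have hSpos : 0 < Sg := lt_of_le_of_lt (by positivity) hlt
  have hlam0 : lam = 0 := by
    by_contra hne
    have h5 : (lam : ℝ) ^ 2 * Sg ≤ cfnorm ⊤ V * d ^ 2 := by
      rw [div_pow, div_le_iff₀ (by positivity)] at hCS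
      have : ((lam : ℝ) ^ 2 * Sg) * Sg ≤ (cfnorm ⊤ V * d ^ 2) * Sg := by nlinarith
      exact le_of_mul_le_mul_right this hSpos
    have h6 : (lam : ℝ) ^ 2 * Sg ≤ 2 * (a * lam) * d ^ 2 :=
      h5.trans (mul_le_mul_of_nonneg_right hVle (by positivity))
    rcases lt_or_gt_of_ne hne with hneg | hpos
    · have h7 : (lam : ℝ) < 0 := by exact_mod_cast hneg
      have h8 : 0 < (lam : ℝ) ^ 2 * Sg := mul_pos (by nlinarith) hSpos
      have h9 : (a : ℝ) * lam ≤ 0 := mul_nonpos_of_nonneg_of_nonpos (by positivity) h7.le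
      nlinarith [sq_nonneg (d : ℝ)]
    · have h7 : (1 : ℝ) ≤ lam := by exact_mod_cast hpos
      have h8 : (lam : ℝ) * Sg ≤ 2 * a * d ^ 2 := by
        have : (lam : ℝ) * (lam * Sg) ≤ lam * (2 * a * d ^ 2) := by nlinarith
        exact le_of_mul_le_mul_left this (by linarith)
      nlinarith
  have hVz : V = 0 := eq_zero_of_cfnorm_top (by
    rw [hlam0] at hVle; simp at hVle; linarith)
  have hYe : Y = ((a : ℤ) : ℂ) • τ1 ξ1 := by
    rw [Int.cast_natCast, ← map_smul]; exact (sub_eq_zero.mp hVz).symm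
  exact extend_coherent_with h hS hτ1 hξ1 hχ hχ1 (a := a) (by simpa using ha) (X := X)
    (hYe ▸ hXY) (by rw [← hYe, ← he, Int.cast_natCast])

theorem pivot_coherence (h : Subcoherent L S τ R) {η1 ζ1 : G → ℂ} (hη : η1 ∈ S)
    (hζ : ζ1 ∈ ZIrr (⊤ : Subgroup G))
    (hp : ∀ η ∈ S, η ≠ η1 → ∃ a : ℕ, η 1 = a * η1 1 ∧
      cfdot ⊤ (τ (η - (a : ℂ) • η1)) ζ1 = -a * cfdot L η1 η1)
    (hn : cfnorm ⊤ ζ1 = cfnorm L η1) : Coherent L S τ := by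
  have h0 := h.one_ne_zero hη
  let τ1 : CFMap G := τ ∘ₗ pivotMap η1 +
    (LinearMap.proj (R := ℂ) (φ := fun _ : G => ℂ) 1).smulRight ((η1 1)⁻¹ • ζ1)
  have e : ∀ φ, τ1 φ = τ (φ - (φ 1 / η1 1) • η1) + (φ 1 / η1 1) • ζ1 := fun φ => by
    simp [τ1, pivotMap_apply, smul_smul, div_eq_mul_inv]
  have hp' : ∀ η ∈ S, ∃ a : ℕ, η - (a : ℂ) • η1 ∈ zspan S ∧ (η - (a : ℂ) • η1) 1 = 0 ∧
      τ1 η = τ (η - (a : ℂ) • η1) + (a : ℂ) • ζ1 ∧
      cfdot ⊤ (τ (η - (a : ℂ) • η1)) ζ1 = cfdot L (η - (a : ℂ) • η1) η1 := by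
    intro η hη'
    by_cases he : η = η1
    · refine ⟨1, by simp [he], by simp [he], ?_, by simp [he]⟩
      rw [e, he, div_self h0, Nat.cast_one]
    · obtain ⟨a, h1, h2⟩ := hp η hη' he
      refine ⟨a, Submodule.sub_mem _ (subset_zspan hη') (natCast_smul_mem (subset_zspan hη) a),
        by simp [h1], by rw [e, h1, mul_div_cancel_right₀ _ h0], ?_⟩
      rw [h2, cfdot_sub_left, h.ortho η hη' η1 hη he, cfdot_smul_left]; ring
  refine ⟨τ1, zisom_of_gen (fun η hη' => ?_) (fun η hη' η' hη'' => ?_), fun φ _ h1 => ?_⟩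
  · obtain ⟨a, h1, h2, h3, -⟩ := hp' η hη'
    exact h3 ▸ Submodule.add_mem _ (h.isom.virt _ h1 h2) (natCast_smul_mem hζ a)
  · obtain ⟨a, h1, h2, h3, h4⟩ := hp' η hη'
    obtain ⟨a', h1', h2', h3', h4'⟩ := hp' η' hη''
    have h5 : cfdot ⊤ ζ1 (τ (η' - (a' : ℂ) • η1)) = cfdot L η1 (η' - (a' : ℂ) • η1) := by
      rw [← cfdot_conj, h4', cfdot_conj]
    have h6 : cfdot ⊤ ζ1 ζ1 = cfdot L η1 η1 := by rw [cfdot_self, cfdot_self, hn]
    rw [h3, h3', cfdot_add_left, cfdot_add_right, cfdot_add_right, h.isom.isom _ h1 h2 _ h1' h2',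
      cfdot_natCast_smul_right, cfdot_smul_left, cfdot_smul_left, cfdot_natCast_smul_right, h4, h5,
      h6]
    simp only [cfdot_sub_left, cfdot_sub_right, cfdot_smul_left, cfdot_natCast_smul_right]
    ring
  · rw [e, h1]; simp

theorem Subcoherent.sub_mem (h : Subcoherent L S τ R) (hχ : χ ∈ S) (hξ : ξ ∈ S) (h1 : χ 1 = ξ 1) :
    χ - ξ ∈ zspan S ∧ (χ - ξ) 1 = 0 :=
  ⟨Submodule.sub_mem _ (subset_zspan hχ) (subset_zspan hξ), by simp [h1]⟩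

theorem Subcoherent.R_ortho' (h : Subcoherent L S τ R) (hχ : χ ∈ S) (hξ : ξ ∈ S) (h1 : ξ ≠ χ)
    (h2 : ξ ≠ cfConjC χ) {X Y : G → ℂ} (hX : X ∈ zspan (R ξ)) (hY : Y ∈ zspan (R χ)) :
    cfdot ⊤ X Y = 0 :=
  cfdot_zspan_zspan (h.R_ortho χ hχ ξ hξ (h.ortho ξ hξ χ hχ h1)
    (h.ortho ξ hξ _ (h.conj_mem χ hχ) h2)) hX hY

theorem Subcoherent.tau_sub_conj_mem (h : Subcoherent L S τ R) (hχ : χ ∈ S) :
    τ (χ - cfConjC χ) ∈ zspan (R χ) :=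
  h.R_sum χ hχ ▸ Submodule.sum_mem _ fun _ hα => subset_zspan hα

theorem ne_conj_comm (h : ξ ≠ cfConjC χ) : χ ≠ cfConjC ξ := fun he => h (by rw [he]; simp)

theorem uniform_aux (h : Subcoherent L S τ R) (hχ : χ ∈ S) (hξ : ξ ∈ S) (h1 : ξ ≠ χ)
    (h2 : ξ ≠ cfConjC χ) (hd : χ 1 = ξ 1) :
    ∃ X ∈ zspan (R χ), ∃ X1 ∈ zspan (R ξ), τ (χ - ξ) = X - X1 ∧ cfnorm ⊤ X = cfnorm L χ ∧
      cfdot ⊤ X (τ (χ - cfConjC χ)) = cfdot L χ χ := by
  obtain ⟨m1, m2⟩ := h.sub_mem hχ hξ hd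
  obtain ⟨m3, m4⟩ := h.sub_conj_mem h.conjCSubset hχ
  obtain ⟨m5, m6⟩ := h.sub_conj_mem h.conjCSubset hξ
  have hD := h.isom.virt _ m1 m2
  obtain ⟨X, hX, Y1, hY1, e1, o1, o1'⟩ := subcoherent_split h hχ hD
  obtain ⟨X1, hX1, Y, hY, e2, o2, o2'⟩ := subcoherent_split h hξ hY1
  have oξχ := h.ortho ξ hξ χ hχ h1
  have oξχ' := h.ortho ξ hξ _ (h.conj_mem χ hχ) h2
  have oχξ' := h.ortho χ hχ _ (h.conj_mem ξ hξ) (ne_conj_comm h2)
  have hXX1 : cfdot ⊤ X1 X = 0 := h.R_ortho' hχ hξ h1 h2 hX1 hX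
  have hn : cfnorm ⊤ (τ (χ - ξ)) = cfnorm L χ + cfnorm L ξ := by
    rw [h.cfnorm_tau m1 m2, cfnorm_sub_of_ortho (cfdot_symm_zero oξχ)]
  have hd1 : cfdot ⊤ (X - Y1) (τ (χ - cfConjC χ)) = cfdot L χ χ := by
    rw [← e1, h.isom.isom _ m1 m2 _ m3 m4, cfdot_sub_left, cfdot_sub_right, cfdot_sub_right,
      oξχ, oξχ', h.ortho_conj hχ]; ring
  have k1 := (subcoherent_norm' h hχ (e1 ▸ hD) (e1 ▸ hn) hd1 o1' o1).1
  have e3 : X1 - (X + Y) = -τ (χ - ξ) := by rw [e1, e2]; abel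
  have k2 := (subcoherent_norm' (X := X1) (Y := X + Y) (n := cfnorm L χ) h hξ
    (e3 ▸ Submodule.neg_mem _ hD) (by rw [e3, cfnorm_neg, hn, add_comm])
    (by
      rw [e3, cfdot_neg_left, h.isom.isom _ m1 m2 _ m5 m6, cfdot_sub_left, cfdot_sub_right,
        cfdot_sub_right, cfdot_symm_zero oξχ, oχξ', h.ortho_conj hξ]; ring)
    (by rw [cfdot_add_right, hXX1, o2', add_zero])
    (fun α hα => by
      rw [cfdot_add_left, o2 α hα, add_zero]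
      exact cfdot_symm_zero (h.R_ortho' hχ hξ h1 h2 (subset_zspan hα) hX))).1
  rw [e1, cfnorm_sub_of_ortho o1', e2, cfnorm_sub_of_ortho o2'] at hn
  have hY0 : (0 : ℝ) ≤ cfnorm ⊤ Y := cfnorm_nonneg
  have hYz : Y = 0 := eq_zero_of_cfnorm_top (by linarith)
  refine ⟨X, hX, X1, hX1, by rw [e1, e2, hYz, sub_zero], by linarith, ?_⟩
  rw [← hd1, cfdot_sub_left, h.cfdot_tau_sub_conj hχ o1, sub_zero]

/-- Peterfalvi (5.7). -/
theorem uniform_degree_coherence (h : Subcoherent L S τ R) (hd : ∀ χ ∈ S, ∀ φ ∈ S, χ 1 = φ 1) :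
    Coherent L S τ := by
  rcases S.eq_empty_or_nonempty with rfl | ⟨χ, hχ⟩
  · exact nil_coherent
  suffices hX : ∃ X ∈ ZIrr (⊤ : Subgroup G), cfnorm ⊤ X = cfnorm L χ ∧
      ∀ η ∈ S, η ≠ χ → cfdot ⊤ X (τ (χ - η)) = cfdot L χ χ by
    obtain ⟨X, hX, hn, hd'⟩ := hX
    refine pivot_coherence h hχ hX (fun η hη hne => ⟨1, by simpa using hd η hη χ hχ, ?_⟩) hn
    rw [Nat.cast_one, one_smul, ← neg_sub, map_neg, cfdot_neg_left, ← cfdot_conj, hd' η hη hne,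
      cfdot_conj, neg_one_mul]
  by_cases hex : ∃ ξ ∈ S, ξ ≠ χ ∧ ξ ≠ cfConjC χ
  · obtain ⟨ξ, hξ, h1, h2⟩ := hex
    obtain ⟨X, hX, X1, hX1, e1, hn, hd1⟩ := uniform_aux h hχ hξ h1 h2 (hd χ hχ ξ hξ)
    have hXX : cfdot ⊤ X X = cfdot L χ χ := by rw [cfdot_self, cfdot_self, hn]
    have k1 : cfdot ⊤ X (τ (χ - ξ)) = cfdot L χ χ := by
      rw [e1, cfdot_sub_right, cfdot_symm_zero (h.R_ortho' hχ hξ h1 h2 hX1 hX), sub_zero, hXX]
    refine ⟨X, zspan_le_ZIrr (h.R_virt χ hχ) hX, hn, fun η hη hne => ?_⟩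
    by_cases c1 : η = cfConjC χ
    · rw [c1, hd1]
    by_cases c2 : η = ξ
    · rw [c2, k1]
    by_cases c3 : η = cfConjC ξ
    · have : χ - η = (χ - ξ) + (ξ - cfConjC ξ) := by rw [c3]; abel
      rw [this, map_add, cfdot_add_right, k1,
        cfdot_symm_zero (h.R_ortho' hχ hξ h1 h2 (h.tau_sub_conj_mem hξ) hX), add_zero]
    obtain ⟨X', hX', X1', hX1', e1', -, -⟩ := uniform_aux h hχ hη hne c1 (hd χ hχ η hη)
    obtain ⟨m1, m2⟩ := h.sub_mem hχ hξ (hd χ hχ ξ hξ)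
    obtain ⟨m3, m4⟩ := h.sub_mem hχ hη (hd χ hχ η hη)
    have k2 := h.isom.isom _ m1 m2 _ m3 m4
    rw [e1, cfdot_sub_left (φ := X), cfdot_sub_left, cfdot_sub_right (ψ := χ),
      cfdot_sub_right (ψ := χ), h.ortho χ hχ η hη hne.symm, h.ortho ξ hξ χ hχ h1,
      h.ortho ξ hξ η hη (Ne.symm c2)] at k2
    have k3 : cfdot ⊤ X1 (τ (χ - η)) = 0 := by
      rw [e1', cfdot_sub_right, h.R_ortho' hχ hξ h1 h2 hX1 hX',
        cfdot_symm_zero (h.R_ortho' hξ hη c2 c3 hX1' hX1), sub_zero]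
    rw [k3] at k2
    linear_combination k2
  · push Not at hex
    obtain ⟨N, hN⟩ := ZIrr_cfnorm_nat (h.vchar hχ)
    have hc : (R χ).card = 2 * N := by
      have := h.card_R hχ
      rw [hN] at this
      exact_mod_cast this
    obtain ⟨E, hE, hEc⟩ := Finset.exists_subset_card_eq (s := R χ) (n := N) (by omega)
    have ho := h.R_orthonormal χ hχ
    refine ⟨∑ α ∈ E, α, Submodule.sum_mem _ fun α hα => h.R_virt χ hχ α (hE hα),
      by rw [(ho.mono hE).cfnorm_sum, hEc, hN], fun η hη hne => ?_⟩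
    rw [hex η hη hne, h.R_sum χ hχ, cfdot_sum_right, cfdot_self, hN,
      Finset.sum_congr rfl fun β hβ => ho.cfdot_sum_subset hE hβ, Finset.sum_ite_mem,
      Finset.inter_eq_right.mpr hE]
    simp [hEc]

theorem pair_degree_coherence (h : Subcoherent L S τ R) {φ1 φ2 : G → ℂ} (h1 : φ1 ∈ S)
    (h2 : φ2 ∈ S) (he : φ1 1 = φ2 1) :
    ∃ S1, φ1 ∈ S1 ∧ φ2 ∈ S1 ∧ ConjCSubset S1 S ∧ Coherent L S1 τ := by
  have hS : ConjCSubset ({φ1, cfConjC φ1} ∪ {φ2, cfConjC φ2}) S :=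
    ⟨Finset.union_subset (h.conjCSubset_pair h1).1 (h.conjCSubset_pair h2).1, fun ξ hξ => by
      rcases Finset.mem_union.mp hξ with hξ | hξ
      · exact Finset.mem_union_left _ ((h.conjCSubset_pair h1).2 ξ hξ)
      · exact Finset.mem_union_right _ ((h.conjCSubset_pair h2).2 ξ hξ)⟩
  refine ⟨_, by simp, by simp, hS, uniform_degree_coherence (subset_subcoherent h hS) ?_⟩
  have k1 : cfConjC φ1 1 = φ1 1 := (h.char φ1 h1).conj_one
  have k2 : cfConjC φ2 1 = φ2 1 := (h.char φ2 h2).conj_one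
  have : ∀ ξ ∈ ({φ1, cfConjC φ1} ∪ {φ2, cfConjC φ2} : Finset (G → ℂ)), ξ 1 = φ1 1 := by
    intro ξ hξ
    simp only [Finset.mem_union, Finset.mem_insert, Finset.mem_singleton] at hξ
    rcases hξ with (rfl | rfl) | rfl | rfl
    · rfl
    · exact k1
    · exact he.symm
    · exact k2.trans he.symm
  exact fun χ hχ φ hφ => (this χ hχ).trans (this φ hφ).symm

/-- Irreducible members of a coherent set are mapped orthogonally to the `η_ij`. -/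
theorem prDade_coherent_ortho_cycEta {A A0 : Set G} {RD : G → Subgroup G} {W W1 W2 : Subgroup G}
    (h : PrimeDade L K H A A0 RD W W1 W2) (hS : ConjCSubset S (seqIndD K L H ⊥))
    (hr : ∀ χ ∈ S, cfConjC χ ≠ χ) (hτ1 : CoherentWith L S (Dade A0 RD) τ1) (hχ : χ ∈ S)
    (hirr : IsIrr L χ) (i : Irr W1) (j : Irr W2) :
    cfdot ⊤ (τ1 χ) (cycEta ⊤ W W1 W2 i j) = 0 := by
  obtain ⟨R, hR, ho, -⟩ := prDade_subcoherent h hS hr
  obtain ⟨E, hE, he⟩ := mem_coherent_sum_subseq hR hR.conjCSubset hτ1 hχ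
  rw [he, cfdot_sum_left]
  exact Finset.sum_eq_zero fun α hα => ho χ hχ hirr α (hE hα) i j

/-- Peterfalvi (5.8). -/
theorem coherent_prDade_TIred {A A0 : Set G} {RD : G → Subgroup G} {W W1 W2 : Subgroup G}
    (h : PrimeDade L K H A A0 RD W W1 W2) (hS : ConjCSubset S (seqIndD K L H ⊥))
    (hr : ∀ χ ∈ S, cfConjC χ ≠ χ) (hirr : ∃ χ ∈ S, IsIrr L χ) {k : Irr W2}
    (hk : prTIred L W W1 W2 k ∈ S) (hτ1 : CoherentWith L S (Dade A0 RD) τ1) :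
    τ1 (prTIred L W W1 W2 k) = (prTIsign L W W1 W2 k : ℂ) • ∑ i, cycEta ⊤ W W1 W2 i k ∨
      (τ1 (prTIred L W W1 W2 k) =
          -((prTIsign L W W1 W2 k : ℂ) • ∑ i, cycEta ⊤ W W1 W2 i k.conj) ∧
        ∀ l, prTIred L W W1 W2 l ∈ S → prTIred L W W1 W2 l 1 = prTIred L W W1 W2 k 1 →
          l = k ∨ l = k.conj) := by
  obtain ⟨R, hR, -, hRmu⟩ := prDade_subcoherent h hS hr
  obtain ⟨ζ, hζ, hζirr⟩ := hirr
  have hn := h.prTI.normal
  have hc := h.cycTI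
  have hk1 : k ≠ 1 := h.ne_one_of_mem (hS.1 hk)
  have hk2 : k.conj ≠ 1 := fun h1 => hk1 ((Irr.aut_eq_one _).mp h1)
  have hkk : k.conj ≠ k := fun h4 => hk1 ((Irr.conj_eq_self hc.odd_W2 k).mp h4)
  obtain ⟨E, hE, he⟩ := mem_coherent_sum_subseq hR hR.conjCSubset hτ1 hk
  rw [hRmu] at hE
  have hon := hc.prTIRmu_orthonormal (L := L) hkk
  set φ := τ1 (prTIred L W W1 W2 k) with hφ
  set δ : ℂ := ((prTIsign L W W1 W2 k : ℤ) : ℂ) with hδ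
  have hφZ : φ ∈ ZIrr (⊤ : Subgroup G) := hτ1.virt _ (subset_zspan hk)
  have hv : ∀ x ∈ cycTIset W W1 W2, φ x = 0 := by
    intro x hx
    have k1 := hτ1.agree_pivot (subset_zspan hk) (subset_zspan hζ) (hR.vchar hk) (hR.vchar hζ)
      (hR.one_ne_zero hζ)
    have k2 := h.Dade_vanish (Submodule.sub_mem _ (seqInd_on hn (hS.1 hk))
      (Submodule.smul_mem _ (prTIred L W W1 W2 k 1 / ζ 1) (seqInd_on hn (hS.1 hζ)))) x hx
    have k3 := hc.ortho_cycTIiso_vanish (ZIrr_mem_CF (hτ1.virt _ (subset_zspan hζ)))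
      (prDade_coherent_ortho_cycEta h hS hr hτ1 hζ hζirr) x hx
    rw [← k1, map_sub, map_smul, Pi.sub_apply, Pi.smul_apply, k3, smul_zero, sub_zero] at k2
    exact k2
  have h0 : ∀ i, cfdot ⊤ φ (cycEta ⊤ W W1 W2 i 1) = 0 := fun i => by
    rw [he, cfdot_sum_left]
    refine Finset.sum_eq_zero fun α hα => cfdot_symm_zero (prTIRmu_ortho (fun i' => ?_)
      (fun i' => ?_) α (hE hα))
    · rw [hc.cfdot_cycEta, if_neg fun h => hk1 h.2.symm]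
    · rw [hc.cfdot_cycEta, if_neg fun h => hk2 h.2.symm]
  have hcol : ∀ i j, cfdot ⊤ φ (cycEta ⊤ W W1 W2 i j) = cfdot ⊤ φ (cycEta ⊤ W W1 W2 1 j) :=
    fun i j => by
      have := hc.cycTIiso_cfdot_exchange (ZIrr_mem_CF hφZ) hv i 1 j 1
      rwa [h0, h0, add_zero, zero_add] at this
  have hmem : ∀ α ∈ prTIRmu L W W1 W2 k, (α ∈ E ↔ cfdot ⊤ φ α ≠ 0) := fun α hα => by
    rw [he, hon.cfdot_sum_subset hE hα]
    split_ifs with h1 <;> simp [h1]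
  have hA : ∀ i, δ • cycEta ⊤ W W1 W2 i k ∈ E ↔ δ • cycEta ⊤ W W1 W2 1 k ∈ E := fun i => by
    rw [hmem _ (mem_prTIRmu.mpr ⟨i, Or.inl rfl⟩), hmem _ (mem_prTIRmu.mpr ⟨1, Or.inl rfl⟩),
      cfdot_smul_right, cfdot_smul_right, hcol]
  have hB : ∀ i, -(δ • cycEta ⊤ W W1 W2 i k.conj) ∈ E ↔
      -(δ • cycEta ⊤ W W1 W2 1 k.conj) ∈ E := fun i => by
    rw [hmem _ (mem_prTIRmu.mpr ⟨i, Or.inr rfl⟩), hmem _ (mem_prTIRmu.mpr ⟨1, Or.inr rfl⟩),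
      cfdot_neg_right, cfdot_neg_right, cfdot_smul_right, cfdot_smul_right, hcol]
  have hcard : E.card = Fintype.card (Irr W1) := by
    have := (hon.mono hE).cfnorm_sum
    rw [← he, hτ1.toZIsom.cfnorm (subset_zspan hk), h.prTI.cfnorm_prTIred] at this
    rw [hc.card_irr_W1]
    exact_mod_cast this.symm
  have hinj2 : Function.Injective fun i => -(δ • cycEta ⊤ W W1 W2 i k.conj) :=
    fun _ _ he => hc.sign_cycEta_injective k k.conj (neg_injective he)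
  by_cases hc1 : δ • cycEta ⊤ W W1 W2 1 k ∈ E
  · left
    have : Finset.univ.image (fun i => δ • cycEta ⊤ W W1 W2 i k) = E :=
      Finset.eq_of_subset_of_card_le (fun α hα => by
        obtain ⟨i, -, rfl⟩ := Finset.mem_image.mp hα
        exact (hA i).mpr hc1) (by
        rw [Finset.card_image_of_injective _ (hc.sign_cycEta_injective k k), hcard]; rfl)
    rw [he, ← this, Finset.sum_image (hc.sign_cycEta_injective k k).injOn, Finset.smul_sum]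
  right
  have hφe : φ = -(δ • ∑ i, cycEta ⊤ W W1 W2 i k.conj) := by
    have : E = Finset.univ.image (fun i => -(δ • cycEta ⊤ W W1 W2 i k.conj)) :=
      Finset.eq_of_subset_of_card_le (fun α hα => by
        obtain ⟨i, rfl | rfl⟩ := mem_prTIRmu.mp (hE hα)
        · exact absurd ((hA i).mp hα) hc1
        · exact Finset.mem_image.mpr ⟨i, Finset.mem_univ _, rfl⟩) (by
        rw [Finset.card_image_of_injective _ hinj2, hcard]; rfl)
    rw [he, this, Finset.sum_image hinj2.injOn, Finset.smul_sum, Finset.sum_neg_distrib]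
  refine ⟨hφe, fun l hl hl1 => ?_⟩
  by_contra hne
  push Not at hne
  obtain ⟨m1, m2⟩ := hR.sub_mem hk hl hl1.symm
  have k1 := hτ1.agree _ m1 m2
  rw [h.prDade_sub_TIred hk1 (h.ne_one_of_mem (hS.1 hl)) hl1.symm] at k1
  have k2 := hτ1.isom _ m1 _ (subset_zspan hk)
  rw [k1, ← hφ, hφe, cfdot_sub_left, h.prTI.cfdot_prTIred, h.prTI.cfdot_prTIred, if_pos rfl,
    if_neg hne.1, sub_zero] at k2
  refine card_ne_zero W1 (k2.symm.trans ?_)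
  have k3 : ∀ j, j ≠ k.conj →
      cfdot ⊤ (∑ i, cycEta ⊤ W W1 W2 i j) (∑ i, cycEta ⊤ W W1 W2 i k.conj) = 0 := fun j hj => by
    rw [cfdot_sum_left]
    refine Finset.sum_eq_zero fun i _ => ?_
    rw [cfdot_sum_right]
    exact Finset.sum_eq_zero fun i' _ => by rw [hc.cfdot_cycEta, if_neg fun h => hj h.2]
  rw [cfdot_neg_right, cfdot_smul_left, cfdot_smul_right, cfdot_sub_left, k3 k hkk.symm,
    k3 l hne.2]
  simp

/-- Peterfalvi (5.9)(a), for any `τ` commuting with `u` and killing the value at `1`. -/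
theorem cfAut_coherent (hτ1 : CoherentWith L S τ τ1) (u : ℂ →+* ℂ)
    (hu : ∀ φ ∈ zspan S, φ 1 = 0 → τ (cfAut u φ) = cfAut u (τ φ))
    (h1 : ∀ φ ∈ zspan S, φ 1 = 0 → τ φ 1 = 0) (hS : ∀ φ ∈ S, cfAut u φ ∈ S) (hχ : χ ∈ S)
    (hirr : IsIrr L χ) (hψ : ψ ∈ S) (hirr' : IsIrr L ψ) (hne : ψ ≠ χ) :
    cfAut u (τ1 χ) = τ1 (cfAut u χ) := by
  have dirr : ∀ φ ∈ S, IsIrr L φ → IsDirr ⊤ (τ1 φ) := fun φ hφ h =>
    hτ1.toZIsom.dirr (subset_zspan hφ) h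
  have one : ∀ φ ∈ zspan S, φ 1 = 0 → τ1 φ 1 = 0 := fun φ hφ h => by
    rw [hτ1.agree φ hφ h, h1 φ hφ h]
  have one' : ∀ φ ∈ S, IsIrr L φ → τ1 (cfAut u φ) 1 = cfAut u (τ1 φ) 1 := fun φ hφ h => by
    have := one (cfAut u φ - φ) (Submodule.sub_mem _ (subset_zspan (hS φ hφ)) (subset_zspan hφ))
      (by simp [h.isChar.cfAut_one])
    rw [map_sub, Pi.sub_apply, sub_eq_zero] at this
    rw [this, ZIrr_cfAut_one (dirr φ hφ h).mem_ZIrr]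
  obtain ⟨a, ha0, ha⟩ := hirr.exists_nat_one
  obtain ⟨b, hb0, hb⟩ := hirr'.exists_nat_one
  have m1 : (b : ℂ) • χ - (a : ℂ) • ψ ∈ zspan S :=
    Submodule.sub_mem _ (natCast_smul_mem (subset_zspan hχ) b)
      (natCast_smul_mem (subset_zspan hψ) a)
  have m2 : ((b : ℂ) • χ - (a : ℂ) • ψ) 1 = 0 := by simp [ha, hb, mul_comm]
  have m3 := cfAut_mem_zspan u hS m1
  have m4 : cfAut u ((b : ℂ) • χ - (a : ℂ) • ψ) 1 = 0 := by rw [cfAut_apply, m2, map_zero]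
  have key := hu _ m1 m2
  have key1 := one _ m3 m4
  rw [← hτ1.agree _ m3 m4, ← hτ1.agree _ m1 m2] at key
  simp only [cfAut_sub, cfAut_smul, map_sub, map_smul, map_natCast] at key key1
  have hx := dirr _ (hS χ hχ) (hirr.cfAut u)
  have hx' := (dirr χ hχ hirr).cfAut u
  have hy' := (dirr ψ hψ hirr').cfAut u
  have oxy : cfdot ⊤ (τ1 (cfAut u ψ)) (τ1 (cfAut u χ)) = 0 := by
    rw [hτ1.isom _ (subset_zspan (hS ψ hψ)) _ (subset_zspan (hS χ hχ))]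
    exact (hirr'.cfAut u).cfdot_ne (hirr.cfAut u) fun h => hne (cfAut_injective u h)
  have k := congrArg (fun φ => cfdot ⊤ φ (τ1 (cfAut u χ))) key
  simp only [cfdot_sub_left, cfdot_smul_left, hx.cfdot_self, oxy] at k
  by_contra hc
  have hab : (0 : ℝ) < a := by exact_mod_cast ha0
  have hbb : (0 : ℝ) < b := by exact_mod_cast hb0
  have hyx : cfAut u (τ1 ψ) = -τ1 (cfAut u χ) := by
    rcases hy'.cfdot_cases hx with ⟨-, k2⟩ | ⟨k2, -⟩ | ⟨-, -, k2⟩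
    · exfalso
      rcases hx'.cfdot_cases hx with ⟨k3, -⟩ | ⟨-, k3⟩ | ⟨-, -, k3⟩
      · exact hc k3
      all_goals
        rw [k2, k3] at k
        have := congrArg Complex.re k
        simp at this
        linarith
    · exact k2
    · exfalso
      rcases hx'.cfdot_cases hx with ⟨k3, -⟩ | ⟨-, k3⟩ | ⟨-, -, k3⟩
      · exact hc k3
      all_goals
        rw [k2, k3] at k
        have := congrArg Complex.re k
        simp at this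
        linarith
  rw [Pi.sub_apply, Pi.smul_apply, Pi.smul_apply, one' ψ hψ hirr', hyx, Pi.neg_apply,
    smul_eq_mul, smul_eq_mul] at key1
  have : ((a + b : ℕ) : ℂ) * τ1 (cfAut u χ) 1 = 0 := by push_cast; linear_combination key1
  rcases mul_eq_zero.mp this with h | h
  · exact absurd (Nat.cast_eq_zero.mp h) (by omega)
  · exact hx.one_ne_zero h

/-- Peterfalvi (5.9)(a). -/
theorem cfAut_Dade_coherent {A : Set G} {RD : G → Subgroup G} (h : DadeHypothesis A L RD)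
    (hτ1 : CoherentWith L S (Dade A RD) τ1) (u : ℂ →+* ℂ) (hS : ∀ φ ∈ S, cfAut u φ ∈ S)
    (hχ : χ ∈ S) (hirr : IsIrr L χ) (hψ : ψ ∈ S) (hirr' : IsIrr L ψ) (hne : ψ ≠ χ) :
    cfAut u (τ1 χ) = τ1 (cfAut u χ) :=
  cfAut_coherent hτ1 u (fun _ _ _ => Dade_aut u) (fun _ _ _ => Dade1 h) hS hχ hirr hψ hirr' hne

theorem cfAut_Dade_coherent_seqInd {A : Set G} {RD : G → Subgroup G} (h : DadeHypothesis A L RD)
    (hτ1 : CoherentWith L (seqIndD K L H M) (Dade A RD) τ1) (hodd : Odd (Nat.card L))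
    (hKL : K ≤ L) (hn : L ≤ normalizer (K : Set G)) (hHK : H ≤ K) (u : ℂ →+* ℂ)
    (hχ : χ ∈ seqIndD K L H M) (hirr : IsIrr L χ) : cfAut u (τ1 χ) = τ1 (cfAut u χ) :=
  cfAut_Dade_coherent h hτ1 u (fun _ => cfAut_seqInd u) hχ hirr (cfAut_seqInd _ hχ)
    (hirr.cfAut _) (seqInd_conjC_neq hKL hn hHK hodd hχ)

/-- Peterfalvi (5.9)(b). -/
theorem Dade_irr_sub_conjC {A : Set G} {RD : G → Subgroup G} (h : DadeHypothesis A L RD)
    (hirr : IsIrr L χ) (hA : χ ∈ CFon L (insert 1 A)) :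
    ∃ μ, IsIrr ⊤ μ ∧ Dade A RD (χ - cfConjC χ) = μ - cfConjC μ := by
  by_cases hr : cfConjC χ = χ
  · exact ⟨cf1 ⊤, isIrr_cf1 ⊤, by rw [hr, sub_self, map_zero, cfConjC, cfAut_cf1, sub_self]⟩
  have hon : χ - cfConjC χ ∈ CFon L A :=
    CFon_of_insert_one (Submodule.sub_mem _ hA (cfAut_mem_CFon _ hA)) (by
      simp [hirr.isChar.conj_one])
  obtain ⟨μ, ν, hμ, hν, hne, he⟩ := vchar_norm2 (Dade_vchar h
    (Submodule.sub_mem _ hirr.mem_ZIrr (hirr.cfAut (starRingEnd ℂ)).mem_ZIrr)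
    (fun x hx => CFon_zero hon hx)) (Dade1 h) (by
      rw [cfnorm_Dade h hon, cfnorm_sub_of_ortho (hirr.cfdot_ne (hirr.cfAut _) (Ne.symm hr)),
        cfnorm_cfConjC, hirr.cfnorm]; norm_num)
  refine ⟨μ, hμ, ?_⟩
  have h6 : cfConjC (χ - cfConjC χ) = -(χ - cfConjC χ) := by
    rw [cfConjC, cfAut_sub, neg_sub]; exact congrArg _ cfConjC_cfConjC
  have k := Dade_aut (A := A) (R := RD) (α := χ - cfConjC χ) (starRingEnd ℂ)
  change Dade A RD (cfConjC (χ - cfConjC χ)) = _ at k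
  rw [h6, map_neg, he, cfAut_sub] at k
  rw [he, cfConjC, (hμ.cfAut (starRingEnd ℂ)).eq_of_cfdot_ne hν]
  intro h0
  have k2 := congrArg (fun φ => cfdot ⊤ φ ν) k
  simp only [cfdot_neg_left, cfdot_sub_left, h0, hμ.cfdot_ne hν hne, hν.cfdot_self,
    (hν.cfAut (starRingEnd ℂ)).cfdot_eq hν] at k2
  split_ifs at k2 <;> norm_num at k2

end Coherence

end CfsgLib.FT
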