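import Mathlib
import Cfsg.Agent.Lib.FT.BG7b

/-! Bender–Glauberman, section 7: the transitivity theorem. -/

set_option autoImplicit false

namespace CfsgLib.FT

open Subgroup Cfsg
open scoped commutatorElement

section Aux

variable {G : Type*} [Group G]

theorem kconj_symm {K Q₁ Q₂ : Subgroup G}
    (h : ∃ k ∈ K, Q₂ = Q₁.map (MulAut.conj k).toMonoidHom) :
    ∃ k ∈ K, Q₁ = Q₂.map (MulAut.conj k).toMonoidHom :=
  let ⟨k, hk, h⟩ := h
  ⟨k⁻¹, inv_mem hk, by rw [h, map_conj_inv_map_conj]⟩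

theorem kconj_trans {K Q₁ Q₂ Q₃ : Subgroup G}
    (h : ∃ k ∈ K, Q₂ = Q₁.map (MulAut.conj k).toMonoidHom)
    (h' : ∃ k ∈ K, Q₃ = Q₂.map (MulAut.conj k).toMonoidHom) :
    ∃ k ∈ K, Q₃ = Q₁.map (MulAut.conj k).toMonoidHom :=
  let ⟨k, hk, h⟩ := h
  let ⟨l, hl, h'⟩ := h'
  ⟨l * k, mul_mem hl hk, by rw [h', h, map_conj_mul]⟩

variable [Finite G]

theorem normed_constrained_step (hG : IsMinSimpleOddOrder G) {A : Subgroup G}
    (hA : TransitivityHypothesis A) {q : ℕ} (hq : q.Prime) (hqA : ¬ q ∣ Nat.card A)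
    {Q₁ Q₂ : Subgroup G} (h₁ : Q₁ ∈ maxInvSubgroups ⊤ A {q}) (h₂ : Q₂ ∈ maxInvSubgroups ⊤ A {q})
    {H : Subgroup G} (hH : H ≠ ⊤) (hAH : A ≤ H) :
    ∃ k ∈ piCoreOf (primesNotDvd (Nat.card A)) (centralizer (A : Set G)),
      ∃ Q₃ ∈ maxInvSubgroups ⊤ A {q},
        (H ⊓ Q₁).map (MulAut.conj k).toMonoidHom ≤ Q₃ ∧ H ⊓ Q₂ ≤ Q₃ := by
  have := Fact.mk hq
  have hL := piCoreOf_isPi (primesNotDvd (Nat.card A)) H
  have hn := hAH.trans (le_normalizer.trans (norm_le_norm_piCoreOf (primesNotDvd (Nat.card A)) H))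
  have hcop := coprime_of_isPi_primesNotDvd (P := A) (fun _ _ h => h) hL
  have hs := mFT_sol hG hA.2.1
  have key : ∀ Q ∈ maxInvSubgroups ⊤ A {q}, ∃ R, IsPiHallOf {q} R
      (piCoreOf (primesNotDvd (Nat.card A)) H) ∧ A ≤ normalizer (R : Set G) ∧ H ⊓ Q ≤ R := by
    intro Q hQ
    have h1 := isPiSubgroup_of_le hQ.1.2.1 (inf_le_right : H ⊓ Q ≤ Q)
    have h2 := le_normalizer_inf (hAH.trans le_normalizer) hQ.1.2.2
    exact Cop.exists_invariant_sylowOf_ge hn hcop (Or.inl hs) (isPGroup_iff_isPiSubgroup.2 h1)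
      (TransitivityHypothesis.le_piCoreOf hA hH hAH inf_le_left
        (isPi_primesNotDvd_of_singleton hqA h1) h2) h2
  obtain ⟨R₁, a1, a2, a3⟩ := key Q₁ h₁
  obtain ⟨R₂, b1, b2, b3⟩ := key Q₂ h₂
  obtain ⟨c, hc, h⟩ := Cop.conj_invariant_sylowOf hn hcop (Or.inl hs) a1 b1 a2 b2
  obtain ⟨Q₃, h₃, h4⟩ := exists_maxInv_top_ge b1.2.1 b2
  exact ⟨c, TransitivityHypothesis.le_piCoreOf_cent hG hA inf_le_right
    (isPiSubgroup_of_le hL inf_le_left) hc, Q₃, h₃, ((map_mono a3).trans h.ge).trans h4,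
    b3.trans h4⟩

theorem normed_constrained_inf_trans (hG : IsMinSimpleOddOrder G) {A : Subgroup G}
    (hA : TransitivityHypothesis A) {q : ℕ} (hq : q.Prime) (hqA : ¬ q ∣ Nat.card A) (n : ℕ) :
    ∀ Q₁ Q₂ : Subgroup G, Q₁ ∈ maxInvSubgroups ⊤ A {q} → Q₂ ∈ maxInvSubgroups ⊤ A {q} →
      Q₁ ⊓ Q₂ ≠ ⊥ → Nat.card G - Nat.card ↥(Q₁ ⊓ Q₂) = n →
      ∃ k ∈ piCoreOf (primesNotDvd (Nat.card A)) (centralizer (A : Set G)),
        Q₂ = Q₁.map (MulAut.conj k).toMonoidHom := by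
  have := Fact.mk hq
  induction n using Nat.strong_induction_on with
  | _ n ih =>
    intro Q₁ Q₂ h₁ h₂ hne hn
    by_cases h12 : Q₁ = Q₂
    · exact ⟨1, one_mem _, by rw [map_conj_one, h12]⟩
    have p1 := isPGroup_iff_isPiSubgroup.2 h₁.1.2.1
    have p2 := isPGroup_iff_isPiSubgroup.2 h₂.1.2.1
    have l1 : Q₁ ⊓ Q₂ < Q₁ := inf_lt_left.2 fun h => h12 (h₁.2 Q₂ h₂.1 h).symm
    have l2 : Q₁ ⊓ Q₂ < Q₂ := inf_lt_right.2 fun h => h12 (h₂.2 Q₁ h₁.1 h)
    obtain ⟨k, hk, Q₃, h₃, h4, h5⟩ := normed_constrained_step hG hA hq hqA h₁ h₂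
      (mFT_norm_proper hG hne (mFT_pgroup_proper hG (p1.to_le inf_le_left)))
      (le_normalizer_inf h₁.1.2.2 h₂.1.2.2)
    have key : ∀ Q Q' X : Subgroup G, Q ∈ maxInvSubgroups ⊤ A {q} → Q' ∈ maxInvSubgroups ⊤ A {q} →
        X ≤ Q → X ≤ Q' → Nat.card ↥(Q₁ ⊓ Q₂) < Nat.card X →
        ∃ k ∈ piCoreOf (primesNotDvd (Nat.card A)) (centralizer (A : Set G)),
          Q' = Q.map (MulAut.conj k).toMonoidHom := by
      intro Q Q' X hQ hQ' a1 a2 a3
      have a4 := card_le_of_le (le_inf a1 a2)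
      have a5 := card_le_card_group (Q ⊓ Q')
      refine ih _ ?_ Q Q' hQ hQ' ?_ rfl
      · omega
      · intro h
        rw [h, card_bot] at a4
        have := Nat.card_pos (α := ↥(Q₁ ⊓ Q₂))
        omega
    refine kconj_trans (kconj_trans ⟨k, hk, rfl⟩ (key _ Q₃ _ (maxInv_map_conj h₁
      (centralizer_le_normalizer _ (piCoreOf_le' _ _ hk))) h₃ (map_mono inf_le_right) h4 ?_))
      (key Q₃ Q₂ _ h₃ h₂ h5 inf_le_right ?_)
    · rw [card_map_conj, inf_comm (normalizer _)]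
      exact card_lt_card_of_lt (lt_inf_normalizer_of_isPGroup p1 l1)
    · rw [inf_comm (normalizer _)]
      exact card_lt_card_of_lt (lt_inf_normalizer_of_isPGroup p2 l2)

omit [Finite G] in
theorem maxInv_eq_of_eq_bot {A Q₁ Q₂ : Subgroup G} {π : Set ℕ} (h₁ : Q₁ ∈ maxInvSubgroups ⊤ A π)
    (h₂ : Q₂ ∈ invSubgroups ⊤ A π) (h : Q₁ = ⊥) : Q₂ = ⊥ :=
  (h₁.2 Q₂ h₂ (h ▸ bot_le)).trans h

end Aux

/-- BG 7.1. -/
theorem normed_constrained_meet_trans {G : Type*} [Group G] [Finite G] (hG : Cfsg.IsMinSimpleOddOrder G)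
    (A : Subgroup G) (hA : Cfsg.TransitivityHypothesis A) (q : ℕ) (hq : q.Prime) (hqA : ¬ q ∣ Nat.card A)
    (Q₁ Q₂ : Subgroup G) (h₁ : Q₁ ∈ Cfsg.maxInvSubgroups ⊤ A {q}) (h₂ : Q₂ ∈ Cfsg.maxInvSubgroups ⊤ A {q})
    (H : Subgroup G) (hH : H ≠ ⊤) (hAH : A ≤ H) (hH₁ : H ⊓ Q₁ ≠ ⊥) (hH₂ : H ⊓ Q₂ ≠ ⊥) :
    ∃ k ∈ Cfsg.piCoreOf (Cfsg.primesNotDvd (Nat.card A)) (Subgroup.centralizer (A : Set G)), Q₂ = Q₁.map (MulAut.conj k).toMonoidHom := by
  obtain ⟨k, hk, Q₃, h₃, h4, h5⟩ := normed_constrained_step hG hA hq hqA h₁ h₂ hH hAH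
  refine kconj_trans (kconj_trans ⟨k, hk, rfl⟩ (normed_constrained_inf_trans hG hA hq hqA _ _ Q₃
    (maxInv_map_conj h₁ (centralizer_le_normalizer _ (piCoreOf_le' _ _ hk))) h₃ ?_ rfl))
    (normed_constrained_inf_trans hG hA hq hqA _ Q₃ Q₂ h₃ h₂ ?_ rfl)
  · intro h
    exact hH₁ ((map_eq_bot_iff_of_injective _ (MulAut.conj k).injective).1
      (eq_bot_iff.2 (h ▸ le_inf (map_mono inf_le_right) h4)))
  · exact fun h => hH₂ (eq_bot_iff.2 (h ▸ le_inf h5 inf_le_right))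

/-- BG 7.2. -/
theorem normed_constrained_rank3_trans {G : Type*} [Group G] [Finite G] (hG : Cfsg.IsMinSimpleOddOrder G)
    (A : Subgroup G) (hA : Cfsg.TransitivityHypothesis A) (hZ : ¬ Cfsg.RankLE 2 ↥(A ⊓ Subgroup.centralizer (A : Set G)))
    (q : ℕ) (hq : q.Prime) (hqA : ¬ q ∣ Nat.card A) :
    ∀ Q₁ ∈ Cfsg.maxInvSubgroups ⊤ A {q}, ∀ Q₂ ∈ Cfsg.maxInvSubgroups ⊤ A {q}, ∃ k ∈ Cfsg.piCoreOf (Cfsg.primesNotDvd (Nat.card A)) (Subgroup.centralizer (A : Set G)), Q₂ = Q₁.map (MulAut.conj k).toMonoidHom := by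
  intro Q₁ h₁ Q₂ h₂
  by_cases h0 : Q₁ = ⊥
  · exact ⟨1, one_mem _, by rw [map_conj_one, h0, maxInv_eq_of_eq_bot h₁ h₂.1 h0]⟩
  have h0' : Q₂ ≠ ⊥ := fun h => h0 (maxInv_eq_of_eq_bot h₂ h₁.1 h)
  obtain ⟨p, hp, B, hB, hBe, hB3⟩ := not_rankLE_iff.1 hZ
  have := Fact.mk hp
  have hcop : ∀ C ≤ B, ∀ Q ∈ maxInvSubgroups ⊤ A {q}, (Nat.card C).Coprime (Nat.card Q) :=
    fun C hC Q hQ => coprime_of_isPi_primesNotDvd
      (fun _ _ h => h.trans (card_dvd_of_le (hC.trans (hB.trans inf_le_left))))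
      (isPi_primesNotDvd_of_singleton hqA hQ.1.2.1)
  obtain ⟨C, hC, ⟨a, ha, hCa⟩, hC1⟩ : ∃ C ≤ B, (∃ a ∈ B, C ⊔ zpowers a = B) ∧
      Q₁ ⊓ centralizer (C : Set G) ≠ ⊥ := by
    by_contra! h
    exact h0 (eq_bot_iff.2 (Cop.le_of_cocyclic_centralizer_le hBe.1
      ((hB.trans inf_le_left).trans h₁.1.2.2) (hcop B le_rfl Q₁ h₁) fun C hC h' => (h C hC h').le))
  have hCe := elemAb_of_le hBe hC
  have hnc : ¬ IsCyclic C := by
    intro hc
    have h1 := card_le_of_isCyclic_of_pow_eq_one hc hCe.2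
    have h2 := card_le_of_isCyclic_of_pow_eq_one (E := zpowers a) inferInstance
      (elemAb_zpowers (hBe.2 a ha)).2
    have h3 := Nat.le_of_dvd (Nat.mul_pos Nat.card_pos Nat.card_pos) (card_sup_dvd_mul
      (H := C) (N := zpowers a) ((hC.trans ((elemAb_le_centralizer hBe).trans
        (centralizer_antitone (zpowers_le.2 ha)))).trans (centralizer_le_normalizer _)))
    rw [hCa, hB3] at h3
    have h4 := h3.trans (Nat.mul_le_mul h1 h2)
    rw [← sq] at h4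
    exact absurd ((Nat.pow_le_pow_iff_right hp.one_lt).1 h4) (by norm_num)
  obtain ⟨z, hz, hz1, hz2⟩ := Cop.exists_centralizer_ne_bot_of_not_isCyclic hCe.1 hnc
    ((hC.trans (hB.trans inf_le_left)).trans h₂.1.2.2) (hcop C hC Q₂ h₂) h0'
  refine normed_constrained_meet_trans hG A hA q hq hqA Q₁ Q₂ h₁ h₂ _ (mFT_cent1_proper hG hz1)
    (le_cent1_iff.2 (hB (hC hz)).2) (fun h => hC1 (eq_bot_iff.2 ?_)) (by rwa [inf_comm])
  rw [← h, inf_comm]
  exact inf_le_inf_right _ (cent_le_cent1 hz)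

/-- BG 7.3. -/
theorem normed_constrained_rank2_trans {G : Type*} [Group G] [Finite G] (hG : Cfsg.IsMinSimpleOddOrder G)
    (A : Subgroup G) (hA : Cfsg.TransitivityHypothesis A) (hZ : ¬ Cfsg.RankLE 1 ↥(A ⊓ Subgroup.centralizer (A : Set G)))
    (q : ℕ) (hq : q.Prime) (hqA : ¬ q ∣ Nat.card A) (hqC : q ∣ Nat.card (Subgroup.centralizer (A : Set G))) :
    ∀ Q₁ ∈ Cfsg.maxInvSubgroups ⊤ A {q}, ∀ Q₂ ∈ Cfsg.maxInvSubgroups ⊤ A {q}, ∃ k ∈ Cfsg.piCoreOf (Cfsg.primesNotDvd (Nat.card A)) (Subgroup.centralizer (A : Set G)), Q₂ = Q₁.map (MulAut.conj k).toMonoidHom := by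
  have := Fact.mk hq
  obtain ⟨S, hS⟩ := IsSylowIn.exists_in (p := q) (centralizer (A : Set G))
  obtain ⟨R, hR, hSR⟩ := exists_maxInv_top_ge (isPGroup_iff_isPiSubgroup.1 hS.isPGroup)
    ((le_centralizer_comm hS.le).trans (centralizer_le_normalizer _))
  have hS1 := hS.ne_bot hqC
  obtain ⟨p, hp, B, hB, hBe, hB2⟩ := not_rankLE_iff.1 hZ
  have := Fact.mk hp
  have key : ∀ Q ∈ maxInvSubgroups ⊤ A {q},
      ∃ k ∈ piCoreOf (primesNotDvd (Nat.card A)) (centralizer (A : Set G)),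
        R = Q.map (MulAut.conj k).toMonoidHom := by
    intro Q hQ
    obtain ⟨z, hz, hz1, hz2⟩ := Cop.exists_centralizer_ne_bot_of_not_isCyclic hBe.1
      (not_isCyclic_of_p2Elem_le le_rfl hBe hB2.ge) ((hB.trans inf_le_left).trans hQ.1.2.2)
      (coprime_of_isPi_primesNotDvd (fun _ _ h => h.trans (card_dvd_of_le (hB.trans inf_le_left)))
        (isPi_primesNotDvd_of_singleton hqA hQ.1.2.1))
      (fun h => hS1 (eq_bot_iff.2 (maxInv_eq_of_eq_bot hQ hR.1 h ▸ hSR)))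
    exact normed_constrained_meet_trans hG A hA q hq hqA Q R hQ hR _ (mFT_cent1_proper hG hz1)
      (le_cent1_iff.2 (hB hz).2) (by rwa [inf_comm])
      fun h => hS1 (eq_bot_iff.2 (h ▸ le_inf (hS.le.trans (cent_le_cent1 (hB hz).1)) hSR))
  exact fun Q₁ h₁ Q₂ h₂ => kconj_trans (key Q₁ h₁) (kconj_symm (key Q₂ h₂))

theorem normed_trans_superset_aux {G : Type*} [Group G] [Finite G] (hG : IsMinSimpleOddOrder G)
    {A : Subgroup G} (hA : TransitivityHypothesis A) {q : ℕ} (hq : q.Prime)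
    (hqA : ¬ q ∣ Nat.card A)
    (htr : ∀ Q₁ ∈ maxInvSubgroups ⊤ A {q}, ∀ Q₂ ∈ maxInvSubgroups ⊤ A {q},
      ∃ k ∈ piCoreOf (primesNotDvd (Nat.card A)) (centralizer (A : Set G)),
        Q₂ = Q₁.map (MulAut.conj k).toMonoidHom) (n : ℕ) :
    ∀ P : Subgroup G, Nat.card P = n → P ≠ ⊤ →
      (∀ r : ℕ, r.Prime → r ∣ Nat.card P → r ∣ Nat.card A) → SubnormalIn A P →
      (∀ Q₁ ∈ maxInvSubgroups ⊤ P {q}, ∀ Q₂ ∈ maxInvSubgroups ⊤ P {q},
        ∃ k ∈ piCoreOf (primesNotDvd (Nat.card A)) (centralizer (P : Set G)),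
          Q₂ = Q₁.map (MulAut.conj k).toMonoidHom) ∧
      maxInvSubgroups ⊤ P {q} ⊆ maxInvSubgroups ⊤ A {q} := by
  have := Fact.mk hq
  induction n using Nat.strong_induction_on with
  | _ n ih =>
    intro P hn hP hPπ hsn
    have hAP : A ≤ P := hsn.1
    by_cases hPA : P = A
    · subst hPA
      exact ⟨htr, subset_rfl⟩
    obtain ⟨B', hBn, hAB, hBlt⟩ := hsn.2.exists_normal_and_le_and_lt_top_of_ne
      fun h => hPA (le_antisymm (subgroupOf_eq_top.1 h) hAP)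
    have hBP := map_subtype_le B'
    have hAB' := le_map_of_sgOf_le hAP hAB
    have hPB := le_normalizer_map_subtype B'
    obtain ⟨h1, h2⟩ := ih (Nat.card (B'.map P.subtype))
      (by rw [← hn, card_map_subtype]; exact card_lt_of_ne_top hBlt.ne) _ rfl
      (ne_top_of_le_ne_top hP hBP) (fun r hr h => hPπ r hr (h.trans (card_dvd_of_le hBP)))
      (hsn.mono hAB' hBP)
    set B := B'.map P.subtype
    have hK : P ≤ normalizer ((piCoreOf (primesNotDvd (Nat.card A))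
        (centralizer (B : Set G)) : Subgroup G) : Set G) :=
      hPB.trans ((Cop.normalizer_le_normalizer_centralizer B).trans (norm_le_norm_piCoreOf _ _))
    have hcop := coprime_of_isPi_primesNotDvd hPπ
      (piCoreOf_isPi (primesNotDvd (Nat.card A)) (centralizer (B : Set G)))
    have hs := mFT_sol hG hP
    have h3 : maxInvSubgroups ⊤ P {q} ⊆ maxInvSubgroups ⊤ B {q} := by
      intro Q hQ
      obtain ⟨Q₁, hQ₁, hle⟩ := exists_maxInv_top_ge hQ.1.2.1 (hBP.trans hQ.1.2.2)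
      by_cases h0 : Q = ⊥
      · obtain ⟨g, hg, h⟩ := Cop.exists_invariant_conj hK hcop (Or.inl hs) (H := Q₁)
          fun a ha => h1 Q₁ hQ₁ _ (maxInv_map_conj hQ₁ (hPB ha))
        have h4 := maxInv_map_conj hQ₁ (centralizer_le_normalizer _ (piCoreOf_le' _ _ hg))
        rwa [maxInv_eq_of_eq_bot hQ ⟨le_top, h4.1.2.1, h⟩ h0, ← h0] at h4
      have hq1 := isPGroup_iff_isPiSubgroup.2 hQ.1.2.1
      have hN := mFT_norm_proper hG h0 (mFT_pgroup_proper hG hq1)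
      have hL := TransitivityHypothesis.le_piCoreOf hA hN (hAP.trans hQ.1.2.2)
        (Y := Q₁ ⊓ normalizer (Q : Set G)) inf_le_right (isPi_primesNotDvd_of_singleton hqA
          (isPiSubgroup_of_le hQ₁.1.2.1 inf_le_left))
        (le_normalizer_inf (hAB'.trans hQ₁.1.2.2) ((hAP.trans hQ.1.2.2).trans le_normalizer))
      obtain ⟨R, a1, a2, a3⟩ := Cop.exists_invariant_sylowOf_ge (hQ.1.2.2.trans
        (le_normalizer.trans (norm_le_norm_piCoreOf (primesNotDvd (Nat.card A)) _)))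
        (coprime_of_isPi_primesNotDvd hPπ (piCoreOf_isPi _ _)) (Or.inl hs) hq1
        ((le_inf hle le_normalizer).trans hL) hQ.1.2.2
      rw [hQ.2 R ⟨le_top, a1.2.1, a2⟩ a3] at a1
      have hq2 := isPGroup_iff_isPiSubgroup.2 hQ₁.1.2.1
      have a4 := Cop.eq_of_sylowOf_le a1 (hq2.to_le inf_le_left) hL (le_inf hle le_normalizer)
      rcases hle.lt_or_eq with h | h
      · exact absurd a4 (lt_inf_normalizer_of_isPGroup hq2 h).ne
      · rwa [h]
    refine ⟨fun Q₁ hQ₁ Q₂ hQ₂ => ?_, h3.trans h2⟩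
    obtain ⟨k, hk, h⟩ := h1 Q₁ (h3 hQ₁) Q₂ (h3 hQ₂)
    obtain ⟨c, hc, h⟩ := Cop.exists_centralizer_conj hK hcop (Or.inl hs) hQ₁.1.2.2 hQ₂.1.2.2 hk h
    exact ⟨c, piCoreOf_inf_le _ (centralizer_antitone hBP) hc, h⟩

/-- BG 7.4. -/
theorem normed_trans_superset {G : Type*} [Group G] [Finite G] (hG : Cfsg.IsMinSimpleOddOrder G)
    (A : Subgroup G) (hA : Cfsg.TransitivityHypothesis A) (q : ℕ) (hq : q.Prime) (hqA : ¬ q ∣ Nat.card A)
    (P : Subgroup G) (hP : P ≠ ⊤) (hPπ : (∀ r : ℕ, r.Prime → r ∣ Nat.card P → r ∣ Nat.card A)) (hAP : A ≤ P) (hsn : (A.subgroupOf P).IsSubnormal)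
    (htr : ∀ Q₁ ∈ Cfsg.maxInvSubgroups ⊤ A {q}, ∀ Q₂ ∈ Cfsg.maxInvSubgroups ⊤ A {q}, ∃ k ∈ Cfsg.piCoreOf (Cfsg.primesNotDvd (Nat.card A)) (Subgroup.centralizer (A : Set G)), Q₂ = Q₁.map (MulAut.conj k).toMonoidHom) :
    Cfsg.piCoreOf (Cfsg.primesNotDvd (Nat.card A)) (Subgroup.centralizer (A : Set G)) ⊓ Subgroup.centralizer (P : Set G) = Cfsg.piCoreOf (Cfsg.primesNotDvd (Nat.card A)) (Subgroup.centralizer (P : Set G)) ∧
      (∀ Q₁ ∈ Cfsg.maxInvSubgroups ⊤ P {q}, ∀ Q₂ ∈ Cfsg.maxInvSubgroups ⊤ P {q}, ∃ k ∈ Cfsg.piCoreOf (Cfsg.primesNotDvd (Nat.card A)) (Subgroup.centralizer (P : Set G)), Q₂ = Q₁.map (MulAut.conj k).toMonoidHom) ∧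
      Cfsg.maxInvSubgroups ⊤ P {q} ⊆ Cfsg.maxInvSubgroups ⊤ A {q} ∧
      ∀ Q ∈ Cfsg.maxInvSubgroups ⊤ P {q},
        P ⊓ ⁅Subgroup.normalizer (P : Set G), Subgroup.normalizer (P : Set G)⁆ ≤ ⁅Subgroup.normalizer (Q : Set G), Subgroup.normalizer (Q : Set G)⁆ ∧
        Subgroup.normalizer (P : Set G) = Cfsg.piCoreOf (Cfsg.primesNotDvd (Nat.card A)) (Subgroup.centralizer (P : Set G)) ⊔ (Subgroup.normalizer (P : Set G) ⊓ Subgroup.normalizer (Q : Set G)) := by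
  obtain ⟨h1, h2⟩ := normed_trans_superset_aux hG hA hq hqA htr _ P rfl hP hPπ ⟨hAP, hsn⟩
  refine ⟨le_antisymm (piCoreOf_inf_le _ (centralizer_antitone hAP)) (le_inf
    (TransitivityHypothesis.le_piCoreOf_cent hG hA ((piCoreOf_le' _ _).trans
      (centralizer_antitone hAP)) (piCoreOf_isPi _ _)) (piCoreOf_le' _ _)), h1, h2, fun Q hQ => ?_⟩
  have hK : normalizer (P : Set G) ≤ normalizer ((piCoreOf (primesNotDvd (Nat.card A))
      (centralizer (P : Set G)) : Subgroup G) : Set G) :=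
    (Cop.normalizer_le_normalizer_centralizer P).trans (norm_le_norm_piCoreOf _ _)
  have h3 : normalizer (P : Set G) = piCoreOf (primesNotDvd (Nat.card A))
      (centralizer (P : Set G)) ⊔ (normalizer (P : Set G) ⊓ normalizer (Q : Set G)) := by
    refine le_antisymm (fun g hg => ?_) (sup_le ((piCoreOf_le' _ _).trans
      (centralizer_le_normalizer _)) inf_le_left)
    obtain ⟨k, hk, h⟩ := h1 Q hQ _ (maxInv_map_conj hQ hg)
    rw [← mul_inv_cancel_left k g]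
    refine mul_mem (mem_sup_left hk) (mem_sup_right (mem_inf.2 ⟨mul_mem (inv_mem
      (centralizer_le_normalizer _ (piCoreOf_le' _ _ hk))) hg, mem_normalizer_of_map_conj_eq ?_⟩))
    rw [map_conj_mul, h, map_conj_inv_map_conj]
  refine ⟨?_, h3⟩
  have h4 := pprod_focal_coprime (inf_le_left.trans hK :
    normalizer (P : Set G) ⊓ normalizer (Q : Set G) ≤ _) (le_inf le_normalizer hQ.1.2.2)
    (coprime_of_isPi_primesNotDvd hPπ (piCoreOf_isPi _ _))
  rw [← h3] at h4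
  exact h4.le.trans (inf_le_right.trans (commutator_mono inf_le_right inf_le_right))

section SCN

variable {G : Type*} [Group G] [Finite G] {p : ℕ} [hp : Fact p.Prime]

theorem SCN_le_p'core_of_le {X Y A : Subgroup G} (P : Sylow p G) (hA : IsSCN (P : Subgroup G) A)
    (hX : Group.IsSolvable X) (hAX : A ≤ (pPrimePCore p X).map X.subtype) (hY : Y ≤ X)
    (hYp : (Nat.card Y).Coprime p) (hn : A ≤ normalizer (Y : Set G)) :
    Y ≤ (pPrimeCore p X).map X.subtype := by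
  have hAp := P.isPGroup'.to_le hA.1
  rw [← Cop.commutator_sup_centralizer hn (Cop.coprime_card_of_isPGroup hYp hAp).symm
    (Or.inl (isSolvable_of_isPGroup hAp))]
  exact sup_le (commutator_le_p'core hY hYp hAX hn) ((le_inf (le_p'core_cent_of_SCN P hA
    inf_le_right (hYp.coprime_dvd_left (card_dvd_of_le inf_le_left))) (inf_le_left.trans hY)).trans
      (p'core_cent_inf_le hX hAp (hAX.trans (map_subtype_le _))))

/-- BG 7.5(b). -/
theorem SCN_normed_constrained (hG : IsMinSimpleOddOrder G) (P : Sylow p G) {A : Subgroup G}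
    (hA : IsSCN (P : Subgroup G) A) (hA2 : ¬ PRankLE p 1 A) : TransitivityHypothesis A := by
  have hP := P.isPGroup'
  have hAp := hP.to_le hA.1
  have hAc := IsSCN.comm hA
  have hnc : ¬ IsCyclic A := fun h => hA2 (pRankLE_one_of_isCyclic h)
  have hA1 : A ≠ ⊥ := by
    rintro rfl
    exact hnc inferInstance
  obtain ⟨B, hB, hBn, hB2⟩ := exists_norm_le_card_eq_pow hP ((PGrp.omegaOne_le A).trans hA.1)
    (hA.2.1.trans (normalizer_le_normalizer_omegaOne A)) (PGrp.sq_le_card_omegaOne hAp hAc hnc)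
  have hBe := elemAb_of_le (PGrp.isElementaryAbelian_omegaOne hAc) hB
  have hBA := hB.trans (PGrp.omegaOne_le A)
  obtain ⟨⟨z, hz⟩, hz1⟩ := ne_bot_iff_exists_ne_one.1 (inf_centralizer_ne_bot_of_isNilpotent
    (isNilpotent_of_isPGroup hP) hA.1 hA.2.1 hA1)
  have hz1' : z ≠ 1 := fun h => hz1 (Subtype.ext h)
  have hAA := IsSCN.le_centralizer hA
  have key1 : ∀ Y ≤ centralizer ({z} : Set G), (Nat.card Y).Coprime p →
      A ≤ normalizer (Y : Set G) →
      Y ≤ (pPrimeCore p (centralizer ({z} : Set G))).map (centralizer ({z} : Set G)).subtype :=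
    fun Y hY hYp hn => SCN_le_p'core_of_le P hA (mFT_sol hG (mFT_cent1_proper hG hz1'))
      (odd_p_abelian_constrained_of (mFT_sol hG (mFT_cent1_proper hG hz1')) (mFT_odd hG _)
        (IsSylowIn.of_sylow P (le_cent1_iff.2 hz.2)) hA.1 hAc hA.2.1) hY hYp hn
  have key2 : ∀ b ∈ B, b ≠ 1 → ∀ Y ≤ centralizer ({b} : Set G), (Nat.card Y).Coprime p →
      A ≤ normalizer (Y : Set G) →
      Y ≤ (pPrimeCore p (centralizer ({b} : Set G))).map (centralizer ({b} : Set G)).subtype := by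
    intro b hb hb1 Y hY hYp hn
    have hs := mFT_sol hG (mFT_cent1_proper hG hb1)
    have hAb : A ≤ centralizer ({b} : Set G) := le_cent1_iff.2 (hAA (hBA hb))
    obtain ⟨P₂, h1, h2⟩ := IsSylowIn.exists_ge (hP.to_le inf_le_left)
      (inf_le_right : (P : Subgroup G) ⊓ centralizer ({b} : Set G) ≤ _)
    have h3 := le_normalizer_of_card_le_mul h2.isPGroup h1
      (((IsSylowIn.sylow_top P).card_le h2.isPGroup le_top).trans
        ((card_le_mul_card_inf_centralizer hP hBn hB2).trans (Nat.mul_le_mul_left p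
          (card_le_of_le (inf_le_inf_left _ (cent_le_cent1 hb))))))
    have h4 := odd_p_abelian_constrained_of hs (mFT_odd hG _) h2 (inf_le_left.trans h1)
      (isMulCommutative_of_le_centralizer (inf_le_right.trans (centralizer_antitone inf_le_left)))
      (Cop.le_normalizer_inf_centralizer h3 h3)
    have h5 : zpowers z ≤ (pPrimePCore p (centralizer ({b} : Set G))).map
        (centralizer ({b} : Set G)).subtype := zpowers_le.2 (h4 (mem_inf.2
          ⟨mem_inf.2 ⟨hA.1 hz.1, hAb hz.1⟩, centralizer_antitone inf_le_left hz.2⟩))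
    have hzp := hAp.to_le (zpowers_le.2 hz.1)
    have h6 := (zpowers_le.2 hz.1).trans hn
    rw [← Cop.commutator_sup_centralizer h6 (Cop.coprime_card_of_isPGroup hYp hzp).symm
      (Or.inl (isSolvable_of_isPGroup hzp)), cent_zpowers]
    exact sup_le (commutator_le_p'core hY hYp h5 h6) ((le_inf (key1 _ inf_le_right
      (hYp.coprime_dvd_left (card_dvd_of_le inf_le_left))
      (le_normalizer_inf hn (le_normalizer_cent1 (hAA hz.1)))) (inf_le_left.trans hY)).trans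
      (p'core_cent1_inf_le hs hAp hz.1 (hAb hz.1)))
  refine transitivityHypothesis_of_le hA1 (mFT_pgroup_proper hG hAp) fun X Y hX hAX hY hπ hn => ?_
  rw [piCoreOf_primesNotDvd_eq hAp hA1]
  have hYp : (Nat.card Y).Coprime p := coprime_iff_isPiSubgroup.2 fun r hr h =>
    (mem_primesNotDvd_of_isPGroup hAp hA1 hr).1 (hπ r hr h)
  refine Cop.le_of_centralizer_le_of_not_isCyclic hBe.1
    (not_isCyclic_of_p2Elem_le le_rfl hBe hB2.ge) (hBA.trans hn)
    (Cop.coprime_card_of_isPGroup hYp (elemAb_isPGroup hBe)).symm fun b hb hb1 => ?_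
  exact (le_inf (key2 b hb hb1 _ inf_le_right (hYp.coprime_dvd_left (card_dvd_of_le inf_le_left))
    (le_normalizer_inf hn (le_normalizer_cent1 (hAA (hBA hb))))) (inf_le_left.trans hY)).trans
    (p'core_cent1_inf_le (mFT_sol hG hX) hAp (hBA hb) (hAX (hBA hb)))

end SCN

/-- BG 7.5. -/
theorem normed_constrained_of_plength1_or_SCN {G : Type*} [Group G] [Finite G] (hG : Cfsg.IsMinSimpleOddOrder G)
    (p : ℕ) [Fact p.Prime] (hp : p ∣ Nat.card G) (A : Subgroup G) (hAp : IsPGroup p A) (hAc : IsMulCommutative A)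
    (h : (∀ x ∈ Subgroup.centralizer (A : Set G), x ^ p = 1 ↔ x ∈ A) ∧ (∀ H : Subgroup G, H ≠ ⊤ → Cfsg.PLengthLE p 1 H) ∨
      ∃ P : Sylow p G, Cfsg.IsSCN (P : Subgroup G) A ∧ ¬ Cfsg.PRankLE p 1 A) :
    Cfsg.TransitivityHypothesis A := by
  have hp2 := mFT_prime_ne_two hG hp
  rcases h with ⟨h1, h2⟩ | ⟨P, h1, h2⟩
  · have hA1 : A ≠ ⊥ := by
      rintro rfl
      obtain ⟨x, hx⟩ := exists_prime_orderOf_dvd_card' p hp
      have := (h1 x (mem_centralizer_iff.2 (by simp))).1 (hx ▸ pow_orderOf_eq_one x)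
      rw [mem_bot.1 this, orderOf_one] at hx
      exact (Fact.out : p.Prime).one_lt.ne hx
    refine transitivityHypothesis_of_le hA1 (mFT_pgroup_proper hG hAp) fun X Y hX hAX hY hπ hn => ?_
    rw [piCoreOf_primesNotDvd_eq hAp hA1]
    exact plength1_norm_pmaxElem_of hp2 (mFT_sol hG hX) (h2 X hX) hAX
      ⟨hAc, fun a ha => (h1 a (le_centralizer_of_isMulCommutative hAc ha)).2 ha⟩
      (fun B _ hB h => le_antisymm (fun x hx => (h1 x (centralizer_antitone h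
        (elemAb_le_centralizer hB hx))).1 (hB.2 x hx)) h) hY
      (coprime_iff_isPiSubgroup.2 fun r hr h =>
        (mem_primesNotDvd_of_isPGroup hAp hA1 hr).1 (hπ r hr h)) hn
  · exact SCN_normed_constrained hG P h1 h2

/-- BG 7.6 (Thompson transitivity theorem). -/
theorem thompson_transitivity {G : Type*} [Group G] [Finite G] (hG : IsMinSimpleOddOrder G)
    (p : ℕ) [Fact p.Prime] (P : Sylow p G) (A : Subgroup G) (hA : IsSCN (P : Subgroup G) A)
    (hA3 : ¬ PRankLE p 2 A) (q : ℕ) (hq : q.Prime) (hqp : q ≠ p) :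
    ∀ Q₁ ∈ maxInvSubgroups ⊤ A {q}, ∀ Q₂ ∈ maxInvSubgroups ⊤ A {q},
      ∃ k ∈ (pPrimeCore p (centralizer (A : Set G))).map (centralizer (A : Set G)).subtype,
        Q₂ = Q₁.map (MulAut.conj k).toMonoidHom := by
  have hA2 : ¬ PRankLE p 1 A := fun h => hA3 (pRankLE_of_le_rank (Fact.out : p.Prime).pos h one_le_two)
  have h := SCN_normed_constrained hG P hA hA2
  have hAp := P.isPGroup'.to_le hA.1
  have := normed_constrained_rank3_trans hG A h (by
    rw [inf_eq_left.2 (IsSCN.le_centralizer hA)]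
    exact fun h => hA3 (h p Fact.out)) q hq fun h => hqp (eq_of_prime_dvd_card_isPGroup hAp hq h)
  rwa [piCoreOf_primesNotDvd_eq hAp h.1] at this

end CfsgLib.FT
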