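import Mathlib
import Cfsg.Agent.Lib.FT.BG7

/-! Ambient lemmas on `O_q(H)`, `O_{q'}(H)` and `F(H)` used in BG sections 8 and 9. -/

set_option autoImplicit false

namespace CfsgLib.FT

open Subgroup Cfsg
open scoped commutatorElement

variable {G : Type*} [Group G] [Finite G] {p : ℕ} [hp : Fact p.Prime]

theorem pcoreIn_le_fittingOf (H : Subgroup G) : (pCore p H).map H.subtype ≤ fittingOf H :=
  map_mono (pCore_le_fitting p)

theorem le_pcoreIn_of_le_fittingOf {A H : Subgroup G} (h : A ≤ fittingOf H) (hA : IsPGroup p A) :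
    A ≤ (pCore p H).map H.subtype :=
  le_map_of_sgOf_le (h.trans (fittingOf_le' H)) (le_pCore_of_le_fitting
    (by rw [← map_subtype_sgOf (fittingSubgroup H)]; exact comap_mono h) (isPGroup_subgroupOf hA H))

theorem le_p'coreIn_of_le_fittingOf {A H : Subgroup G} (h : A ≤ fittingOf H)
    (hA : (Nat.card A).Coprime p) : A ≤ (pPrimeCore p H).map H.subtype :=
  le_map_of_sgOf_le (h.trans (fittingOf_le' H)) (le_pPrimeCore_of_isSubnormal
    (isSubnormal_of_le_fitting
      (by rw [← map_subtype_sgOf (fittingSubgroup H)]; exact comap_mono h))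
    (by rwa [card_subgroupOf_of_le (h.trans (fittingOf_le' H))]))

theorem p'coreIn_le_cent_pcoreIn (H : Subgroup G) :
    (pPrimeCore p H).map H.subtype ≤
      centralizer (((pCore p H).map H.subtype : Subgroup G) : Set G) := by
  rw [← Cop.commutator_eq_bot_iff_le_centralizer', ← map_commutator, commutator_pCore_pPrimeCore,
    Subgroup.map_bot]

theorem coprime_card_of_isPGroup_ne {q : ℕ} [hq : Fact q.Prime] (h : q ≠ p) {Q : Subgroup G}
    (hQ : IsPGroup q Q) : (Nat.card Q).Coprime p := by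
  obtain ⟨k, hk⟩ := IsPGroup.iff_card.1 hQ
  exact hk ▸ ((Nat.coprime_primes hq.out hp.out).2 h).pow_left k

theorem pcoreIn_le_p'coreIn {q : ℕ} [Fact q.Prime] (h : q ≠ p) (H : Subgroup G) :
    (pCore q H).map H.subtype ≤ (pPrimeCore p H).map H.subtype :=
  map_mono (le_pPrimeCore (coprime_card_of_isPGroup_ne h (pCore_isPGroup q)))

omit hp in
theorem fittingOf_le_of_forall {H K : Subgroup G}
    (h : ∀ (q : ℕ) [Fact q.Prime], (pCore q H).map H.subtype ≤ K) : fittingOf H ≤ K :=
  map_le_iff_le_comap.2 (fitting_le_of_forall_pCore_le fun q _ => map_le_iff_le_comap.1 (h q))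

theorem pcoreIn_ne_bot_of_dvd {H : Subgroup G} (h : p ∣ Nat.card (fittingOf H)) :
    (pCore p H).map H.subtype ≠ ⊥ := by
  obtain ⟨S, hS⟩ := IsSylowIn.exists_in (p := p) (fittingOf H)
  exact fun h' => hS.ne_bot h (eq_bot_iff.2 (h' ▸ le_pcoreIn_of_le_fittingOf hS.le hS.isPGroup))

theorem dvd_card_of_isPGroup_ne_bot {R : Subgroup G} (hR : IsPGroup p R) (h : R ≠ ⊥) :
    p ∣ Nat.card R := by
  obtain ⟨k, hk, hk'⟩ := hR.nontrivial_iff_card.1 ((nontrivial_iff_ne_bot R).2 h)
  exact hk' ▸ dvd_pow_self p hk.ne'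

theorem le_p'coreIn_of_norm {X R L : Subgroup G} (hX : Group.IsSolvable X) (hR : IsPGroup p R)
    (hRX : R ≤ X) (hL : L ≤ X ⊓ normalizer (R : Set G)) (hLp : (Nat.card L).Coprime p)
    (hn : X ⊓ normalizer (R : Set G) ≤ normalizer (L : Set G)) :
    L ≤ (pPrimeCore p X).map X.subtype :=
  (le_map_pPrimeCore hL hn hLp).trans (p'core_norm_pgroup hX hR hRX)

theorem p'coreIn_le_cent_of_forall {H R : Subgroup G} (hH : Group.IsSolvable H)
    (hR : IsPGroup p R) (hn : R ≤ normalizer (H : Set G))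
    (h : ∀ (q : ℕ) [Fact q.Prime], q ≠ p → (pCore q H).map H.subtype ≤ centralizer (R : Set G)) :
    (pPrimeCore p H).map H.subtype ≤ centralizer (R : Set G) := by
  refine le_centralizer_comm ((le_inf le_rfl (le_centralizer_comm (fittingOf_le_of_forall
    fun q _ => ?_))).trans (coprime_cent_Fitting (isSolvable_of_le hH (map_subtype_le _))
      (hn.trans (normalizer_le_normalizer_map_pPrimeCore p H))
      (Cop.coprime_card_of_isPGroup (map_pPrimeCore_coprime p H) hR).symm))
  by_cases hqp : q = p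
  · subst hqp
    rw [H5.eq_bot_of_isPGroup_of_coprime (map_pCore_isPGroup q _) ((map_pPrimeCore_coprime q
      H).coprime_dvd_left (card_dvd_of_le (map_subtype_le _)))]
    exact bot_le
  · exact (le_map_pCore ((map_subtype_le _).trans (map_subtype_le _)) (le_normalizer.trans
      ((normalizer_le_normalizer_map_pPrimeCore p H).trans (normalizer_le_normalizer_map_pCore q _)))
      (map_pCore_isPGroup q _)).trans (h q hqp)

omit hp in
theorem le_piCoreOf_of_forall {π : Set ℕ} {X Y : Subgroup G} (hY : Y ≤ X)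
    (h : ∀ (q : ℕ) [Fact q.Prime], q ∉ π → Y ≤ (pPrimeCore q X).map X.subtype) :
    Y ≤ piCoreOf π X := by
  refine le_map_of_sgOf_le hY (le_normalClosure.trans (le_piCore fun r hr hd => ?_))
  by_contra hπ
  have := Fact.mk hr
  refine not_dvd_card_pPrimeCore (G := X) r (hd.trans (card_dvd_of_le (normalClosure_le_normal ?_)))
  rw [← map_subtype_sgOf (pPrimeCore r X)]
  exact comap_mono (h r hπ)

theorem p'core_eq_bot_of_fitting {M : Subgroup G} (hM : Group.IsSolvable M)
    (h : IsPGroup p (fittingOf M)) : pPrimeCore p M = ⊥ := by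
  by_contra h0
  refine inf_fitting_ne_bot_of_isSolvable inferInstance h0 (H5.eq_bot_of_isPGroup_of_coprime
    (IsPGroup.to_le (h.of_equiv ((fittingSubgroup M).equivMapOfInjective _
      M.subtype_injective).symm) inf_le_right)
    ((pPrimeCore_coprime p).coprime_dvd_left (card_dvd_of_le inf_le_left)))

theorem isSylowIn_of_norm_le {P M X : Subgroup G} (h : IsSylowIn p P M) (hPX : P ≤ X)
    (hn : X ⊓ normalizer (P : Set G) ≤ M) : IsSylowIn p P X := by
  refine IsSylowIn.of_maximal hPX h.isPGroup fun T hT h1 h2 => ?_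
  rcases h1.lt_or_eq with h3 | h3
  · have h4 := lt_inf_normalizer_of_isPGroup hT h3
    exact absurd (h.eq_of_le (hT.to_le inf_le_left) h4.le
      ((inf_le_inf_right _ h2).trans hn)) h4.ne'
  · exact h3.ge

theorem norm_centerPuig_eq (hG : IsMinSimpleOddOrder G) {M R : Subgroup G} (hM : IsCoatom M)
    (hO : pPrimeCore p M = ⊥) (hR : IsSylowIn p R M) (h1 : R ≠ ⊥) :
    normalizer (centerPuigOf R : Set G) = M :=
  mmax_normal hG hM ((centerPuigOf_le R).trans hR.le)
    (Puig_center_normal_of (mFT_sol hG hM.1) (mFT_odd hG M) hO hR)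
    (centerPuigOf_ne_bot hR.isPGroup h1)

theorem norm_Sylow_le_of_p'core_eq_bot (hG : IsMinSimpleOddOrder G) {M R : Subgroup G}
    (hM : IsCoatom M) (hO : pPrimeCore p M = ⊥) (hR : IsSylowIn p R M) (h1 : R ≠ ⊥) :
    normalizer (R : Set G) ≤ M :=
  (normalizer_le_normalizer_centerPuigOf R).trans (norm_centerPuig_eq hG hM hO hR h1).le

omit hp in
/-- If `A` is subnormal in `F(M)` and `И*(A; q)` has only one element, then it is trivial. -/
theorem inv_eq_bot_of_trans (hG : IsMinSimpleOddOrder G) {M A : Subgroup G} (hM : IsCoatom M)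
    (hA : TransitivityHypothesis A) (hAF : A ≤ fittingOf M)
    (hπ : ∀ r : ℕ, r.Prime → r ∣ Nat.card (fittingOf M) → r ∣ Nat.card A) {q : ℕ} (hq : q.Prime)
    (hqA : ¬ q ∣ Nat.card A)
    (htr : ∀ Q₁ ∈ maxInvSubgroups ⊤ A {q}, ∀ Q₂ ∈ maxInvSubgroups ⊤ A {q},
      ∃ k ∈ piCoreOf (primesNotDvd (Nat.card A)) (centralizer (A : Set G)),
        Q₂ = Q₁.map (MulAut.conj k).toMonoidHom)
    (hK : piCoreOf (primesNotDvd (Nat.card A)) (centralizer (A : Set G)) = ⊥)
    {Y : Subgroup G} (hY : IsPiSubgroup {q} Y) (hn : A ≤ normalizer (Y : Set G)) : Y = ⊥ := by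
  have := Fact.mk hq
  have h1 := (normed_trans_superset hG A hA q hq hqA (fittingOf M)
    (ne_top_of_le_ne_top hM.1 (fittingOf_le' M)) hπ hAF
    (SubnormalIn.of_isNilpotent (fittingOf_isNilpotent' M) hAF).2 htr).2.2.1
  obtain ⟨Q, hQ, -⟩ := exists_maxInv_top_ge (A := fittingOf M) (isPiSubgroup_bot {q})
    le_normalizer_of_normal
  refine maxInv_eq_of_eq_bot (h1 hQ) ⟨le_top, hY, hn⟩ ?_
  by_contra h0
  have hQq := isPGroup_iff_isPiSubgroup.2 hQ.1.2.1
  have h2 : M ≤ normalizer (Q : Set G) := fun m hm => by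
    obtain ⟨k, hk, h⟩ := htr Q (h1 hQ) _ (h1 (maxInv_map_conj hQ
      (normalizer_le_normalizer_fittingOf' M (le_normalizer hm))))
    rw [hK, mem_bot] at hk
    rw [hk, map_conj_one] at h
    exact mem_normalizer_of_map_conj_eq h
  have h3 := (hM.le_iff_eq (mFT_norm_proper hG h0 (mFT_pgroup_proper hG hQq))).1 h2
  exact hqA (hπ q hq ((dvd_card_of_isPGroup_ne_bot hQq h0).trans (card_dvd_of_le
    ((le_map_pCore (h3 ▸ le_normalizer) h2 hQq).trans (pcoreIn_le_fittingOf M)))))

end CfsgLib.FT
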