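import Mathlib
import Cfsg.Agent.Lib.FT.BG8a

/-! Bender–Glauberman, section 8: the Fitting subgroup of a maximal subgroup. -/

set_option autoImplicit false

namespace CfsgLib.FT

open Subgroup Cfsg
open scoped commutatorElement

section

variable {G : Type*} [Group G] [Finite G] {p : ℕ} [hp : Fact p.Prime]

/-- BG 8.1(a). -/
theorem non_pcore_Fitting_Uniqueness (hG : IsMinSimpleOddOrder G) {M : Subgroup G}
    (hM : IsCoatom M) {A₀ : Subgroup G} (hA₀ : A₀ ≤ fittingOf M) (hA₀e : IsElementaryAbelian p A₀)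
    (hA₀3 : p ^ 3 ≤ Nat.card A₀) (hF : ¬ IsPGroup p ↥(fittingOf M)) :
    InUniqueMaximal (fittingOf M ⊓ centralizer (A₀ : Set G)) := by
  set F := fittingOf M with hFdef
  set A := F ⊓ centralizer (A₀ : Set G) with hAdef
  have hFM : F ≤ M := fittingOf_le' M
  have hAM : A ≤ M := inf_le_left.trans hFM
  have hMF : M ≤ normalizer (F : Set G) :=
    le_normalizer.trans (normalizer_le_normalizer_fittingOf' M)
  have hA₀A : A₀ ≤ A := le_inf hA₀ (elemAb_le_centralizer hA₀e)
  have hA₀1 : A₀ ≠ ⊥ := by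
    rintro rfl
    rw [card_bot] at hA₀3
    exact absurd (Nat.one_lt_pow (by norm_num) hp.out.one_lt) (not_lt.2 hA₀3)
  have hpF : p ∣ Nat.card F :=
    (dvd_card_of_isPGroup_ne_bot (elemAb_isPGroup hA₀e) hA₀1).trans (card_dvd_of_le hA₀)
  have hZ : ∀ (q : ℕ) [Fact q.Prime], q ∣ Nat.card F → ∃ Z : Subgroup G, Z ≠ ⊥ ∧ IsPGroup q Z ∧
      Z ≤ A ∧ Z ≤ (pCore q M).map M.subtype ∧ normalizer (Z : Set G) = M := by
    intro q _ hq
    have h1 := le_normalizer.trans (normalizer_le_normalizer_map_pCore q M)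
    have h2 := inf_centralizer_ne_bot_of_isNilpotent (fittingOf_isNilpotent' M)
      (pcoreIn_le_fittingOf (p := q) M) (hFM.trans h1) (pcoreIn_ne_bot_of_dvd hq)
    exact ⟨_, h2, (map_pCore_isPGroup q M).to_le inf_le_left, inf_le_inf (pcoreIn_le_fittingOf M)
      (centralizer_antitone hA₀), inf_le_left, mmax_normal hG hM
        (inf_le_left.trans (map_subtype_le _)) (Cop.le_normalizer_inf_centralizer h1 hMF) h2⟩
  have halt : ∀ q : ℕ, ∃ r : ℕ, r.Prime ∧ r ∣ Nat.card F ∧ r ≠ q := by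
    intro q
    by_cases hq : q = p
    · by_contra! h
      exact hF (isPGroup_of_forall_prime_dvd fun r hr hd => (h r hr hd).trans hq)
    · exact ⟨p, hp.out, hpF, Ne.symm hq⟩
  have hπ : ∀ r : ℕ, r.Prime → r ∣ Nat.card F → r ∣ Nat.card A := fun r hr h => by
    have := Fact.mk hr
    obtain ⟨Z, h1, h2, h3, -⟩ := hZ r h
    exact (dvd_card_of_isPGroup_ne_bot h2 h1).trans (card_dvd_of_le h3)
  obtain ⟨Zp, zp1, zp2, zp3, zp4, zp5⟩ := hZ p hpF
  have hcent : ∀ Y : Subgroup G, Y ≤ centralizer (A : Set G) →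
      IsPiSubgroup (primesNotDvd (Nat.card A)) Y → Y = ⊥ := by
    intro Y hY hYπ
    have hcop := (coprime_of_isPi_primesNotDvd hπ hYπ).symm
    have h1 : Y ≤ M := hY.trans ((centralizer_antitone zp3).trans
      (zp5 ▸ centralizer_le_normalizer _))
    have h2 : A ≤ F ⊓ centralizer (Y : Set G) := le_inf inf_le_left (le_centralizer_comm hY)
    have h3 := coprime_nil_faithful_cent_stab (fittingOf_isNilpotent' M) (h1.trans hMF) hcop
      ((inf_le_inf_left _ (centralizer_antitone (hA₀A.trans h2))).trans h2)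
    exact card_eq_one.1 (hcop.eq_one_of_dvd
      (card_dvd_of_le ((le_inf h1 h3).trans (cent_sub_Fitting (mFT_sol hG hM.1)))))
  have hinv : ∀ Y : Subgroup G, Y ≤ M → A ≤ normalizer (Y : Set G) →
      IsPiSubgroup (primesNotDvd (Nat.card A)) Y → Y = ⊥ := by
    intro Y hY hn hYπ
    refine hcent Y (le_centralizer_comm (Cop.commutator_eq_bot_iff_le_centralizer'.1 ?_)) hYπ
    refine eq_bot_iff.2 ((le_inf (Cop.commutator_le_left_of_le_normalizer hn) ((commutator_mono hY
      inf_le_left).trans ?_)).trans (disjoint_iff.1 (disjoint_of_coprime_natCard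
        (coprime_of_isPi_primesNotDvd hπ hYπ).symm)).le)
    rw [Subgroup.commutator_comm]
    exact Cop.commutator_le_left_of_le_normalizer hMF
  have hK1 : ∀ X : Subgroup G, X ≠ ⊤ → A ≤ X → ∀ (q : ℕ) [Fact q.Prime], q ∣ Nat.card F →
      (pPrimeCore q M).map M.subtype ⊓ X ≤ (pPrimeCore q X).map X.subtype := by
    intro X hX hAX q _ hq
    obtain ⟨Z, -, h2, h3, -, h5⟩ := hZ q hq
    refine le_p'coreIn_of_norm (mFT_sol hG hX) h2 (h3.trans hAX) ?_
      ((map_pPrimeCore_coprime q M).coprime_dvd_left (card_dvd_of_le inf_le_left)) ?_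
    · rw [h5]
      exact le_inf inf_le_right (inf_le_left.trans (map_subtype_le _))
    · rw [h5]
      exact le_normalizer_inf (inf_le_right.trans (le_normalizer.trans
        (normalizer_le_normalizer_map_pPrimeCore q M))) (inf_le_left.trans le_normalizer)
  have hA1 : A ≠ ⊥ := fun h => hA₀1 (eq_bot_iff.2 (h ▸ hA₀A))
  have hcs : TransitivityHypothesis A := by
    refine transitivityHypothesis_of_le hA1 (ne_top_of_le_ne_top hM.1 hAM)
      fun X Y hX hAX hY hYπ hn => le_piCoreOf_of_forall hY fun q hq hqπ => ?_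
    have hqF : q ∣ Nat.card F := by
      by_contra h
      exact hqπ ⟨hq.out, fun h' => h (h'.trans (card_dvd_of_le inf_le_left))⟩
    obtain ⟨r, hr, hrF, hrq⟩ := halt q
    have := Fact.mk hr
    obtain ⟨Z, -, h2, h3, h4, h5⟩ := hZ r hrF
    rw [← Cop.commutator_sup_centralizer (h3.trans hn) (coprime_of_isPi_primesNotDvd
      (fun _ _ h => h.trans (card_dvd_of_le h3)) hYπ) (Or.inl (isSolvable_of_isPGroup h2)),
      hinv (Y ⊓ centralizer (Z : Set G)) (inf_le_right.trans (h5 ▸ centralizer_le_normalizer _))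
        (Cop.le_normalizer_inf_centralizer hn (h5 ▸ hAM)) (isPiSubgroup_of_le hYπ inf_le_left),
      sup_bot_eq]
    refine (commutator_mono hY ((le_inf (h4.trans (pcoreIn_le_p'coreIn hrq M))
      (h3.trans hAX)).trans (hK1 X hX hAX q hqF))).trans ?_
    rw [Subgroup.commutator_comm]
    exact Cop.commutator_le_left_of_le_normalizer
      (le_normalizer.trans (normalizer_le_normalizer_map_pPrimeCore q X))
  have hq1 : ∀ (q : ℕ) [Fact q.Prime], ¬ q ∣ Nat.card F → ∀ Y : Subgroup G, IsPGroup q Y →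
      A ≤ normalizer (Y : Set G) → Y = ⊥ := by
    intro q hq hqF Y hY hn
    have hqA : ¬ q ∣ Nat.card A := fun h => hqF (h.trans (card_dvd_of_le inf_le_left))
    refine inv_eq_bot_of_trans hG hM hcs inf_le_left hπ hq.out hqA
      (normed_constrained_rank3_trans hG A hcs (fun h => not_pRankLE_of_le
        (le_inf hA₀A (le_centralizer_comm inf_le_right)) hA₀e
        (lt_of_lt_of_le (Nat.pow_lt_pow_right hp.out.one_lt (by norm_num)) hA₀3) (h p hp.out))
        q hq.out hqA) (hcent _ (piCoreOf_le' _ _) (piCoreOf_isPi _ _))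
      (isPGroup_iff_isPiSubgroup.1 hY) hn
  refine (inUniqueMaximal_iff hM hAM).2 fun H hH hAH => ?_
  have hsH := mFT_sol hG hH.1
  have h87 : ∀ (q : ℕ) [Fact q.Prime], q ∣ Nat.card F →
      (pCore q H).map H.subtype ≤
        centralizer (((pPrimeCore q M).map M.subtype ⊓ H : Subgroup G) : Set G) :=
    fun q _ hq => le_centralizer_comm ((hK1 H hH.1 hAH q hq).trans (p'coreIn_le_cent_pcoreIn H))
  have hZp : ∀ (q : ℕ) [Fact q.Prime], q ≠ p →
      (pCore q H).map H.subtype ≤ centralizer (Zp : Set G) := by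
    intro q _ hqp
    by_cases hq : q ∣ Nat.card F
    · exact (h87 q hq).trans (centralizer_antitone (le_inf
        (zp4.trans (pcoreIn_le_p'coreIn (Ne.symm hqp) M)) (zp3.trans hAH)))
    · rw [hq1 q hq _ (map_pCore_isPGroup q H)
        (hAH.trans (le_normalizer.trans (normalizer_le_normalizer_map_pCore q H)))]
      exact bot_le
  have hD1 : (pCore p H).map H.subtype ≠ ⊥ := by
    intro h
    refine zp1 (eq_bot_iff.2 (h ▸ le_pcoreIn_of_le_fittingOf ((le_inf (zp3.trans hAH)
      (le_centralizer_comm (fittingOf_le_of_forall fun q _ => ?_))).trans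
        (cent_sub_Fitting hsH)) zp2))
    by_cases hqp : q = p
    · subst hqp
      exact h ▸ bot_le
    · exact hZp q hqp
  have hND : normalizer (((pCore p H).map H.subtype : Subgroup G) : Set G) = H :=
    mmax_normal hG hH (map_subtype_le _)
      (le_normalizer.trans (normalizer_le_normalizer_map_pCore p H)) hD1
  obtain ⟨r, hr, hrF, hrp⟩ := halt p
  have := Fact.mk hr
  obtain ⟨Zr, zr1, -, zr3, zr4, zr5⟩ := hZ r hrF
  have hDM : (pCore p H).map H.subtype ≤ M := (h87 p hpF).trans ((centralizer_antitone (le_inf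
    (zr4.trans (pcoreIn_le_p'coreIn hrp M)) (zr3.trans hAH))).trans
      (zr5 ▸ centralizer_le_normalizer _))
  have h1 : (pPrimeCore p H).map H.subtype ≤ M := (p'coreIn_le_cent_of_forall hsH zp2
    ((zp3.trans hAH).trans le_normalizer) hZp).trans (zp5 ▸ centralizer_le_normalizer _)
  have h2 : (pPrimeCore p H).map H.subtype ≤ (pPrimeCore p M).map M.subtype :=
    le_p'coreIn_of_norm (mFT_sol hG hM.1) (map_pCore_isPGroup p H) hDM
      (by rw [hND]; exact le_inf h1 (map_subtype_le _)) (map_pPrimeCore_coprime p H)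
      (by rw [hND]; exact inf_le_right.trans (le_normalizer.trans
        (normalizer_le_normalizer_map_pPrimeCore p H)))
  have h3 : (pPrimeCore p M).map M.subtype ≤ H := by
    refine (p'coreIn_le_cent_of_forall (mFT_sol hG hM.1) (map_pCore_isPGroup p H)
      (hDM.trans le_normalizer) fun q _ hqp => ?_).trans
        ((centralizer_le_normalizer _).trans hND.le)
    refine le_centralizer_comm ((h87 p hpF).trans (centralizer_antitone (le_inf
      (pcoreIn_le_p'coreIn hqp M) (le_trans (le_inf (pcoreIn_le_fittingOf M) ?_) hAH))))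
    exact (pcoreIn_le_p'coreIn hqp M).trans ((p'coreIn_le_cent_pcoreIn M).trans
      (centralizer_antitone (le_pcoreIn_of_le_fittingOf hA₀ (elemAb_isPGroup hA₀e))))
  have h4 : (pPrimeCore p H).map H.subtype = (pPrimeCore p M).map M.subtype :=
    le_antisymm h2 ((le_inf le_rfl h3).trans (hK1 H hH.1 hAH p hpF))
  have h5 : (pPrimeCore p M).map M.subtype ≠ ⊥ := fun h =>
    zr1 (eq_bot_iff.2 (h ▸ zr4.trans (pcoreIn_le_p'coreIn hrp M)))
  rw [← mmax_normal hG hM (map_subtype_le _)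
      (le_normalizer.trans (normalizer_le_normalizer_map_pPrimeCore p M)) h5, ← h4,
    mmax_normal hG hH (map_subtype_le _)
      (le_normalizer.trans (normalizer_le_normalizer_map_pPrimeCore p H)) (h4 ▸ h5)]

theorem Sylow_of_pcore_Fitting (hG : IsMinSimpleOddOrder G) {M P : Subgroup G} (hM : IsCoatom M)
    (hF : IsPGroup p ↥(fittingOf M)) (hP : IsSylowIn p P M) : IsSylowIn p P ⊤ :=
  isSylowIn_of_norm_le hP le_top (inf_le_right.trans (norm_Sylow_le_of_p'core_eq_bot hG hM
    (p'core_eq_bot_of_fitting (mFT_sol hG hM.1) hF) hP (hP.ne_bot ((dvd_card_of_isPGroup_ne_bot hF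
      (mmax_fitting_ne_bot hG hM)).trans (card_dvd_of_le (fittingOf_le' M))))))

/-- BG 8.1(b). -/
theorem SCN_Fitting_Uniqueness (hG : IsMinSimpleOddOrder G) {M P A : Subgroup G} (hM : IsCoatom M)
    (hF : IsPGroup p ↥(fittingOf M)) (hP : IsSylowIn p P M) (hA : IsSCN P A)
    (hA3 : ¬ PRankLE p 2 A) : A ≤ fittingOf M ∧ InUniqueMaximal A := by
  have hsM := mFT_sol hG hM.1
  have hO := p'core_eq_bot_of_fitting hsM hF
  have hAp := hP.isPGroup.to_le hA.1
  have hAM := hA.1.trans hP.le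
  have hAF : A ≤ fittingOf M := by
    have := odd_p_abelian_constrained_of hsM (mFT_odd hG M) hP hA.1 (IsSCN.comm hA) hA.2.1
    rw [pPrimePCore_eq_pCore_of_eq_bot hO] at this
    exact this.trans (pcoreIn_le_fittingOf M)
  refine ⟨hAF, ?_⟩
  have hA1 : A ≠ ⊥ := by
    rintro rfl
    exact hA3 (pRankLE_of_card_le (by rw [card_bot]; exact Nat.one_le_pow _ _ hp.out.pos))
  obtain ⟨S, rfl⟩ := IsSylowIn.top_iff.1 (Sylow_of_pcore_Fitting hG hM hF hP)
  have hMF : M ≤ normalizer (fittingOf M : Set G) :=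
    le_normalizer.trans (normalizer_le_normalizer_fittingOf' M)
  have hFS : fittingOf M ≤ S := by
    have := hP.eq_of_le (hP.isPGroup.to_sup_of_normal_right' hF (hP.le.trans hMF)) le_sup_left
      (sup_le hP.le (fittingOf_le' M))
    exact le_sup_right.trans this.le
  have hCF : fittingOf M ⊓ centralizer (A : Set G) ≤ A :=
    (inf_le_inf_right _ hFS).trans hA.2.2.le
  have hCM : centralizer (A : Set G) ≤ M := (centralizer_antitone ((inf_le_inf_left _
    (centralizer_antitone hAF)).trans hCF)).trans (mmax_cent_le hG hM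
      (inf_le_left.trans (fittingOf_le' M)) (Cop.le_normalizer_inf_centralizer hMF hMF)
      (inf_centralizer_ne_bot_of_isNilpotent (fittingOf_isNilpotent' M) le_rfl le_normalizer
        (mmax_fitting_ne_bot hG hM)))
  have hK : piCoreOf (primesNotDvd (Nat.card A)) (centralizer (A : Set G)) = ⊥ := by
    rw [piCoreOf_primesNotDvd_eq hAp hA1]
    have h1 := map_pPrimeCore_coprime p (centralizer (A : Set G))
    have h2 := (map_subtype_le (pPrimeCore p (centralizer (A : Set G)))).trans hCM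
    have h3 := le_inf hAF (le_centralizer_comm (map_subtype_le
      (pPrimeCore p (centralizer (A : Set G)))))
    exact H5.eq_bot_of_isPGroup_of_coprime (hF.to_le ((le_inf h2 (coprime_nil_faithful_cent_stab
      (fittingOf_isNilpotent' M) (h2.trans hMF) (Cop.coprime_card_of_isPGroup h1 hF)
      (((inf_le_inf_left _ (centralizer_antitone h3)).trans hCF).trans h3))).trans
        (cent_sub_Fitting hsM))) h1
  have hA2 : ¬ PRankLE p 1 A := fun h => hA3 (pRankLE_of_le_rank hp.out.pos h one_le_two)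
  have hcs := SCN_normed_constrained hG S hA hA2
  have hp' : ∀ H : Subgroup G, H ≠ ⊤ → A ≤ H → pPrimeCore p H = ⊥ := by
    intro H hH hAH
    have hn := hAH.trans (le_normalizer.trans (normalizer_le_normalizer_map_pPrimeCore p H))
    have hc := map_pPrimeCore_coprime p H
    refine (map_eq_bot_iff_of_injective _ H.subtype_injective).1 (eq_bot_iff.2
      (Cop.le_of_forall_invariant_sylowOf_le hn (Cop.coprime_card_of_isPGroup hc hAp).symm
        (Or.inl (isSolvable_of_isPGroup hAp)) fun q hq Q hd h1 h2 => le_of_eq ?_))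
    have hqA : ¬ q ∣ Nat.card A := fun h => by
      rw [eq_of_prime_dvd_card_isPGroup hAp hq.out h] at hd
      exact hp.out.one_lt.ne' (hc.symm.eq_one_of_dvd hd)
    exact inv_eq_bot_of_trans hG hM hcs hAF (fun r hr h => eq_of_prime_dvd_card_isPGroup hF hr h ▸
      dvd_card_of_isPGroup_ne_bot hAp hA1) hq.out hqA
      (normed_constrained_rank3_trans hG A hcs (by
        rw [inf_eq_left.2 (IsSCN.le_centralizer hA)]
        exact fun h => hA3 (h p hp.out)) q hq.out hqA) hK h1.2.1 h2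
  refine (inUniqueMaximal_iff hM hAM).2 fun H₀ hH₀ hAH₀ => by_contra fun hne => ?_
  obtain ⟨R, hAR, hR, hmax⟩ := Finite.exists_le_maximal (p := fun R : Subgroup G =>
    IsPGroup p R ∧ R ≤ M ∧ ∃ H, IsCoatom H ∧ H ≠ M ∧ R ≤ H) ⟨hAp, hAM, H₀, hH₀, hne, hAH₀⟩
  obtain ⟨hRp, hRM, H, hH, hHM, hRH⟩ := hR
  have hR1 : R ≠ ⊥ := fun h => hA1 (eq_bot_iff.2 (h ▸ hAR))
  have hNM : normalizer (R : Set G) ≤ M := by
    obtain ⟨Q, h1, h2⟩ := IsSylowIn.exists_ge hRp hRM
    rcases h1.lt_or_eq with h3 | rfl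
    · obtain ⟨L, hL, hNL⟩ := mmax_exists (mFT_norm_proper hG hR1 (mFT_pgroup_proper hG hRp))
      have h4 := lt_inf_normalizer_of_isPGroup h2.isPGroup h3
      by_contra h5
      exact h4.not_ge (hmax ⟨h2.isPGroup.to_le inf_le_left, inf_le_left.trans h2.le, L, hL,
        fun h => h5 (h ▸ hNL), inf_le_right.trans hNL⟩ h4.le)
    · exact norm_Sylow_le_of_p'core_eq_bot hG hM hO h2 hR1
  have hRs : IsSylowIn p R (H ⊓ M) := IsSylowIn.of_maximal (le_inf hRH hRM) hRp
    fun T h1 h2 h3 => hmax ⟨h1, h3.trans inf_le_right, H, hH, hHM, h3.trans inf_le_left⟩ h2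
  have hRH' := isSylowIn_of_norm_le hRs hRH (inf_le_inf_left _ hNM)
  have hOH := hp' H hH.1 (hAR.trans hRH)
  have hRM' := isSylowIn_of_norm_le hRH' hRM
    (inf_le_right.trans (norm_Sylow_le_of_p'core_eq_bot hG hH hOH hRH' hR1))
  exact hHM ((norm_centerPuig_eq hG hH hOH hRH' hR1).symm.trans
    (norm_centerPuig_eq hG hM hO hRM' hR1))

end

/-- BG 8.1. -/
theorem Fitting_Uniqueness_cases {G : Type*} [Group G] [Finite G] (hG : Cfsg.IsMinSimpleOddOrder G)
    (M : Subgroup G) (hM : IsCoatom M) (p : ℕ) [Fact p.Prime] (A₀ : Subgroup G)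
    (hA₀ : A₀ ≤ Cfsg.fittingOf M) (hA₀e : Cfsg.IsElementaryAbelian p A₀) (hA₀3 : p ^ 3 ≤ Nat.card A₀)
    (hA₀max : ∀ B : Subgroup G, B ≤ Cfsg.fittingOf M → Cfsg.IsElementaryAbelian p B → A₀ ≤ B → B = A₀) :
    (¬ IsPGroup p ↥(Cfsg.fittingOf M) → Cfsg.InUniqueMaximal (Cfsg.fittingOf M ⊓ Subgroup.centralizer (A₀ : Set G))) ∧
      (IsPGroup p ↥(Cfsg.fittingOf M) → ∀ P : Sylow p M,
        ¬ p ∣ ((P : Subgroup M).map M.subtype).index ∧
        ∀ A : Subgroup G, Cfsg.IsSCN ((P : Subgroup M).map M.subtype) A → ¬ Cfsg.PRankLE p 2 ↥A →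
          A ≤ Cfsg.fittingOf M ∧ Cfsg.InUniqueMaximal A) := by
  refine ⟨non_pcore_Fitting_Uniqueness hG hM hA₀ hA₀e hA₀3, fun hF P => ⟨?_, fun A hA hA3 =>
    SCN_Fitting_Uniqueness hG hM hF (IsSylowIn.of_sylow_subgroup P) hA hA3⟩⟩
  rw [← relIndex_top_right]
  exact (Sylow_of_pcore_Fitting hG hM hF (IsSylowIn.of_sylow_subgroup P)).not_dvd

/-- BG 8.1, combined form: `F(M)` is a uniqueness subgroup when it has rank at least 3. -/
theorem Fitting_Uniqueness {G : Type*} [Group G] [Finite G] (hG : IsMinSimpleOddOrder G)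
    (M : Subgroup G) (hM : IsCoatom M) (hF : ¬ RankLE 2 ↥(fittingOf M)) :
    InUniqueMaximal (fittingOf M) := by
  obtain ⟨p, hp, A₀, h1, h2, h3⟩ := not_rankLE_iff.1 hF
  have := Fact.mk hp
  have hF' := ne_top_of_le_ne_top hM.1 (fittingOf_le' M)
  by_cases hFp : IsPGroup p ↥(fittingOf M)
  · obtain ⟨P, h4, hP⟩ := IsSylowIn.exists_ge hFp (fittingOf_le' M)
    obtain ⟨A, hA, hA3⟩ := rank3_SCN3 (mFT_prime_ne_two' hG (h3 ▸ dvd_pow_self p (by norm_num)))
      hP.isPGroup (not_pRankLE_iff.2 ⟨A₀, h1.trans h4, h2, h3⟩)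
    obtain ⟨h5, h6⟩ := SCN_Fitting_Uniqueness hG hM hFp hP hA hA3
    exact InUniqueMaximal.mono h6 h5 hF'
  · exact InUniqueMaximal.mono (non_pcore_Fitting_Uniqueness hG hM h1 h2 h3.ge hFp) inf_le_left hF'

end CfsgLib.FT
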