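import Mathlib
import Cfsg.Agent.Lib.FT.BG8

/-! Bender–Glauberman, section 9: the uniqueness theorem. -/

set_option autoImplicit false

namespace CfsgLib.FT

open Subgroup Cfsg
open scoped commutatorElement

section Aux

variable {G : Type*} [Group G] [Finite G] {p : ℕ} [hp : Fact p.Prime]

omit [Finite G] in
theorem le_sylowIn_of_norm {S H N : Subgroup G} (hS : IsSylowIn p S H) (hN : IsPGroup p N)
    (hNH : N ≤ H) (hn : S ≤ normalizer (N : Set G)) : N ≤ S :=
  le_sup_right.trans (hS.eq_of_le (hS.isPGroup.to_sup_of_normal_right' hN hn) le_sup_left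
    (sup_le hS.le hNH)).le

omit [Finite G] in
theorem pcoreIn_le_sylowIn {S H : Subgroup G} (hS : IsSylowIn p S H) :
    (pCore p H).map H.subtype ≤ S :=
  le_sylowIn_of_norm hS (map_pCore_isPGroup p H) (map_subtype_le _)
    (hS.le.trans (le_normalizer.trans (normalizer_le_normalizer_map_pCore p H)))

theorem le_p'coreIn_of_Sylow_norm {M P K : Subgroup G} (hM : Group.IsSolvable M)
    (hP : IsSylowIn p P M) (hK : K ≤ M) (hKp : (Nat.card K).Coprime p)
    (hn : P ≤ normalizer (K : Set G)) : K ≤ (pPrimeCore p M).map M.subtype := by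
  have := pPrimePCore_normal' (p := p) (G := M)
  have h1 := hP.inf_of_le_normalizer (map_subtype_le (pPrimePCore p M))
    (hP.le.trans (le_normalizer_map_subtype _))
  rw [← Cop.commutator_sup_centralizer (inf_le_left.trans hn)
    (Cop.coprime_card_of_isPGroup hKp h1.isPGroup).symm
    (Or.inl (isSolvable_of_isPGroup h1.isPGroup))]
  exact sup_le (commutator_le_p'core hK hKp h1.le (inf_le_left.trans hn))
    (le_p'core_of_le_p'pcore ((inf_le_inf_right _ hK).trans (cent_le_pPrimePCore_of hM h1))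
      (hKp.coprime_dvd_left (card_dvd_of_le inf_le_left)))

omit hp in
theorem rank2_der1_sub_fittingOf {H : Subgroup G} (hH : Group.IsSolvable H)
    (hodd : Odd (Nat.card H)) (hr : RankLE 2 (fittingOf H)) : ⁅H, H⁆ ≤ fittingOf H := by
  have := map_mono (f := H.subtype) (rank2_der1_sub_Fitting hodd (rankLE_map_subtype_iff.1 hr))
  rwa [_root_.commutator_def, map_commutator, ← MonoidHom.range_eq_map, range_subtype] at this

theorem le_of_rank2_fitting {H R K : Subgroup G} (hH : Group.IsSolvable H)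
    (hodd : Odd (Nat.card H)) (hr : RankLE 2 (fittingOf H)) (hR : IsSylowIn p R H)
    (h1 : fittingOf H ≤ K) (h2 : H ⊓ normalizer (R : Set G) ≤ K) : H ≤ K := by
  have h3 := sup_le (fittingOf_le' H) hR.le
  exact ((hR.mono le_sup_right h3).frattini_le h3 (le_normalizer_iff_commutator_le_left.2
    ((commutator_mono h3 le_rfl).trans ((rank2_der1_sub_fittingOf hH hodd hr).trans
      le_sup_left)))).trans (sup_le (sup_le h1 ((le_inf hR.le le_normalizer).trans h2)) h2)

theorem not_isCyclic_of_cocyclic {B C : Subgroup G} (hB : IsElementaryAbelian p B)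
    (hB3 : Nat.card B = p ^ 3) (hC : C ≤ B) {a : G} (ha : a ∈ B) (hCa : C ⊔ zpowers a = B) :
    ¬ IsCyclic C := by
  intro hc
  have h1 := card_le_of_isCyclic_of_pow_eq_one hc (elemAb_of_le hB hC).2
  have h2 := card_le_of_isCyclic_of_pow_eq_one (E := zpowers a) inferInstance
    (elemAb_zpowers (hB.2 a ha)).2
  have h3 := Nat.le_of_dvd (Nat.mul_pos Nat.card_pos Nat.card_pos) (card_sup_dvd_mul
    (H := C) (N := zpowers a) ((hC.trans ((elemAb_le_centralizer hB).trans
      (centralizer_antitone (zpowers_le.2 ha)))).trans (centralizer_le_normalizer _)))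
  rw [hCa, hB3] at h3
  have h4 := h3.trans (Nat.mul_le_mul h1 h2)
  rw [← sq] at h4
  exact absurd ((Nat.pow_le_pow_iff_right hp.out.one_lt).1 h4) (by norm_num)

omit [Finite G] in
theorem not_rankLE_of_le {R A : Subgroup G} {k : ℕ} (h : A ≤ R) (hA : IsElementaryAbelian p A)
    (hc : p ^ (k + 1) ≤ Nat.card A) : ¬ RankLE k R := fun hr =>
  not_pRankLE_of_le h hA (lt_of_lt_of_le (Nat.pow_lt_pow_right hp.out.one_lt k.lt_succ_self) hc)
    (hr p hp.out)

theorem not_rankLE_one_inf_cent {E D : Subgroup G} (hE : IsElementaryAbelian p E)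
    (hE3 : Nat.card E = p ^ 3) (hn : E ≤ normalizer (D : Set G)) (hD : Nat.card D = p ^ 2) :
    ¬ RankLE 1 ↥(E ⊓ centralizer (D : Set G)) := by
  refine not_rankLE_of_le le_rfl (elemAb_of_le hE inf_le_left) ?_
  have := card_le_mul_card_inf_centralizer (elemAb_isPGroup hE) hn hD
  rw [hE3, pow_succ'] at this
  exact Nat.le_of_mul_le_mul_left this hp.out.pos

/-- BG 9.1(b). -/
theorem noncyclic_normed_sub_Uniqueness (hG : IsMinSimpleOddOrder G) {M B : Subgroup G}
    (hM : IsCoatom M) (hBM : B ≤ M) (hBp : IsPGroup p B) (hB1 : B ≠ ⊥)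
    (h : ∀ Y : Subgroup G, (Nat.card Y).Coprime p → B ≤ normalizer (Y : Set G) → Y ≤ M) :
    InUniqueMaximal B := by
  have hNP : ∀ P, IsSylowIn p P M → B ≤ P → normalizer (P : Set G) ≤ M := by
    intro P hP hBP
    by_cases hO : pPrimeCore p M = ⊥
    · exact norm_Sylow_le_of_p'core_eq_bot hG hM hO hP fun h => hB1 (eq_bot_iff.2 (h ▸ hBP))
    have hn := le_normalizer.trans (normalizer_le_normalizer_map_pPrimeCore p M)
    intro x hx
    rw [← mmax_normal hG hM (map_subtype_le _) hn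
      fun h => hO ((map_eq_bot_iff_of_injective _ M.subtype_injective).1 h)]
    have h1 := le_normalizer_map_conj (hP.le.trans hn) hx
    have h2 : (Nat.card (((pPrimeCore p M).map M.subtype).map
        (MulAut.conj x).toMonoidHom)).Coprime p := by
      rw [card_map_conj]
      exact map_pPrimeCore_coprime p M
    exact mem_normalizer_of_conj_mem fun y hy => le_p'coreIn_of_Sylow_norm (mFT_sol hG hM.1) hP
      (h _ h2 (hBP.trans h1)) h2 h1 (conj_mem_map_conj hy)
  refine (inUniqueMaximal_iff hM hBM).2 fun H₀ hH₀ hBH₀ => by_contra fun hne => ?_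
  obtain ⟨R, hBR, hR, hmax⟩ := Finite.exists_le_maximal (p := fun R : Subgroup G =>
    IsPGroup p R ∧ R ≤ M ∧ ∃ H, IsCoatom H ∧ H ≠ M ∧ R ≤ H) ⟨hBp, hBM, H₀, hH₀, hne, hBH₀⟩
  obtain ⟨hRp, hRM, H, hH, hHM, hRH⟩ := hR
  have hR1 : R ≠ ⊥ := fun h => hB1 (eq_bot_iff.2 (h ▸ hBR))
  have hNM : normalizer (R : Set G) ≤ M := by
    obtain ⟨Q, h1, h2⟩ := IsSylowIn.exists_ge hRp hRM
    rcases h1.lt_or_eq with h3 | rfl
    · obtain ⟨L, hL, hNL⟩ := mmax_exists (mFT_norm_proper hG hR1 (mFT_pgroup_proper hG hRp))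
      have h4 := lt_inf_normalizer_of_isPGroup h2.isPGroup h3
      by_contra h5
      exact h4.not_ge (hmax ⟨h2.isPGroup.to_le inf_le_left, inf_le_left.trans h2.le, L, hL,
        fun h => h5 (h ▸ hNL), inf_le_right.trans hNL⟩ h4.le)
    · exact hNP R h2 hBR
  have hRs : IsSylowIn p R (H ⊓ M) := IsSylowIn.of_maximal (le_inf hRH hRM) hRp
    fun T h1 h2 h3 => hmax ⟨h1, h3.trans inf_le_right, H, hH, hHM, h3.trans inf_le_left⟩ h2
  have hRH' := isSylowIn_of_norm_le hRs hRH (inf_le_inf_left _ hNM)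
  have hFM : fittingOf H ≤ M := fittingOf_le_of_forall fun q _ => by
    by_cases hqp : q = p
    · subst hqp
      exact (pcoreIn_le_sylowIn hRH').trans hRM
    · exact h _ (coprime_card_of_isPGroup_ne hqp (map_pCore_isPGroup q H)) ((hBR.trans hRH).trans
        (le_normalizer.trans (normalizer_le_normalizer_map_pCore q H)))
  by_cases hr : RankLE 2 (fittingOf H)
  · exact hHM ((hH.le_iff_eq hM.1).1 (le_of_rank2_fitting (mFT_sol hG hH.1) (mFT_odd hG H) hr hRH'
      hFM (inf_le_right.trans hNM))).symm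
  · exact hHM (InUniqueMaximal.eq (Fitting_Uniqueness hG H hH hr) hM hFM hH (fittingOf_le' H))

/-- BG 9.1(a). -/
theorem noncyclic_cent1_sub_Uniqueness (hG : IsMinSimpleOddOrder G) {M B : Subgroup G}
    (hM : IsCoatom M) (hBe : IsElementaryAbelian p B) (hBnc : ¬ IsCyclic B)
    (h : ∀ b ∈ B, b ≠ 1 → centralizer ({b} : Set G) ≤ M) : InUniqueMaximal B := by
  refine noncyclic_normed_sub_Uniqueness hG hM (fun b hb => ?_) (elemAb_isPGroup hBe)
    (by rintro rfl; exact hBnc inferInstance) fun Y hY hn =>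
    Cop.le_of_centralizer_le_of_not_isCyclic hBe.1 hBnc hn
      (Cop.coprime_card_of_isPGroup hY (elemAb_isPGroup hBe)).symm
      fun b hb hb1 => inf_le_right.trans (h b hb hb1)
  by_cases hb1 : b = 1
  · exact hb1 ▸ one_mem M
  · exact h b hb hb1 (mem_centralizer_singleton_iff.2 rfl)

end Aux

/-- BG 9.1. -/
theorem noncyclic_sub_Uniqueness {G : Type*} [Group G] [Finite G] (hG : Cfsg.IsMinSimpleOddOrder G)
    (M : Subgroup G) (hM : IsCoatom M) (p : ℕ) [Fact p.Prime] (B : Subgroup G) (hBM : B ≤ M)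
    (hBe : Cfsg.IsElementaryAbelian p B) (hBnc : ¬ IsCyclic B)
    (h : (∀ b ∈ B, b ≠ 1 → Subgroup.centralizer ({b} : Set G) ≤ M) ∨
      ∀ Y ∈ Cfsg.invSubgroups ⊤ B (Cfsg.primesNotDvd p), Y ≤ M) :
    Cfsg.InUniqueMaximal B := by
  rcases h with h | h
  · exact noncyclic_cent1_sub_Uniqueness hG hM hBe hBnc h
  · refine noncyclic_normed_sub_Uniqueness hG hM hBM (elemAb_isPGroup hBe)
      (by rintro rfl; exact hBnc inferInstance) fun Y hY hn => h Y ⟨le_top, fun r hr hd => ⟨hr,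
        fun h' => hr.one_lt.ne' (Nat.eq_one_of_dvd_coprimes hY hd h')⟩, hn⟩

/-- BG 9.2. -/
theorem cent_uniq_Uniqueness {G : Type*} [Group G] [Finite G] (hG : Cfsg.IsMinSimpleOddOrder G)
    (L K : Subgroup G) (hL : Cfsg.InUniqueMaximal L) (hK : K ≤ Subgroup.centralizer (L : Set G)) (hKr : ¬ Cfsg.RankLE 1 K) :
    Cfsg.InUniqueMaximal K := by
  obtain ⟨M, hM, hLM⟩ := hL.exists
  obtain ⟨p, hp, B, hB, hBe, hB2⟩ := not_rankLE_iff.1 hKr
  have := Fact.mk hp
  refine InUniqueMaximal.mono (noncyclic_cent1_sub_Uniqueness hG hM hBe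
    (not_isCyclic_of_p2Elem_le le_rfl hBe hB2.ge) fun b hb hb1 =>
      InUniqueMaximal.le hL hM hLM (mFT_cent1_proper hG hb1) (le_cent1_iff.2 (hK (hB hb)))) hB
    (ne_top_of_le_ne_top (mFT_cent_proper hG (InUniqueMaximal.ne_bot hG hL)) hK)

/-- BG 9.3. -/
theorem any_cent_rank3_Uniqueness {G : Type*} [Group G] [Finite G] (hG : Cfsg.IsMinSimpleOddOrder G)
    (p : ℕ) [Fact p.Prime] (A B : Subgroup G) (hAp : IsPGroup p A) (hAc : IsMulCommutative A) (hA3 : ¬ Cfsg.PRankLE p 2 ↥A)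
    (hAU : Cfsg.InUniqueMaximal A) (hBp : IsPGroup p B) (hBnc : ¬ IsCyclic B) (hB3 : ¬ Cfsg.PRankLE p 2 ↥(Subgroup.centralizer (B : Set G))) :
    Cfsg.InUniqueMaximal B := by
  obtain ⟨C, hC, hCe, hC3⟩ := not_pRankLE_iff.1 hB3
  have hp2 : p ≠ 2 := mFT_prime_ne_two' hG (hC3 ▸ dvd_pow_self p (by norm_num))
  obtain ⟨P, hCP, hP⟩ := IsSylowIn.exists_ge (elemAb_isPGroup hCe) le_top
  obtain ⟨x, -, hx⟩ := hP.exists_conj_le hAp le_top
  obtain ⟨E, hE, hEe, hE3⟩ := not_pRankLE_iff.1 fun h => hA3 ((pRankLE_map_conj_iff x).1 h)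
  obtain ⟨D, -, hDn, hDe, hD2⟩ := ex_odd_normal_p2Elem hp2 hP.isPGroup
    (not_isCyclic_of_p2Elem_le hCP hCe
      (hC3 ▸ Nat.pow_le_pow_right (Fact.out : p.Prime).pos (by norm_num)))
  have h1 := cent_uniq_Uniqueness hG _ _ (InUniqueMaximal.map_conj hAU x)
    ((inf_le_left.trans hE).trans (le_centralizer_of_isMulCommutative
      (isMulCommutative_map' hAc _))) (not_rankLE_one_inf_cent hEe hE3 ((hE.trans hx).trans hDn) hD2)
  have h2 := cent_uniq_Uniqueness hG _ _ h1 (le_centralizer_comm inf_le_right)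
    (not_rankLE_of_le le_rfl hDe hD2.ge)
  have h3 := cent_uniq_Uniqueness hG _ _ h2 inf_le_right
    (not_rankLE_one_inf_cent hCe hC3 (hCP.trans hDn) hD2)
  have h4 := InUniqueMaximal.mono h3 inf_le_left (mFT_pgroup_proper hG (elemAb_isPGroup hCe))
  exact cent_uniq_Uniqueness hG _ _ h4 (le_centralizer_comm hC)
    fun h => hBnc ((odd_pgroup_rank1_cyclic hp2 hBp).1 (h p Fact.out))

/-- BG 9.4. -/
theorem any_rank3_Fitting_Uniqueness {G : Type*} [Group G] [Finite G] (hG : Cfsg.IsMinSimpleOddOrder G)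
    (M : Subgroup G) (hM : IsCoatom M) (p : ℕ) [Fact p.Prime] (hF : ¬ Cfsg.PRankLE p 2 ↥(Cfsg.fittingOf M))
    (A : Subgroup G) (hAp : IsPGroup p A) (hAc : IsMulCommutative A) (hA3 : ¬ Cfsg.PRankLE p 2 ↥A) :
    Cfsg.InUniqueMaximal A := by
  obtain ⟨A₀, h1, h2, h3⟩ := not_pRankLE_iff.1 hF
  have hnc := not_isCyclic_of_not_pRankLE_two hA3
  have hC : ¬ PRankLE p 2 (centralizer (A : Set G)) := fun h =>
    hA3 (pRankLE_mono h (le_centralizer_of_isMulCommutative hAc))
  by_cases hFp : IsPGroup p ↥(fittingOf M)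
  · obtain ⟨P, h4, hP⟩ := IsSylowIn.exists_ge hFp (fittingOf_le' M)
    obtain ⟨B, hB, hB3⟩ := rank3_SCN3 (mFT_prime_ne_two' hG (h3 ▸ dvd_pow_self p (by norm_num)))
      hP.isPGroup (not_pRankLE_iff.2 ⟨A₀, h1.trans h4, h2, h3⟩)
    exact any_cent_rank3_Uniqueness hG p B A (hP.isPGroup.to_le hB.1) (IsSCN.comm hB) hB3
      (SCN_Fitting_Uniqueness hG hM hFp hP hB hB3).2 hAp hnc hC
  · exact any_cent_rank3_Uniqueness hG p A₀ A (elemAb_isPGroup h2) h2.1
      (not_pRankLE_iff.2 ⟨A₀, le_rfl, h2, h3⟩) (cent_uniq_Uniqueness hG _ _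
        (non_pcore_Fitting_Uniqueness hG hM h1 h2 h3.ge hFp) (le_centralizer_comm inf_le_right)
        (not_rankLE_of_le le_rfl h2
          (h3 ▸ Nat.pow_le_pow_right (Fact.out : p.Prime).pos (by norm_num)))) hAp hnc hC

/-- BG 9.5. -/
theorem SCN_3_Uniqueness {G : Type*} [Group G] [Finite G] (hG : Cfsg.IsMinSimpleOddOrder G)
    (p : ℕ) [Fact p.Prime] (P : Sylow p G) (A : Subgroup G) (hA : Cfsg.IsSCN (P : Subgroup G) A) (hA3 : ¬ Cfsg.PRankLE p 2 ↥A) :
    Cfsg.InUniqueMaximal A := by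
  by_contra hU
  have hp : p.Prime := Fact.out
  have hP := P.isPGroup'
  have hAp := hP.to_le hA.1
  have hAA := IsSCN.le_centralizer hA
  obtain ⟨E, hE, hEe, hE3⟩ := not_pRankLE_iff.1 hA3
  have hA1 : A ≠ ⊥ := by
    rintro rfl
    exact hA3 (pRankLE_of_card_le (by rw [card_bot]; exact Nat.one_le_pow _ _ hp.pos))
  have hF2 : ∀ M, IsCoatom M → PRankLE p 2 (fittingOf M) := fun M hM => by_contra fun h =>
    hU (any_rank3_Fitting_Uniqueness hG M hM p h A hAp (IsSCN.comm hA) hA3)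
  have hF3 : ∀ M : Subgroup G, IsCoatom M → ¬ RankLE 2 (fittingOf M) → ∃ q : ℕ, ∃ _ : Fact q.Prime, q ≠ p ∧
      ∃ B : Subgroup G, B ≤ (pCore q M).map M.subtype ∧ InUniqueMaximal B := by
    intro M hM h
    obtain ⟨q, hq, B, h1, h2, h3⟩ := not_rankLE_iff.1 h
    have := Fact.mk hq
    have h4 : ¬ PRankLE q 2 (fittingOf M) := not_pRankLE_iff.2 ⟨B, h1, h2, h3⟩
    refine ⟨q, this, ?_, B, le_pcoreIn_of_le_fittingOf h1 (elemAb_isPGroup h2),
      any_rank3_Fitting_Uniqueness hG M hM q h4 B (elemAb_isPGroup h2) h2.1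
        (not_pRankLE_iff.2 ⟨B, le_rfl, h2, h3⟩)⟩
    rintro rfl
    exact h4 (hF2 M hM)
  have hcs := SCN_normed_constrained hG P hA fun h => hA3 (pRankLE_of_le_rank hp.pos h one_le_two)
  have hNR : ∀ M, IsCoatom M → centralizer (A : Set G) ≤ M → ∀ R, A ≤ R → R ≤ P → R ≤ M →
      normalizer (R : Set G) ≤ M := by
    intro M hM hCM R hAR hRP hRM
    obtain ⟨q, hq, hqp, Q, hQ, hNQ⟩ : ∃ q : ℕ, q.Prime ∧ q ≠ p ∧ ∃ Q ∈ maxInvSubgroups ⊤ R {q},
        normalizer (Q : Set G) ≤ M := by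
      by_cases hr : RankLE 2 (fittingOf M)
      · obtain ⟨q, hq, hmax⟩ := (Nat.card M).primeFactors.exists_max_image id ⟨p,
          Nat.mem_primeFactors.2 ⟨hp, (dvd_card_of_isPGroup_ne_bot hAp hA1).trans
            (card_dvd_of_le (hAA.trans hCM)), Nat.card_pos.ne'⟩⟩
        obtain ⟨hq, hqM, -⟩ := Nat.mem_primeFactors.1 hq
        have := Fact.mk hq
        have := mFT_sol hG hM.1
        obtain ⟨S⟩ : Nonempty (Sylow q M) := inferInstance
        have hSn := rank2_max_pcore_Sylow (p := q) (mFT_odd hG M) (rankLE_map_subtype_iff.1 hr)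
          (fun r hr hd => hmax r (Nat.mem_primeFactors.2 ⟨hr, hd, Nat.card_pos.ne'⟩)) S
        have hS := IsSylowIn.of_sylow_subgroup S
        have hn := le_normalizer_map_subtype (S : Subgroup M)
        have hN := mmax_normal hG hM hS.le hn (hS.ne_bot hqM)
        have hS' := isSylowIn_of_norm_le hS le_top (inf_le_right.trans hN.le)
        refine ⟨q, hq, ?_, _, mem_maxInv_top.2 ⟨isPGroup_iff_isPiSubgroup.1 hS.isPGroup,
          hRM.trans hn, fun T h1 _ h2 =>
            hS'.eq_of_le (isPGroup_iff_isPiSubgroup.2 h1) h2 le_top⟩, hN.le⟩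
        rintro rfl
        exact hA3 (pRankLE_mono ((pRankLE_iff_of_isSylowIn hS).2 (pRankLE_mono (hr q hq)
          ((le_map_pCore hS.le hn hS.isPGroup).trans (pcoreIn_le_fittingOf M)))) (hAA.trans hCM))
      · obtain ⟨q, hq, hqp, B, hB, hBU⟩ := hF3 M hM hr
        obtain ⟨Q, hQ, h1⟩ := exists_maxInv_top_ge
          (isPGroup_iff_isPiSubgroup.1 (map_pCore_isPGroup q M))
          (hRM.trans (le_normalizer.trans (normalizer_le_normalizer_map_pCore q M)))
        exact ⟨q, hq.out, hqp, Q, hQ, InUniqueMaximal.le hBU hM (hB.trans (map_subtype_le _))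
          (mFT_norm_proper hG (fun h => InUniqueMaximal.ne_bot hG hBU
            (eq_bot_iff.2 (h ▸ hB.trans h1)))
            (mFT_pgroup_proper hG (isPGroup_iff_isPiSubgroup.2 hQ.1.2.1)))
          ((hB.trans h1).trans le_normalizer)⟩
    have hqA : ¬ q ∣ Nat.card A := fun h => hqp (eq_of_prime_dvd_card_isPGroup hAp hq h)
    have hRp := hP.to_le hRP
    have h1 := ((normed_trans_superset hG A hcs q hq hqA R (mFT_pgroup_proper hG hRp)
      (fun r hr h => eq_of_prime_dvd_card_isPGroup hRp hr h ▸ dvd_card_of_isPGroup_ne_bot hAp hA1)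
      hAR (SubnormalIn.of_isNilpotent (isNilpotent_of_isPGroup hRp) hAR).2
      (normed_constrained_rank3_trans hG A hcs (by
        rw [inf_eq_left.2 hAA]
        exact fun h => hA3 (h p hp)) q hq hqA)).2.2.2 Q hQ).2
    exact h1.le.trans (sup_le ((piCoreOf_le' _ _).trans ((centralizer_antitone hAR).trans hCM))
      (inf_le_right.trans hNQ))
  have hNP : ∀ M, IsCoatom M → centralizer (A : Set G) ≤ M →
      normalizer ((P : Subgroup G) : Set G) ≤ M := fun M hM hCM =>
    hNR M hM hCM P hA.1 le_rfl (hA.2.1.trans (hNR M hM hCM A le_rfl hA.1 (hAA.trans hCM)))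
  set P₀ : Subgroup G := ⁅(P : Subgroup G), normalizer ((P : Subgroup G) : Set G)⁆ with hP₀
  have hP₀P : P₀ ≤ P := Cop.commutator_le_left_of_le_normalizer le_rfl
  have hP₀1 : P₀ ≠ ⊥ := by
    intro h
    obtain ⟨N, hN, h1, k, h2⟩ := PCompl.hnpc_exists_normal (PCompl.hnpc_of_normalizer_le_centralizer
      P (Cop.commutator_eq_bot_iff_le_centralizer'.1 h))
    have := mFT_simple hG
    rcases hN.eq_bot_or_eq_top with rfl | rfl
    · rw [index_bot] at h2
      exact mFT_pgroup_proper hG ((IsPGroup.iff_card.2 ⟨k, h2⟩).to_subgroup ⊤) rfl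
    · exact hA1 (H5.eq_bot_of_isPGroup_of_coprime hAp
        (h1.coprime_dvd_left (card_dvd_of_le le_top)))
  have hcent : ∀ M, IsCoatom M → centralizer (A : Set G) ≤ M → ∀ (q : ℕ) [Fact q.Prime], q ≠ p →
      (pCore q M).map M.subtype ≤ centralizer (P₀ : Set G) := by
    intro M hM hCM q hq hqp
    by_cases h0 : (pCore q M).map M.subtype = ⊥
    · exact h0 ▸ bot_le
    have hQ := map_pCore_isPGroup q M
    have hq2 := mFT_prime_ne_two' hG (dvd_card_of_isPGroup_ne_bot hQ h0)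
    have hMn := le_normalizer.trans (normalizer_le_normalizer_map_pCore q M)
    refine Cop.le_of_cocyclic_centralizer_le hEe.1 ((hE.trans (hAA.trans hCM)).trans hMn)
      (Cop.coprime_card_of_isPGroup (coprime_card_of_isPGroup_ne hqp hQ)
        (elemAb_isPGroup hEe)).symm fun B hB ⟨a, ha, hBa⟩ => ?_
    obtain ⟨x, hx, hx1, hxM⟩ : ∃ x ∈ B, x ≠ 1 ∧ ¬ centralizer ({x} : Set G) ≤ M := by
      by_contra! h
      exact hU (InUniqueMaximal.mono (noncyclic_cent1_sub_Uniqueness hG hM (elemAb_of_le hEe hB)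
        (not_isCyclic_of_cocyclic hEe hE3 hB ha hBa) h) (hB.trans hE) (mFT_pgroup_proper hG hAp))
    obtain ⟨L, hL, hxL⟩ := mmax_exists (mFT_cent1_proper hG hx1)
    have h1 := le_inf (hNP M hM hCM) (hNP L hL ((cent_le_cent1 (hE (hB hx))).trans hxL))
    have h2 : PRankLE q 2 ↥((pCore q M).map M.subtype ⊓ L) := by
      by_contra h
      obtain ⟨C, h3, h4, h5⟩ := not_pRankLE_iff.1 h
      have h6 := (h3.trans inf_le_left).trans (pcoreIn_le_fittingOf M)
      exact hxM (InUniqueMaximal.eq (any_rank3_Fitting_Uniqueness hG M hM q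
        (not_pRankLE_iff.2 ⟨C, h6, h4, h5⟩) C (elemAb_isPGroup h4) h4.1
        (not_pRankLE_iff.2 ⟨C, le_rfl, h4, h5⟩)) hM (h6.trans (fittingOf_le' M)) hL
        (h3.trans inf_le_right) ▸ hxL)
    refine (inf_le_inf_left _ ((cent_le_cent1 hx).trans hxL)).trans
      (le_centralizer_comm fun y hy => der1_cent_rank2_pgroup hq2 (hQ.to_le inf_le_left) h2
        (le_normalizer_inf (inf_le_left.trans hMn) (inf_le_right.trans le_normalizer))
        (isSolvable_of_le (mFT_sol hG hM.1) inf_le_left) (mFT_odd hG _)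
        (commutator_mono (le_normalizer.trans h1) h1 hy) ?_)
    exact (coprime_card_of_isPGroup_ne (Ne.symm hqp) hP).coprime_dvd_left
      ((P : Subgroup G).orderOf_dvd_natCard (hP₀P hy))
  obtain ⟨L₀, hL₀, hNL₀⟩ := mmax_exists (mFT_norm_proper hG hP₀1
    (mFT_pgroup_proper hG (hP.to_le hP₀P)))
  have huniq : ∀ M, IsCoatom M → centralizer (A : Set G) ≤ M → L₀ = M := by
    intro M hM hCM
    by_cases hr : RankLE 2 (fittingOf M)
    · have hPM := IsSylowIn.of_sylow P (le_normalizer.trans (hNP M hM hCM))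
      have hn : normalizer ((P : Subgroup G) : Set G) ≤ normalizer (P₀ : Set G) :=
        Cop.le_normalizer_commutator le_rfl le_normalizer
      refine (hM.le_iff_eq hL₀.1).1 ((le_of_rank2_fitting (mFT_sol hG hM.1) (mFT_odd hG M) hr hPM
        (fittingOf_le_of_forall fun q _ => ?_) (inf_le_right.trans hn)).trans hNL₀)
      by_cases hqp : q = p
      · subst hqp
        exact (pcoreIn_le_sylowIn hPM).trans (le_normalizer.trans hn)
      · exact (hcent M hM hCM q hqp).trans (centralizer_le_normalizer _)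
    · obtain ⟨q, hq, hqp, B, hB, hBU⟩ := hF3 M hM hr
      exact InUniqueMaximal.eq hBU hM (hB.trans (map_subtype_le _)) hL₀
        ((hB.trans (hcent M hM hCM q hqp)).trans ((centralizer_le_normalizer _).trans hNL₀))
  refine hU (InUniqueMaximal.mono (noncyclic_cent1_sub_Uniqueness hG hL₀ hEe
    (not_isCyclic_of_p2Elem_le le_rfl hEe (hE3 ▸ Nat.pow_le_pow_right hp.pos (by norm_num)))
    fun x hx hx1 => ?_) hE (mFT_pgroup_proper hG hAp))
  obtain ⟨L, hL, hxL⟩ := mmax_exists (mFT_cent1_proper hG hx1)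
  exact huniq L hL ((cent_le_cent1 (hE hx)).trans hxL) ▸ hxL

/-- BG 9.6, first case: proper subgroups of rank at least 3. -/
theorem rank3_Uniqueness {G : Type*} [Group G] [Finite G] (hG : IsMinSimpleOddOrder G)
    (K : Subgroup G) (hK : K ≠ ⊤) (hK3 : ¬ RankLE 2 K) : InUniqueMaximal K := by
  obtain ⟨p, hp, B, h1, h2, h3⟩ := not_rankLE_iff.1 hK3
  have := Fact.mk hp
  obtain ⟨P, hP⟩ := (elemAb_isPGroup h2).exists_le_sylow
  obtain ⟨A, hA, hA3⟩ := rank3_SCN3 (mFT_prime_ne_two' hG (h3 ▸ dvd_pow_self p (by norm_num)))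
    P.isPGroup' (not_pRankLE_iff.2 ⟨B, hP, h2, h3⟩)
  exact InUniqueMaximal.mono (any_cent_rank3_Uniqueness hG p A B (P.isPGroup'.to_le hA.1)
    (IsSCN.comm hA) hA3 (SCN_3_Uniqueness hG p P A hA hA3) (elemAb_isPGroup h2)
    (not_isCyclic_of_p2Elem_le le_rfl h2 (h3 ▸ Nat.pow_le_pow_right hp.pos (by norm_num)))
    (not_pRankLE_iff.2 ⟨B, elemAb_le_centralizer h2, h2, h3⟩)) h1 hK

/-- BG 9.6, second case. -/
theorem cent_rank3_Uniqueness {G : Type*} [Group G] [Finite G] (hG : IsMinSimpleOddOrder G)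
    (K : Subgroup G) (hK2 : ¬ RankLE 1 K) (hK3 : ¬ RankLE 2 (centralizer (K : Set G))) :
    InUniqueMaximal K :=
  cent_uniq_Uniqueness hG _ K (rank3_Uniqueness hG _ (mFT_cent_proper hG
    (by rintro rfl; exact hK2 (rankLE_one_of_isCyclic inferInstance))) hK3)
    (le_centralizer_comm le_rfl) hK2

/-- BG 9.6 (the Uniqueness Theorem). -/
theorem uniqueness_theorem {G : Type*} [Group G] [Finite G] (hG : Cfsg.IsMinSimpleOddOrder G)
    (K : Subgroup G) (hK : K ≠ ⊤) (hK2 : ¬ Cfsg.RankLE 1 K)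
    (hK3 : ¬ Cfsg.RankLE 2 K ∨ ¬ Cfsg.RankLE 2 (Subgroup.centralizer (K : Set G))) :
    Cfsg.InUniqueMaximal K :=
  hK3.elim (rank3_Uniqueness hG K hK) (cent_rank3_Uniqueness hG K hK2)

/-- BG 9.6, last statement: an elementary abelian subgroup of order `p ^ 2` that is not maximal
elementary abelian is a uniqueness subgroup. -/
theorem nonmaxElem2_Uniqueness {G : Type*} [Group G] [Finite G] (hG : IsMinSimpleOddOrder G)
    (p : ℕ) [Fact p.Prime] (A B : Subgroup G) (hA2 : Nat.card A = p ^ 2)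
    (hB : IsElementaryAbelian p B) (hAB : A < B) : InUniqueMaximal A :=
  cent_rank3_Uniqueness hG A (not_rankLE_of_le le_rfl (elemAb_of_le hB hAB.le) hA2.ge)
    (not_rankLE_of_le ((elemAb_le_centralizer hB).trans (centralizer_antitone hAB.le)) hB
      (pow_succ_le_card_of_lt (elemAb_isPGroup hB) (hA2 ▸ card_lt_card_of_lt hAB)))

end CfsgLib.FT
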