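import Mathlib
import Cfsg.Agent.Lib.FT.BG10Defs
import Cfsg.Agent.Lib.FT.BG9
import Cfsg.Agent.Lib.FT.BG10c

/-! Bender–Glauberman, section 10: the subgroups `M_α` and `M_σ`.  The results are proved in the
files `BG10a` (10.1–10.5), `BG10b` (10.6–10.9) and `BG10c` (10.10–10.14); the files `BG10T1`–`BG10T3`
contain a toolkit for ambient subgroups. -/
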