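import Mathlib
import Cfsg.Agent.Lib.FT.BG10

/-! Bender–Glauberman, section 11: exceptional maximal subgroups. -/

set_option autoImplicit false

namespace CfsgLib.FT

open Subgroup Cfsg BGN
open scoped commutatorElement

variable {G : Type*} [Group G] [Finite G]

theorem sigma'_Sylow_contra (hG : IsMinSimpleOddOrder G) {M P : Subgroup G} (hM : IsCoatom M)
    {p : ℕ} [Fact p.Prime] (hp : p ∉ sigma M) (hP : IsSylowIn p P M) : ¬ 𝐍(P) ≤ M := fun h =>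
  hp (sigma_of_norm_sylow hP (ne_bot_of_norm_le hM.1 h) h)

theorem narrow_of_pmaxElem (hG : IsMinSimpleOddOrder G) {q : ℕ} [Fact q.Prime] {B R : Subgroup G}
    (hB : P2Elem q B R) (hBm : PMaxElem q B) (hR : IsPGroup q R) : IsNarrow q R := by
  by_cases hr : PRankLE q 2 R
  · exact Or.inl hr
  · exact (isNarrow_iff_exists_p2maxElem (mFT_prime_ne_two' hG hB.dvd_card) hR hr).2
      ⟨B, hB.1, hB.2.1, hB.2.2, fun C _ hC h => hBm C hC h⟩

theorem pmaxElem_transitivity (hG : IsMinSimpleOddOrder G) {p : ℕ} [Fact p.Prime]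
    {A H : Subgroup G} (hA : P2Elem p A H) (hAm : PMaxElem p A) : TransitivityHypothesis A :=
  normed_constrained_of_plength1_or_SCN hG p (by simpa using (hA.of_le le_top).dvd_card) A
    hA.isPGroup hA.comm (Or.inl ⟨fun x hx => ⟨hAm.mem hA.2.1 hx, hA.2.1.2 x⟩,
      fun H hH => mFT_proper_plength1 hG p hH⟩)

theorem mem_of_sq_mem (hG : IsMinSimpleOddOrder G) {H : Subgroup G} {g : G} (h : g * g ∈ H) :
    g ∈ H := by
  obtain ⟨k, hk⟩ := mFT_odd_orderOf hG g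
  have h1 : (g * g) ^ (k + 1) = g := by
    rw [← sq, ← pow_mul, mul_add, mul_one, add_comm _ 2, show 2 + 2 * k = (2 * k + 1) + 1 by ring,
      ← hk, pow_succ, pow_orderOf_eq_one, one_mul]
  exact h1 ▸ pow_mem h _

/-- 1.16 with subgroups of order `p`. -/
theorem P2Elem.exists_cent_ne_bot {p : ℕ} [Fact p.Prime] {A H K : Subgroup G} (hA : P2Elem p A H)
    (hAK : A ≤ 𝐍(K)) (hcop : (Nat.card A).Coprime (Nat.card K)) (hK : K ≠ ⊥) :
    ∃ X ≤ A, Nat.card X = p ∧ K ⊓ 𝐂(X) ≠ ⊥ := by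
  obtain ⟨a, ha, h1, h2⟩ := Cop.exists_centralizer_ne_bot_of_not_isCyclic hA.comm hA.not_isCyclic
    hAK hcop hK
  exact ⟨zpowers a, zpowers_le.2 ha, card_zpowers_of_pow_eq_one (hA.2.1.2 a ha) h1,
    by rwa [H1.centralizer_zpowers_eq]⟩

/-- 1.16 with subgroups of order `p`. -/
theorem P2Elem.le_of_cent_le {p : ℕ} [Fact p.Prime] {A H K L : Subgroup G} (hA : P2Elem p A H)
    (hAK : A ≤ 𝐍(K)) (hcop : (Nat.card A).Coprime (Nat.card K))
    (h : ∀ X ≤ A, Nat.card X = p → K ⊓ 𝐂(X) ≤ L) : K ≤ L :=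
  Cop.le_of_centralizer_le_of_not_isCyclic hA.comm hA.not_isCyclic hAK hcop fun a ha h1 => by
    rw [← H1.centralizer_zpowers_eq]
    exact h _ (zpowers_le.2 ha) (card_zpowers_of_pow_eq_one (hA.2.1.2 a ha) h1)

omit [Finite G] in
theorem cj_inf_cent (g : G) (K X : Subgroup G) :
    g •ᶜ (K ⊓ 𝐂(X)) = g •ᶜ K ⊓ 𝐂(g •ᶜ X) := by rw [map_conj_inf, centralizer_map_conj]

variable (hG : IsMinSimpleOddOrder G) {M : Subgroup G} (hM : IsCoatom M) {p : ℕ} [hp' : Fact p.Prime]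
  {A₀ A : Subgroup G} (hexc : ExceptionalMax p M A₀ A)

include hexc in
omit [Finite G] hp' in
theorem ExceptionalMax.cent_le : 𝐂(A) ≤ M :=
  ((centralizer_antitone hexc.le).trans (cent_le_norm _)).trans hexc.norm_le

include hexc in
theorem ExceptionalMax.isPi : IsPiSubgroup (sigma M)ᶜ A :=
  isPi_of_isPGroup hexc.elem.isPGroup hexc.not_sigma

include hG hM hexc

/-- BG 11.1. -/
theorem exceptional_TIsigmaJ {g : G} (hg : g ∉ M) (hAg : A ≤ g •ᶜ M) {q : ℕ} [hq' : Fact q.Prime]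
    {Q₁ Q₂ : Subgroup G} (hQ₁ : IsSylowIn q Q₁ (sigmaCore M)) (hA₁ : A ≤ 𝐍(Q₁))
    (hQ₂ : IsSylowIn q Q₂ (g •ᶜ sigmaCore M)) (hA₂ : A ≤ 𝐍(Q₂)) :
    Q₁ ⊓ Q₂ = ⊥ ∧ ∀ X ≤ A, Nat.card X = p → Q₁ ⊓ 𝐂(X) = ⊥ ∨ Q₂ ⊓ 𝐂(X) = ⊥ := by
  have key : ∀ H ≠ ⊤, A ≤ H → H ⊓ Q₁ ≠ ⊥ → H ⊓ Q₂ ≠ ⊥ → False := fun H hH hAH h1 h2 => by
    have hq := mem_of_isPi_of_isPGroup hQ₁.isPGroup (ne_bot_of_le_ne_bot h1 inf_le_right)
      (isPiSubgroup_of_le (Msigma_isPi M) hQ₁.le)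
    have hQ₁' := sylow_of_hall hQ₁ (Msigma_Hall hG hM) hq
    have hQ₂' := sylow_of_hall hQ₂ (hall_cj (Msigma_Hall hG hM) g) hq
    obtain ⟨k, hk, rfl⟩ := normed_constrained_meet_trans hG A (pmaxElem_transitivity hG hexc.elem
      (sigma'_rank2_max hG hM hexc.not_sigma hexc.elem)) q hq'.out
      (fun h => hexc.isPi q hq'.out h hq) Q₁ Q₂ (sylow_mem_maxInv (sigma_Sylow_G hq hQ₁') hA₁)
      (sylow_mem_maxInv (sigma_Sylow_G (mem_sigma_conj hq g) hQ₂') hA₂) H hH hAH h1 h2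
    have := sigma_Sylow_trans hq hQ₁' (g := g⁻¹ * k) (by rw [← cj_cj]; exact le_cj_iff.1 hQ₂'.le)
    exact hg (inv_mem_iff.1 ((M.mul_mem_cancel_right (hexc.cent_le (piCoreOf_le _ _ hk))).1 this))
  have hQM := hQ₁.le.trans (Msigma_le M)
  refine ⟨by_contra fun h => key M hM.1 hexc.elem.1
    (ne_bot_of_le_ne_bot h (le_inf (inf_le_left.trans hQM) inf_le_left))
    (ne_bot_of_le_ne_bot h (inf_le_inf_right _ hQM)), fun X hX hXp => by_contra fun h => ?_⟩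
  rw [not_or, inf_comm Q₁, inf_comm Q₂] at h
  exact key _ (mFT_cent_proper hG (ne_bot_of_card_prime hXp))
    (le_cent_of_comm hexc.elem.comm le_rfl hX) h.1 h.2

/-- BG 11.2. -/
theorem exceptional_TI_MsigmaJ {g : G} (hg : g ∉ M) (hAg : A ≤ g •ᶜ M) :
    sigmaCore M ⊓ g •ᶜ M = ⊥ ∧ sigmaCore M ⊓ 𝐂(g •ᶜ A₀) = ⊥ := by
  suffices h : sigmaCore M ⊓ g •ᶜ M = ⊥ by
    refine ⟨h, le_bot_iff.1 (h ▸ inf_le_inf_left _ ?_)⟩
    rw [centralizer_map_conj]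
    exact map_mono ((cent_le_norm _).trans hexc.norm_le)
  by_contra h
  obtain ⟨q, hq, hd⟩ := exists_prime_dvd_card h
  have := Fact.mk hq
  have hs := Cop.solvable_of_isPGroup hexc.elem.isPGroup
  have hA1 := hexc.elem.1.trans (le_norm_Msigma M)
  have hA2 : A ≤ 𝐍(g •ᶜ sigmaCore M) := hAg.trans (le_norm_cj (le_norm_Msigma M))
  have hc1 := (coprime_of_isPi (Msigma_isPi M) hexc.isPi).symm
  obtain ⟨Q₀, hQ₀, hA₀⟩ := exists_inv_sylow q (le_normalizer_inf hA1 (hAg.trans le_normalizer))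
    (coprime_mono hc1 le_rfl inf_le_left) (Or.inl hs)
  obtain ⟨Q₁, hQ₁, hA₁, h₁⟩ := exists_inv_sylow_ge hA1 hc1 (Or.inl hs) hQ₀.isPGroup
    (hQ₀.le.trans inf_le_left) hA₀
  obtain ⟨Q₂, hQ₂, hA₂, h₂⟩ := exists_inv_sylow_ge hA2 (by rwa [card_map_conj]) (Or.inl hs)
    hQ₀.isPGroup (le_hall_of_norm (hall_cj (Msigma_Hall hG hM) g)
      (isPiSubgroup_of_le (Msigma_isPi M) (hQ₀.le.trans inf_le_left)) (hQ₀.le.trans inf_le_right)
      ((hQ₀.le.trans inf_le_right).trans (le_norm_cj (le_norm_Msigma M)))) hA₀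
  exact hQ₀.ne_bot hd (le_bot_iff.1
    ((exceptional_TIsigmaJ hG hM hexc hg hAg hQ₁ hA₁ hQ₂ hA₂).1 ▸ le_inf h₁ h₂))

theorem exceptional_exists_norm {P : Subgroup G} (hP : IsSylowIn p P M) (hAP : A ≤ P) :
    ∃ g ∈ 𝐍(P), g ∉ M ∧ A ≤ g •ᶜ M ∧ A ≤ g⁻¹ •ᶜ M := by
  obtain ⟨g, hg, hgM⟩ := SetLike.not_le_iff_exists.1 (sigma'_Sylow_contra hG hM hexc.not_sigma hP)
  exact ⟨g, hg, hgM, le_cj_iff.2 ((cj_le_of_norm hAP (inv_mem hg)).trans hP.le),
    cj_le_iff.1 ((cj_le_of_norm hAP hg).trans hP.le)⟩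

/-- BG 11.3. -/
theorem exceptional_sigma_nil : Group.IsNilpotent (sigmaCore M) := by
  obtain ⟨P, hAP, hP⟩ := IsSylowIn.exists_ge hexc.elem.isPGroup hexc.elem.1
  obtain ⟨g, hg, hgM, hAg, -⟩ := exceptional_exists_norm hG hM hexc hP hAP
  exact prime_Frobenius_sol_kernel_nil (((cj_le_of_norm (hexc.le.trans hAP) hg).trans hP.le).trans
    (le_norm_Msigma M)) (by rw [card_map_conj, hexc.card]; exact hp'.out)
    (exceptional_TI_MsigmaJ hG hM hexc hgM hAg).2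

/-- BG 11.4. -/
theorem exceptional_sigma_uniq {H : Subgroup G} (hH : IsCoatom H) (hAH : A ≤ H)
    (h : sigmaCore H ⊓ sigmaCore M ≠ ⊥) : H = M := by
  rw [inf_comm] at h
  obtain ⟨g, rfl⟩ : ∃ g : G, H = g •ᶜ M := by_contra fun h' => h
    ((sigma_disjoint hG hM hH fun g e => h' ⟨g, e⟩).2.2 (exceptional_sigma_nil hG hM hexc)).1
  refine cj_eq_of_mem (by_contra fun hg => h (le_bot_iff.1 ?_))
  exact (exceptional_TI_MsigmaJ hG hM hexc hg hAH).1 ▸ inf_le_inf_left _ (Msigma_le _)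

/-- BG 11.5. -/
theorem exceptional_Sylow_abelian {P : Subgroup G} (hP : IsSylowIn p P M) :
    IsMulCommutative P := by
  obtain ⟨P₁, hAP, hP₁⟩ := IsSylowIn.exists_ge hexc.elem.isPGroup hexc.elem.1
  obtain ⟨x, -, rfl⟩ := hP.exists_conj_eq hP₁
  refine comm_cj (by_contra fun hna => ?_) x
  clear hP
  obtain ⟨g, hg, hgM, hAg, -⟩ := exceptional_exists_norm hG hM hexc hP₁ hAP
  obtain ⟨q, hq, hd⟩ := exists_prime_dvd_card (Msigma_neq1 hG hM)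
  have := Fact.mk hq
  obtain ⟨Q, hQ⟩ := IsSylowIn.exists_in (p := q) (sigmaCore M)
  have hMQ := (le_norm_Msigma M).trans
    (norm_le_norm_sylow_of_nil (exceptional_sigma_nil hG hM hexc) hQ)
  have hA₂ : A ≤ 𝐍(g •ᶜ Q) := hAg.trans (le_norm_cj hMQ)
  have key := (exceptional_TIsigmaJ hG hM hexc hgM hAg hQ (hexc.elem.1.trans hMQ)
    (hQ.map_conj g) hA₂).2
  have hc := coprime_mono (coprime_of_isPi (Msigma_isPi M) hexc.isPi).symm le_rfl hQ.le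
  obtain ⟨X₁, hX₁, hX₁p, h₁⟩ := hexc.elem.exists_cent_ne_bot (hexc.elem.1.trans hMQ) hc
    (hQ.ne_bot hd)
  obtain ⟨X₂, hX₂, hX₂p, h₂⟩ := hexc.elem.exists_cent_ne_bot hA₂ (by rwa [card_map_conj])
    (mt cj_eq_bot_iff.1 (hQ.ne_bot hd))
  obtain ⟨⟨hZ, hZp⟩, -, htr⟩ := basic_p2maxElem_structure hG (hexc.elem.of_le hAP)
    (sigma'_rank2_max hG hM hexc.not_sigma hexc.elem) hP₁.isPGroup hna
  have hZg : g •ᶜ Q ⊓ 𝐂(omegaOne p (P₁ ⊓ 𝐂(P₁))) = ⊥ ↔ Q ⊓ 𝐂(omegaOne p (P₁ ⊓ 𝐂(P₁))) = ⊥ := by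
    rw [← cj_eq_bot_iff (g := g) (X := Q ⊓ _), cj_inf_cent, map_conj_eq_of_mem_normalizer
      (normalizer_le_normalizer_omegaOne _ (Cop.le_normalizer_inf_centralizer le_rfl le_rfl hg))]
  have hZ0 := (key _ hZ hZp).elim id hZg.1
  obtain ⟨y, hy, rfl⟩ := htr X₁ hX₁ X₂ hX₂ hX₁p hX₂p (fun e => h₁ (e ▸ hZ0))
    (fun e => h₂ (e ▸ hZg.2 hZ0))
  refine (key _ hX₂ hX₂p).elim (fun h => h₁ ?_) h₂
  rwa [← map_conj_eq_of_mem_normalizer (hMQ (hP₁.le hy.1)), ← cj_inf_cent, cj_eq_bot_iff] at h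

theorem exceptional_pgroup_abelian {P : Subgroup G} (hP : IsPGroup p P) (hPM : P ≤ M) :
    IsMulCommutative P :=
  let ⟨_, h1, h2⟩ := IsSylowIn.exists_ge hP hPM
  comm_of_le (exceptional_Sylow_abelian hG hM hexc h2) h1

/-- BG 11.6. -/
theorem exceptional_structure {P : Subgroup G} (hP : IsSylowIn p P M) (hAP : A ≤ P) :
    omegaOne p P = A ∧ sigmaCore M ⊓ 𝐂(A) = ⊥ ∧
      ∃ A₁ ≤ A, ∃ A₂ ≤ A, Nat.card A₁ = p ∧ Nat.card A₂ = p ∧ A₁ ≠ A₂ ∧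
        sigmaCore M ⊓ 𝐂(A₁) = ⊥ ∧ sigmaCore M ⊓ 𝐂(A₂) = ⊥ := by
  have h1 : omegaOne p P = A := le_antisymm ((sigma'_rank2_max hG hM hexc.not_sigma
    hexc.elem).omega_le hexc.elem.2.1 (le_cent_of_comm (exceptional_Sylow_abelian hG hM hexc hP)
      le_rfl hAP)) (le_omegaOne hAP hexc.elem.2.1.2)
  obtain ⟨g, hg, hgM, hAg, hAg'⟩ := exceptional_exists_norm hG hM hexc hP hAP
  have hgA : g ∈ 𝐍(A) := by
    have := normalizer_le_normalizer_omegaOne (p := p) P hg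
    rwa [h1] at this
  have h2 := (exceptional_TI_MsigmaJ hG hM hexc hgM hAg).2
  refine ⟨h1, le_bot_iff.1 (h2 ▸ inf_le_inf_left _ (centralizer_antitone
    (cj_le_of_norm hexc.le hgA))), _, cj_le_of_norm hexc.le hgA, _,
    cj_le_of_norm hexc.le (inv_mem hgA), by rw [card_map_conj, hexc.card],
    by rw [card_map_conj, hexc.card], fun e => hgM (mem_of_sq_mem hG (hexc.norm_le
      (mem_normalizer_of_map_conj_eq ?_))), h2,
    (exceptional_TI_MsigmaJ hG hM hexc (fun h => hgM (inv_mem_iff.1 h)) hAg').2⟩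
  rw [← cj_cj, e, map_conj_map_conj_inv]

/-- BG 11.7. -/
theorem exceptional_mul_sigma_normal : M ≤ 𝐍(sigmaCore M ⊔ A) := by
  have hA := hexc.elem
  have hAm := sigma'_rank2_max hG hM hexc.not_sigma hA
  obtain ⟨E, hE, hAE⟩ := Hall.exists_hallOf_ge (mFT_sol hG hM.1) hexc.isPi hA.1
  have hgt := rank2_gt_hall (mFT_sol hG (ne_top_of_le_ne_top hM.1 hE.1)) (mFT_odd hG E)
    (rank2_of_sigma' hG hM hE.1 (isPi_alpha'_of_sigma' hG hM (hall_isPi hE)))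
  by_cases hK : piCoreOf {q | p < q} E ≤ 𝐂(A)
  · have hAL : A ≤ piCoreOf {q | p - 1 < q} E := le_hall_of_norm (hgt _)
      (isPi_of_isPGroup hA.isPGroup (Nat.sub_one_lt hp'.out.ne_zero)) hAE
      (hAE.trans (le_norm_piCoreOf _ _))
    have hL : piCoreOf {q | p - 1 < q} E ≤ 𝐂(A) := le_of_forall_sylow fun r hr hd => by
      by_cases e : r = p
      · subst e
        obtain ⟨S, hAS, hS⟩ := IsSylowIn.exists_ge hA.isPGroup hAL
        exact ⟨S, hS, le_cent_of_comm (exceptional_pgroup_abelian hG hM hexc hS.isPGroup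
          ((hS.le.trans (piCoreOf_le _ _)).trans hE.1)) le_rfl hAS⟩
      · obtain ⟨S, hS⟩ := IsSylowIn.exists_in (p := r) (piCoreOf {q | p - 1 < q} E)
        have h1 : p - 1 < r := piCoreOf_isPi _ _ r hr.out hd
        have h2 := hS.le.trans (piCoreOf_le _ _)
        exact ⟨S, hS, (le_hall_of_norm (hgt p) (isPi_of_isPGroup hS.isPGroup
          (show p < r by omega)) h2 (h2.trans (le_norm_piCoreOf _ _))).trans hK⟩
    have hEA : E ≤ 𝐍(A) := fun e he => mem_normalizer_of_conj_mem fun a ha =>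
      hAm.mem hA.2.1 (hL (conj_mem_of_mem_normalizer (le_norm_piCoreOf _ _ he) (hAL ha)))
        (by rw [conj_pow, hA.2.1.2 a ha]; simp)
    conv_lhs => rw [← hall_sup_compl (Msigma_Hall hG hM) hE]
    exact sup_le (le_sup_left.trans le_normalizer)
      (le_normalizer_sup (hE.1.trans (le_norm_Msigma M)) hEA)
  exfalso
  obtain ⟨q, hq', Q, hQ, hAQ, hnc⟩ := exists_inv_sylow_not_cent (hAE.trans (le_norm_piCoreOf _ _))
    (coprime_of_isPGroup_of_isPi hA.isPGroup (piCoreOf_isPi _ _) (lt_irrefl p))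
    (Or.inl (Cop.solvable_of_isPGroup hA.isPGroup)) hK
  have hQ1 : Q ≠ ⊥ := by rintro rfl; exact hnc bot_le
  have hpq : p < q := mem_of_isPi_of_isPGroup hQ.isPGroup hQ1
    (isPiSubgroup_of_le (piCoreOf_isPi _ _) hQ.le)
  have hQE := sylow_of_hall hQ (hgt p) hpq
  have hQs := isPiSubgroup_of_le (hall_isPi hE) hQE.le
  have hqs : q ∉ sigma M := mem_of_isPi_of_isPGroup hQ.isPGroup hQ1 hQs
  have hQM := sylow_of_hall hQE hE hqs
  by_cases hC : Q ⊓ 𝐂(A) = ⊥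
  · obtain ⟨P, hAP, hP⟩ := IsSylowIn.exists_ge hA.isPGroup hA.1
    obtain ⟨-, -, A₁, hA₁, A₂, hA₂, hA₁p, hA₂p, hne, h₁, h₂⟩ :=
      exceptional_structure hG hM hexc hP hAP
    have hAZ : A ≤ 𝐍(Q ⊓ 𝐂(Q)) := Cop.le_normalizer_inf_centralizer hAQ hAQ
    have hc := coprime_of_isPGroup_ne hA.isPGroup (hQ.isPGroup.to_inf_left (K := 𝐂(Q))) hpq.ne
    have key : ∀ X ≤ A, Nat.card X = p → sigmaCore M ⊓ 𝐂(X) = ⊥ → M ≤ 𝐍(⁅Q ⊓ 𝐂(Q), X⁆) :=
      fun X hX hXp h => (commG_sigma'_1Elem_cyclic hG hM (inf_le_left.trans hQM.le)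
        (isPi_inf_left hQs) hexc.not_sigma hXp (hX.trans hA.1) (hX.trans hAZ) h
        ((Nat.Prime.coprime_iff_not_dvd hp'.out).1
          (hc.coprime_dvd_left (hA.of_le le_rfl).dvd_card))
        (isMulCommutative_of_le_centralizer
          (inf_le_right.trans (centralizer_antitone inf_le_left)))).2.2
    have hn := le_normalizer_sup (key A₁ hA₁ hA₁p h₁) (key A₂ hA₂ hA₂p h₂)
    have h3 : ⁅Q ⊓ 𝐂(Q), A₁⁆ ⊔ ⁅Q ⊓ 𝐂(Q), A₂⁆ = Q ⊓ 𝐂(Q) := by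
      refine le_antisymm (sup_le (Cop.commutator_le_left_of_le_normalizer (hA₁.trans hAZ))
        (Cop.commutator_le_left_of_le_normalizer (hA₂.trans hAZ))) ?_
      have h4 := Cop.commutator_sup_centralizer hAZ hc
        (Or.inl (Cop.solvable_of_isPGroup hA.isPGroup))
      rw [inf_right_comm, hC, bot_inf_eq, sup_bot_eq, ← hA.sup_eq hA₁ hA₂ hA₁p hA₂p hne] at h4
      exact h4.ge.trans (CommCalc.commutator_sup_right_le ((hA₁.trans hA.1).trans hn)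
        ((hA₂.trans hA.1).trans hn) le_sup_left le_sup_right)
    rw [h3] at hn
    exact sigma'_Sylow_contra hG hM hqs hQM ((Cop.le_normalizer_inf_centralizer le_rfl le_rfl).trans
      (mmax_normal hG hM (inf_le_left.trans hQM.le) hn (inf_centralizer_ne_bot_of_isNilpotent
        (isNilpotent_of_isPGroup hQ.isPGroup) le_rfl le_normalizer hQ1)).le)
  · obtain ⟨B, hB⟩ := exists_p2Elem_of_not_cyclic (mFT_odd hG Q) hQ.isPGroup fun h =>
      hnc (le_cent_of_cyclic_of_fixed hQ.isPGroup h hAQ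
        (hA.2.2 ▸ ((Nat.coprime_primes hp'.out hq'.out).2 hpq.ne).pow_left 2) hC)
    obtain ⟨R, hR, hQR⟩ := exists_maxInv_ge' (isPGroup_iff_isPiSubgroup.1 hQ.isPGroup) hAQ
    obtain ⟨P, -, hAP, -, -, h⟩ := max_normed_2Elem_signaliser hG hpq.ne (hA.of_le le_top) hAm hR
      ((dvd_card_of_isPGroup hQ.isPGroup.to_inf_left hC).trans (card_dvd_of_le inf_le_right))
    exact hnc (hQR.trans (le_centralizer_comm (hAP.trans (h (narrow_of_pmaxElem hG (hB.mono hQR)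
      (sigma'_rank2_max hG hM hqs (hB.mono hQM.le)) (isPGroup_iff_isPiSubgroup.2 hR.1.2.1))))))

end CfsgLib.FT
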