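import Mathlib
import Cfsg.Agent.Lib.FT.BG12a
import Cfsg.Agent.Lib.Gaschuetz

/-! Bender–Glauberman, section 12, results 12.7–12.11. -/

set_option autoImplicit false

namespace CfsgLib.FT

open Subgroup Cfsg BGN
open scoped commutatorElement

variable {G : Type*} [Group G] [Finite G]

/-- Gaschütz's splitting theorem for ambient subgroups. -/
theorem gaschutz_in {A K H E : Subgroup G} (hA : IsMulCommutative A) (hn : E ≤ 𝐍(A)) (hH : H ≤ E)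
    (h1 : A ⊓ K = ⊥) (h2 : A ⊔ K = H) (hc : (H.relIndex E).Coprime (Nat.card A)) :
    ∃ L, IsComplIn A L E := by
  have hAE := (h2 ▸ le_sup_left : A ≤ H).trans hH
  have hKE := (h2 ▸ le_sup_right : K ≤ H).trans hH
  have := normal_subgroupOf_of_le hn
  have := isMulCommutative_sgOf hA E
  obtain ⟨L, hL⟩ := Gaschuetz.exists_isComplement'_of_coprime (A := A.subgroupOf E)
    (H := H.subgroupOf E) (K := K.subgroupOf E)
    (by rw [subgroupOf, subgroupOf, ← comap_inf, inf_comm, h1]; exact bot_subgroupOf E)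
    (by rw [← subgroupOf_sup hKE hAE, sup_comm, h2]) (by rwa [card_subgroupOf_of_le hAE])
  refine ⟨L.map E.subtype, hAE, map_subtype_le _, ?_, fun m hm => ?_⟩
  · rw [← map_subgroupOf_eq_of_le hAE, ← map_inf _ _ _ E.subtype_injective, inf_comm,
      hL.disjoint.eq_bot, Subgroup.map_bot]
  · obtain ⟨⟨a, b⟩, e⟩ := hL.symm.existsUnique (⟨m, hm⟩ : E)
    exact ⟨_, a.2, _, mem_map_of_mem _ b.2, (congrArg Subtype.val e.1).symm⟩

theorem le_of_rank1_of_dvd (hG : IsMinSimpleOddOrder G) {q : ℕ} [Fact q.Prime] {M N Q : Subgroup G}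
    (hr : PRankLE q 1 M) (hN : N ≤ M) (hn : M ≤ 𝐍(N)) (hd : q ∣ Nat.card N) (hQ : Q ≤ M)
    (hQq : Nat.card Q = q) : Q ≤ N := by
  obtain ⟨T, hQT, hT⟩ := IsSylowIn.exists_ge (isPGroup_of_card_prime hQq) hQ
  have h := sylow_inf hT hN (Or.inl (hT.le.trans hn))
  exact (le_of_cyclic_of_prime (cyclic_of_rank1 (mFT_odd hG T) hT.isPGroup (pRankLE_mono hr hT.le))
    hQT inf_le_left hQq (dvd_card_of_isPGroup h.isPGroup (h.ne_bot hd))).trans inf_le_right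

theorem norm_cent_comm_of_der_le {N K X : Subgroup G} (hN : N ≤ 𝐍(K)) (h : ⁅N, N⁆ ≤ 𝐂(K))
    (hX : X ≤ N) : N ≤ 𝐍(K ⊓ 𝐂(X)) ∧ N ≤ 𝐍(⁅K, X⁆) := by
  have h1 : N ≤ 𝐍((N ⊓ 𝐂(K)) ⊔ X) :=
    le_norm_of_der_le ((le_inf (der_le N) h).trans le_sup_left) (sup_le inf_le_left hX)
  have h2 : K ≤ 𝐂(N ⊓ 𝐂(K)) := le_centralizer_comm inf_le_right
  have h3 : K ⊓ 𝐂((N ⊓ 𝐂(K)) ⊔ X) = K ⊓ 𝐂(X) := by rw [cent_sup, ← inf_assoc, inf_eq_left.2 h2]
  have h4 : ⁅K, (N ⊓ 𝐂(K)) ⊔ X⁆ = ⁅K, X⁆ := le_antisymm (CommCalc.commutator_sup_right_le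
    ((inf_le_right.trans (centralizer_antitone (Cop.commutator_le_left_of_le_normalizer
      (hX.trans hN)))).trans (cent_le_norm _))
    (Cop.le_normalizer_commutator (hX.trans hN) le_normalizer)
    ((comm_eq_bot_iff.2 h2).le.trans bot_le) le_rfl) (commutator_mono le_rfl le_sup_right)
  exact ⟨h3 ▸ Cop.le_normalizer_inf_centralizer hN h1, h4 ▸ Cop.le_normalizer_commutator hN h1⟩

theorem le_cent_of_norm_of_cop {X Y : Subgroup G} (hX : X ≤ 𝐍(Y)) (hY : Y ≤ 𝐍(X))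
    (h : (Nat.card X).Coprime (Nat.card Y)) : X ≤ 𝐂(Y) :=
  le_cent_of_norm_of_inf hX hY (inf_eq_bot_of_cop h)

theorem not_comm_sylow {p : ℕ} [Fact p.Prime] {P₀ S : Subgroup G} (hP₀ : IsPGroup p P₀)
    (hna : ¬ IsMulCommutative P₀) (hS : IsSylowIn p S ⊤) : ¬ IsMulCommutative S := fun h => by
  obtain ⟨x, -, hx⟩ := hS.exists_conj_le hP₀ le_top
  exact hna (comm_of_le (comm_cj h x⁻¹) (cj_le_iff.1 hx))

section OneMax

variable (hG : IsMinSimpleOddOrder G) {M : Subgroup G} (hM : IsCoatom M)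
include hG hM

theorem cyclic_of_cent_Msigma {Y : Subgroup G} (hYM : Y ≤ M) (hY : IsPiSubgroup (sigma M)ᶜ Y)
    (hn : Group.IsNilpotent Y) (hC : Y ≤ 𝐂(sigmaCore M)) : IsCyclic Y := by
  have := sub'cent_sigma_rank1 hG hM hYM hY
  rw [inf_eq_left.2 hC] at this
  exact cyclic_of_nil_of_rank1 (mFT_odd hG Y) hn this

section Tau2

variable {E : Subgroup G} (hE : IsPiHallOf (sigma M)ᶜ E M) {p : ℕ} [hp' : Fact p.Prime]
  (hp : p ∈ tau2 M) {A : Subgroup G} (hA : P2Elem p A E)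
include hE hp hA

/-- BG 12.7(a). -/
theorem nonabelian_tau2_eq {P₀ : Subgroup G} (hP₀ : IsPGroup p P₀) (hna : ¬ IsMulCommutative P₀)
    {q : ℕ} (hq : q ∈ tau2 M) : q = p := by
  by_contra hne
  have := Fact.mk hq.1
  obtain ⟨B, hB⟩ := ex_tau2Elem hG hM hE hq
  obtain ⟨⟨hEB, -⟩, ⟨hCB, -⟩, -⟩ := tau2_compl_context hG hM hE hq hB
  have hBA : B ≤ 𝐂(A) := le_cent_of_norm_of_cop
    (hB.1.trans (tau2_compl_context hG hM hE hp hA).1.1)
    (hA.1.trans hEB) (coprime_of_isPGroup_ne hB.isPGroup hA.isPGroup hne)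
  obtain ⟨Q, hQ, hBQ⟩ := exists_maxInv_ge' (isPGroup_iff_isPiSubgroup.1 hB.isPGroup)
    (hA.1.trans hEB)
  obtain ⟨P, hP, -, -, -, h⟩ := max_normed_2Elem_signaliser hG (Ne.symm hne) (hA.of_le le_top)
    ((tau2_not_beta hG hM hp).2 A (hA.mono hE.1)) hQ (hB.of_le hBA).dvd_card
  exact not_comm_sylow hP₀ hna hP (tau2_pgroup_abelian hG hM hp hP.isPGroup
    ((((h (narrow_of_pmaxElem hG (hB.of_le hBQ) ((tau2_not_beta hG hM hq).2 B (hB.mono hE.1))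
      (isPGroup_iff_isPiSubgroup.2 hQ.1.2.1))).trans (centralizer_antitone hBQ)).trans hCB).trans
      hE.1))

/-- BG 12.7, with `A₀ = C_A(M_σ)`. -/
theorem nonabelian_tau2 {P₀ : Subgroup G} (hP₀ : IsPGroup p P₀) (hna : ¬ IsMulCommutative P₀) :
    tau2 M = {p} ∧
      (Nat.card ↥(A ⊓ 𝐂(sigmaCore M)) = p ∧
        sigmaCore M ⊔ (A ⊓ 𝐂(sigmaCore M)) = fittingOf M) ∧
      (∀ X ≤ E, Nat.card X = p → X ≠ A ⊓ 𝐂(sigmaCore M) →
        sigmaCore M ⊓ 𝐂(X) = ⊥ ∧ ¬ 𝐂(X) ≤ M) ∧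
      ∃ E₀, IsComplIn (A ⊓ 𝐂(sigmaCore M)) E₀ E ∧ E ≤ 𝐍(A ⊓ 𝐂(sigmaCore M)) ∧
        ∀ x ∈ sigmaCore M, x ≠ 1 → IsPiSubgroup (tau1 M) (E₀ ⊓ 𝐂[x]) := by
  have ha := @nonabelian_tau2_eq G _ _ hG M hM E hE p _ hp A hA P₀ hP₀ hna
  have hAM := hA.mono hE.1
  obtain ⟨⟨hEA, hXA⟩, ⟨hCA, -⟩, hU⟩ := tau2_compl_context hG hM hE hp hA
  obtain ⟨-, -, -, hreg, -⟩ := tau2_context hG hM hp hAM
  obtain ⟨P, hAP, hP⟩ := IsSylowIn.exists_ge hA.isPGroup hAM.1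
  obtain ⟨S, hPS, hS⟩ := IsSylowIn.exists_ge hP.isPGroup le_top
  have hSna := not_comm_sylow hP₀ hna hS
  have hPab := tau2_pgroup_abelian hG hM hp hP.isPGroup hP.le
  have hSM : ¬ S ≤ M := fun h => hSna (tau2_pgroup_abelian hG hM hp hS.isPGroup h)
  have hdefP : S ⊓ 𝐂(A) = P := hP.eq_of_le hS.isPGroup.to_inf_left
    (le_inf hPS (le_cent_of_comm hPab le_rfl hAP)) ((inf_le_right.trans hCA).trans hE.1)
  obtain ⟨⟨hZ, hZp⟩, ⟨Y, hY, -, hY'⟩, htr⟩ := basic_p2maxElem_structure hG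
    (hA.of_le (hAP.trans hPS)) ((tau2_not_beta hG hM hp).2 A hAM) hS.isPGroup hSna
  have hSZ : S ≤ 𝐂(omegaOne p (S ⊓ 𝐂(S))) :=
    le_centralizer_comm (omegaOne_le_iff.2 fun _ h _ => h.2)
  have hZ0 : sigmaCore M ⊓ 𝐂(omegaOne p (S ⊓ 𝐂(S))) = ⊥ := by_contra fun h =>
    hSM (hSZ.trans (hU _ (hZ.trans hA.1) hZp h).le)
  have hcop := coprime_of_isPGroup_of_isPi hA.isPGroup (Msigma_isPi M) hp.2.1
  obtain ⟨A₀, hA₀, hA₀p, hA₀c⟩ := hA.exists_cent_ne_bot (hAM.1.trans (le_norm_Msigma M)) hcop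
    (Msigma_neq1 hG hM)
  have hA₀Z : A₀ ≠ omegaOne p (S ⊓ 𝐂(S)) := fun e => hA₀c (e ▸ hZ0)
  have hc : ∀ X ≤ A, Nat.card X = p → X ≠ A₀ → ¬ 𝐂(X) ≤ M := fun X hX hXp hne hC => by
    by_cases e : X = omegaOne p (S ⊓ 𝐂(S))
    · exact hSM (hSZ.trans (e ▸ hC))
    obtain ⟨x, hx, rfl⟩ := htr A₀ hA₀ X hX hA₀p hXp hA₀Z e
    have h1 := (hU A₀ (hA₀.trans hA.1) hA₀p hA₀c).cj x
    rw [← centralizer_map_conj] at h1
    have h2 : x ∈ P := (hP.eq_of_le hS.isPGroup.to_inf_left (le_inf hPS hP.le) inf_le_right).le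
      ⟨hx.1, (norm_mmax hG hM).le (mem_normalizer_of_map_conj_eq (h1.eq hM hC).symm)⟩
    exact hne (cj_eq_of_mem_cent (le_cent_of_comm hPab le_rfl (hA₀.trans hAP) h2))
  have hc' : ∀ X ≤ A, Nat.card X = p → X ≠ A₀ → sigmaCore M ⊓ 𝐂(X) = ⊥ := fun X hX hXp hne =>
    by_contra fun h => hc X hX hXp hne (hU X (hX.trans hA.1) hXp h).le
  have h0 : A ⊓ 𝐂(sigmaCore M) = A₀ := by
    have h1 : A₀ ≤ A ⊓ 𝐂(sigmaCore M) := le_inf hA₀ (le_centralizer_comm (hA.le_of_cent_le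
      (hAM.1.trans (le_norm_Msigma M)) hcop fun X hX hXp => by
        by_cases e : X = A₀
        · exact e ▸ inf_le_right
        · exact (hc' X hX hXp e).le.trans bot_le))
    rcases hA.cases (inf_le_left : A ⊓ 𝐂(sigmaCore M) ≤ A) with h | h | h
    · exact absurd h (ne_bot_of_le_ne_bot (ne_bot_of_card_prime hA₀p) h1)
    · exact (eq_of_card_prime h h1 (ne_bot_of_card_prime hA₀p)).symm
    · exact absurd (inf_eq_left.2 (le_centralizer_comm (inf_eq_left.1 h)) ▸ hreg)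
        (Msigma_neq1 hG hM)
  have hEA₀ : E ≤ 𝐍(A₀) := h0 ▸ Cop.le_normalizer_inf_centralizer hEA (sigma_compl_norm hE)
  have hA₀C : A₀ ≤ 𝐂(sigmaCore M) := h0 ▸ inf_le_right
  obtain ⟨hY1, hY2⟩ := hY' A₀ hA₀ hA₀p hA₀Z
  rw [hdefP] at hY2
  have hPE : P ≤ E := hdefP ▸ inf_le_right.trans hCA
  obtain ⟨E₀, hE₀⟩ := gaschutz_in (comm_of_le hA.comm hA₀) hEA₀ hPE hY1 hY2
    (hA₀p ▸ ((Nat.Prime.coprime_iff_not_dvd hp'.out).2 (hP.mono hPE hE.1).not_dvd).symm)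
  rw [h0]
  refine ⟨Set.eq_singleton_iff_unique_mem.2 ⟨hp, fun q => ha⟩, ⟨hA₀p, le_antisymm (sup_le
    (le_fittingOf (Msigma_le M) (le_norm_Msigma M) (tau2_Msigma_nil hG hM hp))
    (le_fittingOf (hA₀.trans hAM.1) ((sdprod_sigma hG hM hE).1 ▸ sup_le
      ((le_centralizer_comm hA₀C).trans (cent_le_norm _)) hEA₀)
      (nil_of_comm (comm_of_le hA.comm hA₀)))) ?_⟩,
    fun X hX hXp hne => ⟨hc' X (hXA X hX hXp) hXp hne, hc X (hXA X hX hXp) hXp hne⟩,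
    E₀, hE₀, hEA₀, fun x hx hx1 q hq hd => ?_⟩
  · rw [← piCoreOf_sup_of_nil (sigma M) (fittingOf_nil M)]
    refine sup_le_sup (le_Msigma hG hM ((piCoreOf_le _ _).trans (fittingOf_le M))
      (piCoreOf_isPi _ _)) ?_
    set W := piCoreOf (sigma M)ᶜ (fittingOf M)
    have hWM : W ≤ M := (piCoreOf_le _ _).trans (fittingOf_le M)
    have hMW : M ≤ 𝐍(W) := (le_norm_fittingOf M).trans (norm_le_norm_piCoreOf _ _)
    have hWC : W ≤ 𝐂(sigmaCore M) := le_cent_of_norm_of_cop (hWM.trans (le_norm_Msigma M))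
      ((Msigma_le M).trans hMW) (coprime_of_isPi (Msigma_isPi M) (piCoreOf_isPi _ _)).symm
    have hWc := cyclic_of_cent_Msigma hG hM hWM (piCoreOf_isPi _ _)
      (isNilpotent_of_le (fittingOf_nil M) (piCoreOf_le _ _)) hWC
    have hWp : IsPGroup p W := isPGroup_iff_isPiSubgroup.2 fun q hq hd => by
      have := Fact.mk hq
      obtain ⟨X, hX, hXq⟩ := exists_card_prime_le hd
      exact ha ((prime_class_mmax_norm hG hM (isPGroup_of_card_prime hXq) (mmax_normal hG hM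
        (hX.trans hWM) (hMW.trans (norm_le_norm_of_cyclic hWc hX))
        (ne_bot_of_card_prime hXq)).le).resolve_left (piCoreOf_isPi _ _ q hq hd))
    have hWP : W ≤ P := le_sylow_of_norm' hP hWp hWM (hP.le.trans hMW)
    have key : ∀ X ≤ W, Nat.card X = p → X = A₀ := fun X hX hXp =>
      eq_of_card_prime hA₀p (h0 ▸ le_inf (hXA X ((hX.trans hWP).trans hPE) hXp) (hX.trans hWC))
        (ne_bot_of_card_prime hXp)
    have hWY : W ⊓ Y = ⊥ := by_contra fun h => by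
      obtain ⟨X, hX, hXp⟩ := exists_card_prime_le (dvd_card_of_isPGroup hWp.to_inf_left h)
      exact ne_bot_of_card_prime hA₀p (inf_eq_left.2
        (key X (hX.trans inf_le_left) hXp ▸ hX.trans inf_le_right) ▸ hY1)
    intro w hw
    by_cases hw1 : w = 1
    · exact hw1 ▸ one_mem _
    have hYP : Y ≤ P := hY2 ▸ le_sup_right
    obtain ⟨a, ha, y, hy, rfl⟩ := mem_sup_norm ((le_cent_of_comm hPab hYP (hA₀.trans hAP)).trans
      (cent_le_norm _)) (hY2.ge (hWP hw))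
    have h1 : (a * y) ^ p = y ^ p := by
      rw [Commute.mul_pow (le_cent_of_comm hPab hYP (hA₀.trans hAP) hy a ha),
        pow_eq_one_of_card_prime hA₀p ha, one_mul]
    have h2 : (a * y) ^ p = 1 := mem_bot.1 (hWY ▸ ⟨pow_mem hw p, h1 ▸ pow_mem hy p⟩)
    exact key _ (zpowers_le.2 hw) (card_zpowers_of_pow_eq_one h2 hw1) ▸ mem_zpowers _
  · have := Fact.mk hq
    obtain ⟨X, hX, hXq⟩ := exists_card_prime_le hd
    have hXE := (hX.trans inf_le_left).trans hE₀.2.1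
    have hC : sigmaCore M ⊓ 𝐂(X) ≠ ⊥ := ne_bot_of_mem (x := x)
      ⟨hx, le_cent1_iff.1 (hX.trans inf_le_right)⟩ hx1
    rcases (partition_pi_sigma_compl hG hM hE hq).1 (hXq ▸ card_dvd_of_le hXE) with h | h | h
    · exact h
    · obtain rfl := ha h
      refine absurd (hc' X (hXA X hXE hXq) hXq fun e => ne_bot_of_card_prime hXq ?_) hC
      rw [← hE₀.2.2.1, ← e, inf_eq_left.2 (hX.trans inf_le_left)]
    · exact absurd (tau2_reg_of_norm hG hM hp hAM (Or.inr h) (hXE.trans hE.1) hXq (by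
        obtain ⟨E₃, h₃⟩ := Hall.exists_isPiHallOf (mFT_sol_le hG hM hE.1) (tau3 M)
        obtain ⟨h1, -, h2, -⟩ := tau3_context hG hM hE h₃
        exact (hA.1.trans h2).trans (norm_le_norm_of_cyclic h1
          (le_hall_of_norm h₃ (isPi_of_card_prime hXq h) hXE (hXE.trans h2))))) hC

section AbelianTau2

variable {S : Subgroup G} (hS : IsSylowIn p S ⊤) (hAS : A ≤ S) (hab : IsMulCommutative S)
include hS hAS hab

theorem abelian_tau2_aux :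
    S ≤ ⁅𝐍(S), 𝐍(S)⁆ ∧ ⁅𝐍(S), 𝐍(S)⁆ ≤ fittingOf E ∧ fittingOf E ≤ 𝐂(S) ∧ 𝐂(S) ≤ E ∧
      𝐍(A) = 𝐍(S) := by
  obtain ⟨⟨hEA, -⟩, ⟨hCA, -⟩, -⟩ := tau2_compl_context hG hM hE hp hA
  have hSA := le_cent_of_comm hab le_rfl hAS
  have hcent : ∀ F : Subgroup G, Group.IsNilpotent F → ∀ T ≤ S, T ≤ F → piCoreOf {p} F ≤ S →
      F ≤ 𝐂(T) := fun F hF T hT hTF h => by
    rw [← piCoreOf_sup_of_nil {p} hF]
    exact sup_le (le_cent_of_comm hab h hT) (le_cent_of_nil hF (piCoreOf_le _ _) hTF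
      (coprime_of_isPGroup_of_isPi (hS.isPGroup.to_le hT) (piCoreOf_isPi _ _) (by simp)).symm)
  have h1 : fittingOf 𝐍(A) ≤ E := (hcent _ (fittingOf_nil _) A hAS
    (le_fittingOf le_normalizer le_rfl (nil_of_comm hA.comm))
    (le_sylow_of_norm' hS (piCoreOf_isPGroup _) le_top (((hSA.trans (cent_le_norm A)).trans
      (le_norm_fittingOf _)).trans (norm_le_norm_piCoreOf _ _)))).trans hCA
  have h2 := rank2_der1_le_fittingOf (mFT_sol hG (mFT_norm_pgroup hG hA.isPGroup hA.ne_bot))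
    (mFT_odd hG _) (rankLE_mono (rank_sigma_compl hG hM hE) h1)
  have h3 : 𝐍(S) ≤ 𝐍(A) := by
    have := normalizer_le_normalizer_omegaOne (p := p) S
    rwa [((tau2_context hG hM hp (hA.mono hE.1)).2.1 S
      (hS.mono ((hSA.trans hCA).trans hE.1) le_top) hAS).1] at this
  have h4 := (commutator_mono h3 h3).trans h2
  have h5 := mFT_Sylow_der1 hG hS
  have h6 := h4.trans (le_fittingOf h1 (hEA.trans (le_norm_fittingOf _)) (fittingOf_nil _))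
  exact ⟨h5, h6, hcent _ (fittingOf_nil _) S le_rfl (h5.trans h6) (hall_eq_piCoreOf_of_nil
    (fittingOf_nil _) (sylow_iff_hall.1 (hS.mono (h5.trans h6) le_top))).ge,
    (centralizer_antitone hAS).trans hCA, le_antisymm ((le_norm_fittingOf _).trans
      (norm_le_norm_sylow_of_nil (fittingOf_nil _) (hS.mono (h5.trans h4) le_top))) h3⟩

/-- BG 12.8(c). -/
theorem abelian_tau2_sub_Fitting :
    S ≤ ⁅𝐍(S), 𝐍(S)⁆ ∧ ⁅𝐍(S), 𝐍(S)⁆ ≤ fittingOf E ∧ fittingOf E ≤ 𝐂(S) ∧ 𝐂(S) ≤ E :=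
  let ⟨h1, h2, h3, h4, _⟩ := abelian_tau2_aux hG hM hE hp hA hS hAS hab
  ⟨h1, h2, h3, h4⟩

omit hA hAS in
theorem abelian_tau2_sylow {q : ℕ} [Fact q.Prime] (hq : q ∈ tau2 M) :
    ∃ T, IsSylowIn q T ⊤ ∧ IsMulCommutative T ∧ T ≤ fittingOf E := by
  obtain ⟨B, hB⟩ := ex_tau2Elem hG hM hE hq
  obtain ⟨T, hBT, hT⟩ := IsSylowIn.exists_ge hB.isPGroup le_top
  have hab' : IsMulCommutative T := by_contra fun h => by
    obtain rfl := nonabelian_tau2_eq hG hM hE hq hB hT.isPGroup h hp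
    exact not_comm_sylow hT.isPGroup h hS hab
  obtain ⟨h1, h2, -⟩ := abelian_tau2_aux hG hM hE hq hB hT hBT hab'
  exact ⟨T, hT, hab', h1.trans h2⟩

omit hA hAS in
theorem abelian_tau2_E2 {E₂ : Subgroup G} (h₂ : IsPiHallOf (tau2 M) E₂ E) :
    E₂ = piCoreOf (tau2 M) (fittingOf E) ∧ IsMulCommutative E₂ ∧ IsPiHall (tau2 M) E₂ := by
  have key : ∀ (q : ℕ) [Fact q.Prime], q ∈ tau2 M → ∃ T, IsSylowIn q T ⊤ ∧ IsMulCommutative T ∧
      T ≤ piCoreOf (tau2 M) (fittingOf E) := fun q _ hq =>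
    let ⟨T, h1, h2, h3⟩ := abelian_tau2_sylow hG hM hE hp hS hab hq
    ⟨T, h1, h2, le_piCoreOf_of_nil (fittingOf_nil E) h3 (isPi_of_isPGroup h1.isPGroup hq)⟩
  have h1 : IsPiHall (tau2 M) (piCoreOf (tau2 M) (fittingOf E)) :=
    ⟨piCoreOf_isPi _ _, fun q hq hq2 hd => by
      have := Fact.mk hq
      obtain ⟨T, h1, -, h2⟩ := key q hq2
      exact h1.not_dvd (relIndex_top_right T ▸ hd.trans (index_dvd_of_le h2))⟩
  have h2 := hall_unique (Hall.isPiHallOf_of_isPiHall h1 ((piCoreOf_le _ _).trans (fittingOf_le E)))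
    ((le_norm_fittingOf E).trans (norm_le_norm_piCoreOf _ _)) h₂
  have hn : Group.IsNilpotent E₂ := h2 ▸ isNilpotent_of_le (fittingOf_nil E) (piCoreOf_le _ _)
  refine ⟨h2, comm_of_nil hn fun q hq T hT => ?_, h2 ▸ h1⟩
  by_cases hd : q ∣ Nat.card E₂
  · obtain ⟨T', h3, h4, -⟩ := key q (hall_isPi h₂ q hq.out hd)
    exact by_contra fun h => not_comm_sylow hT.isPGroup h h3 h4
  · rw [sylow_eq_bot hT hd]; infer_instance

/-- BG 12.8(a,b,d,e). -/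
theorem abelian_tau2 {E₂ E₃ : Subgroup G} (h₂ : IsPiHallOf (tau2 M) E₂ E)
    (h₃ : IsPiHallOf (tau3 M) E₃ E) :
    (E ≤ 𝐍(E₂) ∧ IsMulCommutative E₂) ∧ IsPiHall (tau2 M) E₂ ∧
      (𝐍(A) = 𝐍(S) ∧ 𝐍(S) = 𝐍(E₂) ∧ 𝐍(E₂) = 𝐍(E₃ ⊔ E₂) ∧ 𝐍(E₃ ⊔ E₂) = 𝐍(fittingOf E)) ∧
      ∀ q ∈ tau1 M, ∀ X ≤ E, Nat.card X = q → sigmaCore M ⊓ 𝐂(X) = ⊥ → X ≤ 𝐂(E) := by
  obtain ⟨-, h1, h2, h3, h4⟩ := abelian_tau2_aux hG hM hE hp hA hS hAS hab
  obtain ⟨h5, h6, h7⟩ := abelian_tau2_E2 hG hM hE hp hS hab h₂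
  obtain ⟨h8, -, h9, -⟩ := tau3_context hG hM hE h₃
  obtain ⟨h10, -, h11⟩ := tau32_norm hG hM hE h₂ h₃
  have hES : E ≤ 𝐍(S) := h4 ▸ (tau2_compl_context hG hM hE hp hA).1.1
  have hF2 : E₂ ≤ fittingOf E := h5 ▸ piCoreOf_le _ _
  have hF : E₃ ⊔ E₂ ≤ fittingOf E := sup_le (le_fittingOf h₃.1 h9 (nil_of_cyclic h8)) hF2
  have hn := isNilpotent_of_le (fittingOf_nil E) hF
  have n1 : 𝐍(S) ≤ 𝐍(fittingOf E) := by
    have e : fittingOf 𝐂(S) = fittingOf E := le_antisymm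
      (le_fittingOf ((fittingOf_le _).trans h3) ((hES.trans
        (Cop.normalizer_le_normalizer_centralizer S)).trans (norm_le_norm_fittingOf _))
        (fittingOf_nil _))
      (le_fittingOf h2 (h3.trans (le_norm_fittingOf E)) (fittingOf_nil _))
    exact e ▸ (Cop.normalizer_le_normalizer_centralizer S).trans (norm_le_norm_fittingOf _)
  have n2 : 𝐍(fittingOf E) ≤ 𝐍(E₃ ⊔ E₂) :=
    norm_le_norm_hall_of_nil (fittingOf_nil E) (Hall.isPiHallOf_of_le h10 hF (fittingOf_le E))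
  have n3 : 𝐍(E₃ ⊔ E₂) ≤ 𝐍(E₂) :=
    norm_le_norm_hall_of_nil hn (Hall.isPiHallOf_of_le h₂ le_sup_right h10.1)
  have hSF := (mFT_Sylow_der1 hG hS).trans h1
  have n4 : 𝐍(E₂) ≤ 𝐍(S) := norm_le_norm_sylow_of_nil (nil_of_comm h6) (hS.mono
    (h5 ▸ le_piCoreOf_of_nil (fittingOf_nil E) hSF (isPi_of_isPGroup hS.isPGroup hp)) le_top)
  refine ⟨⟨h11.trans n3, h6⟩, h7, ⟨h4, le_antisymm ((n1.trans n2).trans n3) n4,
    le_antisymm ((n4.trans n1).trans n2) n3, le_antisymm ((n3.trans n4).trans n1) n2⟩,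
    fun q hq X hX hXq hreg => ?_⟩
  have := Fact.mk hq.1
  have hc32 : (Nat.card E₃).Coprime (Nat.card E₂) := coprime_card_of_isPiSubgroup
    (Set.disjoint_left.2 fun _ h h' => tau3'2 h' h) (hall_isPi h₃) (hall_isPi h₂)
  have hKab : IsMulCommutative ↥(E₃ ⊔ E₂) := comm_sup_of_comm (comm_of_cyclic h8) h6
    (le_cent_of_nil hn le_sup_right le_sup_left hc32.symm)
  have hFK : fittingOf E ≤ 𝐂(E₃ ⊔ E₂) := by
    rw [← piCoreOf_sup_of_nil (tau1 M) (fittingOf_nil E)]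
    exact sup_le (le_cent_of_nil (fittingOf_nil E) (piCoreOf_le _ _) hF
      (coprime_of_isPi (piCoreOf_isPi _ _) (hall_isPi h10))) (le_cent_of_comm hKab
      (hall_eq_piCoreOf_of_nil (fittingOf_nil E)
        (Hall.isPiHallOf_of_le h10 hF (fittingOf_le E))).ge le_rfl)
  have h12 := (commG_sigma'_1Elem_cyclic hG hM (h10.1.trans hE.1)
    (isPiSubgroup_of_le (hall_isPi hE) h10.1) hq.2.1 hXq (hX.trans hE.1) (hX.trans h11) hreg
    (fun h => hall_isPi h10 q hq.1 h hq) hKab).2.2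
  have h13 : ⁅E₃ ⊔ E₂, X⁆ = ⊥ := by_contra fun h =>
    sigma'_Sylow_contra hG hM hp.2.1 (hS.mono ((hSF.trans (fittingOf_le E)).trans hE.1) le_top)
      ((norm_cent_comm_of_der_le (n1.trans n2) (h1.trans hFK) (hX.trans hES)).2.trans
        (mmax_normal hG hM (((Cop.commutator_le_left_of_le_normalizer (hX.trans h11)).trans
          h10.1).trans hE.1) h12 h).le)
  obtain ⟨E₁, h₁, hX₁⟩ := Hall.exists_hallOf_ge (mFT_sol_le hG hM hE.1)
    (isPi_of_card_prime hXq hq) hX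
  rw [← hall_sup_compl h₁ h10, cent_sup]
  exact le_inf (le_cent_of_cyclic (tau1_cyclic hG hM hE h₁.1 (hall_isPi h₁)) hX₁ le_rfl)
    (le_centralizer_comm (comm_eq_bot_iff.1 h13))

/-- BG 12.8(f). -/
theorem abelian_tau2_norm_Sylow {X : Subgroup G} (hX : X ≤ 𝐍(S)) :
    𝐍(S) ≤ 𝐍(S ⊓ 𝐂(X)) ∧ 𝐍(S) ≤ 𝐍(⁅S, X⁆) :=
  let ⟨_, h1, h2, _⟩ := abelian_tau2_aux hG hM hE hp hA hS hAS hab
  norm_cent_comm_of_der_le le_rfl (h1.trans h2) hX

end AbelianTau2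

/-- BG 12.9, with `A₀ = [A, Q]` and `A₁ = C_A(Q)`. -/
theorem tau1_act_tau2 {q : ℕ} (hq : q ∈ tau1 M) {Q : Subgroup G} (hQE : Q ≤ E)
    (hQ : Nat.card Q = q) (hreg : sigmaCore M ⊓ 𝐂(Q) = ⊥) (hAQ : ⁅A, Q⁆ ≠ ⊥) :
    (⁅A, Q⁆ ≤ A ∧ Nat.card ↥⁅A, Q⁆ = p ∧ A ⊓ 𝐂(sigmaCore M) = ⁅A, Q⁆ ∧ M ≤ 𝐍(⁅A, Q⁆)) ∧
      NotConj ⁅A, Q⁆ (A ⊓ 𝐂(Q)) ∧ (Nat.card ↥(A ⊓ 𝐂(Q)) = p ∧ ¬ 𝐂(A ⊓ 𝐂(Q)) ≤ M) := by
  have := Fact.mk hq.1
  have hAM := hA.mono hE.1
  have hQA := hQE.trans (tau2_compl_context hG hM hE hp hA).1.1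
  have hc := coprime_of_isPGroup_ne (isPGroup_of_card_prime hQ) hA.isPGroup
    fun e => tau2'1 hq (e ▸ hp)
  obtain ⟨h1, h2, h3⟩ := commG_sigma'_1Elem_cyclic hG hM hAM.1 (isPi_of_isPGroup hA.isPGroup hp.2.1)
    hq.2.1 hQ (hQE.trans hE.1) hQA hreg ((Nat.Prime.coprime_iff_not_dvd hq.1).1 (hQ ▸ hc)) hA.comm
  have h4 : ⁅A, Q⁆ ≤ A := Cop.commutator_le_left_of_le_normalizer hQA
  have h5 : Nat.card ↥⁅A, Q⁆ = p :=
    ((hA.cases h4).resolve_left hAQ).resolve_right fun e => hA.not_isCyclic (e ▸ h2)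
  have h6 : A ⊓ 𝐂(sigmaCore M) = ⁅A, Q⁆ := by
    rcases hA.cases (inf_le_left : A ⊓ 𝐂(sigmaCore M) ≤ A) with h | h | h
    · exact absurd h (ne_bot_of_le_ne_bot hAQ (le_inf h4 h1))
    · exact (eq_of_card_prime h (le_inf h4 h1) hAQ).symm
    · exact absurd (inf_eq_left.2 (le_centralizer_comm (inf_eq_left.1 h)) ▸
        (tau2_context hG hM hp hAM).2.2.2.1) (Msigma_neq1 hG hM)
  have h7 : Nat.card ↥(A ⊓ 𝐂(Q)) = p := by
    rcases hA.cases (inf_le_left : A ⊓ 𝐂(Q) ≤ A) with h | h | h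
    · have := Cop.commutator_sup_centralizer hQA hc (Or.inr (Cop.solvable_of_isPGroup hA.isPGroup))
      rw [h, sup_bot_eq] at this
      exact absurd (this ▸ h2) hA.not_isCyclic
    · exact h
    · exact absurd (comm_eq_bot_iff.2 (inf_eq_left.1 h)) hAQ
  have h8 : NotConj ⁅A, Q⁆ (A ⊓ 𝐂(Q)) := fun g e => by
    have hN := mmax_normal hG hM (h4.trans hAM.1) h3 hAQ
    refine hAQ (Cop.commutator_eq_bot_of_commutator_commutator_eq_bot hQA hc (comm_eq_bot_iff.2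
      (le_centralizer_comm (le_of_rank1_of_dvd hG hq.2.2.2.2 ((cent_le_norm _).trans hN.le)
        (h3.trans (Cop.normalizer_le_normalizer_centralizer _)) ?_ (hQE.trans hE.1) hQ))))
    rw [e, centralizer_map_conj, card_map_conj, ← hQ]
    exact card_dvd_of_le (le_centralizer_comm inf_le_right)
  refine ⟨⟨h4, h5, h6, h3⟩, h8, h7, ?_⟩
  obtain ⟨S, hAS, hS⟩ := IsSylowIn.exists_ge hA.isPGroup le_top
  obtain ⟨E₁, E₂, E₃, h⟩ := ex_sigmaCompl hG hM hE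
  refine ((nonabelian_tau2 hG hM hE hp hA hS.isPGroup fun hab => hAQ (comm_eq_bot_iff.2
    (le_centralizer_comm (((abelian_tau2 hG hM hE hp hA hS hAS hab h.hall₂ h.hall₃).2.2.2 q hq Q
      hQE hQ hreg).trans (centralizer_antitone hA.1))))).2.2.1 _ (inf_le_left.trans hA.1) h7
      (h6 ▸ h8.ne.symm)).2

end Tau2

/-- BG 12.10(a). -/
theorem sigma'_nil_abelian {N : Subgroup G} (hNM : N ≤ M) (hN : IsPiSubgroup (sigma M)ᶜ N)
    (hnil : Group.IsNilpotent N) : IsMulCommutative N :=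
  comm_of_nil hnil fun q hq S hS => by
    by_cases hr : PRankLE q 1 M
    · exact comm_of_cyclic (cyclic_of_rank1 (mFT_odd hG S) hS.isPGroup
        (pRankLE_mono hr (hS.le.trans hNM)))
    by_cases hd : q ∣ Nat.card N
    · have hs := hN q hq.out hd
      exact tau2_pgroup_abelian hG hM ⟨hq.out, hs, sigma'_rank_le2 hG hM hs, hr⟩ hS.isPGroup
        (hS.le.trans hNM)
    · rw [sylow_eq_bot hS hd]; infer_instance

/-- BG 12.10(b), first assertion. -/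
theorem der_mmax_compl_abelian {E : Subgroup G} (hE : IsPiHallOf (sigma M)ᶜ E M) :
    IsMulCommutative ↥⁅E, E⁆ :=
  sigma'_nil_abelian hG hM ((der_le E).trans hE.1) (isPiSubgroup_of_le (hall_isPi hE) (der_le E))
    (der1_sigma_compl_nil hG hM hE)

/-- BG 12.10(b), second assertion. -/
theorem tau2_compl_abelian {E₂ : Subgroup G} (h₂ : E₂ ≤ M) (h : IsPiSubgroup (tau2 M) E₂) :
    IsMulCommutative E₂ := by
  by_cases h1 : E₂ = ⊥
  · rw [h1]; infer_instance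
  obtain ⟨p, hp', hd⟩ := exists_prime_dvd_card h1
  have := Fact.mk hp'
  have hp := h p hp' hd
  obtain ⟨E, hE, hE₂⟩ := ex_sigma_compl hG hM h₂ (isPiSubgroup_mono h tau2_sub_sigma')
  obtain ⟨S, hS⟩ := IsSylowIn.exists_in (p := p) (⊤ : Subgroup G)
  by_cases hab : IsMulCommutative S
  · obtain ⟨H, hH, h3⟩ := Hall.exists_hallOf_ge (mFT_sol_le hG hM hE.1) h hE₂
    exact comm_of_le (abelian_tau2_E2 hG hM hE hp hS hab hH).2.1 h3
  · obtain ⟨A, hA⟩ := ex_tau2Elem hG hM hE hp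
    exact tau2_pgroup_abelian hG hM hp (isPGroup_iff_isPiSubgroup.2 fun q hq hd =>
      nonabelian_tau2_eq hG hM hE hp hA hS.isPGroup hab (h q hq hd)) h₂

/-- BG 12.10(d). -/
theorem norm_noncyclic_sigma {p : ℕ} [Fact p.Prime] (hp : p ∈ sigma M) {P : Subgroup G}
    (hP : IsPGroup p P) (hPM : P ≤ M) (hnc : ¬ IsCyclic P) : 𝐍(P) ≤ M := by
  obtain ⟨A, hA⟩ := exists_p2Elem_of_not_cyclic (mFT_odd hG P) hP hnc
  rw [(sigma_group_trans hG hM hp hP).2.2 hPM]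
  exact sup_le inf_le_left ((centralizer_antitone hA.1).trans (p2Elem_mmax hG hM (hA.mono hPM)).1)

section Tau2

variable {E : Subgroup G} (hE : IsPiHallOf (sigma M)ᶜ E M) {p : ℕ} [hp' : Fact p.Prime]
  (hp : p ∈ tau2 M) {A : Subgroup G} (hA : P2Elem p A E)
include hE hp hA

/-- BG 12.10(c). -/
theorem tau1_cent_tau2Elem_factor :
    (∀ X ≤ E, IsPiSubgroup (tau1 M)ᶜ X → X ≤ 𝐂(A)) ∧ E ≤ 𝐍(E ⊓ 𝐂(A)) ∧
      ∀ q : ℕ, q.Prime → q ∣ (𝐂(A)).relIndex E → q ∈ tau1 M := by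
  have hEA := (tau2_compl_context hG hM hE hp hA).1.1
  obtain ⟨E₂, h₂, hA₂⟩ := Hall.exists_hallOf_ge (mFT_sol_le hG hM hE.1)
    (isPi_of_isPGroup hA.isPGroup hp) hA.1
  obtain ⟨E₃, h₃⟩ := Hall.exists_isPiHallOf (mFT_sol_le hG hM hE.1) (tau3 M)
  obtain ⟨h1, -, h2⟩ := tau32_norm hG hM hE h₂ h₃
  have h3 : E₃ ⊔ E₂ ≤ 𝐂(A) := sup_le (le_cent_of_norm_of_cop (h₃.1.trans hEA)
    (hA.1.trans (tau3_context hG hM hE h₃).2.2.1)
    (coprime_of_isPGroup_of_isPi hA.isPGroup (hall_isPi h₃) (tau3'2 hp)).symm)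
    (le_cent_of_comm (tau2_compl_abelian hG hM (h₂.1.trans hE.1) (hall_isPi h₂)) le_rfl hA₂)
  exact ⟨fun X hX h => (le_hall_of_norm h1 h hX (hX.trans h2)).trans h3,
    Cop.le_normalizer_inf_centralizer le_normalizer hEA, fun q hq hd => by_contra fun h =>
      h1.2.2 q hq h (hd.trans (relIndex_dvd_of_le_left _ h3))⟩

theorem primes_norm_tau2Elem_a {H : Subgroup G} (hH : IsCoatom H) (hN : 𝐍(A) ≤ H) :
    p ∈ sigma H := by_contra fun h => by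
  obtain ⟨E', hE', hA'⟩ := ex_sigma_compl hG hH (le_normalizer.trans hN)
    (isPi_of_isPGroup hA.isPGroup h)
  exact (tau2_compl_context hG hH hE' (mem_tau2_of_p2Elem hG hH h
    (hA.of_le (le_normalizer.trans hN))) (hA.of_le hA')).2.1.2.2 hN

theorem primes_norm_tau2Elem_b {H : Subgroup G} (hH : IsCoatom H) (hN : 𝐍(A) ≤ H) {q : ℕ}
    (hq : q.Prime) (hd : q ∣ (𝐂(A)).relIndex E) : q ∈ tau1 H ∨ q ∈ tau2 H := by
  have := Fact.mk hq
  have hEA := (tau2_compl_context hG hM hE hp hA).1.1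
  obtain ⟨Q, hQ⟩ := IsSylowIn.exists_in (p := q) E
  have hQH := (hQ.le.trans hEA).trans hN
  have key : ¬ Q ≤ ⁅H, H⁆ := fun h => by
    have h1 : Q ≤ piCoreOf {p}ᶜ ⁅H, H⁆ := le_hall_of_norm (beta_max_pdiv hG hH fun h =>
      (tau2_not_beta hG hM hp).1 h.2).1 (isPi_of_isPGroup hQ.isPGroup fun e => tau2'1
        ((tau1_cent_tau2Elem_factor hG hM hE hp hA).2.2 q hq hd) (Set.mem_singleton_iff.1 e ▸ hp))
      h (h.trans (le_norm_piCoreOf _ _))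
    refine hQ.not_dvd (hd.trans (relIndex_dvd_of_le_left _ (comm_eq_bot_iff.1 (le_bot_iff.1 ?_))))
    rw [← inf_eq_bot_of_cop (coprime_of_isPGroup_of_isPi hA.isPGroup (piCoreOf_isPi {p}ᶜ ⁅H, H⁆)
      (by simp))]
    exact le_inf (comm_le_right (hQ.le.trans hEA)) ((commutator_mono h1 le_rfl).trans
      (Cop.commutator_le_left_of_le_normalizer (((le_normalizer.trans hN).trans
        (le_norm_der H)).trans (norm_le_norm_piCoreOf _ _))))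
  rcases (partition_pi_mmax hG hH hq).1 ((dvd_card_of_dvd_relIndex hd).trans
    (card_dvd_of_le (hEA.trans hN))) with h | h | h | h
  · exact Or.inl h
  · exact Or.inr h
  · obtain ⟨T, hQT, hT⟩ := IsSylowIn.exists_ge hQ.isPGroup hQH
    exact absurd (hQT.trans ((cyclic_Sylow_tiVsub_der1 hT (cyclic_of_rank1 (mFT_odd hG T)
      hT.isPGroup (pRankLE_mono h.2.2.2 hT.le))).resolve_left ((sylow_inf hT (der_le H)
        (Or.inl (hT.le.trans (le_norm_der H)))).ne_bot h.2.2.1))) key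
  · exact absurd (sigma_sub_der1 hG hH hQH (isPi_of_isPGroup hQ.isPGroup h)) key

/-- BG 12.11. -/
theorem primes_norm_tau2Elem {H : Subgroup G} (hH : IsCoatom H) (hN : 𝐍(A) ≤ H) :
    (∀ q ∈ tau2 M, q ∈ sigma H ∧ q ∉ beta H) ∧
      (∀ q : ℕ, q.Prime → q ∣ (𝐂(A)).relIndex E → q ∈ tau1 H ∨ q ∈ tau2 H) ∧
      ∀ (q : ℕ) [Fact q.Prime], q ∣ (𝐂(A)).relIndex E → q ∣ Nat.card ↥(E ⊓ 𝐂(A)) →
        q ∈ tau2 H ∧ (∃ P, IsSylowIn p P ⊤ ∧ P ≤ H ∧ H ≤ 𝐍(P)) ∧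
          ∃ Q, IsSylowIn q Q ⊤ ∧ Q ≤ H ∧ IsMulCommutative Q := by
  have hps := primes_norm_tau2Elem_a hG hM hE hp hA hH hN
  refine ⟨fun q hq => ?_, fun q => primes_norm_tau2Elem_b hG hM hE hp hA hH hN,
    fun q hq hd hd' => ?_⟩
  · have := Fact.mk hq.1
    refine ⟨?_, fun h => (tau2_not_beta hG hM hq).1 h.2⟩
    obtain ⟨S, hAS, hS⟩ := IsSylowIn.exists_ge hA.isPGroup le_top
    by_cases hab : IsMulCommutative S
    · obtain ⟨B, hB⟩ := ex_tau2Elem hG hM hE hq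
      obtain ⟨T, hBT, hT⟩ := IsSylowIn.exists_ge hB.isPGroup le_top
      obtain ⟨T', hT', hab', -⟩ := abelian_tau2_sylow hG hM hE hp hS hab hq
      obtain ⟨E₁, E₂, E₃, h⟩ := ex_sigmaCompl hG hM hE
      obtain ⟨h1, h2, -⟩ := (abelian_tau2 hG hM hE hp hA hS hAS hab h.hall₂ h.hall₃).2.2.1
      obtain ⟨h3, h4, -⟩ := (abelian_tau2 hG hM hE hq hB hT hBT
        (by_contra fun h => not_comm_sylow hT.isPGroup h hT' hab') h.hall₂ h.hall₃).2.2.1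
      exact primes_norm_tau2Elem_a hG hM hE hq hB hH (by rwa [h3, h4, ← h2, ← h1])
    · exact nonabelian_tau2_eq hG hM hE hp hA hS.isPGroup hab hq ▸ hps
  obtain ⟨⟨hEA, -⟩, ⟨hCA, -⟩, -⟩ := tau2_compl_context hG hM hE hp hA
  have hq1 := (tau1_cent_tau2Elem_factor hG hM hE hp hA).2.2 q hq.out hd
  rw [inf_eq_right.2 hCA] at hd'
  obtain ⟨Q, hQ⟩ := IsSylowIn.exists_in (p := q) E
  have hQc := cyclic_of_rank1 (mFT_odd hG Q) hQ.isPGroup
    (pRankLE_mono hq1.2.2.2.2 (hQ.le.trans hE.1))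
  have hQ₀ := sylow_inf hQ hCA (Or.inl ((hQ.le.trans hEA).trans
    (Cop.normalizer_le_normalizer_centralizer A)))
  have hQ₀1 := hQ₀.ne_bot hd'
  obtain ⟨L, hL, hNL⟩ := mmax_exists (mFT_norm_pgroup hG hQ₀.isPGroup hQ₀1)
  have hAL : A ≤ L := ((le_centralizer_comm inf_le_right).trans (cent_le_norm _)).trans hNL
  have hNAL : 𝐍(A) ≤ L := (hQ₀.frattini_le (cent_le_norm A)
    (Cop.normalizer_le_normalizer_centralizer A)).trans
    (sup_le (p2Elem_mmax hG hL (hA.of_le hAL)).1 (inf_le_right.trans hNL))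
  have hqL : q ∈ tau2 L := (primes_norm_tau2Elem_b hG hM hE hp hA hL hNAL hq.out hd).elim
    (fun h => (prime_class_mmax_norm hG hL hQ₀.isPGroup hNL).resolve_left h.2.1) id
  have hnil := tau2_Msigma_nil hG hL hqL
  have hpL := primes_norm_tau2Elem_a hG hM hE hp hA hL hNAL
  obtain rfl : H = L := by_contra fun hne => Set.disjoint_left.1 ((sigma_disjoint hG hL hH
    (mmax_norm_notJ hG hL hH hA.isPGroup hAL hN (Or.inl ⟨hpL, Ne.symm hne⟩))).2.2 hnil).2 hpL hps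
  obtain ⟨P, hP⟩ := IsSylowIn.exists_in (p := p) (sigmaCore H)
  refine ⟨hqL, ⟨P, sigma_Sylow_G hps (sylow_of_hall hP (Msigma_Hall hG hH) hps),
    hP.le.trans (Msigma_le H), (le_norm_Msigma H).trans (norm_le_norm_sylow_of_nil hnil hP)⟩, ?_⟩
  obtain ⟨E', hE', hQE'⟩ := ex_sigma_compl hG hH ((hQ.le.trans hEA).trans hN)
    (isPi_of_isPGroup hQ.isPGroup hqL.2.1)
  obtain ⟨B, hB⟩ := ex_tau2Elem hG hH hE' hqL
  obtain ⟨T, hBT, hT⟩ := IsSylowIn.exists_ge hB.isPGroup le_top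
  by_cases hab : IsMulCommutative T
  · exact ⟨T, hT, ((le_centralizer_of_isMulCommutative hab).trans
      (abelian_tau2_sub_Fitting hG hH hE' hqL hB hT hBT hab).2.2.2).trans hE'.1, hab⟩
  exfalso
  obtain ⟨-, -, h1, E₀, h2, -⟩ := nonabelian_tau2 hG hH hE' hqL hB hT.isPGroup hab
  obtain ⟨X, hX, hXq⟩ := exists_card_prime_le (dvd_card_of_isPGroup hQ₀.isPGroup hQ₀1)
  have hXB : X = B ⊓ 𝐂(sigmaCore H) := by_contra fun h => ne_bot_of_le_ne_bot hA.ne_bot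
    (le_inf (le_Msigma hG hH hAL (isPi_of_isPGroup hA.isPGroup hps))
      (le_centralizer_comm (hX.trans inf_le_right)))
    (h1 X ((hX.trans inf_le_left).trans hQE') hXq h).1
  rw [← hXB] at h2
  obtain ⟨y, hy, hyA⟩ := SetLike.not_le_iff_exists.1 fun h : Q ≤ 𝐂(A) =>
    hQ.not_dvd (hd.trans (relIndex_dvd_of_le_left _ h))
  obtain ⟨b, hb, e, he, rfl⟩ := h2.2.2.2 y (hQE' hy)
  have h3 : Q ⊓ E₀ ≠ ⊥ := ne_bot_of_mem (x := e) ⟨(Q.mul_mem_cancel_left (hX hb).1).1 hy, he⟩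
    (by rintro rfl; exact hyA (by simpa using (hX hb).2))
  exact ne_bot_of_card_prime hXq (inf_eq_left.2 ((le_of_cyclic_of_prime hQc (hX.trans inf_le_left)
    inf_le_left hXq (dvd_card_of_isPGroup hQ.isPGroup.to_inf_left h3)).trans inf_le_right) ▸
    h2.2.2.1)

end Tau2

/-- BG 12.10(e). -/
theorem cent1_nreg_sigma_uniq {x : G} (hxM : x ∈ M) (hx1 : x ≠ 1)
    (hx : ∀ q : ℕ, q.Prime → q ∣ orderOf x → q ∈ tau2 M) (h : sigmaCore M ⊓ 𝐂[x] ≠ ⊥) :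
    UniqMax 𝐂[x] M := by
  obtain ⟨q, hq, hd, -⟩ := exists_prime_le_zpowers hx1
  have := Fact.mk hq
  have hπ : IsPiSubgroup (tau2 M) (zpowers x) := isPiSubgroup_zpowers_iff.2 hx
  obtain ⟨E, hE, hxE⟩ := ex_sigma_compl hG hM (zpowers_le.2 hxM)
    (isPiSubgroup_mono hπ tau2_sub_sigma')
  obtain ⟨A, hA⟩ := ex_tau2Elem hG hM hE (hx q hq hd)
  have h1 := (tau1_cent_tau2Elem_factor hG hM hE (hx q hq hd) hA).1 _ hxE
    (isPiSubgroup_mono hπ fun _ h h' => tau2'1 h' h)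
  exact uniqMax_of_forall (mFT_cent1_proper hG hx1) fun H hH hC => by_contra fun hne =>
    h (le_bot_iff.1 ((tau2_context hG hM (hx q hq hd) (hA.mono hE.1)).2.2.2.2.1 H hH hne
      ((le_cent1_iff.2 (h1 (mem_zpowers x))).trans hC) ▸ inf_le_inf_left _ hC))

end OneMax

end CfsgLib.FT
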