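import Mathlib
import Cfsg.Agent.Lib.FT.BG11
import Cfsg.Agent.Lib.FT.BG12d

/-! Bender–Glauberman, section 12: the subgroup `E` (proved in `BG12a`–`BG12d`). -/
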