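import Mathlib
import Cfsg.Agent.Lib.FT.BG10Defs
import Cfsg.Agent.Lib.FT.BG7a
import Cfsg.Agent.Lib.FT.BGRank
import Cfsg.Agent.Lib.CoprimeSylow
import Cfsg.Agent.Lib.CoprimePGroup
import Cfsg.Agent.Lib.PGroupCyclicMax

/-! General ambient-subgroup utilities for sections 14 to 16 of Bender–Glauberman. -/

set_option autoImplicit false

namespace CfsgLib.FT.U4

open Subgroup Cfsg BGN
open scoped commutatorElement

variable {G : Type*} [Group G]

/-! ### Centralizers of elements -/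

theorem mem_cent1 {x y : G} : y ∈ 𝐂[x] ↔ y * x = x * y := mem_centralizer_singleton_iff

theorem mem_cent1' {x y : G} : y ∈ 𝐂[x] ↔ x * y = y * x :=
  mem_centralizer_singleton_iff.trans eq_comm

theorem mem_cent1_comm {x y : G} : y ∈ 𝐂[x] ↔ x ∈ 𝐂[y] := mem_cent1.trans mem_cent1'.symm

theorem mem_cent {H : Subgroup G} {y : G} : y ∈ 𝐂(H) ↔ ∀ x ∈ H, x * y = y * x :=
  mem_centralizer_iff

theorem cent_le_cent1 {H : Subgroup G} {x : G} (hx : x ∈ H) : 𝐂(H) ≤ 𝐂[x] :=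
  centralizer_le (Set.singleton_subset_iff.2 hx)

theorem cent_zpowers (x : G) : 𝐂(zpowers x) = 𝐂[x] := by
  refine le_antisymm (cent_le_cent1 (mem_zpowers x)) fun y hy => ?_
  rintro _ ⟨n, rfl⟩
  exact ((show Commute x y from mem_cent1'.1 hy).zpow_left n).eq

theorem cent1_le_cent {X : Subgroup G} {x : G} (h : X ≤ zpowers x) : 𝐂[x] ≤ 𝐂(X) :=
  cent_zpowers x ▸ centralizer_le h

theorem cent1_le_cent1 {x y : G} (h : y ∈ zpowers x) : 𝐂[x] ≤ 𝐂[y] :=
  cent_zpowers x ▸ cent_le_cent1 h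

theorem self_mem_cent1 (x : G) : x ∈ 𝐂[x] := mem_cent1.2 rfl

theorem zpowers_le_cent1 (x : G) : zpowers x ≤ 𝐂[x] := zpowers_le.2 (self_mem_cent1 x)

theorem cent_le_norm (H : Subgroup G) : 𝐂(H) ≤ 𝐍(H) := centralizer_le_normalizer _

theorem cent1_conj (g x : G) : 𝐂[g * x * g⁻¹] = g •ᶜ 𝐂[x] := by
  ext y
  rw [mem_map_conj_iff, mem_cent1, mem_cent1]
  constructor
  · intro h
    calc g⁻¹ * y * g * x = g⁻¹ * (y * (g * x * g⁻¹)) * g := by group
      _ = x * (g⁻¹ * y * g) := by rw [h]; group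
  · intro h
    calc y * (g * x * g⁻¹) = g * (g⁻¹ * y * g * x) * g⁻¹ := by group
      _ = g * x * g⁻¹ * y := by rw [h]; group

theorem conj_eq_of_mem_cent1 {x c : G} (h : c ∈ 𝐂[x]) : c * x * c⁻¹ = x := by
  rw [mem_cent1.1 h]; group

theorem mem_cent1_of_conj_eq {x c : G} (h : c * x * c⁻¹ = x) : c ∈ 𝐂[x] := by
  rw [mem_cent1]; calc c * x = c * x * c⁻¹ * c := by group
    _ = x * c := by rw [h]

theorem inf_cent_ne_bot_iff {K : Subgroup G} {S : Set G} :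
    K ⊓ centralizer S ≠ ⊥ ↔ ∃ y ∈ K, y ≠ 1 ∧ y ∈ centralizer S := by
  rw [ne_bot_iff_exists_ne_one]
  exact ⟨fun ⟨y, hy⟩ => ⟨y, y.2.1, fun h => hy (Subtype.ext h), y.2.2⟩,
    fun ⟨y, h1, h2, h3⟩ => ⟨⟨y, h1, h3⟩, fun h => h2 (congrArg Subtype.val h)⟩⟩

theorem exists_ne_one {H : Subgroup G} (h : H ≠ ⊥) : ∃ x ∈ H, x ≠ 1 := by
  obtain ⟨x, hx⟩ := (ne_bot_iff_exists_ne_one).1 h
  exact ⟨x, x.2, fun h => hx (Subtype.ext h)⟩

theorem ne_bot_of_mem {H : Subgroup G} {x : G} (hx : x ∈ H) (h1 : x ≠ 1) : H ≠ ⊥ :=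
  fun h => h1 (mem_bot.1 (h ▸ hx))

theorem eq_one_of_mem_inf {H K : Subgroup G} (h : H ⊓ K = ⊥) {x : G} (h1 : x ∈ H) (h2 : x ∈ K) :
    x = 1 := mem_bot.1 (h ▸ mem_inf.2 ⟨h1, h2⟩)

theorem eq_bot_of_forall {H : Subgroup G} (h : ∀ x ∈ H, x = 1) : H = ⊥ :=
  (eq_bot_iff_forall H).2 h

/-! ### Conjugation -/

theorem conj_le_conj_iff {g : G} {H K : Subgroup G} : g •ᶜ H ≤ g •ᶜ K ↔ H ≤ K :=
  map_le_map_iff_of_injective (MulAut.conj g).injective

theorem conj_inj {g : G} {H K : Subgroup G} : g •ᶜ H = g •ᶜ K ↔ H = K :=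
  (map_injective (MulAut.conj g).injective).eq_iff

theorem conj_le_iff {g : G} {H K : Subgroup G} : g •ᶜ H ≤ K ↔ H ≤ g⁻¹ •ᶜ K := by
  rw [← conj_le_conj_iff (g := g⁻¹), map_conj_inv_map_conj]

theorem le_conj_iff {g : G} {H K : Subgroup G} : H ≤ g •ᶜ K ↔ g⁻¹ •ᶜ H ≤ K := by
  rw [← conj_le_conj_iff (g := g⁻¹), map_conj_inv_map_conj]

theorem conj_sup (g : G) (H K : Subgroup G) : g •ᶜ (H ⊔ K) = g •ᶜ H ⊔ g •ᶜ K := map_sup _ _ _

theorem conj_comm (g : G) (H K : Subgroup G) : g •ᶜ ⁅H, K⁆ = ⁅g •ᶜ H, g •ᶜ K⁆ :=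
  map_commutator _ _ _

theorem conj_eq_bot_iff {g : G} {H : Subgroup G} : g •ᶜ H = ⊥ ↔ H = ⊥ :=
  map_eq_bot_iff_of_injective _ (MulAut.conj g).injective

theorem conj_mem_conj_iff {g x : G} {H : Subgroup G} : g * x * g⁻¹ ∈ g •ᶜ H ↔ x ∈ H := by
  rw [mem_map_conj_iff]; simp [mul_assoc]

theorem conj_ne_one_iff {g x : G} : g * x * g⁻¹ ≠ 1 ↔ x ≠ 1 := by simp

theorem conj_eq_of_mem {g : G} {H : Subgroup G} (hg : g ∈ H) : g •ᶜ H = H :=
  map_conj_eq_of_mem_normalizer (le_normalizer hg)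

theorem conj_eq_of_mem_cent {g : G} {H : Subgroup G} (hg : g ∈ 𝐂(H)) : g •ᶜ H = H :=
  map_conj_eq_of_mem_normalizer (cent_le_norm H hg)

theorem relIndex_conj (g : G) (H K : Subgroup G) : (g •ᶜ H).relIndex (g •ᶜ K) = H.relIndex K :=
  relIndex_map_map_of_injective _ _ (MulAut.conj g).injective

theorem isCyclic_conj {g : G} {H : Subgroup G} : IsCyclic ↥(g •ᶜ H) ↔ IsCyclic H :=
  (H.equivMapOfInjective _ (MulAut.conj g).injective).isCyclic.symm

theorem isPiSubgroup_conj {π : Set ℕ} {g : G} {H : Subgroup G} :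
    IsPiSubgroup π (g •ᶜ H) ↔ IsPiSubgroup π H := by
  unfold IsPiSubgroup; rw [card_map_conj]

theorem hallOf_conj {π : Set ℕ} {H M : Subgroup G} (h : IsPiHallOf π H M) (g : G) :
    IsPiHallOf π (g •ᶜ H) (g •ᶜ M) :=
  Hall.isPiHallOf_map_of_injective h (MulAut.conj g).injective

theorem le_norm_conj {H K : Subgroup G} (h : H ≤ 𝐍(K)) (g : G) : g •ᶜ H ≤ 𝐍(g •ᶜ K) := by
  rw [normalizer_map_conj]; exact map_mono h

theorem orderOf_conj (g x : G) : orderOf (g * x * g⁻¹) = orderOf x :=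
  (MulAut.conj g).orderOf_eq x

theorem zpowers_conj (g x : G) : zpowers (g * x * g⁻¹) = g •ᶜ zpowers x := by
  rw [MonoidHom.map_zpowers]; rfl

theorem isMulCommutative_conj {H : Subgroup G} (h : IsMulCommutative H) (g : G) :
    IsMulCommutative ↥(g •ᶜ H) := by
  rw [← le_centralizer_iff_isMulCommutative] at h ⊢
  rw [centralizer_map_conj]; exact map_mono h

theorem isComplIn_conj {A B M : Subgroup G} (h : IsComplIn A B M) (g : G) :
    IsComplIn (g •ᶜ A) (g •ᶜ B) (g •ᶜ M) := by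
  refine ⟨map_mono h.1, map_mono h.2.1, by rw [← map_conj_inf, h.2.2.1, Subgroup.map_bot], ?_⟩
  rintro _ ⟨m, hm, rfl⟩
  obtain ⟨a, ha, b, hb, rfl⟩ := h.2.2.2 m hm
  exact ⟨_, ⟨a, ha, rfl⟩, _, ⟨b, hb, rfl⟩, map_mul _ _ _⟩

/-! ### Subgroups of prime order -/

theorem exists_card_prime [Finite G] {H : Subgroup G} {p : ℕ} (hp : p.Prime)
    (hd : p ∣ Nat.card H) : ∃ X ≤ H, Nat.card X = p := by
  have := Fact.mk hp
  obtain ⟨x, hx⟩ := exists_prime_orderOf_dvd_card' (G := H) p hd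
  exact ⟨zpowers (x : G), zpowers_le.2 x.2, by rw [Nat.card_zpowers, orderOf_coe, hx]⟩

theorem exists_prime_dvd_card [Finite G] {H : Subgroup G} (h : H ≠ ⊥) :
    ∃ p : ℕ, p.Prime ∧ p ∣ Nat.card H :=
  Nat.exists_prime_and_dvd fun h1 => h ((eq_bot_iff_card _).2 h1)

theorem exists_prime_sub [Finite G] {H : Subgroup G} (h : H ≠ ⊥) :
    ∃ X ≤ H, (Nat.card X).Prime := by
  obtain ⟨p, hp, hd⟩ := exists_prime_dvd_card h
  obtain ⟨X, hX, hc⟩ := exists_card_prime hp hd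
  exact ⟨X, hX, hc ▸ hp⟩

theorem exists_card_prime_zpowers [Finite G] {x : G} {p : ℕ} (hp : p.Prime)
    (hd : p ∣ orderOf x) : ∃ X ≤ zpowers x, Nat.card X = p :=
  exists_card_prime hp (by rwa [Nat.card_zpowers])

theorem exists_prime_dvd_orderOf [Finite G] {x : G} (h : x ≠ 1) :
    ∃ p : ℕ, p.Prime ∧ p ∣ orderOf x :=
  Nat.exists_prime_and_dvd fun h1 => h (orderOf_eq_one_iff.1 h1)

theorem exists_prime_sub_zpowers [Finite G] {x : G} (h : x ≠ 1) :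
    ∃ X ≤ zpowers x, (Nat.card X).Prime :=
  exists_prime_sub (zpowers_ne_bot.2 h)

theorem ne_bot_of_card_prime {X : Subgroup G} (h : (Nat.card X).Prime) : X ≠ ⊥ := by
  rintro rfl
  exact h.one_lt.ne' card_bot

theorem eq_of_le_of_card_prime {X Y : Subgroup G} (h : (Nat.card X).Prime) (hle : Y ≤ X)
    (h1 : Y ≠ ⊥) : Y = X := by
  have := Fact.mk h
  rcases (Y.subgroupOf X).eq_bot_or_eq_top_of_prime_card with h2 | h2
  · exact absurd (by rw [← inf_eq_left.2 hle, ← disjoint_iff, ← subgroupOf_eq_bot]; exact h2) h1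
  · exact le_antisymm hle (subgroupOf_eq_top.1 h2)

theorem zpowers_eq_of_card_prime {X : Subgroup G} (h : (Nat.card X).Prime) {x : G} (hx : x ∈ X)
    (h1 : x ≠ 1) : zpowers x = X :=
  eq_of_le_of_card_prime h (zpowers_le.2 hx) (zpowers_ne_bot.2 h1)

theorem cent1_eq_of_card_prime {X : Subgroup G} (h : (Nat.card X).Prime) {x : G} (hx : x ∈ X)
    (h1 : x ≠ 1) : 𝐂[x] = 𝐂(X) := by
  rw [← cent_zpowers, zpowers_eq_of_card_prime h hx h1]

theorem inf_eq_bot_or_le_of_card_prime {X : Subgroup G} (h : (Nat.card X).Prime)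
    (Y : Subgroup G) : X ⊓ Y = ⊥ ∨ X ≤ Y := by
  by_cases h1 : X ⊓ Y = ⊥
  · exact Or.inl h1
  · exact Or.inr (inf_eq_left.1 (eq_of_le_of_card_prime h inf_le_left h1))

theorem isPGroup_of_card_eq {X : Subgroup G} {p : ℕ} (h : Nat.card X = p) : IsPGroup p X :=
  IsPGroup.of_card (n := 1) (by rw [h, pow_one])

theorem isPiSubgroup_of_card_eq {π : Set ℕ} {X : Subgroup G} {p : ℕ} (hp : p.Prime)
    (h : Nat.card X = p) (hπ : p ∈ π) : IsPiSubgroup π X := fun q hq hd => by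
  rw [h] at hd; rwa [(Nat.prime_dvd_prime_iff_eq hq hp).1 hd]

theorem isPiSubgroup_of_isPGroup [Finite G] {π : Set ℕ} {X : Subgroup G} {p : ℕ} [Fact p.Prime]
    (h : IsPGroup p X) (hπ : p ∈ π) : IsPiSubgroup π X :=
  isPiSubgroup_mono (isPGroup_iff_isPiSubgroup.1 h) (Set.singleton_subset_iff.2 hπ)

/-- The semiprime condition for subgroups. -/
theorem SemiPrime.cent_eq {K H X : Subgroup G} (h : SemiPrime K H) (hX : X ≤ H) (h1 : X ≠ ⊥) :
    K ⊓ 𝐂(X) = K ⊓ 𝐂(H) := by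
  obtain ⟨x, hx, hx1⟩ := exists_ne_one h1
  refine le_antisymm ?_ (inf_le_inf_left _ (centralizer_le hX))
  rw [← h x (hX hx) hx1]
  exact inf_le_inf_left _ (cent_le_cent1 hx)

theorem SemiReg.cent_eq {K H X : Subgroup G} (h : SemiReg K H) (hX : X ≤ H) (h1 : X ≠ ⊥) :
    K ⊓ 𝐂(X) = ⊥ := by
  obtain ⟨x, hx, hx1⟩ := exists_ne_one h1
  rw [eq_bot_iff, ← h x (hX hx) hx1]
  exact inf_le_inf_left _ (cent_le_cent1 hx)

theorem semiReg_of_prime [Finite G] {K H : Subgroup G}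
    (h : ∀ X ≤ H, (Nat.card X).Prime → K ⊓ 𝐂(X) = ⊥) : SemiReg K H := fun x hx h1 => by
  obtain ⟨X, hX, hp⟩ := exists_prime_sub_zpowers h1
  rw [eq_bot_iff, ← h X (hX.trans (zpowers_le.2 hx)) hp]
  exact inf_le_inf_left _ (cent1_le_cent hX)

theorem SemiReg.mono {K H K' H' : Subgroup G} (h : SemiReg K H) (hK : K' ≤ K) (hH : H' ≤ H) :
    SemiReg K' H' := fun x hx h1 =>
  eq_bot_iff.2 ((inf_le_inf_right _ hK).trans (h x (hH hx) h1).le)

theorem SemiReg.symm {K H : Subgroup G} (h : SemiReg K H) : SemiReg H K := fun x hx h1 =>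
  eq_bot_of_forall fun y hy => by
    by_contra hy1
    exact h1 (eq_one_of_mem_inf (h y hy.1 hy1) hx (mem_cent1_comm.1 hy.2))

/-! ### `π`-elements -/

theorem isPiNum_orderOf_of_mem {π : Set ℕ} {H : Subgroup G} (h : IsPiSubgroup π H) {x : G}
    (hx : x ∈ H) : IsPiNum π (orderOf x) :=
  IsPiNum.of_dvd (π := π) h (orderOf_dvd_natCard H hx)

theorem isPiNum_orderOf_of_mem_zpowers {π : Set ℕ} {x y : G} (h : IsPiNum π (orderOf x))
    (hy : y ∈ zpowers x) : IsPiNum π (orderOf y) := h.of_dvd (orderOf_dvd_of_mem_zpowers hy)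

theorem eq_one_of_isPiNum {π σ : Set ℕ} (hd : Disjoint π σ) {x : G} (h1 : IsPiNum π (orderOf x))
    (h2 : IsPiNum σ (orderOf x)) : x = 1 :=
  orderOf_eq_one_iff.1 (Nat.coprime_self _ |>.1 (IsPiNum.coprime hd h1 h2))

theorem isPiNum_mul_of_commute {π : Set ℕ} {x y : G} (h : Commute x y)
    (hx : IsPiNum π (orderOf x)) (hy : IsPiNum π (orderOf y)) : IsPiNum π (orderOf (x * y)) :=
  (hx.mul hy).of_dvd h.orderOf_mul_dvd_mul_orderOf

/-- Uniqueness of `π`-parts. -/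
theorem pi_part_unique [Finite G] {π : Set ℕ} {u v u' v' : G} (h : Commute u v)
    (h' : Commute u' v') (hu : IsPiNum π (orderOf u)) (hv : IsPiNum πᶜ (orderOf v))
    (hu' : IsPiNum π (orderOf u')) (hv' : IsPiNum πᶜ (orderOf v')) (e : u * v = u' * v') :
    u = u' ∧ v = v' := by
  have a1 := mem_zpowers_mul_of_coprime h (hu.coprime_compl hv)
  have a2 := mem_zpowers_mul_of_coprime' h (hu.coprime_compl hv)
  have a3 := mem_zpowers_mul_of_coprime h' (hu'.coprime_compl hv')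
  have a4 := mem_zpowers_mul_of_coprime' h' (hu'.coprime_compl hv')
  rw [← e] at a3 a4
  have e1 : u'⁻¹ * u = v' * v⁻¹ := by
    calc u'⁻¹ * u = u'⁻¹ * (u * v) * v⁻¹ := by group
      _ = v' * v⁻¹ := by rw [e]; group
  have b1 : IsPiNum π (orderOf (u'⁻¹ * u)) :=
    isPiNum_mul_of_commute (commute_of_mem_zpowers a3 a1).inv_left (by rwa [orderOf_inv]) hu
  have b2 : IsPiNum πᶜ (orderOf (v' * v⁻¹)) :=
    isPiNum_mul_of_commute (commute_of_mem_zpowers a4 a2).inv_right hv' (by rwa [orderOf_inv])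
  have e2 : u'⁻¹ * u = 1 := eq_one_of_isPiNum disjoint_compl_right b1 (e1 ▸ b2)
  have e3 : u = u' := (inv_mul_eq_one.1 e2).symm
  exact ⟨e3, mul_left_cancel (e.trans (by rw [e3]))⟩

theorem prime_dvd_orderOf_mul [Finite G] {u v : G} (h : Commute u v) {p : ℕ} (hp : p.Prime)
    (hd : p ∣ orderOf (u * v)) : p ∣ orderOf u ∨ p ∣ orderOf v :=
  (Nat.Prime.dvd_mul hp).1 (hd.trans h.orderOf_mul_dvd_mul_orderOf)

/-! ### Hall subgroups -/

section Hall
variable {π : Set ℕ} {H M : Subgroup G}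

theorem hallOf_pi (h : IsPiHallOf π H M) : IsPiSubgroup π H := h.2.1

theorem hallOf_relIndex (h : IsPiHallOf π H M) : IsPiNum πᶜ (H.relIndex M) :=
  fun p hp hd hπ => h.2.2 p hp hπ hd

theorem hallOf_coprime (h : IsPiHallOf π H M) : (Nat.card H).Coprime (H.relIndex M) :=
  IsPiNum.coprime_compl (π := π) h.2.1 (hallOf_relIndex h)

theorem hallOf_dvd (h : IsPiHallOf π H M) {p : ℕ} (hp : p.Prime) (hπ : p ∈ π)
    (hd : p ∣ Nat.card M) : p ∣ Nat.card H := by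
  rw [← card_mul_relIndex h.1] at hd
  exact ((Nat.Prime.dvd_mul hp).1 hd).resolve_right (h.2.2 p hp hπ)

theorem hallOf_of_coprime (h : H ≤ M) (hc : (Nat.card H).Coprime (H.relIndex M)) :
    IsPiHallOf {p | p ∣ Nat.card H} H M :=
  ⟨h, fun _ _ hd => hd, fun _ hp h1 h2 => hp.one_lt.ne' (Nat.eq_one_of_dvd_coprimes hc h1 h2)⟩

theorem hallOf_congr {σ : Set ℕ} (h : IsPiHallOf π H M)
    (hπσ : ∀ p : ℕ, p.Prime → p ∣ Nat.card M → (p ∈ π ↔ p ∈ σ)) : IsPiHallOf σ H M :=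
  ⟨h.1, fun p hp hd => (hπσ p hp (hd.trans (card_dvd_of_le h.1))).1 (h.2.1 p hp hd),
    fun p hp hσ hd => h.2.2 p hp ((hπσ p hp (hd.trans (relIndex_dvd_card _ _))).2 hσ) hd⟩

theorem le_of_normal_hallOf {U : Subgroup G} (h : IsPiHallOf π H M) (hn : M ≤ 𝐍(H))
    (hU : IsPiSubgroup π U) (hUM : U ≤ M) : U ≤ H :=
  Cop.le_of_coprime_relIndex hUM hn (IsPiNum.coprime_compl (π := π) hU (hallOf_relIndex h))

theorem mem_of_normal_hallOf {x : G} (h : IsPiHallOf π H M) (hn : M ≤ 𝐍(H))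
    (hx : IsPiNum π (orderOf x)) (hxM : x ∈ M) : x ∈ H :=
  zpowers_le.1 (le_of_normal_hallOf h hn (isPiSubgroup_zpowers_iff.2 hx) (zpowers_le.2 hxM))

/-- A normal `π`-subgroup lies in every Hall `π`-subgroup. -/
theorem le_hallOf_of_le_normalizer [Finite G] {U : Subgroup G} (h : IsPiHallOf π H M)
    (hU : IsPiSubgroup π U) (hUM : U ≤ M) (hn : H ≤ 𝐍(U)) : U ≤ H := by
  have h1 : IsPiSubgroup π (H ⊔ U) := isPiSubgroup_sup hn h.2.1 hU
  rw [Hall.eq_of_hallOf_le h h1 (sup_le h.1 hUM) le_sup_left]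
  exact le_sup_right

theorem hallOf_inf_of_normal_hall {L : Subgroup G} (h : IsPiHallOf π H M) (hn : M ≤ 𝐍(H))
    (hL : L ≤ M) : IsPiHallOf π (H ⊓ L) L := by
  refine ⟨inf_le_right, isPiSubgroup_of_le h.2.1 inf_le_left, fun p hp hπ hd => h.2.2 p hp hπ ?_⟩
  rw [inf_relIndex_right] at hd
  have := normal_subgroupOf_of_le_normalizer hn
  rw [← relIndex_subgroupOf hL] at hd
  exact hd.trans (relIndex_dvd_index_of_normal _ _)

theorem hallOf_inf_of_normal [Finite G] {N : Subgroup G} (h : IsPiHallOf π H M) (hN : N ≤ M)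
    (hn : M ≤ 𝐍(N)) : IsPiHallOf π (H ⊓ N) N := by
  have := normal_subgroupOf_of_le_normalizer hn
  have h1 := Hall.isPiHallOf_inf_normal (Hall.isPiHallOf_iff.1 h).2 (N.subgroupOf M)
  have h2 := Hall.isPiHallOf_map_of_injective h1 M.subtype_injective
  rwa [map_inf_eq _ _ _ M.subtype_injective, subgroupOf_map_subtype, subgroupOf_map_subtype,
    inf_eq_left.2 hN, inf_eq_left.2 h.1] at h2

theorem sylow_of_sylow_hall {p : ℕ} (hp : p.Prime) {S : Subgroup G} (hS : IsSylowIn p S H)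
    (h : IsPiHallOf π H M) (hπ : p ∈ π) : IsSylowIn p S M := by
  refine ⟨hS.le.trans h.1, hS.isPGroup, fun hd => ?_⟩
  rw [← relIndex_mul_relIndex S H M hS.le h.1] at hd
  rcases (Nat.Prime.dvd_mul hp).1 hd with h1 | h1
  · exact hS.not_dvd h1
  · exact h.2.2 p hp hπ h1

theorem hallOf_self (h : IsPiSubgroup π M) : IsPiHallOf π M M :=
  ⟨le_rfl, h, fun p hp _ hd => by rw [relIndex_self] at hd; exact hp.one_lt.ne' (Nat.dvd_one.1 hd)⟩

theorem hallOf_eq_bot_iff [Finite G] (h : IsPiHallOf π H M) : H = ⊥ ↔ IsPiSubgroup πᶜ M := by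
  constructor
  · rintro rfl p hp hd hπ
    have := hallOf_dvd h hp hπ hd
    rw [card_bot] at this
    exact hp.one_lt.ne' (Nat.dvd_one.1 this)
  · intro h1
    by_contra h2
    obtain ⟨p, hp, hd⟩ := exists_prime_dvd_card h2
    exact h1 p hp (hd.trans (card_dvd_of_le h.1)) (h.2.1 p hp hd)

theorem hallOf_of_card_eq [Finite G] {K : Subgroup G} (h : IsPiHallOf π H M) (hK : K ≤ M)
    (hc : Nat.card K = Nat.card H) : IsPiHallOf π K M := by
  refine ⟨hK, by have := h.2.1; rwa [← hc] at this, ?_⟩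
  have h1 := card_mul_relIndex h.1
  have h2 := card_mul_relIndex hK
  have : K.relIndex M = H.relIndex M :=
    Nat.eq_of_mul_eq_mul_left (Nat.card_pos (α := H)) (by rw [h1, ← hc, h2])
  rw [this]; exact h.2.2

/-- Order of a product of a Hall `π`- and a Hall `π'`-subgroup. -/
theorem card_mul_card_of_hall [Finite G] {K : Subgroup G} (h : IsPiHallOf π H M)
    (hK : IsPiHallOf πᶜ K M) : Nat.card H * Nat.card K = Nat.card M := by
  have := Hall.isComplement'_of_hall (Hall.isPiHallOf_iff.1 h).2 (Hall.isPiHallOf_iff.1 hK).2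
  have h1 := this.card_mul
  rwa [card_subgroupOf_of_le h.1, card_subgroupOf_of_le hK.1] at h1

theorem isComplIn_of_hall [Finite G] {K : Subgroup G} (h : IsPiHallOf π H M)
    (hK : IsPiHallOf πᶜ K M) : IsComplIn H K M := by
  have := Hall.isComplement'_of_hall (Hall.isPiHallOf_iff.1 h).2 (Hall.isPiHallOf_iff.1 hK).2
  refine ⟨h.1, hK.1, disjoint_of_isPiSubgroup disjoint_compl_right h.2.1 hK.2.1,
    fun m hm => ?_⟩
  obtain ⟨⟨a, b⟩, hab⟩ := (this.existsUnique ⟨m, hm⟩).exists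
  exact ⟨a.1.1, a.2, b.1.1, b.2, (congrArg Subtype.val hab).symm⟩

end Hall

/-! ### Complements -/

section Compl
variable {A B M : Subgroup G}

theorem IsComplIn.sup_eq (h : IsComplIn A B M) : A ⊔ B = M :=
  le_antisymm (sup_le h.1 h.2.1) fun m hm => by
    obtain ⟨a, ha, b, hb, rfl⟩ := h.2.2.2 m hm
    exact mul_mem (mem_sup_left ha) (mem_sup_right hb)

theorem IsComplIn.symm (h : IsComplIn A B M) : IsComplIn B A M :=
  ⟨h.2.1, h.1, by rw [inf_comm]; exact h.2.2.1, fun m hm => by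
    obtain ⟨a, ha, b, hb, e⟩ := h.2.2.2 m⁻¹ (inv_mem hm)
    exact ⟨b⁻¹, inv_mem hb, a⁻¹, inv_mem ha, by rw [← mul_inv_rev, ← e, inv_inv]⟩⟩

theorem isComplIn_of_sup (hn : B ≤ 𝐍(A)) (hi : A ⊓ B = ⊥) (hs : A ⊔ B = M) : IsComplIn A B M :=
  ⟨hs ▸ le_sup_left, hs ▸ le_sup_right, hi, fun m hm => by
    obtain ⟨a, ha, b, hb, e⟩ := (mem_sup_iff_of_le_normalizer' hn).1 (hs ▸ hm)
    exact ⟨a, ha, b, hb, e.symm⟩⟩

theorem IsComplIn.card_mul (h : IsComplIn A B M) : Nat.card A * Nat.card B = Nat.card M := by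
  rw [← Nat.card_prod]
  refine Nat.card_congr (Equiv.ofBijective
    (fun ab : A × B => (⟨ab.1 * ab.2, mul_mem (h.1 ab.1.2) (h.2.1 ab.2.2)⟩ : M)) ⟨?_, ?_⟩)
  · rintro ⟨a, b⟩ ⟨a', b'⟩ e
    have e1 : (a : G) * b = a' * b' := congrArg Subtype.val e
    have e2 : (a' : G)⁻¹ * a = b' * (b : G)⁻¹ := by
      calc (a' : G)⁻¹ * a = (a' : G)⁻¹ * (a * b) * (b : G)⁻¹ := by group
        _ = _ := by rw [e1]; group
    have e3 : (a' : G)⁻¹ * a = 1 := eq_one_of_mem_inf h.2.2.1 (mul_mem (inv_mem a'.2) a.2)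
      (e2 ▸ mul_mem b'.2 (inv_mem b.2))
    have e4 : (a : G) = a' := (inv_mul_eq_one.1 e3).symm
    rw [e4] at e1
    exact Prod.ext (Subtype.ext e4) (Subtype.ext (mul_left_cancel e1))
  · rintro ⟨m, hm⟩
    obtain ⟨a, ha, b, hb, rfl⟩ := h.2.2.2 m hm
    exact ⟨⟨⟨a, ha⟩, ⟨b, hb⟩⟩, rfl⟩

theorem IsComplIn.relIndex_left [Finite G] (h : IsComplIn A B M) : A.relIndex M = Nat.card B :=
  Nat.eq_of_mul_eq_mul_left (Nat.card_pos (α := A))
    (by rw [card_mul_relIndex h.1, IsComplIn.card_mul h])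

theorem IsComplIn.relIndex_right [Finite G] (h : IsComplIn A B M) : B.relIndex M = Nat.card A :=
  IsComplIn.relIndex_left (IsComplIn.symm h)

theorem IsComplIn.hall_left [Finite G] {π : Set ℕ} (h : IsComplIn A B M) (hA : IsPiSubgroup π A)
    (hB : IsPiSubgroup πᶜ B) : IsPiHallOf π A M :=
  ⟨h.1, hA, fun p hp hπ hd => hB p hp (IsComplIn.relIndex_left h ▸ hd) hπ⟩

theorem IsComplIn.hall_right [Finite G] {π : Set ℕ} (h : IsComplIn A B M) (hB : IsPiSubgroup π B)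
    (hA : IsPiSubgroup πᶜ A) : IsPiHallOf π B M :=
  IsComplIn.hall_left (IsComplIn.symm h) hB hA

theorem IsComplIn.hall_compl [Finite G] {π : Set ℕ} (h : IsComplIn A B M)
    (hA : IsPiHallOf π A M) : IsPiHallOf πᶜ B M :=
  IsComplIn.hall_right h (fun p hp hd hπ => hA.2.2 p hp hπ (IsComplIn.relIndex_left h ▸ hd))
    (by rw [compl_compl]; exact hA.2.1)

/-- Dedekind's law for complements. -/
theorem IsComplIn.restrict {L : Subgroup G} (h : IsComplIn A B M) (hB : B ≤ L) (hL : L ≤ M) :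
    IsComplIn (A ⊓ L) B L :=
  ⟨inf_le_right, hB, eq_bot_iff.2 ((inf_le_inf_right _ inf_le_left).trans h.2.2.1.le),
    fun m hm => by
      obtain ⟨a, ha, b, hb, rfl⟩ := h.2.2.2 m (hL hm)
      exact ⟨a, ⟨ha, (mul_mem_cancel_right (hB hb)).1 hm⟩, b, hb, rfl⟩⟩

theorem IsComplIn.restrict' {L : Subgroup G} (h : IsComplIn A B M) (hA : A ≤ L) (hL : L ≤ M) :
    IsComplIn A (B ⊓ L) L :=
  IsComplIn.symm (IsComplIn.restrict (IsComplIn.symm h) hA hL)

/-- In `M = A ⋊ B`, if `a * b` conjugates an element of `B` into `B` then `a` centralizes it. -/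
theorem conj_eq_of_conj_mem (hi : A ⊓ B = ⊥) (hn : B ≤ 𝐍(A)) {a x : G} (ha : a ∈ A) (hx : x ∈ B)
    (h : a * x * a⁻¹ ∈ B) : a * x * a⁻¹ = x := by
  have h1 : a * (x * a⁻¹ * x⁻¹) ∈ A :=
    mul_mem ha (conj_mem_of_mem_normalizer (hn hx) (inv_mem ha))
  have h2 : a * (x * a⁻¹ * x⁻¹) ∈ B := by
    have := mul_mem h (inv_mem hx); convert this using 1; group
  have h3 := eq_one_of_mem_inf hi h1 h2
  calc a * x * a⁻¹ = a * (x * a⁻¹ * x⁻¹) * x := by group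
    _ = x := by rw [h3, one_mul]

/-- `C_M(x) = C_A(x) ⋊ C_B(x)` for `x ∈ B`. -/
theorem IsComplIn.cent1 (h : IsComplIn A B M) (hn : B ≤ 𝐍(A)) {x : G} (hx : x ∈ B) :
    IsComplIn (A ⊓ 𝐂[x]) (B ⊓ 𝐂[x]) (M ⊓ 𝐂[x]) := by
  refine ⟨inf_le_inf_right _ h.1, inf_le_inf_right _ h.2.1,
    eq_bot_iff.2 ((inf_le_inf inf_le_left inf_le_left).trans h.2.2.1.le), fun m hm => ?_⟩
  obtain ⟨a, ha, b, hb, rfl⟩ := h.2.2.2 m hm.1
  have h1 : a * (b * x * b⁻¹) * a⁻¹ = x := by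
    have := conj_eq_of_mem_cent1 hm.2
    calc _ = a * b * x * (a * b)⁻¹ := by group
      _ = x := this
  have hbx : b * x * b⁻¹ ∈ B := mul_mem (mul_mem hb hx) (inv_mem hb)
  have h2 := conj_eq_of_conj_mem h.2.2.1 hn ha hbx (by rw [h1]; exact hx)
  have h3 : b * x * b⁻¹ = x := h2.symm.trans h1
  have hbc : b ∈ 𝐂[x] := mem_cent1_of_conj_eq h3
  exact ⟨a, ⟨ha, (mul_mem_cancel_right hbc).1 hm.2⟩, b, ⟨hb, hbc⟩, rfl⟩

/-- `N_M(X) = C_A(X) ⋊ N_B(X)` for `X ≤ B`. -/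
theorem IsComplIn.norm [Finite G] (h : IsComplIn A B M) (hn : B ≤ 𝐍(A)) {X : Subgroup G}
    (hX : X ≤ B) : IsComplIn (A ⊓ 𝐂(X)) (B ⊓ 𝐍(X)) (M ⊓ 𝐍(X)) := by
  refine ⟨inf_le_inf h.1 (cent_le_norm X), inf_le_inf_right _ h.2.1,
    eq_bot_iff.2 ((inf_le_inf inf_le_left inf_le_left).trans h.2.2.1.le), fun m hm => ?_⟩
  obtain ⟨b, hb, a, ha, rfl⟩ := (IsComplIn.symm h).2.2.2 m hm.1
  have hac : a ∈ 𝐂(X) := by
    intro x hx
    have h1 : b * a * x * (b * a)⁻¹ ∈ B := hX (conj_mem_of_mem_normalizer hm.2 hx)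
    have h2 : a * x * a⁻¹ ∈ B := by
      have := mul_mem (mul_mem (inv_mem hb) h1) hb; convert this using 1; group
    exact (mem_cent1.1 (mem_cent1_of_conj_eq (conj_eq_of_conj_mem h.2.2.1 hn ha (hX hx) h2))).symm
  have hbn : b ∈ 𝐍(X) := (mul_mem_cancel_right (cent_le_norm X hac)).1 hm.2
  refine ⟨b * a * b⁻¹, ⟨conj_mem_of_mem_normalizer (hn hb) ha,
    conj_mem_of_mem_normalizer (Cop.normalizer_le_normalizer_centralizer X hbn) hac⟩,
    b, ⟨hb, hbn⟩, by group⟩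

end Compl

/-! ### Cyclic groups -/

theorem norm_le_norm_of_le_cyclic [Finite G] {C X : Subgroup G} (hC : IsCyclic C) (hX : X ≤ C) :
    𝐍(C) ≤ 𝐍(X) := fun g hg => by
  refine mem_normalizer_of_map_conj_eq (eq_of_le_of_card_le ?_ (card_map_conj g X).ge)
  refine PGrp.le_of_card_dvd_of_le_cyclic (C := C) ?_ hX (card_map_conj g X).dvd
  rw [← map_conj_eq_of_mem_normalizer hg]; exact map_mono hX

theorem eq_of_le_cyclic [Finite G] {C X Y : Subgroup G} (hC : IsCyclic C) (hX : X ≤ C)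
    (hY : Y ≤ C) (h : Nat.card X = Nat.card Y) : X = Y :=
  eq_of_le_of_card_le (PGrp.le_of_card_dvd_of_le_cyclic hX hY h.dvd) h.ge

theorem isCyclic_of_le' {C X : Subgroup G} (hC : IsCyclic C) (hX : X ≤ C) : IsCyclic X :=
  isCyclic_of_le hX

theorem comm_of_isCyclic {C : Subgroup G} (hC : IsCyclic C) : IsMulCommutative C := inferInstance

theorem le_cent_of_isCyclic {C : Subgroup G} (hC : IsCyclic C) : C ≤ 𝐂(C) :=
  le_centralizer_of_isMulCommutative inferInstance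

theorem exists_zpowers_eq {C : Subgroup G} (hC : IsCyclic C) : ∃ x, zpowers x = C :=
  (Subgroup.isCyclic_iff_exists_zpowers_eq_top C).1 hC

theorem isCyclic_sup [Finite G] {A B : Subgroup G} (hA : IsCyclic A) (hB : IsCyclic B)
    (hc : B ≤ 𝐂(A)) (hcop : (Nat.card A).Coprime (Nat.card B)) : IsCyclic ↥(A ⊔ B) := by
  obtain ⟨a, rfl⟩ := exists_zpowers_eq hA
  obtain ⟨b, rfl⟩ := exists_zpowers_eq hB
  have hab : Commute a b := hc (mem_zpowers b) a (mem_zpowers a)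
  rw [Nat.card_zpowers, Nat.card_zpowers] at hcop
  have : zpowers a ⊔ zpowers b = zpowers (a * b) :=
    le_antisymm (sup_le (zpowers_le.2 (mem_zpowers_mul_of_coprime hab hcop))
      (zpowers_le.2 (mem_zpowers_mul_of_coprime' hab hcop)))
      (zpowers_le.2 (mul_mem (mem_sup_left (mem_zpowers a)) (mem_sup_right (mem_zpowers b))))
  rw [this]; infer_instance

theorem isCyclic_of_nil_of_sylow [Finite G] {H : Subgroup G} (hn : Group.IsNilpotent H)
    (h : ∀ (p : ℕ) [Fact p.Prime] (P : Subgroup G), P ≤ H → IsPGroup p P → IsCyclic P) :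
    IsCyclic H := by
  have : IsZGroup H := ⟨fun p hp P => by
    have := Fact.mk hp
    exact isCyclic_map_subtype_iff.1 (h p _ (map_subtype_le _) (P.2.map _))⟩
  infer_instance

theorem isNilpotent_of_comm {H : Subgroup G} (h : IsMulCommutative H) : Group.IsNilpotent H :=
  letI : CommGroup H := { (inferInstance : Group H) with mul_comm := h.is_comm.comm }
  CommGroup.isNilpotent (G := H)

/-! ### Unique maximal overgroups -/

theorem UniqMax.le {X M : Subgroup G} (h : UniqMax X M) : X ≤ M := h.1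

theorem UniqMax.eq {X M L : Subgroup G} (h : UniqMax X M) (hL : IsCoatom L) (hX : X ≤ L) :
    L = M := h.2 L hL hX

theorem UniqMax.conj {X M : Subgroup G} (h : UniqMax X M) (g : G) : UniqMax (g •ᶜ X) (g •ᶜ M) :=
  ⟨map_mono h.1, fun L hL hXL => by
    rw [← h.2 _ (isCoatom_map_conj hL g⁻¹) (conj_le_iff.1 hXL), map_conj_map_conj_inv]⟩

theorem UniqMax.mono {X Y M : Subgroup G} (h : UniqMax X M) (hXY : X ≤ Y) (hY : Y ≤ M) :
    UniqMax Y M := ⟨hY, fun L hL hYL => h.2 L hL (hXY.trans hYL)⟩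

theorem UniqMax.le_of_ne_top [Finite G] {X Y M : Subgroup G} (h : UniqMax X M) (hXY : X ≤ Y)
    (hY : Y ≠ ⊤) : Y ≤ M := by
  obtain ⟨L, hL, hYL⟩ := mmax_exists hY
  exact h.2 L hL (hXY.trans hYL) ▸ hYL

theorem UniqMax.inUniq {X M : Subgroup G} (h : UniqMax X M) (hM : IsCoatom M) :
    InUniqueMaximal X := (inUniqueMaximal_iff hM h.1).2 h.2

theorem uniqMax_of_inUniq {X M : Subgroup G} (h : InUniqueMaximal X) (hM : IsCoatom M)
    (hX : X ≤ M) : UniqMax X M := ⟨hX, (inUniqueMaximal_iff hM hX).1 h⟩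

theorem mem_of_conj_eq [Finite G] (hG : IsMinSimpleOddOrder G) {M : Subgroup G} (hM : IsCoatom M)
    {g : G} (h : g •ᶜ M = M) : g ∈ M :=
  norm_mmax hG hM ▸ mem_normalizer_of_map_conj_eq h

theorem UniqMax.mem_of_conj_le [Finite G] (hG : IsMinSimpleOddOrder G) {X M : Subgroup G}
    (hM : IsCoatom M) (h : UniqMax X M) {g : G} (hg : X ≤ g •ᶜ M) : g ∈ M :=
  mem_of_conj_eq hG hM (h.2 _ (isCoatom_map_conj hM g) hg)

theorem UniqMax.norm_le [Finite G] (hG : IsMinSimpleOddOrder G) {X M : Subgroup G}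
    (hM : IsCoatom M) (h : UniqMax X M) : 𝐍(X) ≤ M :=
  InUniqueMaximal.normalizer_le hG (UniqMax.inUniq h hM) hM h.1

theorem UniqMax.norm_le_of_cent [Finite G] (hG : IsMinSimpleOddOrder G) {X M : Subgroup G}
    (hM : IsCoatom M) (h : UniqMax 𝐂(X) M) : 𝐍(X) ≤ M :=
  (Cop.normalizer_le_normalizer_centralizer X).trans (UniqMax.norm_le hG hM h)

end CfsgLib.FT.U4
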