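import Mathlib
import Cfsg.Prelude.Def_OddOrderChar
import Cfsg.Prelude.Def_OddOrderLocal
import Cfsg.Agent.Lib.CharBurnside
import Cfsg.Agent.Lib.CharInduce
import Cfsg.Agent.Lib.CoreBasic

/-!
# Ambient-style class functions (definitions)

All class functions of a subgroup `L` of the ambient finite group `G` are functions `G → ℂ`
vanishing off `L`.  This file contains the definitions used in the character theoretic part of
the odd order theorem (Peterfalvi, sections 1 to 14).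
-/

set_option autoImplicit false

namespace CfsgLib.FT

open Cfsg Subgroup
open scoped ComplexConjugate

variable {G : Type*} [Group G]

/-- Linear operators on functions `G → ℂ`. -/
abbrev CFMap (G : Type*) := (G → ℂ) →ₗ[ℂ] (G → ℂ)

/-- Functions vanishing off `A`. -/
def suppOn (A : Set G) : Submodule ℂ (G → ℂ) where
  carrier := {φ | ∀ x, x ∉ A → φ x = 0}
  add_mem' := fun ha hb x hx => by simp [ha x hx, hb x hx]
  zero_mem' := fun _ _ => rfl
  smul_mem' := fun c φ h x hx => by simp [h x hx]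

/-- Class functions of `L` (as functions on `G` vanishing off `L`). -/
def CF (L : Subgroup G) : Submodule ℂ (G → ℂ) where
  carrier := {φ | (∀ x, x ∉ L → φ x = 0) ∧ ∀ y ∈ L, ∀ x, φ (y * x * y⁻¹) = φ x}
  add_mem' := fun ha hb => ⟨fun x hx => by simp [ha.1 x hx, hb.1 x hx],
    fun y hy x => by simp [ha.2 y hy x, hb.2 y hy x]⟩
  zero_mem' := ⟨fun _ _ => rfl, fun _ _ _ => rfl⟩
  smul_mem' := fun c φ h => ⟨fun x hx => by simp [h.1 x hx], fun y hy x => by simp [h.2 y hy x]⟩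

/-- Class functions of `L` with support in `A`: `CF(L, A)`. -/
def CFon (L : Subgroup G) (A : Set G) : Submodule ℂ (G → ℂ) := CF L ⊓ suppOn A

/-- `χ` is a character of `L`. -/
def IsChar (L : Subgroup G) (χ : G → ℂ) : Prop :=
  IsCharacter L (fun x : L => χ x) ∧ ∀ x, x ∉ L → χ x = 0

/-- `χ` is an irreducible character of `L`. -/
def IsIrr (L : Subgroup G) (χ : G → ℂ) : Prop :=
  IsIrrCharacter L (fun x : L => χ x) ∧ ∀ x, x ∉ L → χ x = 0

/-- `χ` is a linear character of `L`. -/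
def IsLin (L : Subgroup G) (χ : G → ℂ) : Prop := IsChar L χ ∧ χ 1 = 1

/-- `χ` is an irreducible character of `L` up to sign. -/
def IsDirr (L : Subgroup G) (χ : G → ℂ) : Prop := IsIrr L χ ∨ IsIrr L (-χ)

/-- Virtual characters of `L`: `ℤ[Irr L]`. -/
def ZIrr (L : Subgroup G) : Submodule ℤ (G → ℂ) := Submodule.span ℤ {χ | IsIrr L χ}

/-- The integer span `ℤ[S]`. -/
def zspan (S : Finset (G → ℂ)) : Submodule ℤ (G → ℂ) := Submodule.span ℤ (S : Set (G → ℂ))

/-- The type of irreducible characters of `L`. -/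
def Irr (L : Subgroup G) : Type _ := {χ : G → ℂ // IsIrr L χ}

instance Irr.instCoeFun (L : Subgroup G) : CoeFun (Irr L) (fun _ => G → ℂ) := ⟨fun χ => χ.1⟩

/-- The indicator function of a set, `'1_A`. -/
noncomputable def cfInd1 (A : Set G) : G → ℂ := A.indicator 1

/-- The principal character of `L`. -/
noncomputable def cf1 (L : Subgroup G) : G → ℂ := (L : Set G).indicator 1

/-- Restriction to `H`. -/
noncomputable def cfRes (H : Subgroup G) : CFMap G where
  toFun φ := (H : Set G).indicator φ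
  map_add' φ ψ := Set.indicator_add' _ _ _
  map_smul' c φ := by
    ext x
    by_cases hx : x ∈ (H : Set G) <;> simp [hx]

/-- Action of a field endomorphism on values. -/
def cfAut (u : ℂ →+* ℂ) (φ : G → ℂ) : G → ℂ := fun x => u (φ x)

/-- Complex conjugate function. -/
abbrev cfConjC (φ : G → ℂ) : G → ℂ := cfAut (starRingEnd ℂ) φ

/-- Conjugate of a function by a group element: `cfConjg x φ (x * g * x⁻¹) = φ g`. -/
def cfConjg (x : G) : CFMap G where
  toFun φ := fun g => φ (x⁻¹ * g * x)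
  map_add' _ _ := rfl
  map_smul' _ _ := rfl

/-- The stabilizer in the ambient group of a function; `L ⊓ inertia θ` is `I_L(θ)`. -/
def inertia (φ : G → ℂ) : Subgroup G where
  carrier := {x | ∀ g, φ (x * g * x⁻¹) = φ g}
  one_mem' := by simp
  mul_mem' := fun {a b} ha hb g => by
    rw [← hb g, ← ha (b * g * b⁻¹)]; congr 1; group
  inv_mem' := fun {a} ha g => by
    rw [← ha (a⁻¹ * g * a⁻¹⁻¹)]; congr 1; group

/-- The kernel of a class function of `L`. -/
def cfker (L : Subgroup G) (φ : G → ℂ) : Subgroup G where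
  carrier := {x | x ∈ L ∧ ∀ y, φ (x * y) = φ y}
  one_mem' := ⟨L.one_mem, by simp⟩
  mul_mem' := fun {a b} ha hb => ⟨L.mul_mem ha.1 hb.1, fun y => by rw [mul_assoc, ha.2, hb.2]⟩
  inv_mem' := fun {a} ha => ⟨L.inv_mem ha.1, fun y => by rw [← ha.2 (a⁻¹ * y)]; simp⟩

/-- `x ≡ y (mod e)` in the ring of algebraic integers. -/
def EqAmod (e x y : ℂ) : Prop := ∃ z : ℂ, IsIntegral ℤ z ∧ x - y = e * z

/-- `A` is a nonempty TI-subset of `G0` with normalizer `L` (relative version). -/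
structure NormedTI (A : Set G) (G0 L : Subgroup G) : Prop where
  nonempty : A.Nonempty
  le : L ≤ G0
  conj_mem : ∀ x ∈ L, ∀ a ∈ A, x * a * x⁻¹ ∈ A
  ti : ∀ g ∈ G0, ∀ a ∈ A, g * a * g⁻¹ ∈ A → g ∈ L

/-- The union of the `L`-conjugates of `A`. -/
def classSupport (A : Set G) (L : Subgroup G) : Set G := {g | ∃ a ∈ A, ∃ y ∈ L, g = y * a * y⁻¹}

/-- `H^#`. -/
def sharp (H : Subgroup G) : Set G := (H : Set G) \ {1}

/-- `L = K ⋊ E` is a Frobenius group with kernel `K` and complement `E`. -/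
structure FrobIn (L K E : Subgroup G) : Prop where
  compl : IsComplIn K E L
  normal : L ≤ normalizer (K : Set G)
  ker_ne : K ≠ ⊥
  compl_ne : E ≠ ⊥
  fpf : ∀ e ∈ E, e ≠ 1 → ∀ k ∈ K, e * k = k * e → k = 1

/-- `L` is a Frobenius group with kernel `K`. -/
def FrobKer (L K : Subgroup G) : Prop := ∃ E : Subgroup G, FrobIn L K E

/-- The support of the Dade map. -/
def dadeSupp (A : Set G) (R : G → Subgroup G) : Set G :=
  {g | ∃ a ∈ A, ∃ r ∈ R a, ∃ y : G, g = y * (a * r) * y⁻¹}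

open Classical in
/-- The Dade map attached to `A` and the signalizer `R` (see `Cfsg.DadeHypothesis`). -/
noncomputable def Dade (A : Set G) (R : G → Subgroup G) : CFMap G where
  toFun α := fun g =>
    if h : ∃ a ∈ A, ∃ r ∈ R a, IsConj (a * r) g then α (Classical.choose h) else 0
  map_add' α β := by
    ext g
    simp only [Pi.add_apply]
    split_ifs <;> simp
  map_smul' c α := by
    ext g
    simp only [Pi.smul_apply, RingHom.id_apply]
    split_ifs <;> simp

/-- `W \ (W₁ ∪ W₂)`. -/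
def cycTIset (W W1 W2 : Subgroup G) : Set G := (W : Set G) \ (W1 ∪ W2)

/-- Peterfalvi (3.1). -/
structure CycTI (G0 W W1 W2 : Subgroup G) : Prop where
  sup_eq : W1 ⊔ W2 = W
  inf_eq : W1 ⊓ W2 = ⊥
  cyclic : IsCyclic W
  odd : Odd (Nat.card W)
  normedTI : NormedTI (cycTIset W W1 W2) G0 W

/-- Peterfalvi (4.2). -/
structure PrimeTI (L K W W1 W2 : Subgroup G) : Prop where
  compl : IsComplIn K W1 L
  normal : L ≤ normalizer (K : Set G)
  W1_ne : W1 ≠ ⊥
  W1_cyclic : IsCyclic W1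
  coprime : (Nat.card K).Coprime (Nat.card W1)
  W2_ne : W2 ≠ ⊥
  W2_le : W2 ≤ K
  W2_cyclic : IsCyclic W2
  cent : ∀ x ∈ W1, x ≠ 1 → K ⊓ centralizer ({x} : Set G) = W2
  sup_eq : W1 ⊔ W2 = W
  odd : Odd (Nat.card W)

/-- Peterfalvi (4.6). -/
structure PrimeDade (L K H : Subgroup G) (A A0 : Set G) (R : G → Subgroup G)
    (W W1 W2 : Subgroup G) : Prop where
  cycTI : CycTI ⊤ W W1 W2
  prTI : PrimeTI L K W W1 W2
  dade : DadeHypothesis A0 L R
  H_normal : L ≤ normalizer (H : Set G)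
  W2_le_H : W2 ≤ H
  H_le : H ≤ K
  A_conj : ∀ x ∈ L, ∀ a ∈ A, x * a * x⁻¹ ∈ A
  cent_sub : ∀ h ∈ H, h ≠ 1 → ∀ k ∈ K, k ≠ 1 → k * h = h * k → k ∈ A
  A_sub : A ⊆ sharp K
  A0_eq : A0 = A ∪ classSupport (cycTIset W W1 W2) L

variable [Fintype G]

open Classical in
/-- The elements of a set as a `Finset`. -/
noncomputable def elems (A : Set G) : Finset G := Finset.univ.filter (· ∈ A)

/-- The inner product of class functions of `L`. -/
noncomputable def cfdot (L : Subgroup G) (φ ψ : G → ℂ) : ℂ :=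
  (Nat.card L : ℂ)⁻¹ * ∑ x ∈ elems (L : Set G), φ x * conj (ψ x)

/-- The squared norm `‖φ‖²`, a real number. -/
noncomputable def cfnorm (L : Subgroup G) (φ : G → ℂ) : ℝ := (cfdot L φ φ).re

/-- Induction from `H` to `L`. -/
noncomputable def cfInd (H L : Subgroup G) : CFMap G where
  toFun φ := (L : Set G).indicator
    fun g => (Nat.card H : ℂ)⁻¹ * ∑ x ∈ elems (L : Set G), cfRes H φ (x * g * x⁻¹)
  map_add' φ ψ := by
    ext g
    by_cases hg : g ∈ (L : Set G) <;> simp [hg, Finset.sum_add_distrib, mul_add]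
  map_smul' c φ := by
    ext g
    by_cases hg : g ∈ (L : Set G) <;> simp [hg, Finset.mul_sum, mul_left_comm]

/-- For `H ⊓ K = ⊥` the function `h * k ↦ φ h * ψ k` on `H K` (zero elsewhere).  This covers
external products of characters of direct factors, and (with `φ = cf1 H`) inflation of a
character of a complement. -/
noncomputable def cfProd (H K : Subgroup G) (φ ψ : G → ℂ) : G → ℂ :=
  fun g => ∑ h ∈ elems (H : Set G), φ h * cfRes K ψ (h⁻¹ * g)

open Classical in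
/-- The `L`-conjugates of `θ`. -/
noncomputable def cfclass (L : Subgroup G) (θ : G → ℂ) : Finset (G → ℂ) :=
  (elems (L : Set G)).image fun x => cfConjg x θ

theorem Irr.finite (L : Subgroup G) : Finite (Irr L) := by
  have := finite_irrCharacter L
  refine Finite.of_injective (fun χ : Irr L => (⟨fun x : L => χ.1 x, χ.2.1⟩ : IrrCharacter L)) ?_
  intro χ ψ h
  apply Subtype.ext
  funext x
  by_cases hx : x ∈ L
  · exact congrFun (congrArg Subtype.val h) ⟨x, hx⟩
  · rw [χ.2.2 x hx, ψ.2.2 x hx]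

noncomputable instance Irr.instFintype (L : Subgroup G) : Fintype (Irr L) :=
  @Fintype.ofFinite _ (Irr.finite L)

noncomputable instance Irr.instDecidableEq (L : Subgroup G) : DecidableEq (Irr L) :=
  Classical.decEq _

omit [Fintype G] in
theorem isIrr_cf1 (L : Subgroup G) : IsIrr L (cf1 L) := by
  refine ⟨?_, fun x hx => Set.indicator_of_notMem hx _⟩
  have : (fun x : L => cf1 L x) = 1 := by
    funext x; exact Set.indicator_of_mem x.2 _
  rw [this]; exact isIrrCharacter_one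

noncomputable instance Irr.instOne (L : Subgroup G) : One (Irr L) := ⟨⟨cf1 L, isIrr_cf1 L⟩⟩

open Classical in
/-- The irreducible constituents of `φ`. -/
noncomputable def irrConstt (L : Subgroup G) (φ : G → ℂ) : Finset (Irr L) :=
  Finset.univ.filter fun χ => cfdot L φ χ ≠ 0

open Classical in
/-- The characters induced to `L` from the irreducible characters of `K` satisfying `P`. -/
noncomputable def seqInd (K L : Subgroup G) (P : Irr K → Prop) : Finset (G → ℂ) :=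
  (Finset.univ.filter P).image fun θ : Irr K => cfInd K L θ

/-- All `Ind_K^L θ`, `θ ∈ Irr K`. -/
noncomputable def seqIndT (K L : Subgroup G) : Finset (G → ℂ) := seqInd K L fun _ => True

/-- The `Ind_K^L θ` with `M ≤ ker θ` and `¬ H ≤ ker θ`. -/
noncomputable def seqIndD (K L H M : Subgroup G) : Finset (G → ℂ) :=
  seqInd K L fun θ => M ≤ cfker K θ ∧ ¬ H ≤ cfker K θ

/-- The map `ρ` of Peterfalvi (7.1). -/
noncomputable def invDade (A : Set G) (R : G → Subgroup G) : CFMap G where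
  toFun χ := A.indicator
    fun a => (Nat.card (R a) : ℂ)⁻¹ * ∑ r ∈ elems (R a : Set G), χ (a * r)
  map_add' φ ψ := by
    ext g
    by_cases hg : g ∈ A <;> simp [hg, Finset.sum_add_distrib, mul_add]
  map_smul' c φ := by
    ext g
    by_cases hg : g ∈ A <;> simp [hg, Finset.mul_sum, mul_left_comm]

/-- `τ` is an isometry from `ℤ[S, L^#]` to `ℤ[Irr G0, G0^#]`. -/
structure ZIsom1 (L G0 : Subgroup G) (S : Finset (G → ℂ)) (τ : CFMap G) : Prop where
  isom : ∀ φ ∈ zspan S, φ 1 = 0 → ∀ ψ ∈ zspan S, ψ 1 = 0 → cfdot G0 (τ φ) (τ ψ) = cfdot L φ ψ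
  virt : ∀ φ ∈ zspan S, φ 1 = 0 → τ φ ∈ ZIrr G0
  one : ∀ φ ∈ zspan S, φ 1 = 0 → τ φ 1 = 0

/-- `τ` is an isometry from `ℤ[S]` to `ℤ[Irr G]`. -/
structure ZIsom (L : Subgroup G) (S : Finset (G → ℂ)) (τ : CFMap G) : Prop where
  isom : ∀ φ ∈ zspan S, ∀ ψ ∈ zspan S, cfdot ⊤ (τ φ) (τ ψ) = cfdot L φ ψ
  virt : ∀ φ ∈ zspan S, τ φ ∈ ZIrr ⊤

/-- `τ1` is an isometry `ℤ[S] → ℤ[Irr G]` extending `τ` on `ℤ[S, L^#]`. -/
structure CoherentWith (L : Subgroup G) (S : Finset (G → ℂ)) (τ τ1 : CFMap G) : Prop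
    extends ZIsom L S τ1 where
  agree : ∀ φ ∈ zspan S, φ 1 = 0 → τ1 φ = τ φ

/-- Peterfalvi (5.1) (relative to `L^#`). -/
def Coherent (L : Subgroup G) (S : Finset (G → ℂ)) (τ : CFMap G) : Prop :=
  ∃ τ1, CoherentWith L S τ τ1

open Classical in
/-- An orthonormal finite set of functions. -/
def Orthonormal' (L : Subgroup G) (E : Finset (G → ℂ)) : Prop :=
  ∀ α ∈ E, ∀ β ∈ E, cfdot L α β = if α = β then 1 else 0

/-- `S1 ⊆ S` is closed under complex conjugation. -/
def ConjCSubset (S1 S : Finset (G → ℂ)) : Prop := S1 ⊆ S ∧ ∀ χ ∈ S1, cfConjC χ ∈ S1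

/-- Peterfalvi (5.2). -/
structure Subcoherent (L : Subgroup G) (S : Finset (G → ℂ)) (τ : CFMap G)
    (R : (G → ℂ) → Finset (G → ℂ)) : Prop where
  char : ∀ χ ∈ S, IsChar L χ
  not_real : ∀ χ ∈ S, cfConjC χ ≠ χ
  conj_mem : ∀ χ ∈ S, cfConjC χ ∈ S
  isom : ZIsom1 L ⊤ S τ
  ortho : ∀ χ ∈ S, ∀ φ ∈ S, χ ≠ φ → cfdot L χ φ = 0
  R_virt : ∀ χ ∈ S, ∀ α ∈ R χ, α ∈ ZIrr (⊤ : Subgroup G)
  R_orthonormal : ∀ χ ∈ S, Orthonormal' ⊤ (R χ)
  R_sum : ∀ χ ∈ S, τ (χ - cfConjC χ) = ∑ α ∈ R χ, α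
  R_ortho : ∀ χ ∈ S, ∀ φ ∈ S, cfdot L φ χ = 0 → cfdot L φ (cfConjC χ) = 0 →
    ∀ α ∈ R φ, ∀ β ∈ R χ, cfdot ⊤ α β = 0

/-- The linear characters `ω_ij` of `W = W₁ × W₂`. -/
noncomputable def cycW (W1 W2 : Subgroup G) (i : Irr W1) (j : Irr W2) : G → ℂ := cfProd W1 W2 i j

/-- The defining properties of the isometry `σ` of Peterfalvi (3.2). -/
structure CycTISpec (G0 W : Subgroup G) (V : Set G) (σ : CFMap G) : Prop where
  isom : ∀ φ ∈ CF W, ∀ ψ ∈ CF W, cfdot G0 (σ φ) (σ ψ) = cfdot W φ ψ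
  virt : ∀ φ ∈ ZIrr W, σ φ ∈ ZIrr G0
  one : σ (cf1 W) = cf1 G0
  ind : ∀ φ ∈ CFon W V, σ φ = cfInd W G0 φ

open Classical in
/-- The isometry `σ : CF(W) → CF(G0)` of Peterfalvi (3.2). -/
noncomputable def cycTIiso (G0 W W1 W2 : Subgroup G) : CFMap G :=
  if h : ∃ σ, CycTISpec G0 W (cycTIset W W1 W2) σ then Classical.choose h else 0

/-- `η_ij = ω_ij^σ`. -/
noncomputable def cycEta (G0 W W1 W2 : Subgroup G) (i : Irr W1) (j : Irr W2) : G → ℂ :=
  cycTIiso G0 W W1 W2 (cycW W1 W2 i j)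

open Classical in
/-- `NC(ψ)` of Peterfalvi (3.6). -/
noncomputable def cycNC (G0 W W1 W2 : Subgroup G) (ψ : G → ℂ) : ℕ :=
  (Finset.univ.filter fun ij : Irr W1 × Irr W2 =>
    cfdot G0 ψ (cycEta G0 W W1 W2 ij.1 ij.2) ≠ 0).card

open Classical in
/-- The sign `δ_j` of Peterfalvi (4.3). -/
noncomputable def prTIsign (L W W1 W2 : Subgroup G) (j : Irr W2) : ℤ :=
  if IsIrr L (cycEta L W W1 W2 1 j) then 1 else -1

/-- `μ_ij` of Peterfalvi (4.3). -/
noncomputable def prTIirr (L W W1 W2 : Subgroup G) (i : Irr W1) (j : Irr W2) : G → ℂ :=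
  (prTIsign L W W1 W2 j : ℂ) • cycEta L W W1 W2 i j

/-- `χ_j` of Peterfalvi (4.5). -/
noncomputable def prTIres (L K W W1 W2 : Subgroup G) (j : Irr W2) : G → ℂ :=
  cfRes K (prTIirr L W W1 W2 1 j)

/-- `μ_j = ∑_i μ_ij` of Peterfalvi (4.5). -/
noncomputable def prTIred (L W W1 W2 : Subgroup G) (j : Irr W2) : G → ℂ :=
  ∑ i : Irr W1, prTIirr L W W1 W2 i j

end CfsgLib.FT
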