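import Mathlib
import Cfsg.Agent.Lib.FT.BG14b
import Cfsg.Agent.Lib.FT.BG6
import Cfsg.Agent.Lib.FT.CFDefs

/-! Bender–Glauberman, section 14, third part: 14.7 and 14.9. -/

set_option autoImplicit false

namespace CfsgLib.FT.U4.B14

open Subgroup Cfsg BGN
open scoped commutatorElement

variable {G : Type*} [Group G] [Finite G]

theorem card_classSupport {T : Set G} {Z : Subgroup G} (h1 : ∀ z ∈ Z, ∀ t ∈ T, z * t * z⁻¹ ∈ T)
    (h2 : ∀ g : G, ∀ t ∈ T, g * t * g⁻¹ ∈ T → g ∈ Z) :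
    (classSupport T ⊤).ncard = Z.index * T.ncard := by
  classical
  have := Fintype.ofFinite G
  let C : Finset G := Finset.univ.filter (· ∈ classSupport T ⊤)
  have h5 := Finset.sum_card_bipartiteAbove_eq_sum_card_bipartiteBelow
    (r := fun a g => g⁻¹ * a * g ∈ T) (s := C) (t := Finset.univ)
  simp only [Finset.bipartiteBelow, Finset.bipartiteAbove] at h5
  have h3 : ∀ a ∈ C, (Finset.univ.filter fun g : G => g⁻¹ * a * g ∈ T).card = Nat.card Z := by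
    intro a ha
    obtain ⟨t, ht, y, -, rfl⟩ := (Finset.mem_filter.1 ha).2
    rw [Nat.card_eq_fintype_card, Fintype.card_subtype,
      ← Finset.card_image_of_injective (Finset.univ.filter (· ∈ Z)) (mul_right_injective y)]
    congr 1
    ext g
    simp only [Finset.mem_filter, Finset.mem_univ, true_and, Finset.mem_image]
    constructor
    · intro h
      refine ⟨y⁻¹ * g, ?_, by simp⟩
      have := h2 (g⁻¹ * y) t ht (by convert h using 1; group)
      simpa using inv_mem this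
    · rintro ⟨z, hz, rfl⟩
      convert h1 z⁻¹ (inv_mem hz) t ht using 1; group
  have h4 : ∀ g : G, (C.filter fun a => g⁻¹ * a * g ∈ T).card = T.ncard := by
    intro g
    rw [← Set.ncard_coe_finset, ← Set.ncard_image_of_injective T (MulAut.conj g).injective]
    congr 1
    ext a
    simp only [C, Finset.coe_filter, Finset.mem_filter, Finset.mem_univ, true_and, Set.mem_setOf_eq,
      Set.mem_image, MulAut.conj_apply]
    constructor
    · exact fun h => ⟨_, h.2, by group⟩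
    · rintro ⟨t, ht, rfl⟩
      exact ⟨⟨t, ht, g, mem_top g, rfl⟩, by convert ht using 1; group⟩
  rw [Finset.sum_congr rfl h3] at h5
  simp only [h4, Finset.sum_const, Finset.card_univ, smul_eq_mul] at h5
  have h6 : (classSupport T ⊤).ncard = C.card := by
    rw [← Set.ncard_coe_finset]; congr 1; ext a; simp [C]
  refine Nat.eq_of_mul_eq_mul_right (Nat.card_pos (α := Z)) ?_
  rw [h6, h5, ← Nat.card_eq_fintype_card, ← Z.index_mul_card]; ring

section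
variable (hG : IsMinSimpleOddOrder G)
include hG

theorem embed_aux1 {M K X H : Subgroup G} (hM : IsCoatom M) (hK : IsPiHallOf (kappa M) K M)
    (hX : X ≤ K) (hp : (Nat.card X).Prime) (hH : IsCoatom H) (hN : 𝐍(X) ≤ H) :
    ∃ L, IsPiHallOf (kappa H) L H ∧ sigmaCore M ⊓ 𝐂(K) ≤ L ∧ X ≤ sigmaCore H ⊓ 𝐂(L) ∧
      K ⊔ (sigmaCore M ⊓ 𝐂(K)) ≤ L ⊔ (sigmaCore H ⊓ 𝐂(L)) := by
  have hX1 := ne_bot_of_card_prime hp
  have hK1 : K ≠ ⊥ := fun h => hX1 (eq_bot_iff.2 (h ▸ hX))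
  have hXH := kappa_le_sigma hG hM hK hX hp hH hN
  have hnc : NotConj H M := notConj_of_sigma (Ms_pi H _ hp (card_dvd_of_le hXH))
    (hK.2.1 _ hp (card_dvd_of_le hX)).2.2.1
  have hZH : K ⊔ (sigmaCore M ⊓ 𝐂(K)) ≤ H :=
    (norm_prime_kappa hG hM hK hK1 hX hp).ge.trans (inf_le_right.trans hN)
  have hκ : IsPiSubgroup (kappa H) (sigmaCore M ⊓ 𝐂(K)) := fun q hq hd => by
    obtain ⟨Y, hY, hYq⟩ := exists_card_prime hq hd
    obtain ⟨x, hx, hx1⟩ := exists_ne_one hX1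
    obtain ⟨y, hy, hy1⟩ := exists_ne_one (ne_bot_of_card_prime (hYq ▸ hq))
    rcases pi_of_cent_sigma hG hH (hXH hx) hx1 (hZH (mem_sup_right (hY hy)))
      (cent_le_cent1 (hX hx) (hY hy).2) hy1
      ((Ms_elt (hY hy).1).mono (sigma'_of_notConj hG hH hM (NotConj.symm hnc))) with
      ⟨K', hK', hyK, -⟩ | ⟨-, -, hu⟩
    · refine isPiNum_orderOf_of_mem hK'.2.1 hyK q hq ?_
      rw [← Nat.card_zpowers, zpowers_eq_of_card_prime (hYq ▸ hq) hy hy1, hYq]
    · rw [cent1_eq_of_card_prime (hYq ▸ hq) hy hy1] at hu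
      exact absurd (hu.2 M hM (Kstar_uniq hG hM hK hK1 hY (hYq ▸ hq)).1) (NotConj.ne (NotConj.symm hnc))
  obtain ⟨L, hL, hKL⟩ := Hall.exists_hallOf_ge (mmax_sol hG hH) hκ (le_sup_right.trans hZH)
  obtain ⟨Y, hY, hYp⟩ := exists_prime_sub (Kstar_ne_bot hG hM hK hK1)
  have hY1 := ne_bot_of_card_prime hYp
  have hL1 : L ≠ ⊥ := fun h => hY1 (eq_bot_iff.2 (h ▸ hY.trans hKL))
  have hKY : K ≤ 𝐂(Y) := le_centralizer_comm (hY.trans inf_le_right)
  refine ⟨L, hL, hKL, ?_, sup_le ?_ (hKL.trans le_sup_left)⟩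
  · rw [← SemiPrime.cent_eq (kappa_semiprime hG hH hL hL1) (hY.trans hKL) hY1]
    exact le_inf hXH (hX.trans hKY)
  · rw [← norm_prime_kappa hG hH hL hL1 (hY.trans hKL) hYp]
    exact le_inf (le_sup_left.trans hZH) (hKY.trans (cent_le_norm Y))

end

/-- `H` is a maximal subgroup of type `P` with `Z = L × L*`. -/
structure ZData (H L Z : Subgroup G) : Prop where
  coatom : IsCoatom H
  hall : IsPiHallOf (kappa H) L H
  ne : L ≠ ⊥
  eq : L ⊔ (sigmaCore H ⊓ 𝐂(L)) = Z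

namespace ZData

variable {H L Z : Subgroup G} (h : ZData H L Z)
include h

omit [Finite G] in
theorem Z_le : Z ≤ H := h.eq ▸ B14.Z_le h.hall

omit [Finite G] in
theorem L_le : L ≤ Z := h.eq ▸ le_sup_left

theorem star_eq : sigmaCore H ⊓ 𝐂(L) = sigmaCore H ⊓ Z := by
  refine le_antisymm (le_inf inf_le_left (h.eq ▸ le_sup_right)) ?_
  exact le_of_normal_hallOf (hall_Z_right h.hall) Z_norm_right
    (isPiSubgroup_of_le (Ms_pi H) inf_le_left) (h.eq ▸ inf_le_right)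

theorem le_L {X : Subgroup G} (hX : X ≤ Z) (hσ : IsPiSubgroup (sigma H)ᶜ X) : X ≤ L :=
  le_K_of_le_Z h.hall (h.eq ▸ hX) hσ

theorem card_mul : Nat.card L * Nat.card ↥(sigmaCore H ⊓ Z) = Nat.card Z := by
  rw [← h.star_eq, IsComplIn.card_mul (complIn_Z h.hall), h.eq]

theorem decomp {t : G} (ht : t ∈ Z) : ∃ y ∈ sigmaCore H ⊓ 𝐂(L), ∃ k ∈ L, t = y * k :=
  (IsComplIn.symm (complIn_Z h.hall)).2.2.2 t (h.eq ▸ ht)

variable (hG : IsMinSimpleOddOrder G)
include hG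

theorem uniq {X : Subgroup G} (hX : X ≤ Z) (hXH : X ≤ sigmaCore H) (hp : (Nat.card X).Prime) :
    UniqMax 𝐂(X) H := Kstar_uniq hG h.coatom h.hall h.ne (h.star_eq ▸ le_inf hXH hX) hp

theorem star_ne : sigmaCore H ⊓ Z ≠ ⊥ := h.star_eq ▸ Kstar_ne_bot hG h.coatom h.hall h.ne

theorem exists_of_le {X : Subgroup G} (hX : X ≤ L) (hp : (Nat.card X).Prime) {N : Subgroup G}
    (hN : IsCoatom N) (hXN : 𝐍(X) ≤ N) : ∃ K, ZData N K Z ∧ X ≤ sigmaCore N := by
  obtain ⟨K, hK, h1, h2, h3⟩ := embed_aux1 hG h.coatom h.hall hX hp hN hXN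
  obtain ⟨Y, hY, hYp⟩ := exists_prime_sub (Kstar_ne_bot hG h.coatom h.hall h.ne)
  have hY1 := ne_bot_of_card_prime hYp
  obtain ⟨L', hL', h4, -, h5⟩ := embed_aux1 hG hN hK (hY.trans h1) hYp h.coatom
    (UniqMax.norm_le_of_cent hG h.coatom (Kstar_uniq hG h.coatom h.hall h.ne hY hYp))
  have hXL' := h2.trans h4
  refine ⟨K, ⟨hN, hK, fun e => hY1 (eq_bot_iff.2 (e ▸ hY.trans h1)),
    le_antisymm (h5.trans ?_) (h.eq ▸ h3)⟩, h2.trans inf_le_left⟩
  rw [← norm_prime_kappa hG h.coatom hL'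
    (fun e => ne_bot_of_card_prime hp (eq_bot_iff.2 (e ▸ hXL'))) hXL' hp,
    norm_prime_kappa hG h.coatom h.hall h.ne hX hp, h.eq]

theorem cover {X : Subgroup G} (hX : X ≤ Z) (hp : (Nat.card X).Prime) :
    ∃ N K, ZData N K Z ∧ X ≤ sigmaCore N := by
  by_cases hσ : Nat.card X ∈ sigma H
  · exact ⟨H, L, h, le_Ms hG h.coatom (hX.trans h.Z_le) (isPiSubgroup_of_card_eq hp rfl hσ)⟩
  · obtain ⟨N, hN, hXN⟩ := mmax_exists (mFT_norm_proper hG (ne_bot_of_card_prime hp)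
      (ne_top_of_le_ne_top h.coatom.1 (hX.trans h.Z_le)))
    exact ⟨N, h.exists_of_le hG (h.le_L hX (isPiSubgroup_of_card_eq hp rfl hσ)) hp hN hXN⟩

theorem notConj {N K : Subgroup G} (h' : ZData N K Z) (hne : N ≠ H) : NotConj N H := by
  rintro g rfl
  obtain ⟨X, hX, hp⟩ := exists_prime_sub (h.star_ne hG)
  have h1 : X ≤ sigmaCore (g •ᶜ H) := le_Ms hG h'.coatom (hX.trans (inf_le_right.trans h'.Z_le))
    (by rw [sigma_conj]; exact isPiSubgroup_of_le (Ms_pi H) (hX.trans inf_le_left))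
  exact hne ((h.uniq hG (hX.trans inf_le_right) (hX.trans inf_le_left) hp).2 _ h'.coatom
    (h'.uniq hG (hX.trans inf_le_right) h1 hp).1)

theorem star_le {N K : Subgroup G} (h' : ZData N K Z) (hne : N ≠ H) : sigmaCore N ⊓ Z ≤ L :=
  h.le_L inf_le_right (isPiSubgroup_of_le (isPiSubgroup_mono (Ms_pi N)
    (sigma'_of_notConj hG h.coatom h'.coatom (h.notConj hG h' hne))) inf_le_left)

theorem norm_L : H ⊓ 𝐍(L) = Z := (norm_kappa hG h.coatom h.hall h.ne).trans h.eq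

theorem ti {y k : G} (hy : y ∈ sigmaCore H ⊓ 𝐂(L)) (hy1 : y ≠ 1) (hk : k ∈ L) (hk1 : k ≠ 1)
    {g : G} (hg : g * (y * k) * g⁻¹ ∈ Z) : g ∈ Z := by
  obtain ⟨y', hy', k', hk', e⟩ := h.decomp hg
  have hkσ := isPiSubgroup_mono h.hall.2.1 kappa_sub_sigma'
  have hc : Commute y k := (hy.2 k hk).symm
  obtain ⟨e1, e2⟩ := pi_part_unique (π := sigma H) (u := g * y * g⁻¹) (v := g * k * g⁻¹)
    (hc.map (MulAut.conj g)) (hy'.2 k' hk').symm (by rw [orderOf_conj]; exact Ms_elt hy.1)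
    (by rw [orderOf_conj]; exact isPiNum_orderOf_of_mem hkσ hk) (Ms_elt hy'.1)
    (isPiNum_orderOf_of_mem hkσ hk') (by rw [← e]; group)
  have hgH : g ∈ H := by
    by_contra hgH
    exact conj_ne_one_iff.2 hy1 (eq_one_of_mem_inf (Kstar_TI hG h.coatom h.hall h.ne hgH)
      (e1 ▸ hy') (conj_mem_map_conj (Ms_le H hy.1)))
  rw [← h.norm_L hG]
  exact ⟨hgH, kappa_TI hG h.coatom h.hall h.ne hgH (ne_bot_of_mem
    (mem_inf.2 ⟨e2 ▸ hk', conj_mem_map_conj hk⟩) (conj_ne_one_iff.2 hk1))⟩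

theorem Z_ne : Z ≠ H := fun e => by
  obtain ⟨q, hq, hd⟩ := exists_prime_dvd_card (Kstar_ne_bot hG h.coatom h.hall h.ne)
  have := Fact.mk hq
  obtain ⟨S, hS⟩ := IsSylowIn.exists_in (p := q) (sigmaCore H)
  refine (Kstar_sylow hG h.coatom h.hall h.ne hd hS).2 (le_trans ?_ (inf_le_right (a := sigmaCore H)))
  rw [h.star_eq, e]
  exact le_inf hS.le (hS.le.trans (Ms_le H))

theorem tilde_bound (h1 : P1 H) :
    2 * Z.index * (Nat.card ↥(sigmaCore H ⊓ Z) - 1) + Z.index ≤ 2 * (tilde H).ncard := by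
  obtain ⟨U, hU⟩ := ex_kappa_compl hG h.coatom h.hall
  have e1 := IsComplIn.card_mul (hU.complM hG h.coatom)
  rw [hU.U_eq_bot_iff.2 h1, bot_sup_eq] at e1
  have e2 := h.card_mul
  have e3 := Z.index_mul_card
  have e4 := H.index_mul_card
  have e5 := relIndex_mul_index h.Z_le
  have e6 : 2 ≤ Z.relIndex H := by
    have a1 : Z.relIndex H ≠ 0 := index_ne_zero_of_finite
    have a2 : Z.relIndex H ≠ 1 := fun e => h.Z_ne hG (le_antisymm h.Z_le (relIndex_eq_one.1 e))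
    omega
  have e7 : Nat.card (sigmaCore H) * H.index = Z.index * Nat.card ↥(sigmaCore H ⊓ Z) := by
    refine Nat.eq_of_mul_eq_mul_left (Nat.card_pos (α := L)) ?_
    calc _ = H.index * (Nat.card (sigmaCore H) * Nat.card L) := by ring
      _ = Z.index * (Nat.card L * Nat.card ↥(sigmaCore H ⊓ Z)) := by rw [e1, e2, e3, e4]
      _ = _ := by ring
  rw [card_tilde hG h.coatom]
  obtain ⟨a, ha⟩ : ∃ a, Nat.card (sigmaCore H) = a + 1 := ⟨_, (Nat.succ_pred_eq_of_pos Nat.card_pos).symm⟩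
  obtain ⟨b, hb⟩ : ∃ b, Nat.card ↥(sigmaCore H ⊓ Z) = b + 1 :=
    ⟨_, (Nat.succ_pred_eq_of_pos Nat.card_pos).symm⟩
  rw [ha, hb] at e7
  rw [ha, hb, Nat.add_sub_cancel, Nat.add_sub_cancel]
  have e8 : 2 * H.index ≤ Z.index := e5 ▸ Nat.mul_le_mul_right _ e6
  nlinarith

/-- The counting argument of BG 14.7. -/
theorem exists_P2 : ∃ N K, ZData N K Z ∧ ¬ P1 N := by
  classical
  by_contra hall
  push Not at hall
  have := Fintype.ofFinite G
  have := Fintype.ofFinite (Subgroup G)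
  let F : Finset (Subgroup G) := Finset.univ.filter fun N => ∃ K, ZData N K Z
  have hF : ∀ N, N ∈ F ↔ ∃ K, ZData N K Z := fun N => by simp [F]
  let T : Set G := {t | t ∈ Z ∧ ∀ N ∈ F, t ∉ sigmaCore N}
  have hT : ∀ t ∈ T, ∃ N K, ZData N K Z ∧ ∃ y ∈ sigmaCore N ⊓ 𝐂(K), y ≠ 1 ∧ ∃ k ∈ K, k ≠ 1 ∧
      t = y * k := by
    intro t ht
    have ht1 : t ≠ 1 := fun e => ht.2 H ((hF H).2 ⟨L, h⟩) (e ▸ one_mem _)
    obtain ⟨X, hX, hp⟩ := exists_prime_sub_zpowers ht1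
    obtain ⟨N, K, hN, hXN⟩ := h.cover hG (hX.trans (zpowers_le.2 ht.1)) hp
    obtain ⟨y, hy, k, hk, e⟩ := hN.decomp ht.1
    refine ⟨N, K, hN, y, hy, ?_, k, hk, ?_, e⟩
    · rintro rfl
      rw [one_mul] at e
      exact (hN.hall.2.1 _ hp (card_dvd_of_le (hX.trans (zpowers_le.2 (e ▸ hk))))).2.2.1
        (Ms_pi N _ hp (card_dvd_of_le hXN))
    · rintro rfl
      rw [mul_one] at e
      exact ht.2 N ((hF N).2 ⟨K, hN⟩) (e ▸ hy.1)
  have hcT : (classSupport T ⊤).ncard = Z.index * T.ncard := by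
    refine card_classSupport (fun z hz t ht => ⟨mul_mem (mul_mem hz ht.1) (inv_mem hz),
      fun N hN h1 => ht.2 N hN ?_⟩) fun g t ht hg => ?_
    · obtain ⟨K, hK⟩ := (hF N).1 hN
      rwa [← conj_Ms (hK.Z_le hz), conj_mem_conj_iff] at h1
    · obtain ⟨N, K, hN, y, hy, hy1, k, hk, hk1, rfl⟩ := hT t ht
      exact hN.ti hG hy hy1 hk hk1 hg.1
  -- upper bound
  have hup : (classSupport T ⊤).ncard + ∑ N ∈ F, (tilde N).ncard ≤ Nat.card G - 1 := by
    have e1 : ∑ N ∈ F, (tilde N).ncard = (F.biUnion fun N => (tilde N).toFinset).card := by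
      rw [Finset.card_biUnion]
      · exact Finset.sum_congr rfl fun N _ => Set.ncard_eq_toFinset_card' _
      · intro N hN N' hN' hne
        obtain ⟨K, hK⟩ := (hF N).1 hN
        obtain ⟨K', hK'⟩ := (hF N').1 hN'
        exact Set.disjoint_toFinset.2 (tilde_disjoint hG hK.coatom hK'.coatom
          (hK.notConj hG hK' hne.symm))
    have hk : ∀ g ∈ classSupport T ⊤, g ≠ 1 ∧ ∀ N, IsCoatom N → g ∉ tilde N := by
      rintro _ ⟨t, ht, g, -, rfl⟩
      refine ⟨conj_ne_one_iff.2 fun e => ht.2 H ((hF H).2 ⟨L, h⟩) (e ▸ one_mem _),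
        fun N hN h1 => ?_⟩
      obtain ⟨N', K, hN', h2⟩ := hT t ht
      refine KappaElt.not_mem_tilde hG ⟨N', K, hN'.coatom, hN'.hall, h2⟩ hN ?_
      convert conj_mem_tilde h1 g⁻¹ using 1; group
    rw [e1, Set.ncard_eq_toFinset_card', ← Finset.card_union_of_disjoint, Nat.card_eq_fintype_card,
      ← Finset.card_univ, ← Finset.card_erase_of_mem (Finset.mem_univ (1 : G))]
    · refine Finset.card_le_card fun g hg => Finset.mem_erase.2 ⟨?_, Finset.mem_univ _⟩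
      rcases Finset.mem_union.1 hg with hg | hg
      · exact (hk g (Set.mem_toFinset.1 hg)).1
      · obtain ⟨N, hN, hg⟩ := Finset.mem_biUnion.1 hg
        obtain ⟨K, hK⟩ := (hF N).1 hN
        rintro rfl
        exact one_not_mem_tilde hG hK.coatom (Set.mem_toFinset.1 hg)
    · rw [Finset.disjoint_left]
      intro g hg h1
      obtain ⟨N, hN, h1⟩ := Finset.mem_biUnion.1 h1
      obtain ⟨K, hK⟩ := (hF N).1 hN
      exact (hk g (Set.mem_toFinset.1 hg)).2 N hK.coatom (Set.mem_toFinset.1 h1)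
  -- lower bound for `T`
  have hlow : Nat.card Z ≤ T.ncard + 1 + ∑ N ∈ F, (Nat.card ↥(sigmaCore N ⊓ Z) - 1) := by
    have e1 : (Z : Set G).toFinset ⊆ (T.toFinset ∪ {1}) ∪
        F.biUnion fun N => ((sigmaCore N ⊓ Z : Subgroup G) : Set G).toFinset.erase 1 := by
      intro z hz
      have hz : z ∈ Z := Set.mem_toFinset.1 hz
      simp only [Finset.mem_union, Set.mem_toFinset, Finset.mem_singleton, Finset.mem_biUnion,
        Finset.mem_erase]
      by_cases h1 : z = 1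
      · exact Or.inl (Or.inr h1)
      by_cases h2 : z ∈ T
      · exact Or.inl (Or.inl h2)
      simp only [T, Set.mem_setOf_eq, not_and, not_forall, not_not] at h2
      obtain ⟨N, hN, h2⟩ := h2 hz
      exact Or.inr ⟨N, hN, h1, h2, hz⟩
    have e2 := (Finset.card_le_card e1).trans ((Finset.card_union_le _ _).trans (add_le_add
      (Finset.card_union_le _ _) Finset.card_biUnion_le))
    rw [Finset.card_singleton, ← Set.ncard_eq_toFinset_card', ← Set.ncard_eq_toFinset_card',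
      ← Nat.card_coe_set_eq] at e2
    refine e2.trans (add_le_add le_rfl (le_of_eq (Finset.sum_congr rfl fun N _ => ?_)))
    rw [Finset.card_erase_of_mem (Set.mem_toFinset.2 (one_mem _)), ← Set.ncard_eq_toFinset_card',
      ← Nat.card_coe_set_eq]
    rfl
  have hF2 : 2 ≤ F.card := by
    obtain ⟨X, hX, hp⟩ := exists_prime_sub h.ne
    obtain ⟨N, K, hN, hXN⟩ := h.cover hG (hX.trans h.L_le) hp
    refine Finset.one_lt_card.2 ⟨N, (hF N).2 ⟨K, hN⟩, H, (hF H).2 ⟨L, h⟩, ?_⟩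
    rintro rfl
    exact (h.hall.2.1 _ hp (card_dvd_of_le hX)).2.2.1 (Ms_pi N _ hp (card_dvd_of_le hXN))
  have hsum : ∑ N ∈ F, (2 * Z.index * (Nat.card ↥(sigmaCore N ⊓ Z) - 1) + Z.index) ≤
      ∑ N ∈ F, 2 * (tilde N).ncard := Finset.sum_le_sum fun N hN => by
    obtain ⟨K, hK⟩ := (hF N).1 hN
    exact hK.tilde_bound hG (hall N K hK)
  rw [Finset.sum_add_distrib, ← Finset.mul_sum, ← Finset.mul_sum, Finset.sum_const,
    smul_eq_mul] at hsum
  have e3 := Z.index_mul_card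
  have e4 : 0 < Nat.card G := Nat.card_pos
  rw [hcT] at hup
  have e5 := Nat.mul_le_mul_left Z.index hlow
  have e6 := Nat.mul_le_mul_right Z.index hF2
  generalize ∑ N ∈ F, (Nat.card ↥(sigmaCore N ⊓ Z) - 1) = s at *
  generalize ∑ N ∈ F, (tilde N).ncard = t at *
  rw [mul_add, mul_add, mul_one, e3] at e5
  rw [mul_assoc] at hsum
  omega

end ZData

/-- The pair `(M, M*)` of BG 14.7, with `K` and `L = K*`. -/
structure PPair (M N K L : Subgroup G) : Prop where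
  maxM : IsCoatom M
  maxN : IsCoatom N
  hallK : IsPiHallOf (kappa M) K M
  hallL : IsPiHallOf (kappa N) L N
  K_ne : K ≠ ⊥
  L_ne : L ≠ ⊥
  defL : sigmaCore M ⊓ 𝐂(K) = L
  defK : sigmaCore N ⊓ 𝐂(L) = K
  notConj : NotConj N M
  p2 : P2 M ∨ P2 N

omit [Finite G] in
theorem PPair.symm {M N K L : Subgroup G} (h : PPair M N K L) : PPair N M L K :=
  ⟨h.maxN, h.maxM, h.hallL, h.hallK, h.L_ne, h.K_ne, h.defK, h.defL, NotConj.symm h.notConj,
    h.p2.symm⟩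

theorem PPair.conj {M N K L : Subgroup G} (h : PPair M N K L) (g : G) :
    PPair (g •ᶜ M) (g •ᶜ N) (g •ᶜ K) (g •ᶜ L) where
  maxM := isCoatom_map_conj h.maxM g
  maxN := isCoatom_map_conj h.maxN g
  hallK := by rw [kappa_conj]; exact hallOf_conj h.hallK g
  hallL := by rw [kappa_conj]; exact hallOf_conj h.hallL g
  K_ne := conj_eq_bot_iff.not.2 h.K_ne
  L_ne := conj_eq_bot_iff.not.2 h.L_ne
  defL := by rw [sigmaCore_conj, centralizer_map_conj, ← map_conj_inf, h.defL]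
  defK := by rw [sigmaCore_conj, centralizer_map_conj, ← map_conj_inf, h.defK]
  notConj := fun x hx => h.notConj (g⁻¹ * x * g) (by
    rw [map_conj_mul, map_conj_mul, ← hx, map_conj_inv_map_conj])
  p2 := by rw [P2_conj, P2_conj]; exact h.p2

/-- BG 14.7: existence of `M*`. -/
theorem exists_PPair (hG : IsMinSimpleOddOrder G) {M K : Subgroup G} (hM : IsCoatom M)
    (hK : IsPiHallOf (kappa M) K M) (hK1 : K ≠ ⊥) : ∃ N, PPair M N K (sigmaCore M ⊓ 𝐂(K)) := by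
  have h : ZData M K _ := ⟨hM, hK, hK1, rfl⟩
  generalize hZ : K ⊔ (sigmaCore M ⊓ 𝐂(K)) = Z at h
  obtain ⟨H, L, hH, h1⟩ := h.exists_P2 hG
  have hH2 : P2 H := ⟨(hallK_ne_bot_iff hH.hall).1 hH.ne, h1⟩
  have hp := (P2_facts hG hH.coatom hH.hall hH2).2.1
  have key : ∀ N K', ZData N K' Z → N ≠ H → sigmaCore N ⊓ Z = L := fun N K' hN hne =>
    eq_of_le_of_card_prime hp (hH.star_le hG hN hne) (hN.star_ne hG)
  have key2 : ∀ N K' N' K'', ZData N K' Z → N ≠ H → ZData N' K'' Z → N' ≠ H → N = N' :=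
    fun N K' N' K'' hN hne hN' hne' =>
      (hN'.uniq hG hH.L_le ((key N' K'' hN' hne').ge.trans inf_le_left) hp).2 N hN.coatom
        (hN.uniq hG hH.L_le ((key N K' hN hne).ge.trans inf_le_left) hp).1
  obtain ⟨X, hX, hXp⟩ := exists_prime_sub hK1
  have hne : ∀ {A B A' : Subgroup G}, ZData A B Z → ∀ X ≤ B, (Nat.card X).Prime →
      X ≤ sigmaCore A' → A' ≠ A := fun hA X hX hXp hXN e =>
    (hA.hall.2.1 _ hXp (card_dvd_of_le hX)).2.2.1 (Ms_pi _ _ hXp (card_dvd_of_le (e ▸ hXN)))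
  obtain ⟨N, K', hN, hXN⟩ := h.cover hG (hX.trans h.L_le) hXp
  have hNM : N ≠ M := hne h X hX hXp hXN
  have two : ∀ A B, ZData A B Z → A = M ∨ A = N := fun A B hA => by
    by_cases h2 : M = H
    · by_cases h3 : A = H
      · exact Or.inl (h3.trans h2.symm)
      · exact Or.inr (key2 A B N K' hA h3 hN (h2 ▸ hNM))
    · have h4 : N = H := by
        by_contra h4; exact hNM (key2 N K' M K hN h4 h h2)
      by_cases h3 : A = H
      · exact Or.inr (h3.trans h4.symm)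
      · exact Or.inl (key2 A B M K hA h3 h h2)
  have fin : ∀ {A B A' B' : Subgroup G}, ZData A B Z → ZData A' B' Z → A' ≠ A →
      (∀ C D, ZData C D Z → C = A ∨ C = A') → sigmaCore A' ⊓ Z = B := by
    intro A B A' B' hA hA' hAA h2
    refine le_antisymm (hA.star_le hG hA' hAA) (le_inf (le_Ms hG hA'.coatom
      (hA.L_le.trans hA'.Z_le) fun q hq hd => ?_) hA.L_le)
    obtain ⟨Y, hY, rfl⟩ := exists_card_prime hq hd
    obtain ⟨C, D, hC, hYC⟩ := hA.cover hG (hY.trans hA.L_le) hq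
    obtain rfl := (h2 C D hC).resolve_left (hne hA Y hY hq hYC)
    exact Ms_pi _ _ hq (card_dvd_of_le hYC)
  have e1 := fin h hN hNM two
  have e2 := fin hN h hNM.symm fun C D hC => (two C D hC).symm
  rw [← h.star_eq] at e2
  rw [← hN.star_eq, ← e2] at e1
  refine ⟨N, hM, hN.coatom, hK, e2 ▸ hN.hall, hK1, e2 ▸ hN.ne, rfl, e1, h.notConj hG hN hNM, ?_⟩
  rcases two H L hH with rfl | rfl
  exacts [Or.inl hH2, Or.inr hH2]

namespace PPair

variable {M N K L : Subgroup G} (h : PPair M N K L)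
include h

omit [Finite G] in
theorem zdata : ZData M K (K ⊔ L) := ⟨h.maxM, h.hallK, h.K_ne, by rw [h.defL]⟩

omit [Finite G] in
theorem zdata' : ZData N L (K ⊔ L) := sup_comm L K ▸ h.symm.zdata

omit [Finite G] in
theorem L_le_Ms : L ≤ sigmaCore M := h.defL ▸ inf_le_left

omit [Finite G] in
theorem K_le_Ns : K ≤ sigmaCore N := h.symm.L_le_Ms

omit [Finite G] in
theorem L_le_cent : L ≤ 𝐂(K) := h.defL ▸ inf_le_right

omit [Finite G] in
theorem K_le_cent : K ≤ 𝐂(L) := h.symm.L_le_cent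

omit [Finite G] in
theorem Z_le_M : K ⊔ L ≤ M := h.zdata.Z_le

omit [Finite G] in
theorem Z_le_N : K ⊔ L ≤ N := h.zdata'.Z_le

theorem L_sigma : IsPiSubgroup (sigma M) L := isPiSubgroup_of_le (Ms_pi M) h.L_le_Ms

omit [Finite G] in
theorem K_sigma' : IsPiSubgroup (sigma M)ᶜ K := isPiSubgroup_mono h.hallK.2.1 kappa_sub_sigma'

theorem coprime : (Nat.card K).Coprime (Nat.card L) :=
  coprime_card_of_isPiSubgroup disjoint_compl_left h.K_sigma' h.L_sigma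

theorem inf_eq_bot : K ⊓ L = ⊥ := disjoint_of_isPiSubgroup disjoint_compl_left h.K_sigma' h.L_sigma

theorem complZ : IsComplIn K L (K ⊔ L) :=
  isComplIn_of_sup (h.L_le_cent.trans (cent_le_norm K)) h.inf_eq_bot rfl

variable (hG : IsMinSimpleOddOrder G)
include hG

theorem uniqL {X : Subgroup G} (hX : X ≤ L) (hp : (Nat.card X).Prime) : UniqMax 𝐂(X) M :=
  Kstar_uniq hG h.maxM h.hallK h.K_ne (h.defL ▸ hX) hp

/-- BG 14.7(a). -/
theorem uniqK {X : Subgroup G} (hX : X ≤ K) (hp : (Nat.card X).Prime) : UniqMax 𝐂(X) N :=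
  h.symm.uniqL hG hX hp

theorem cyclic_aux (h2 : P2 M) : IsCyclic K ∧ IsCyclic L := by
  obtain ⟨-, hp, hn, -⟩ := P2_facts hG h.maxM h.hallK h2
  have := Fact.mk hp
  refine ⟨isCyclic_of_prime_card rfl, isCyclic_of_nil_of_sylow (isNilpotent_of_le hn h.L_le_Ms)
    fun p _ P hP hPp => ?_⟩
  by_cases h1 : P = ⊥
  · subst h1; infer_instance
  · obtain ⟨q, hq, hd⟩ := exists_prime_dvd_card h1
    obtain rfl : q = p := isPGroup_iff_isPiSubgroup.1 hPp q hq hd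
    exact cyclic_of_rank1 hG (kappa_rank (h.hallL.2.1 q hq (hd.trans (card_dvd_of_le hP)))) hPp
      (hP.trans h.hallL.1)

theorem K_cyclic : IsCyclic K :=
  h.p2.elim (fun h2 => (h.cyclic_aux hG h2).1) fun h2 => (h.symm.cyclic_aux hG h2).2

theorem L_cyclic : IsCyclic L := h.symm.K_cyclic hG

/-- BG 14.7(d). -/
theorem Z_cyclic : IsCyclic ↥(K ⊔ L) :=
  isCyclic_sup (h.K_cyclic hG) (h.L_cyclic hG) h.L_le_cent h.coprime

/-- BG 14.7(c). -/
theorem kappa_sub_tau1 : kappa M ⊆ tau1 M := by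
  refine (kappa_aux hG h.maxM h.hallK h.K_ne).2.2.2.resolve_right ?_
  rintro ⟨E₃, -, h1, h3, hE⟩
  refine h1 (eq_bot_iff.2 ((tau3_context hG h.maxM hE h3).2.1.trans ?_))
  rw [le_bot_iff, commutator_eq_bot_iff_le_centralizer]
  exact le_cent_of_isCyclic (h.K_cyclic hG)

theorem Ms_inf : sigmaCore M ⊓ N = L := by
  refine le_antisymm ?_ (le_inf h.L_le_Ms (le_sup_right.trans h.Z_le_N))
  obtain ⟨X, hX, hp⟩ := exists_prime_sub h.K_ne
  have := Fact.mk hp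
  obtain ⟨E, hE⟩ := exists_sigma_compl hG h.maxM
  have h1 := (cent_norm_tau13_mmax hG h.maxM hE (kappa_tau13 hG h.maxM
    (h.hallK.2.1 _ hp (card_dvd_of_le hX))) (hX.trans h.hallK.1) (isPGroup_of_card_eq rfl) h.maxN
    (UniqMax.norm_le_of_cent hG h.maxN (h.uniqK hG hX hp))).1 X
    (le_inf (hX.trans h.hallK.1) (hX.trans (le_sup_left.trans h.Z_le_N))) (isPGroup_of_card_eq rfl)
  rw [← h.defL, ← SemiPrime.cent_eq (kappa_semiprime hG h.maxM h.hallK h.K_ne) hX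
    (ne_bot_of_card_prime hp)]
  exact le_inf inf_le_left (le_centralizer_comm h1)

/-- BG 14.7(d). -/
theorem inf_eq : M ⊓ N = K ⊔ L := by
  refine le_antisymm ?_ (le_inf h.Z_le_M h.Z_le_N)
  rw [← h.zdata'.norm_L hG]
  refine le_inf inf_le_right ?_
  rw [← h.Ms_inf hG]
  exact le_normalizer_inf (inf_le_left.trans (Ms_normal M)) (inf_le_right.trans le_normalizer)

theorem norm_sub {X : Subgroup G} (hX : X ≤ K) (hX1 : X ≠ ⊥) : M ⊓ 𝐍(X) = K ⊔ L := by
  rw [norm_sub_kappa hG h.maxM h.hallK hX hX1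
    (le_normalizer.trans (norm_le_norm_of_le_cyclic (h.K_cyclic hG) hX)), h.defL]

theorem Z_le_cent1 {x : G} (hx : x ∈ K ⊔ L) : K ⊔ L ≤ 𝐂[x] :=
  (le_cent_of_isCyclic (h.Z_cyclic hG)).trans (cent_le_cent1 hx)

theorem cent1_K {x : G} (hx : x ∈ K) (hx1 : x ≠ 1) : M ⊓ 𝐂[x] = K ⊔ L := by
  refine le_antisymm ?_ (le_inf h.Z_le_M (h.Z_le_cent1 hG (mem_sup_left hx)))
  rw [← h.norm_sub hG (zpowers_le.2 hx) (zpowers_ne_bot.2 hx1), ← cent_zpowers]
  exact inf_le_inf_left _ (cent_le_norm _)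

theorem cent1_K_le {x : G} (hx : x ∈ K) (hx1 : x ≠ 1) : 𝐂[x] ≤ N :=
  Kstar_cent1_le hG h.maxN h.hallL h.L_ne (h.defK ▸ hx) hx1

omit hG in
theorem mem_Zhat {t : G} (ht : t ∈ cycTIset (K ⊔ L) K L) :
    ∃ y ∈ L, y ≠ 1 ∧ ∃ k ∈ K, k ≠ 1 ∧ t = y * k := by
  obtain ⟨y, hy, k, hk, rfl⟩ := (IsComplIn.symm h.complZ).2.2.2 t ht.1
  refine ⟨y, hy, ?_, k, hk, ?_, rfl⟩
  · rintro rfl; exact ht.2 (Or.inl (by simpa using hk))
  · rintro rfl; exact ht.2 (Or.inr (by simpa using hy))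

omit hG in
theorem mul_mem_Zhat {y k : G} (hy : y ∈ L) (hy1 : y ≠ 1) (hk : k ∈ K) (hk1 : k ≠ 1) :
    y * k ∈ cycTIset (K ⊔ L) K L := by
  refine ⟨mul_mem (mem_sup_right hy) (mem_sup_left hk), ?_⟩
  rintro (h1 | h1)
  · exact hy1 (eq_one_of_mem_inf h.inf_eq_bot ((mul_mem_cancel_right hk).1 h1) hy)
  · exact hk1 (eq_one_of_mem_inf h.inf_eq_bot hk ((mul_mem_cancel_left hy).1 h1))

theorem ti {t : G} (ht : t ∈ cycTIset (K ⊔ L) K L) {g : G} (hg : g * t * g⁻¹ ∈ K ⊔ L) :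
    g ∈ K ⊔ L := by
  obtain ⟨y, hy, hy1, k, hk, hk1, rfl⟩ := h.mem_Zhat ht
  exact h.zdata.ti hG (h.defL ▸ hy) hy1 hk hk1 hg

/-- BG 14.7(e). -/
theorem normedTI : NormedTI (cycTIset (K ⊔ L) K L) ⊤ (K ⊔ L) := by
  refine ⟨?_, le_top, fun x hx a ha => ?_, fun g _ a ha hg => h.ti hG ha hg.1⟩
  · obtain ⟨y, hy, hy1⟩ := exists_ne_one h.L_ne
    obtain ⟨k, hk, hk1⟩ := exists_ne_one h.K_ne
    exact ⟨_, h.mul_mem_Zhat hy hy1 hk hk1⟩
  · rwa [conj_eq_of_mem_cent1 (h.Z_le_cent1 hG ha.1 hx)]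

theorem Zhat_not_mem_conj {t : G} (ht : t ∈ cycTIset (K ⊔ L) K L) {g : G} (hg : t ∈ g •ᶜ M) :
    g ∈ M := by
  obtain ⟨y, hy, hy1, k, hk, hk1, rfl⟩ := h.mem_Zhat ht
  by_contra hgM
  have hc : Commute y k := (h.L_le_cent hy k hk).symm
  have := mem_zpowers_mul_of_coprime hc ((isPiNum_orderOf_of_mem h.L_sigma hy).coprime_compl
    (isPiNum_orderOf_of_mem h.K_sigma' hk))
  exact hy1 (eq_one_of_mem_inf (Kstar_TI hG h.maxM h.hallK h.K_ne hgM) (h.defL ▸ hy)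
    (zpowers_le.2 hg this))

omit hG in
theorem kappaElt {t : G} (ht : t ∈ cycTIset (K ⊔ L) K L) : KappaElt t := by
  obtain ⟨y, hy, hy1, k, hk, hk1, rfl⟩ := h.mem_Zhat ht
  exact ⟨M, K, h.maxM, h.hallK, y, h.defL ▸ hy, hy1, k, hk, hk1, rfl⟩

theorem card_class_Zhat : Nat.card G < 2 * (classSupport (cycTIset (K ⊔ L) K L) ⊤).ncard := by
  rw [card_classSupport (h.normedTI hG).conj_mem fun g t ht hg => h.ti hG ht hg.1,
    ← (K ⊔ L).index_mul_card, mul_left_comm]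
  refine Nat.mul_lt_mul_of_pos_left ?_ (Nat.pos_of_ne_zero index_ne_zero_of_finite)
  have e1 : Nat.card ↥(K ⊔ L) + 1 ≤ (cycTIset (K ⊔ L) K L).ncard + Nat.card K + Nat.card L := by
    have a1 := Set.ncard_union_add_ncard_inter (K : Set G) (L : Set G)
    rw [← coe_inf, h.inf_eq_bot, coe_bot, Set.ncard_singleton] at a1
    have a2 := Set.ncard_diff_add_ncard_of_subset (s := (K : Set G) ∪ L)
      (t := ((K ⊔ L : Subgroup G) : Set G)) (Set.union_subset (fun _ h => mem_sup_left h)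
        fun _ h => mem_sup_right h)
    rw [← Nat.card_coe_set_eq (K : Set G), ← Nat.card_coe_set_eq (L : Set G)] at a1
    rw [← Nat.card_coe_set_eq ((K ⊔ L : Subgroup G) : Set G)] at a2
    change _ = Nat.card K + Nat.card L at a1
    change (cycTIset (K ⊔ L) K L).ncard + _ = Nat.card ↥(K ⊔ L) at a2
    omega
  rw [← IsComplIn.card_mul h.complZ] at e1 ⊢
  obtain ⟨a, ha⟩ := mFT_odd hG K
  obtain ⟨b, hb⟩ := mFT_odd hG L
  have h1 : Nat.card K ≠ 1 := fun e => h.K_ne ((eq_bot_iff_card _).2 e)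
  have h2 : Nat.card L ≠ 1 := fun e => h.L_ne ((eq_bot_iff_card _).2 e)
  have h3 : Nat.card K ≠ Nat.card L := fun e => h1 (by
    have := h.coprime; rw [← e] at this; exact (Nat.coprime_self _).1 this)
  rw [ha, hb] at e1 h3 ⊢
  rw [ha] at h1
  rw [hb] at h2
  obtain ⟨a, rfl⟩ : ∃ c, a = c + 1 := ⟨a - 1, by omega⟩
  obtain ⟨b, rfl⟩ : ∃ c, b = c + 1 := ⟨b - 1, by omega⟩
  rcases Nat.eq_zero_or_pos a with rfl | h4
  · have : 0 < b := by omega
    nlinarith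
  · nlinarith [Nat.zero_le (a * b), Nat.zero_le b]

theorem eq_or_eq_of_le {H X : Subgroup G} (hX : X ≤ K ⊔ L) (hp : (Nat.card X).Prime)
    (hH : IsCoatom H) (hC : 𝐂(X) ≤ H) : H = M ∨ H = N := by
  by_cases hσ : Nat.card X ∈ sigma M
  · exact Or.inl ((h.zdata.uniq hG hX (le_Ms hG h.maxM (hX.trans h.Z_le_M)
      (isPiSubgroup_of_card_eq hp rfl hσ)) hp).2 H hH hC)
  · exact Or.inr ((h.uniqK hG (h.zdata.le_L hX (isPiSubgroup_of_card_eq hp rfl hσ)) hp).2 H hH hC)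

/-- BG 14.7(g), refined form. -/
theorem conj_pair {M' N' K' L' : Subgroup G} (h' : PPair M' N' K' L') :
    ∃ g : G, (g •ᶜ M' = M ∧ g •ᶜ N' = N) ∨ (g •ᶜ M' = N ∧ g •ᶜ N' = M) := by
  have h1 := h.card_class_Zhat hG
  have h2 := h'.card_class_Zhat hG
  have h3 : ¬ Disjoint (classSupport (cycTIset (K ⊔ L) K L) ⊤)
      (classSupport (cycTIset (K' ⊔ L') K' L') ⊤) := fun hd => by
    have a1 := Set.ncard_union_eq hd
    have a2 := Set.ncard_le_card (classSupport (cycTIset (K ⊔ L) K L) ⊤ ∪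
      classSupport (cycTIset (K' ⊔ L') K' L') ⊤)
    omega
  obtain ⟨_, ⟨t, ht, y, -, rfl⟩, t', ht', y', -, e⟩ := Set.not_disjoint_iff.1 h3
  refine ⟨y⁻¹ * y', ?_⟩
  have e' : t = (y⁻¹ * y') * t' * (y⁻¹ * y')⁻¹ := by
    calc t = y⁻¹ * (y * t * y⁻¹) * y := by group
      _ = _ := by rw [e]; group
  generalize y⁻¹ * y' = g at e'
  obtain ⟨u, hu, hu1, k, hk, hk1, rfl⟩ := h'.mem_Zhat ht'
  have hc : Commute u k := (h'.L_le_cent hu k hk).symm
  have hcop := (isPiNum_orderOf_of_mem h'.L_sigma hu).coprime_compl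
    (isPiNum_orderOf_of_mem h'.K_sigma' hk)
  have key : ∀ {A B C D : Subgroup G}, PPair A B C D → ∀ w ∈ D, w ≠ 1 → w ∈ zpowers (u * k) →
      g •ᶜ A = M ∨ g •ᶜ A = N := fun hA w hw hw1 hwz => by
    obtain ⟨X, hX, hp⟩ := exists_prime_sub_zpowers hw1
    refine h.eq_or_eq_of_le hG (X := g •ᶜ X) ?_ (by rwa [card_map_conj])
      (isCoatom_map_conj hA.maxM g) ?_
    · refine (map_mono (hX.trans (zpowers_le.2 hwz))).trans ?_
      rw [← zpowers_conj, ← e', zpowers_le]; exact ht.1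
    · rw [centralizer_map_conj]
      exact map_mono (hA.uniqL hG (hX.trans (zpowers_le.2 hw)) hp).1
  have a1 := key h' u hu hu1 (mem_zpowers_mul_of_coprime hc hcop)
  have a2 := key h'.symm k hk hk1 (mem_zpowers_mul_of_coprime' hc hcop)
  have a3 : g •ᶜ M' ≠ g •ᶜ N' := fun e => NotConj.ne h'.notConj (conj_inj.1 e).symm
  rcases a1 with a1 | a1 <;> rcases a2 with a2 | a2
  · exact absurd (a1.trans a2.symm) a3
  · exact Or.inl ⟨a1, a2⟩
  · exact Or.inr ⟨a1, a2⟩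
  · exact absurd (a1.trans a2.symm) a3

/-- BG 14.7(g). -/
theorem conj_of_P {H : Subgroup G} (hH : IsCoatom H) (hκ : (kappa H).Nonempty) :
    (∃ g : G, H = g •ᶜ M) ∨ ∃ g : G, H = g •ᶜ N := by
  obtain ⟨K', hK'⟩ := ex_hallK hG hH
  obtain ⟨N', h'⟩ := exists_PPair hG hH hK' ((hallK_ne_bot_iff hK').2 hκ)
  obtain ⟨g, ⟨rfl, -⟩ | ⟨rfl, -⟩⟩ := h.conj_pair hG h'
  · exact Or.inl ⟨g⁻¹, (map_conj_inv_map_conj g H).symm⟩
  · exact Or.inr ⟨g⁻¹, (map_conj_inv_map_conj g H).symm⟩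

/-- `M*` is determined by `M` and `K`. -/
theorem unique {N' L' : Subgroup G} (h' : PPair M N' K L') : N' = N := by
  obtain ⟨X, hX, hp⟩ := exists_prime_sub h.K_ne
  exact (h.uniqK hG hX hp).2 N' h'.maxN (h'.uniqK hG hX hp).1

/-- BG 14.9(2), covering. -/
theorem KappaElt_mem {g : G} (hg : KappaElt g) : g ∈ classSupport (cycTIset (K ⊔ L) K L) ⊤ := by
  obtain ⟨H, K', hH, hK', y, hy, hy1, k, hk, hk1, rfl⟩ := hg
  have key : ∀ {A B C D : Subgroup G}, PPair A B C D → ∀ x : G, x •ᶜ H = A →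
      y * k ∈ classSupport (cycTIset (C ⊔ D) C D) ⊤ := by
    intro A B C D hA x e
    have h1 := hallOf_conj hK' x
    rw [← kappa_conj x H, e] at h1
    obtain ⟨m, hm, e2⟩ := Hall.conj_hallOf (mmax_sol hG hA.maxM) h1 hA.hallK
    rw [← map_conj_mul] at e2
    have e3 : (m * x) •ᶜ (sigmaCore H ⊓ 𝐂(K')) = D := by
      rw [map_conj_inf, ← centralizer_map_conj, ← e2, ← sigmaCore_conj, map_conj_mul, e,
        conj_eq_of_mem hm, hA.defL]
    exact ⟨_, hA.mul_mem_Zhat (e3 ▸ conj_mem_map_conj (g := m * x) hy) (conj_ne_one_iff.2 hy1)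
      (e2 ▸ conj_mem_map_conj (g := m * x) hk) (conj_ne_one_iff.2 hk1), (m * x)⁻¹, mem_top _,
      by group⟩
  rcases h.conj_of_P hG hH ((hallK_ne_bot_iff hK').1 (ne_bot_of_mem hk hk1)) with
    ⟨x, rfl⟩ | ⟨x, rfl⟩
  · exact key h x⁻¹ (map_conj_inv_map_conj x M)
  · have := key h.symm x⁻¹ (map_conj_inv_map_conj x N)
    rwa [cycTIset, sup_comm, Set.union_comm] at this

end PPair

section
variable (hG : IsMinSimpleOddOrder G) {M U K : Subgroup G} (hM : IsCoatom M)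
include hG hM

theorem kappa_cyclic (hK : IsPiHallOf (kappa M) K M) : IsCyclic K := by
  by_cases hK1 : K = ⊥
  · subst hK1; infer_instance
  · obtain ⟨N, h⟩ := exists_PPair hG hM hK hK1
    exact h.K_cyclic hG

theorem KappaCompl.der_E (h : KappaCompl M U K) (hK1 : K ≠ ⊥) : ⁅U ⊔ K, U ⊔ K⁆ = U := by
  refine le_antisymm ((commutator_sup_sup_le h.norm).trans (sup_le (sup_le (commutator_le_self U)
    (h.commUK hG hM hK1).le) ?_))
    ((h.commUK hG hM hK1).ge.trans (commutator_mono le_sup_left le_sup_right))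
  rw [commutator_eq_bot_iff_le_centralizer.2 (le_cent_of_isCyclic (kappa_cyclic hG hM h.hallK))]
  exact bot_le

/-- BG 14.7(h). -/
theorem KappaCompl.der_eq (h : KappaCompl M U K) (hK1 : K ≠ ⊥) : ⁅M, M⁆ = sigmaCore M ⊔ U := by
  rw [der1_eq_sigma_sup hG hM h.hallE, h.der_E hG hM hK1]

theorem complIn_der (hK : IsPiHallOf (kappa M) K M) (hK1 : K ≠ ⊥) : IsComplIn ⁅M, M⁆ K M := by
  obtain ⟨U, hU⟩ := ex_kappa_compl hG hM hK
  rw [hU.der_eq hG hM hK1]; exact hU.complMsU hG hM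

theorem hall_der (hκ : (kappa M).Nonempty) : IsPiHallOf (kappa M)ᶜ ⁅M, M⁆ M := by
  obtain ⟨U, K, hU⟩ := ex_kappa_compl' hG hM
  rw [hU.der_eq hG hM ((hallK_ne_bot_iff hU.hallK).2 hκ)]; exact hU.hallMsU hG hM

theorem kappa_eq_tau1 (hκ : (kappa M).Nonempty) : kappa M = tau1 M := by
  obtain ⟨K, hK⟩ := ex_hallK hG hM
  obtain ⟨N, h⟩ := exists_PPair hG hM hK ((hallK_ne_bot_iff hK).2 hκ)
  refine Set.Subset.antisymm (h.kappa_sub_tau1 hG) fun p hp => ?_
  by_contra hp'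
  exact hp.2.2.2.1 (hallOf_dvd (hall_der hG hM hκ) hp.1 hp' hp.2.2.1)

end

end CfsgLib.FT.U4.B14
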