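import Mathlib
import Cfsg.Agent.Lib.FT.U4
import Cfsg.Agent.Lib.FT.BG1
import Cfsg.Agent.Lib.FT.BG3

/-! More ambient-subgroup utilities: cores, nilpotent subgroups, `M_F`, sections. -/

set_option autoImplicit false

namespace CfsgLib.FT.U4

open Subgroup Cfsg BGN
open scoped commutatorElement

variable {G : Type*} [Group G]

/-! ### Cores -/

theorem pcore_le (π : Set ℕ) (H : Subgroup G) : piCoreOf π H ≤ H := map_subtype_le _

theorem pcore_pi [Finite G] (π : Set ℕ) (H : Subgroup G) : IsPiSubgroup π (piCoreOf π H) :=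
  map_piCore_isPiSubgroup π H

theorem norm_le_norm_pcore [Finite G] (π : Set ℕ) (H : Subgroup G) : 𝐍(H) ≤ 𝐍(piCoreOf π H) :=
  normalizer_le_normalizer_map_piCore π H

theorem pcore_normal [Finite G] (π : Set ℕ) (H : Subgroup G) : H ≤ 𝐍(piCoreOf π H) :=
  le_normalizer.trans (norm_le_norm_pcore π H)

theorem le_pcore {π : Set ℕ} {H A : Subgroup G} (h1 : A ≤ H) (h2 : H ≤ 𝐍(A))
    (h : IsPiSubgroup π A) : A ≤ piCoreOf π H := le_map_piCore h1 h2 h

theorem pcore_pgroup [Finite G] (p : ℕ) [Fact p.Prime] (H : Subgroup G) :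
    IsPGroup p (piCoreOf {p} H) := isPGroup_iff_isPiSubgroup.2 (pcore_pi _ H)

theorem le_fit {H A : Subgroup G} (h1 : A ≤ H) (h2 : H ≤ 𝐍(A)) (h : Group.IsNilpotent A) :
    A ≤ fittingOf H := le_map_fitting h1 h2 h

theorem fit_le (H : Subgroup G) : fittingOf H ≤ H := map_subtype_le _

theorem fit_nil [Finite G] (H : Subgroup G) : Group.IsNilpotent (fittingOf H) :=
  map_fitting_isNilpotent H

theorem norm_le_norm_fit [Finite G] (H : Subgroup G) : 𝐍(H) ≤ 𝐍(fittingOf H) :=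
  normalizer_le_normalizer_map_fitting H

theorem fit_normal [Finite G] (H : Subgroup G) : H ≤ 𝐍(fittingOf H) :=
  le_normalizer.trans (norm_le_norm_fit H)

theorem fit_conj [Finite G] (g : G) (H : Subgroup G) : fittingOf (g •ᶜ H) = g •ᶜ fittingOf H := by
  have key : ∀ (g : G) (H : Subgroup G), g •ᶜ fittingOf H ≤ fittingOf (g •ᶜ H) := fun g H =>
    le_fit (map_mono (fit_le H)) (le_norm_conj (fit_normal H) g) (isNilpotent_map (fit_nil H) _)
  refine le_antisymm ?_ (key g H)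
  have := key g⁻¹ (g •ᶜ H)
  rwa [map_conj_inv_map_conj, conj_le_iff, inv_inv] at this

theorem le_pcore_of_le_fit [Finite G] {π : Set ℕ} {H A : Subgroup G} (h1 : A ≤ fittingOf H)
    (h : IsPiSubgroup π A) : A ≤ piCoreOf π H := by
  refine le_map_of_sgOf_le (h1.trans (fit_le H)) (le_piCore_of_le_fitting ?_
    (isPiSubgroup_subgroupOf h H))
  rw [← map_subtype_sgOf (fittingSubgroup H)]
  exact comap_mono h1

theorem norm_le_norm_der (H : Subgroup G) : 𝐍(H) ≤ 𝐍(⁅H, H⁆) :=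
  Cop.le_normalizer_commutator le_rfl le_rfl

theorem der_normal (H : Subgroup G) : H ≤ 𝐍(⁅H, H⁆) := le_normalizer.trans (norm_le_norm_der H)

theorem normal_of_der_le {H N : Subgroup G} (h1 : ⁅H, H⁆ ≤ N) (h2 : N ≤ H) : H ≤ 𝐍(N) :=
  Cop.le_normalizer_of_commutator_le h1 h2

theorem comm_le_inf {A B : Subgroup G} (h1 : A ≤ 𝐍(B)) (h2 : B ≤ 𝐍(A)) : ⁅A, B⁆ ≤ A ⊓ B :=
  le_inf (Cop.commutator_le_left_of_le_normalizer h2)
    (by rw [commutator_comm]; exact Cop.commutator_le_left_of_le_normalizer h1)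

theorem comm_le_right {A B : Subgroup G} (h1 : A ≤ 𝐍(B)) : ⁅A, B⁆ ≤ B := by
  rw [commutator_comm]; exact Cop.commutator_le_left_of_le_normalizer h1

theorem comm_le_left {A B : Subgroup G} (h1 : B ≤ 𝐍(A)) : ⁅A, B⁆ ≤ A :=
  Cop.commutator_le_left_of_le_normalizer h1

theorem le_cent_of_comm_le {A B C D : Subgroup G} (h1 : ⁅A, B⁆ ≤ C) (h2 : ⁅A, B⁆ ≤ D)
    (h : C ⊓ D = ⊥) : A ≤ 𝐂(B) :=
  commutator_eq_bot_iff_le_centralizer.1 (eq_bot_iff.2 (h ▸ le_inf h1 h2))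

theorem le_cent_of_inf_eq_bot {A B : Subgroup G} (h1 : A ≤ 𝐍(B)) (h2 : B ≤ 𝐍(A))
    (h : A ⊓ B = ⊥) : A ≤ 𝐂(B) :=
  commutator_eq_bot_iff_le_centralizer.1 (eq_bot_iff.2 (h ▸ comm_le_inf h1 h2))

theorem cent_sup (A B : Subgroup G) : 𝐂(A ⊔ B) = 𝐂(A) ⊓ 𝐂(B) :=
  le_antisymm (le_inf (centralizer_antitone le_sup_left) (centralizer_antitone le_sup_right))
    (le_centralizer_comm (sup_le (le_centralizer_comm inf_le_left)
      (le_centralizer_comm inf_le_right)))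

theorem le_cent_sup {A B C : Subgroup G} (h1 : C ≤ 𝐂(A)) (h2 : C ≤ 𝐂(B)) : C ≤ 𝐂(A ⊔ B) := by
  rw [cent_sup]; exact le_inf h1 h2

theorem norm_le_norm_cent (A : Subgroup G) : 𝐍(A) ≤ 𝐍(𝐂(A)) :=
  Cop.normalizer_le_normalizer_centralizer A

theorem dedekind {A B C : Subgroup G} (hn : B ≤ 𝐍(A)) (h : B ≤ C) : (A ⊔ B) ⊓ C = (A ⊓ C) ⊔ B := by
  refine le_antisymm (fun x hx => ?_) (sup_le (inf_le_inf_right _ le_sup_left)
    (le_inf le_sup_right h))
  obtain ⟨a, ha, b, hb, rfl⟩ := (mem_sup_iff_of_le_normalizer' hn).1 hx.1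
  exact mul_mem (mem_sup_left ⟨ha, (mul_mem_cancel_right (h hb)).1 hx.2⟩) (mem_sup_right hb)

theorem dedekind' {A B C : Subgroup G} (hn : B ≤ 𝐍(A)) (h : A ≤ C) : (A ⊔ B) ⊓ C = A ⊔ (B ⊓ C) := by
  refine le_antisymm (fun x hx => ?_) (sup_le (le_inf le_sup_left h)
    (inf_le_inf_right _ le_sup_right))
  obtain ⟨a, ha, b, hb, rfl⟩ := (mem_sup_iff_of_le_normalizer' hn).1 hx.1
  exact mul_mem (mem_sup_left ha) (mem_sup_right ⟨hb, (mul_mem_cancel_left (h ha)).1 hx.2⟩)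

/-! ### Nilpotent subgroups -/

section Nil
variable [Finite G] {N : Subgroup G}

theorem le_cent_of_nil (hN : Group.IsNilpotent N) {A B : Subgroup G} (hA : A ≤ N) (hB : B ≤ N)
    (h : (Nat.card A).Coprime (Nat.card B)) : A ≤ 𝐂(B) := fun a ha b hb =>
  (commute_of_coprime_of_mem_isNilpotent hN (hB hb) (hA ha)
    (Nat.Coprime.coprime_dvd_left (orderOf_dvd_natCard B hb)
      (Nat.Coprime.coprime_dvd_right (orderOf_dvd_natCard A ha) h.symm))).eq

theorem pcore_sup_of_nil (hN : Group.IsNilpotent N) (π : Set ℕ) :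
    piCoreOf π N ⊔ piCoreOf πᶜ N = N := by
  unfold piCoreOf
  rw [← Subgroup.map_sup, top_le_piCore_sup_of_isNilpotent, ← MonoidHom.range_eq_map,
    range_subtype]

theorem complIn_pcore_of_nil (hN : Group.IsNilpotent N) (π : Set ℕ) :
    IsComplIn (piCoreOf π N) (piCoreOf πᶜ N) N :=
  isComplIn_of_sup ((pcore_le _ N).trans (pcore_normal π N))
    (disjoint_of_isPiSubgroup disjoint_compl_right (pcore_pi _ _) (pcore_pi _ _))
    (pcore_sup_of_nil hN π)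

theorem hall_pcore_of_nil (hN : Group.IsNilpotent N) (π : Set ℕ) :
    IsPiHallOf π (piCoreOf π N) N :=
  IsComplIn.hall_left (complIn_pcore_of_nil hN π) (pcore_pi _ _) (pcore_pi _ _)

theorem le_pcore_of_nil (hN : Group.IsNilpotent N) {π : Set ℕ} {A : Subgroup G} (hA : A ≤ N)
    (h : IsPiSubgroup π A) : A ≤ piCoreOf π N :=
  le_of_normal_hallOf (hall_pcore_of_nil hN π) (pcore_normal π N) h hA

theorem eq_pcore_of_nil (hN : Group.IsNilpotent N) {π : Set ℕ} {H : Subgroup G}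
    (h : IsPiHallOf π H N) : H = piCoreOf π N :=
  Hall.eq_of_hallOf_le h (pcore_pi _ _) (pcore_le _ _) (le_pcore_of_nil hN h.1 h.2.1)

theorem norm_le_norm_hall_of_nil (hN : Group.IsNilpotent N) {π : Set ℕ} {H : Subgroup G}
    (h : IsPiHallOf π H N) : 𝐍(N) ≤ 𝐍(H) := by
  rw [eq_pcore_of_nil hN h]; exact norm_le_norm_pcore π N

theorem hallOf_of_sylow {p : ℕ} [Fact p.Prime] {S H : Subgroup G} (h : IsSylowIn p S H) :
    IsPiHallOf {p} S H := Cop.isPiHallOf_singleton_iff.2 ⟨h.le, h.isPGroup, h.not_dvd⟩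

theorem sylow_of_hallOf {p : ℕ} [Fact p.Prime] {S H : Subgroup G} (h : IsPiHallOf {p} S H) :
    IsSylowIn p S H := Cop.isPiHallOf_singleton_iff.1 h

theorem norm_le_norm_sylow_of_nil (hN : Group.IsNilpotent N) {p : ℕ} [Fact p.Prime]
    {S : Subgroup G} (h : IsSylowIn p S N) : 𝐍(N) ≤ 𝐍(S) :=
  norm_le_norm_hall_of_nil hN (hallOf_of_sylow h)

theorem sylow_pcore_of_nil (hN : Group.IsNilpotent N) (p : ℕ) [Fact p.Prime] :
    IsSylowIn p (piCoreOf {p} N) N := sylow_of_hallOf (hall_pcore_of_nil hN _)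

theorem norm_le_norm_of_normal_hall {π : Set ℕ} {H M : Subgroup G} (h : IsPiHallOf π H M)
    (hn : M ≤ 𝐍(H)) : 𝐍(M) ≤ 𝐍(H) := fun g hg =>
  mem_normalizer_of_map_conj_eq (eq_of_le_of_card_le (le_of_normal_hallOf h hn
    (isPiSubgroup_conj.2 h.2.1) (Hall.isPiHallOf_map_conj h hg).1) (card_map_conj g H).ge)

theorem isNilpotent_sup_of_cent {A B : Subgroup G} (hA : Group.IsNilpotent A)
    (hB : Group.IsNilpotent B) (h : A ≤ 𝐂(B)) : Group.IsNilpotent ↥(A ⊔ B) :=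
  isNilpotent_sup (h.trans (cent_le_norm B)) ((le_centralizer_comm h).trans (cent_le_norm A)) hA hB

theorem eq_of_norm_le_of_nil (hN : Group.IsNilpotent N) {A : Subgroup G} (hA : A ≤ N)
    (h : N ⊓ 𝐍(A) ≤ A) : A = N := by
  by_contra hne
  exact (lt_inf_normalizer_of_isNilpotent hN (lt_of_le_of_ne hA hne)).not_ge h

theorem pcore_fit (π : Set ℕ) (H : Subgroup G) : piCoreOf π (fittingOf H) ≤ piCoreOf π H :=
  le_pcore_of_le_fit (pcore_le _ _) (pcore_pi _ _)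

theorem pcore_le_fit (p : ℕ) [Fact p.Prime] (H : Subgroup G) : piCoreOf {p} H ≤ fittingOf H :=
  le_fit (pcore_le _ _) (pcore_normal _ _) (pcore_pgroup p H).isNilpotent

end Nil

/-! ### `M_F` -/

theorem fcore_le (M : Subgroup G) : fittingHallOf M ≤ M := map_subtype_le _

theorem fcore_normal (M : Subgroup G) : M ≤ 𝐍(fittingHallOf M) :=
  le_normalizer_map_subtype (fittingHall M)

theorem fcore_max {M H : Subgroup G} (hle : H ≤ M) (hn : M ≤ 𝐍(H))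
    (hnil : Group.IsNilpotent H) (hall : (Nat.card H).Coprime (H.relIndex M)) :
    H ≤ fittingHallOf M := by
  refine le_map_of_sgOf_le hle (le_sSup ⟨normal_subgroupOf_of_le_normalizer hn,
    isNilpotent_subgroupOf hnil M, ?_⟩)
  rwa [card_subgroupOf_of_le hle]

theorem fittingHall_prop (X : Type*) [Group X] [Finite X] : Group.IsNilpotent (fittingHall X) ∧
    (Nat.card (fittingHall X)).Coprime (fittingHall X).index := by
  refine (sSup_closed (fun N : Subgroup X => N.Normal ∧ Group.IsNilpotent N ∧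
    (Nat.card N).Coprime N.index) ⟨inferInstance, inferInstance, by simp⟩ ?_ _ fun _ h => h).2
  rintro H K ⟨h1, h2, h3⟩ ⟨k1, k2, k3⟩
  refine ⟨inferInstance, isNilpotent_sup_of_normal h2 k2, ?_⟩
  have hd : Nat.card ↥(H ⊔ K) ∣ Nat.card H * Nat.card K := card_sup_dvd_mul le_normalizer_of_normal
  exact Nat.Coprime.coprime_dvd_left hd (Nat.Coprime.mul_left
    (h3.coprime_dvd_right (index_dvd_of_le le_sup_left))
    (k3.coprime_dvd_right (index_dvd_of_le le_sup_right)))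

theorem fcore_nil [Finite G] (M : Subgroup G) : Group.IsNilpotent (fittingHallOf M) :=
  isNilpotent_map_subtype_iff.2 (fittingHall_prop M).1

theorem fcore_coprime [Finite G] (M : Subgroup G) :
    (Nat.card (fittingHallOf M)).Coprime ((fittingHallOf M).relIndex M) := by
  have := (fittingHall_prop M).2
  rwa [relIndex, fittingHallOf, map_subtype_sgOf, card_map_of_injective M.subtype_injective]

theorem fcore_hall [Finite G] (M : Subgroup G) :
    IsPiHallOf {p | p ∣ Nat.card (fittingHallOf M)} (fittingHallOf M) M :=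
  hallOf_of_coprime (fcore_le M) (fcore_coprime M)

theorem fcore_le_fit [Finite G] (M : Subgroup G) : fittingHallOf M ≤ fittingOf M :=
  le_fit (fcore_le M) (fcore_normal M) (fcore_nil M)

theorem map_fittingHall_le {X Y : Type*} [Group X] [Group Y] (e : X ≃* Y) :
    (fittingHall X).map e.toMonoidHom ≤ fittingHall Y := by
  rw [map_le_iff_le_comap]
  refine sSup_le fun N hN => map_le_iff_le_comap.1 (le_sSup ⟨hN.1.map _ e.surjective,
    isNilpotent_map hN.2.1 _, ?_⟩)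
  rw [card_map_of_injective e.injective, index_map_of_bijective e.bijective]
  exact hN.2.2

theorem fcore_conj (g : G) (M : Subgroup G) : fittingHallOf (g •ᶜ M) = g •ᶜ fittingHallOf M := by
  have key : ∀ (g : G) (M : Subgroup G), g •ᶜ fittingHallOf M ≤ fittingHallOf (g •ᶜ M) := by
    rintro g M _ ⟨_, ⟨x, hx, rfl⟩, rfl⟩
    exact ⟨_, map_fittingHall_le (M.equivMapOfInjective _ (MulAut.conj g).injective)
      ⟨x, hx, rfl⟩, rfl⟩
  refine le_antisymm ?_ (key g M)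
  have := key g⁻¹ (g •ᶜ M)
  rwa [map_conj_inv_map_conj, conj_le_iff, inv_inv] at this

theorem norm_le_norm_fcore (M : Subgroup G) : 𝐍(M) ≤ 𝐍(fittingHallOf M) := fun g hg =>
  mem_normalizer_of_map_conj_eq (by rw [← fcore_conj, map_conj_eq_of_mem_normalizer hg])

theorem sylow_le_fcore [Finite G] {p : ℕ} [Fact p.Prime] {M S : Subgroup G} (h : IsSylowIn p S M)
    (hn : M ≤ 𝐍(S)) : S ≤ fittingHallOf M :=
  fcore_max h.le hn h.isPGroup.isNilpotent (hallOf_coprime (hallOf_of_sylow h))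

theorem fcore_eq_of_nil [Finite G] {π : Set ℕ} {M H : Subgroup G} (h : IsPiHallOf π H M)
    (hn : M ≤ 𝐍(H)) (hnil : Group.IsNilpotent H) (hle : fittingHallOf M ≤ H) :
    fittingHallOf M = H := le_antisymm hle (fcore_max h.1 hn hnil (hallOf_coprime h))

/-! ### Images in `N(N) / N` -/

/-- The image of `A` in `N_G(N) / N`. -/
def bar (N A : Subgroup G) : Subgroup (𝐍(N) ⧸ N.subgroupOf 𝐍(N)) :=
  (A.subgroupOf 𝐍(N)).map (QuotientGroup.mk' _)

section Bar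
variable {N A B : Subgroup G}

theorem bar_mono (h : A ≤ B) : bar N A ≤ bar N B := map_mono (comap_mono h)

theorem bar_le_norm (h : A ≤ 𝐍(B)) : bar N A ≤ 𝐍(bar N B) :=
  map_le_normalizer_map (sgOf_le_normalizer h _) _

theorem bar_comm (hA : A ≤ 𝐍(N)) (hB : B ≤ 𝐍(N)) : bar N ⁅A, B⁆ = ⁅bar N A, bar N B⁆ := by
  rw [bar, sgOf_commutator hA hB, map_commutator]; rfl

theorem bar_eq_bot_iff (hA : A ≤ 𝐍(N)) : bar N A = ⊥ ↔ A ≤ N := by
  rw [bar, Subgroup.map_eq_bot_iff, QuotientGroup.ker_mk']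
  exact ⟨fun h a ha => h (show (⟨a, hA ha⟩ : 𝐍(N)) ∈ A.subgroupOf 𝐍(N) from ha),
    fun h => comap_mono h⟩

theorem bar_le_cent_iff (hA : A ≤ 𝐍(N)) (hB : B ≤ 𝐍(N)) :
    bar N A ≤ 𝐂(bar N B) ↔ ⁅A, B⁆ ≤ N := by
  rw [← commutator_eq_bot_iff_le_centralizer, ← bar_comm hA hB,
    bar_eq_bot_iff ((commutator_mono hA hB).trans (commutator_le_self _))]

theorem card_bar_mul (hA : A ≤ 𝐍(N)) : Nat.card (bar N A) * Nat.card ↥(N ⊓ A) = Nat.card A := by
  have := card_map_mk'_mul_card_inf (A.subgroupOf 𝐍(N)) (N.subgroupOf 𝐍(N))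
  rw [card_subgroupOf_of_le hA] at this
  rw [← this, ← card_subgroupOf_of_le (inf_le_right.trans hA)]
  rfl

theorem card_bar_dvd (hA : A ≤ 𝐍(N)) : Nat.card (bar N A) ∣ Nat.card A :=
  Dvd.intro _ (card_bar_mul hA)

theorem card_bar_of_inf (hA : A ≤ 𝐍(N)) (h : N ⊓ A = ⊥) : Nat.card (bar N A) = Nat.card A := by
  rw [← card_bar_mul hA, h, card_bot, mul_one]

theorem card_bar [Finite G] (hA : A ≤ 𝐍(N)) : Nat.card (bar N A) = N.relIndex A := by
  refine Nat.eq_of_mul_eq_mul_right (Nat.card_pos (α := ↥(N ⊓ A))) ?_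
  rw [card_bar_mul hA, ← inf_relIndex_right, mul_comm, card_mul_relIndex inf_le_right]

theorem bar_inf_cent [Finite G] (hA : A ≤ 𝐍(N)) (hB : B ≤ 𝐍(N)) (hAB : A ≤ 𝐍(B))
    (hcop : (Nat.card A).Coprime (Nat.card N)) (hs : Group.IsSolvable N) :
    bar N B ⊓ 𝐂(bar N A) = bar N (B ⊓ 𝐂(A)) := by
  have hle : B.subgroupOf 𝐍(N) ⊓ N.subgroupOf 𝐍(N) ≤ N.subgroupOf 𝐍(N) := inf_le_right
  have := Cop.map_mk'_inf_centralizer (N.subgroupOf 𝐍(N)) (sgOf_le_normalizer hAB 𝐍(N))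
    (by
      rw [card_subgroupOf_of_le hA]
      exact hcop.coprime_dvd_right ((card_dvd_of_le hle).trans
        (card_subgroupOf_of_le le_normalizer).dvd))
    (Or.inr (isSolvable_of_le (isSolvable_subgroupOf hs _) hle))
  rw [centralizer_subgroupOf_of_le hA] at this
  exact this

theorem exists_of_mem_bar (hA : A ≤ 𝐍(N)) {y : 𝐍(N) ⧸ N.subgroupOf 𝐍(N)} (hy : y ∈ bar N A)
    (h1 : y ≠ 1) : ∃ a ∈ A, a ≠ 1 ∧ 𝐂[y] = 𝐂(bar N (zpowers a)) := by
  obtain ⟨a, ha, rfl⟩ := hy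
  refine ⟨a, ha, fun h => h1 (by rw [show a = 1 from Subtype.ext h, map_one]), ?_⟩
  rw [← cent_zpowers, ← MonoidHom.map_zpowers, bar]
  congr 3
  ext x
  rw [mem_subgroupOf, ← coe_subtype, ← MonoidHom.map_zpowers, 
    mem_map_iff_mem (subtype_injective _)]

theorem bar_cent1 [Finite G] {K R : Subgroup G} (hK : K ≤ 𝐍(N)) (hR : R ≤ 𝐍(N)) (hRK : R ≤ 𝐍(K))
    (hcop : (Nat.card R).Coprime (Nat.card N)) (hs : Group.IsSolvable N)
    {y : 𝐍(N) ⧸ N.subgroupOf 𝐍(N)} (hy : y ∈ bar N R) (h1 : y ≠ 1) :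
    ∃ a ∈ R, a ≠ 1 ∧ bar N K ⊓ 𝐂[y] = bar N (K ⊓ 𝐂[a]) := by
  obtain ⟨a, ha, ha1, e⟩ := exists_of_mem_bar hR hy h1
  have hz := zpowers_le.2 ha
  exact ⟨a, ha, ha1, by rw [e, bar_inf_cent (hz.trans hR) hK (hz.trans hRK)
    (hcop.coprime_dvd_left (card_dvd_of_le hz)) hs, cent_zpowers]⟩

/-- BG 3.7 for a section. -/
theorem nil_bar [Finite G] {K R : Subgroup G} (hK : K ≤ 𝐍(N)) (hR : R ≤ 𝐍(N)) (hRK : R ≤ 𝐍(K))
    (hR1 : R ≠ ⊥) (hcop : (Nat.card R).Coprime (Nat.card N)) (hs : Group.IsSolvable N)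
    (h : ∀ x ∈ R, x ≠ 1 → K ⊓ 𝐂[x] ≤ N) : Group.IsNilpotent (bar N K) := by
  refine Frobenius_sol_kernel_nil (bar_le_norm hRK) (fun h1 => hR1 ?_) fun y hy h1 => ?_
  · have := (bar_eq_bot_iff hR).1 h1
    exact (eq_bot_iff_card _).2 (hcop.eq_one_of_dvd (card_dvd_of_le this))
  · obtain ⟨a, ha, ha1, e⟩ := bar_cent1 hK hR hRK hcop hs hy h1
    rw [e, bar_eq_bot_iff (inf_le_left.trans hK)]
    exact h a ha ha1

theorem comm_le_of_nil_bar [Finite G] {K : Subgroup G} (hK : K ≤ 𝐍(N))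
    (h : Group.IsNilpotent (bar N K)) (hA : A ≤ K) (hB : B ≤ K)
    (hcop : (Nat.card A).Coprime (Nat.card B)) : ⁅A, B⁆ ≤ N :=
  (bar_le_cent_iff (hA.trans hK) (hB.trans hK)).1 (le_cent_of_nil h (bar_mono hA) (bar_mono hB)
    ((hcop.coprime_dvd_left (card_bar_dvd (hA.trans hK))).coprime_dvd_right
      (card_bar_dvd (hB.trans hK))))

/-- BG 3.10 for the action of `D K` on the section `Q / C_Q(D)`. -/
theorem primact_section [Finite G] {D K Q : Subgroup G} (hD1 : ¬ D ≤ 𝐂(Q)) (hK1 : K ≠ ⊥)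
    (hKD : K ≤ 𝐍(D)) (hreg : SemiReg D K) (hQn : Group.IsNilpotent Q) (hDQ : D ≤ 𝐍(Q))
    (hKQ : K ≤ 𝐍(Q)) (hQ0 : Q ≤ 𝐍(Q ⊓ 𝐂(D))) (hcD : (Nat.card D).Coprime (Nat.card Q))
    (hcK : (Nat.card K).Coprime (Nat.card Q)) (hpr : SemiPrime Q K) :
    (Nat.card K).Prime ∧ (Q ⊓ 𝐂(D)).relIndex Q = (Q ⊓ 𝐂(D)).relIndex (Q ⊓ 𝐂(K)) ^ Nat.card K ∧
      (IsCyclic ↥(Q ⊓ 𝐂(K)) → ⁅⁅D, D⁆, Q⁆ ≤ Q ⊓ 𝐂(D)) := by
  have hDN : D ≤ 𝐍(Q ⊓ 𝐂(D)) := Cop.le_normalizer_inf_centralizer hDQ le_normalizer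
  have hKN : K ≤ 𝐍(Q ⊓ 𝐂(D)) := Cop.le_normalizer_inf_centralizer hKQ hKD
  have hdvd : Nat.card ↥(Q ⊓ 𝐂(D)) ∣ Nat.card Q := card_dvd_of_le inf_le_left
  have hs : Group.IsSolvable ↥(Q ⊓ 𝐂(D)) :=
    have := isNilpotent_of_le hQn (inf_le_left (b := 𝐂(D))); inferInstance
  have hcK' := hcK.coprime_dvd_right hdvd
  have hcD' := hcD.coprime_dvd_right hdvd
  have hKi : (Q ⊓ 𝐂(D)) ⊓ K = ⊥ := disjoint_iff.1 (disjoint_of_coprime_natCard hcK'.symm)
  have hDi : (Q ⊓ 𝐂(D)) ⊓ D = ⊥ := disjoint_iff.1 (disjoint_of_coprime_natCard hcD'.symm)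
  have eK := bar_inf_cent hKN hQ0 hKQ hcK' hs
  obtain ⟨h1, h2, h3⟩ := Frobenius_primact (K := bar (Q ⊓ 𝐂(D)) D) (R := bar (Q ⊓ 𝐂(D)) K)
    (M := bar (Q ⊓ 𝐂(D)) Q)
    (fun h => hD1 (by
      have := (bar_eq_bot_iff hDN).1 h
      rw [inf_eq_right.2 this] at hDi
      rw [hDi]; exact bot_le))
    (fun h => hK1 (by rwa [inf_eq_right.2 ((bar_eq_bot_iff hKN).1 h)] at hKi))
    (bar_le_norm hKD)
    (fun y hy h1 => by
      obtain ⟨a, ha, ha1, e⟩ := bar_cent1 hDN hKN hKD hcK' hs hy h1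
      rw [e, hreg a ha ha1, bar_eq_bot_iff bot_le]; exact bot_le)
    (fun h => hD1 (le_centralizer_comm (((bar_eq_bot_iff hQ0).1 h).trans inf_le_right)))
    (isNilpotent_map (isNilpotent_subgroupOf hQn _) _) (bar_le_norm hDQ) (bar_le_norm hKQ)
    ((hcD.coprime_dvd_left (card_bar_dvd hDN)).coprime_dvd_right (card_bar_dvd hQ0))
    ((hcK.coprime_dvd_left (card_bar_dvd hKN)).coprime_dvd_right (card_bar_dvd hQ0))
    (by rw [bar_inf_cent hDN hQ0 hDQ hcD' hs, bar_eq_bot_iff le_normalizer])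
    (fun y hy h1 => by
      obtain ⟨a, ha, ha1, e⟩ := bar_cent1 hQ0 hKN hKQ hcK' hs hy h1
      rw [e, hpr a ha ha1, eK])
  rw [card_bar_of_inf hKN hKi] at h1 h2
  rw [eK] at h2 h3
  rw [card_bar hQ0, card_bar (inf_le_left.trans hQ0)] at h2
  refine ⟨h1, h2, fun hc => ?_⟩
  rw [← bar_le_cent_iff ((commutator_le_self D).trans hDN) hQ0, bar_comm hDN hDN]
  refine h3 ?_
  have := (isCyclic_subgroupOf_iff (inf_le_left.trans hQ0)).2 hc
  exact isCyclic_of_surjective _ (MonoidHom.subgroupMap_surjective _ _)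

end Bar

end CfsgLib.FT.U4
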