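import Mathlib
import Cfsg.Agent.Lib.FT.CFDefs
import Cfsg.Agent.Lib.FT.BG7a
import Cfsg.Agent.Lib.FT.BG10Defs
import Cfsg.Agent.Lib.SylowIn
import Cfsg.Agent.Lib.CoreElements

/-!
# The five types of maximal subgroups (ambient style definitions)

These follow the Coq odd order development (`BGsection16`, `PFsection8`, `PFsection9`).
`M_F` is `fittingHallOf M`, `F(M)` is `fittingOf M`, `M_σ` is `sigmaCore M`, `M'` is `⁅M, M⁆`,
`M^g` is `M.map (MulAut.conj g).toMonoidHom`, and `R_M(x)` is `supportR M x`.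
-/

set_option autoImplicit false

namespace CfsgLib.FT

open Cfsg Subgroup
open scoped commutatorElement

variable {G : Type*} [Group G]

/-- `S` and `T` are conjugate in `G`. -/
def ConjSub (S T : Subgroup G) : Prop := ∃ g : G, T = S.map (MulAut.conj g).toMonoidHom

theorem notConj_iff {S T : Subgroup G} : NotConj T S ↔ ¬ ConjSub S T :=
  ⟨fun h ⟨g, hg⟩ => h g hg, fun h g hg => h ⟨g, hg⟩⟩

/-- PF (8.1)(b). -/
structure IsTypeFInertia (M U U1 : Subgroup G) : Prop where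
  le : U1 ≤ U
  normal : U ≤ normalizer (U1 : Set G)
  comm : IsMulCommutative U1
  cent : ∀ x ∈ fittingHallOf M, x ≠ 1 → U ⊓ centralizer ({x} : Set G) ≤ U1

/-- PF (8.1)(c). -/
structure IsTypeFCompl (M U U0 : Subgroup G) : Prop where
  le : U0 ≤ U
  exponent_eq : Monoid.exponent U0 = Monoid.exponent U
  frob : FrobIn (fittingHallOf M ⊔ U0) (fittingHallOf M) U0

/-- PF (8.1): `M` is of type `F` with complement `U`. -/
structure OfTypeF (M U : Subgroup G) : Prop where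
  H_ne : fittingHallOf M ≠ ⊥
  U_ne : U ≠ ⊥
  compl : IsComplIn (fittingHallOf M) U M
  inertia : ∃ U1, IsTypeFInertia M U U1
  complement : ∃ U0, IsTypeFCompl M U U0

/-- PF (8.3): `M` is of type I (the cyclicity clause of case (c) is not recorded). -/
structure OfTypeI (M U : Subgroup G) : Prop where
  typeF : OfTypeF M U
  cases : NormedTI (sharp (fittingHallOf M)) ⊤ M ∨
    (IsMulCommutative (fittingHallOf M) ∧ RankLE 2 (fittingHallOf M) ∧
      ¬ RankLE 1 (fittingHallOf M)) ∨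
    (∀ p : ℕ, p.Prime → p ∣ Nat.card (fittingHallOf M) → Monoid.exponent U ∣ p - 1)

/-- PF (8.4): `M` is of type `P` with data `U`, `W = W1 × W2`. -/
structure OfTypeP (M U W W1 W2 : Subgroup G) : Prop where
  W1_cyclic : IsCyclic W1
  W1_hall : (Nat.card ↥⁅M, M⁆).Coprime (Nat.card W1)
  W1_ne : W1 ≠ ⊥
  defM : IsComplIn ⁅M, M⁆ W1 M
  U_nilpotent : Group.IsNilpotent U
  nUW1 : W1 ≤ normalizer (U : Set G)
  defHU : IsComplIn (fittingHallOf M) U ⁅M, M⁆
  H_not_cyclic : ¬ IsCyclic (fittingHallOf M)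
  der2_le : ⁅⁅M, M⁆, ⁅M, M⁆⁆ ≤ fittingOf M
  defF : fittingHallOf M ⊔ (M ⊓ centralizer (fittingHallOf M : Set G)) = fittingOf M
  F_le : fittingOf M ≤ ⁅M, M⁆
  W2_cyclic : IsCyclic W2
  W2_ne : W2 ≠ ⊥
  W2_le_H : W2 ≤ fittingHallOf M
  W2_le_der2 : W2 ≤ ⁅⁅M, M⁆, ⁅M, M⁆⁆
  cent : ∀ x ∈ W1, x ≠ 1 → ⁅M, M⁆ ⊓ centralizer ({x} : Set G) = W2
  defW : W1 ⊔ W2 = W
  normedTI : NormedTI (cycTIset W W1 W2) ⊤ W

/-- PF (8.6), common part of types II, III, IV. -/
structure OfTypeII_IV (M U W W1 W2 : Subgroup G) : Prop where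
  typeP : OfTypeP M U W W1 W2
  U_ne : U ≠ ⊥
  W1_prime : (Nat.card W1).Prime
  F_TI : NormedTI (sharp (fittingOf M)) ⊤ M

/-- PF (8.6), type II. -/
structure OfTypeII (M U W W1 W2 : Subgroup G) : Prop extends OfTypeII_IV M U W W1 W2 where
  U_comm : IsMulCommutative U
  not_norm_le : ¬ normalizer (U : Set G) ≤ M
  der_typeF : OfTypeF ⁅M, M⁆ U
  der_Fcore : fittingHallOf ⁅M, M⁆ = fittingHallOf M

/-- PF (8.6), type III. -/
structure OfTypeIII (M U W W1 W2 : Subgroup G) : Prop extends OfTypeII_IV M U W W1 W2 where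
  U_comm : IsMulCommutative U
  norm_le : normalizer (U : Set G) ≤ M

/-- PF (8.6), type IV. -/
structure OfTypeIV (M U W W1 W2 : Subgroup G) : Prop extends OfTypeII_IV M U W W1 W2 where
  U_not_comm : ¬ IsMulCommutative U
  norm_le : normalizer (U : Set G) ≤ M

/-- PF (8.7), type V (the cyclicity clauses of cases (b), (c) are not recorded). -/
structure OfTypeV (M U W W1 W2 : Subgroup G) : Prop where
  typeP : OfTypeP M U W W1 W2
  U_eq : U = ⊥
  cases : NormedTI (sharp (fittingHallOf M)) ⊤ M ∨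
    (∃ p : ℕ, p.Prime ∧ p ∣ Nat.card (fittingHallOf M) ∧ Nat.card W1 ∣ p - 1) ∨
    (∃ p : ℕ, p.Prime ∧ p ∣ Nat.card (fittingHallOf M) ∧
      Nat.card (piCoreOf {p} (fittingHallOf M)) = p ^ 3 ∧ Nat.card W1 ∣ p + 1)

open Classical in
/-- The type (a number between 1 and 5) of a maximal subgroup. -/
noncomputable def FTtype (M : Subgroup G) : ℕ :=
  if kappa M = ∅ then 1 else
  if sigmaCore M ≠ ⁅M, M⁆ then 2 else
  if sigmaCore M = fittingHallOf M then 5 else
  if ⁅sigmaCore M, sigmaCore M⁆ ≤ fittingHallOf M then 3 else 4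

/-- `M_s`. -/
noncomputable def FTcore (M : Subgroup G) : Subgroup G :=
  if FTtype M ≤ 2 then fittingHallOf M else ⁅M, M⁆

/-- `A₁(M) = M_s^#`. -/
noncomputable def FTsupp1 (M : Subgroup G) : Set G := sharp (FTcore M)

/-- `M` for type I, `M'` otherwise. -/
noncomputable def FTder (M : Subgroup G) : Subgroup G := if FTtype M = 1 then M else ⁅M, M⁆

/-- `A(M)`. -/
noncomputable def FTsupp (M : Subgroup G) : Set G :=
  {a | a ∈ FTder M ∧ a ≠ 1 ∧ ∃ x ∈ FTsupp1 M, a * x = x * a}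

/-- `A₀(M)`: `A(M)` together with the elements of `M` that are neither `π`-elements nor
`π'`-elements, for `π = π(FTder M)`. -/
noncomputable def FTsupp0 (M : Subgroup G) : Set G :=
  FTsupp M ∪ {x | x ∈ M ∧ ¬ IsPiNum {p | p ∣ Nat.card (FTder M)} (orderOf x) ∧
    ¬ IsPiNum {p | p ∣ Nat.card (FTder M)}ᶜ (orderOf x)}

/-- `L` supports `M`, PF (8.14). -/
def FTsupports (M L : Subgroup G) : Prop :=
  ∃ x ∈ FTsupp M, ¬ centralizer ({x} : Set G) ≤ M ∧ centralizer ({x} : Set G) ≤ L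

/-- `Ã` for a subset `A` of `A₀(M)`, PF (8.14). -/
abbrev FTtilde (M : Subgroup G) (A : Set G) : Set G := dadeSupp A (supportR M)

/-- The Dade isometry for `A₀(M)`. -/
noncomputable abbrev FTDade0 (M : Subgroup G) : CFMap G := Dade (FTsupp0 M) (supportR M)

/-- The Dade isometry for `A(M)`. -/
noncomputable abbrev FTDade (M : Subgroup G) : CFMap G := Dade (FTsupp M) (supportR M)

/-- The Dade isometry for `A₁(M)`. -/
noncomputable abbrev FTDade1 (M : Subgroup G) : CFMap G := Dade (FTsupp1 M) (supportR M)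

/-- The Dade isometry for `M_F^#`. -/
noncomputable abbrev FTDadeF (M : Subgroup G) : CFMap G :=
  Dade (sharp (fittingHallOf M)) (supportR M)

/-- PF (8.8)(b). -/
structure TypePPair (S T W W1 W2 : Subgroup G) : Prop where
  cycTI : CycTI ⊤ W W1 W2
  maxS : IsCoatom S
  maxT : IsCoatom T
  defS : IsComplIn ⁅S, S⁆ W1 S
  defT : IsComplIn ⁅T, T⁆ W2 T
  inf_eq : S ⊓ T = W
  type2 : FTtype S = 2 ∨ FTtype T = 2
  S_ne : FTtype S ≠ 1
  T_ne : FTtype T ≠ 1
  conj : ∀ M : Subgroup G, IsCoatom M → FTtype M ≠ 1 → ConjSub S M ∨ ConjSub T M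

/-- All maximal subgroups are of type I. -/
def AllFTtype1 (G : Type*) [Group G] : Prop := ∀ M : Subgroup G, IsCoatom M → FTtype M = 1

/-- The elements normalizing `H0` and centralizing `H` modulo `H0`: `C_G(H / H0)`. -/
def centMod (H H0 : Subgroup G) : Subgroup G where
  carrier := {g | g ∈ normalizer (H0 : Set G) ∧ ∀ h ∈ H, g * h * g⁻¹ * h⁻¹ ∈ H0}
  one_mem' := ⟨one_mem _, fun h _ => by simpa using H0.one_mem⟩
  mul_mem' := fun {a b} ha hb => ⟨mul_mem ha.1 hb.1, fun h hh => by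
    have h1 := conj_mem_of_mem_normalizer ha.1 (hb.2 h hh)
    have h2 := H0.mul_mem h1 (ha.2 h hh)
    convert h2 using 1; group⟩
  inv_mem' := fun {a} ha => ⟨inv_mem ha.1, fun h hh => by
    have h1 := conj_mem_of_mem_normalizer (inv_mem ha.1) (H0.inv_mem (ha.2 h hh))
    convert h1 using 1; group⟩

theorem mem_centMod {H H0 : Subgroup G} {g : G} :
    g ∈ centMod H H0 ↔ g ∈ normalizer (H0 : Set G) ∧ ∀ h ∈ H, g * h * g⁻¹ * h⁻¹ ∈ H0 := Iff.rfl

/-- PF (9.4): `M_F / H0` is a chief factor of `M` not centralized by `U`. -/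
structure PtypeKer (M U H0 : Subgroup G) : Prop where
  lt : H0 < fittingHallOf M
  normal : M ≤ normalizer (H0 : Set G)
  chief : ∀ K : Subgroup G, H0 ≤ K → K ≤ fittingHallOf M → M ≤ normalizer (K : Set G) →
    K = H0 ∨ K = fittingHallOf M
  not_cent : ¬ U ≤ centMod (fittingHallOf M) H0

/-- `C = C_U(M_F / H0)` of PF (9.5). -/
def FcomplKer (M U H0 : Subgroup G) : Subgroup G := U ⊓ centMod (fittingHallOf M) H0

/-- Case (9.7)(b): `U` acts irreducibly on `M_F / H0`. -/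
def TypePGalois (M U H0 : Subgroup G) : Prop :=
  ∀ K : Subgroup G, H0 ≤ K → K ≤ fittingHallOf M → U ≤ normalizer (K : Set G) →
    K = H0 ∨ K = fittingHallOf M

end CfsgLib.FT
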