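import Mathlib
import Cfsg.Agent.Lib.FT.TypeDefs
import Cfsg.Agent.Lib.FT.BG15b

/-! Peterfalvi, section 8, elementary part: properties of the definitions and of the types
`F` and `P` in general. -/

set_option autoImplicit false

namespace CfsgLib.FT.U4.B14

open Subgroup Cfsg BGN
open scoped commutatorElement

variable {G : Type*} [Group G]

/-! ### `M_F` -/

theorem _root_.CfsgLib.FT.Fcore_le (M : Subgroup G) : fittingHallOf M ≤ M := map_subtype_le _

theorem _root_.CfsgLib.FT.Fcore_normal (M : Subgroup G) :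
    M ≤ normalizer (fittingHallOf M : Set G) := fcore_normal M

theorem _root_.CfsgLib.FT.Fcore_nil [Finite G] (M : Subgroup G) :
    Group.IsNilpotent (fittingHallOf M) := fcore_nil M

theorem _root_.CfsgLib.FT.Fcore_hall [Finite G] (M : Subgroup G) :
    (Nat.card (fittingHallOf M)).Coprime ((fittingHallOf M).relIndex M) := fcore_coprime M

theorem _root_.CfsgLib.FT.Fcore_max {M H : Subgroup G} (hle : H ≤ M)
    (hn : M ≤ normalizer (H : Set G))
    (hnil : Group.IsNilpotent H) (hall : (Nat.card H).Coprime (H.relIndex M)) :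
    H ≤ fittingHallOf M := fcore_max hle hn hnil hall

theorem _root_.CfsgLib.FT.Fcore_le_fitting [Finite G] (M : Subgroup G) :
    fittingHallOf M ≤ fittingOf M := fcore_le_fit M

theorem _root_.CfsgLib.FT.normalizer_le_normalizer_Fcore (M : Subgroup G) :
    normalizer (M : Set G) ≤ normalizer (fittingHallOf M : Set G) := norm_le_norm_fcore M

theorem _root_.CfsgLib.FT.Fcore_map_conj (M : Subgroup G) (g : G) :
    fittingHallOf (M.map (MulAut.conj g).toMonoidHom) =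
      (fittingHallOf M).map (MulAut.conj g).toMonoidHom := fcore_conj g M

/-! ### Elementary properties of the definitions -/

theorem mem_sharp' {H : Subgroup G} {x : G} : x ∈ sharp H ↔ x ∈ H ∧ x ≠ 1 := Iff.rfl

theorem conj_mem_sharp_iff {H : Subgroup G} {g x : G} :
    g * x * g⁻¹ ∈ sharp (g •ᶜ H) ↔ x ∈ sharp H := by
  rw [mem_sharp', mem_sharp', conj_mem_conj_iff, conj_ne_one_iff]

theorem conj_comm_iff {g a x : G} :
    g * a * g⁻¹ * (g * x * g⁻¹) = g * x * g⁻¹ * (g * a * g⁻¹) ↔ a * x = x * a := by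
  rw [conj_mul, conj_mul, mul_left_inj, mul_right_inj]

theorem _root_.CfsgLib.FT.FTtype_range (M : Subgroup G) : 1 ≤ FTtype M ∧ FTtype M ≤ 5 := by
  unfold FTtype; split_ifs <;> omega

theorem _root_.CfsgLib.FT.FTtype_map_conj [Finite G] (M : Subgroup G) (g : G) :
    FTtype (M.map (MulAut.conj g).toMonoidHom) = FTtype M := by
  unfold FTtype
  rw [kappa_conj, sigmaCore_conj, fcore_conj, ← conj_comm, ← conj_comm]
  classical
  exact if_congr Iff.rfl rfl (if_congr conj_inj.not rfl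
    (if_congr conj_inj rfl (if_congr conj_le_conj_iff rfl rfl)))

theorem _root_.CfsgLib.FT.FTcore_map_conj [Finite G] (M : Subgroup G) (g : G) :
    FTcore (M.map (MulAut.conj g).toMonoidHom) = (FTcore M).map (MulAut.conj g).toMonoidHom := by
  unfold FTcore
  rw [FTtype_map_conj]
  split_ifs
  · exact fcore_conj g M
  · exact (conj_comm g M M).symm

theorem FTder_conj [Finite G] (M : Subgroup G) (g : G) : FTder (g •ᶜ M) = g •ᶜ FTder M := by
  unfold FTder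
  rw [FTtype_map_conj]
  split_ifs
  · rfl
  · exact (conj_comm g M M).symm

theorem _root_.CfsgLib.FT.conj_mem_FTsupp1_iff [Finite G] (M : Subgroup G) (g x : G) :
    g * x * g⁻¹ ∈ FTsupp1 (M.map (MulAut.conj g).toMonoidHom) ↔ x ∈ FTsupp1 M := by
  unfold FTsupp1
  rw [FTcore_map_conj, conj_mem_sharp_iff]

theorem _root_.CfsgLib.FT.conj_mem_FTsupp_iff [Finite G] (M : Subgroup G) (g x : G) :
    g * x * g⁻¹ ∈ FTsupp (M.map (MulAut.conj g).toMonoidHom) ↔ x ∈ FTsupp M := by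
  unfold FTsupp
  simp only [Set.mem_setOf_eq]
  rw [FTder_conj, conj_mem_conj_iff, conj_ne_one_iff]
  refine and_congr_right fun _ => and_congr_right fun _ => ⟨fun ⟨y, hy, e⟩ => ?_, fun ⟨y, hy, e⟩ =>
    ⟨g * y * g⁻¹, (conj_mem_FTsupp1_iff M g y).2 hy, conj_comm_iff.2 e⟩⟩
  obtain ⟨z, rfl⟩ : ∃ z, y = g * z * g⁻¹ := ⟨g⁻¹ * y * g, by group⟩
  exact ⟨z, (conj_mem_FTsupp1_iff M g z).1 hy, conj_comm_iff.1 e⟩

theorem _root_.CfsgLib.FT.conj_mem_FTsupp0_iff [Finite G] (M : Subgroup G) (g x : G) :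
    g * x * g⁻¹ ∈ FTsupp0 (M.map (MulAut.conj g).toMonoidHom) ↔ x ∈ FTsupp0 M := by
  unfold FTsupp0
  simp only [Set.mem_union, Set.mem_setOf_eq]
  rw [conj_mem_FTsupp_iff, FTder_conj, conj_mem_conj_iff, orderOf_conj, card_map_conj]

theorem supportR_eq {M L : Subgroup G} {x : G} (hC : ¬ 𝐂[x] ≤ M) (hL : IsCoatom L)
    (hu : UniqMax 𝐂[x] L) : supportR M x = fittingHallOf L ⊓ 𝐂[x] := by
  have h : ¬ 𝐂[x] ≤ M ∧ ∃! L : Subgroup G, IsCoatom L ∧ 𝐂[x] ≤ L :=
    ⟨hC, L, ⟨hL, hu.1⟩, fun N hN => hu.2 N hN.1 hN.2⟩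
  unfold supportR
  rw [dif_pos h, hu.2 _ (Classical.choose_spec h.2.exists).1 (Classical.choose_spec h.2.exists).2]

theorem _root_.CfsgLib.FT.supportR_of_cent_le {M : Subgroup G} {x : G}
    (hC : centralizer ({x} : Set G) ≤ M) : supportR M x = ⊥ := by
  unfold supportR
  rw [dif_neg (fun h => h.1 hC)]

theorem supportR_of_not_uniq {M : Subgroup G} {x : G}
    (h : ¬ ∃ L, IsCoatom L ∧ UniqMax 𝐂[x] L) : supportR M x = ⊥ := by
  unfold supportR
  rw [dif_neg]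
  rintro ⟨-, L, hL, hu⟩
  exact h ⟨L, hL.1, hL.2, fun N h1 h2 => hu N ⟨h1, h2⟩⟩

theorem _root_.CfsgLib.FT.supportR_map_conj [Finite G] (M : Subgroup G) (g x : G) :
    supportR (M.map (MulAut.conj g).toMonoidHom) (g * x * g⁻¹) =
      (supportR M x).map (MulAut.conj g).toMonoidHom := by
  by_cases hC : 𝐂[x] ≤ M
  · rw [supportR_of_cent_le hC, supportR_of_cent_le (by rwa [cent1_conj, conj_le_conj_iff]),
      Subgroup.map_bot]
  by_cases h : ∃ L, IsCoatom L ∧ UniqMax 𝐂[x] L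
  · obtain ⟨L, hL, hu⟩ := h
    rw [supportR_eq hC hL hu, supportR_eq (by rwa [cent1_conj, conj_le_conj_iff])
      (isCoatom_map_conj hL g) (by rw [cent1_conj]; exact UniqMax.conj hu g), map_conj_inf,
      fcore_conj, cent1_conj]
  · rw [supportR_of_not_uniq h, supportR_of_not_uniq, Subgroup.map_bot]
    rintro ⟨L, hL, hu⟩
    refine h ⟨g⁻¹ •ᶜ L, isCoatom_map_conj hL _, ?_⟩
    have := UniqMax.conj hu g⁻¹
    rwa [cent1_conj, map_conj_inv_map_conj] at this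

theorem FTtilde_conj_aux [Finite G] {M : Subgroup G} {g : G} {A B : Set G}
    (h : ∀ x, g * x * g⁻¹ ∈ B ↔ x ∈ A) : FTtilde (g •ᶜ M) B = FTtilde M A := by
  ext z
  constructor
  · rintro ⟨b, hb, r, hr, y, rfl⟩
    obtain ⟨a, rfl⟩ : ∃ a, b = g * a * g⁻¹ := ⟨g⁻¹ * b * g, by group⟩
    obtain ⟨s, rfl⟩ : ∃ s, r = g * s * g⁻¹ := ⟨g⁻¹ * r * g, by group⟩
    rw [supportR_map_conj, conj_mem_conj_iff] at hr
    exact ⟨a, (h a).1 hb, s, hr, y * g, by group⟩
  · rintro ⟨a, ha, r, hr, y, rfl⟩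
    refine ⟨g * a * g⁻¹, (h a).2 ha, g * r * g⁻¹, ?_, y * g⁻¹, by group⟩
    rwa [supportR_map_conj, conj_mem_conj_iff]

theorem _root_.CfsgLib.FT.FTtilde1_map_conj [Finite G] (M : Subgroup G) (g : G) :
    FTtilde (M.map (MulAut.conj g).toMonoidHom) (FTsupp1 (M.map (MulAut.conj g).toMonoidHom)) =
      FTtilde M (FTsupp1 M) := FTtilde_conj_aux (conj_mem_FTsupp1_iff M g)

theorem _root_.CfsgLib.FT.FTtilde_map_conj [Finite G] (M : Subgroup G) (g : G) :
    FTtilde (M.map (MulAut.conj g).toMonoidHom) (FTsupp (M.map (MulAut.conj g).toMonoidHom)) =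
      FTtilde M (FTsupp M) := FTtilde_conj_aux (conj_mem_FTsupp_iff M g)

theorem _root_.CfsgLib.FT.FTtilde0_map_conj [Finite G] (M : Subgroup G) (g : G) :
    FTtilde (M.map (MulAut.conj g).toMonoidHom) (FTsupp0 (M.map (MulAut.conj g).toMonoidHom)) =
      FTtilde M (FTsupp0 M) := FTtilde_conj_aux (conj_mem_FTsupp0_iff M g)

theorem der_le (M : Subgroup G) : ⁅M, M⁆ ≤ M := comm_le_right le_normalizer

theorem _root_.CfsgLib.FT.FTcore_le (M : Subgroup G) : FTcore M ≤ M := by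
  unfold FTcore; split_ifs
  exacts [fcore_le M, der_le M]

theorem _root_.CfsgLib.FT.FTcore_normal (M : Subgroup G) : M ≤ normalizer (FTcore M : Set G) := by
  unfold FTcore; split_ifs
  exacts [fcore_normal M, der_normal M]

theorem FTder_le (M : Subgroup G) : FTder M ≤ M := by
  unfold FTder; split_ifs
  exacts [le_rfl, der_le M]

theorem FTder_normal (M : Subgroup G) : M ≤ 𝐍(FTder M) := by
  unfold FTder; split_ifs
  exacts [le_normalizer, der_normal M]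

theorem der_le_FTder (M : Subgroup G) : ⁅M, M⁆ ≤ FTder M := by
  unfold FTder; split_ifs
  exacts [der_le M, le_rfl]

theorem _root_.CfsgLib.FT.FTcore_type1 {M : Subgroup G} (h : FTtype M = 1) :
    FTcore M = fittingHallOf M := by
  simp [FTcore, h]

theorem _root_.CfsgLib.FT.FTcore_type2 {M : Subgroup G} (h : FTtype M = 2) :
    FTcore M = fittingHallOf M := by
  simp [FTcore, h]

theorem _root_.CfsgLib.FT.FTcore_type_gt2 {M : Subgroup G} (h : 2 < FTtype M) :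
    FTcore M = ⁅M, M⁆ := by
  simp [FTcore, not_le.mpr h]

theorem _root_.CfsgLib.FT.FTder_type1 {M : Subgroup G} (h : FTtype M = 1) : FTder M = M := by
  simp [FTder, h]

theorem _root_.CfsgLib.FT.FTder_typeP {M : Subgroup G} (h : FTtype M ≠ 1) : FTder M = ⁅M, M⁆ := by
  simp [FTder, h]

theorem _root_.CfsgLib.FT.FTsupp_sub (M : Subgroup G) : FTsupp M ⊆ sharp M :=
  fun _ h => ⟨FTder_le M h.1, h.2.1⟩

theorem _root_.CfsgLib.FT.FTsupp0_sub (M : Subgroup G) : FTsupp0 M ⊆ sharp M := by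
  rintro x (h | h)
  · exact FTsupp_sub M h
  · refine ⟨h.1, fun e => h.2.1 ?_⟩
    rw [show x = 1 from e, orderOf_one]
    exact isPiNum_one _

theorem _root_.CfsgLib.FT.FTsupp_sub0 (M : Subgroup G) : FTsupp M ⊆ FTsupp0 M :=
  Set.subset_union_left

theorem _root_.CfsgLib.FT.FTsupp1_norm (M : Subgroup G) :
    ∀ g ∈ M, ∀ x ∈ FTsupp1 M, g * x * g⁻¹ ∈ FTsupp1 M := fun _ hg _ hx =>
  ⟨conj_mem_of_mem_normalizer (FTcore_normal M hg) hx.1, conj_ne_one_iff.2 hx.2⟩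

theorem _root_.CfsgLib.FT.FTsupp_norm (M : Subgroup G) :
    ∀ g ∈ M, ∀ x ∈ FTsupp M, g * x * g⁻¹ ∈ FTsupp M := fun g hg _ ⟨h1, h2, y, hy, e⟩ =>
  ⟨conj_mem_of_mem_normalizer (FTder_normal M hg) h1, conj_ne_one_iff.2 h2, g * y * g⁻¹,
    FTsupp1_norm M g hg y hy, conj_comm_iff.2 e⟩

theorem _root_.CfsgLib.FT.FTsupp0_norm (M : Subgroup G) :
    ∀ g ∈ M, ∀ x ∈ FTsupp0 M, g * x * g⁻¹ ∈ FTsupp0 M := by
  rintro g hg x (h | h)
  · exact Or.inl (FTsupp_norm M g hg x h)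
  · refine Or.inr ⟨M.mul_mem (M.mul_mem hg h.1) (M.inv_mem hg), ?_⟩
    rw [orderOf_conj]
    exact h.2

theorem _root_.CfsgLib.FT.FTsupp0_type1 [Finite G] {M : Subgroup G} (h : FTtype M = 1) :
    FTsupp0 M = FTsupp M := by
  refine Set.union_eq_left.2 fun x hx => (hx.2.1 fun p _ hd => ?_).elim
  rw [FTder_type1 h]
  exact hd.trans (M.orderOf_dvd_natCard hx.1)

theorem _root_.CfsgLib.FT.FTsupp_type_gt2 {M : Subgroup G} (h : 2 < FTtype M) :
    FTsupp M = sharp ⁅M, M⁆ := by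
  ext x
  unfold FTsupp FTsupp1
  rw [FTder_typeP (by omega), FTcore_type_gt2 h]
  exact ⟨fun hx => ⟨hx.1, hx.2.1⟩, fun hx => ⟨hx.1, hx.2, x, hx, rfl⟩⟩

theorem _root_.CfsgLib.FT.FTsupp_eq1 {M : Subgroup G} (h : 2 < FTtype M) :
    FTsupp M = FTsupp1 M := by
  rw [FTsupp_type_gt2 h, FTsupp1, FTcore_type_gt2 h]

/-! ### Types F and P in general -/

theorem FrobIn.semiReg {L K E : Subgroup G} (h : FrobIn L K E) : SemiReg K E := fun e he h1 =>
  eq_bot_of_forall fun k hk => h.fpf e he h1 k hk.1 (mem_cent1'.1 hk.2)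

theorem frobIn_of_semiReg {L K E : Subgroup G} (hc : IsComplIn K E L) (hn : L ≤ 𝐍(K))
    (hK : K ≠ ⊥) (hE : E ≠ ⊥) (h : SemiReg K E) : FrobIn L K E :=
  ⟨hc, hn, hK, hE, fun e he h1 k hk hek => by
    have : k ∈ K ⊓ 𝐂[e] := mem_inf.2 ⟨hk, mem_cent1'.2 hek⟩
    rwa [h e he h1, mem_bot] at this⟩

theorem FrobIn.conj' {L K E : Subgroup G} (h : FrobIn L K E) (g : G) :
    FrobIn (g •ᶜ L) (g •ᶜ K) (g •ᶜ E) := by
  refine frobIn_of_semiReg (isComplIn_conj h.compl g) (le_norm_conj h.normal g)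
    (conj_eq_bot_iff.not.2 h.ker_ne) (conj_eq_bot_iff.not.2 h.compl_ne) fun x hx h1 => ?_
  obtain ⟨y, rfl⟩ : ∃ y, x = g * y * g⁻¹ := ⟨g⁻¹ * x * g, by group⟩
  rw [cent1_conj, ← map_conj_inf, conj_eq_bot_iff]
  exact FrobIn.semiReg h y (conj_mem_conj_iff.1 hx) (conj_ne_one_iff.1 h1)

theorem exponent_conj (g : G) (H : Subgroup G) :
    Monoid.exponent ↥(g •ᶜ H) = Monoid.exponent H :=
  (Monoid.exponent_eq_of_mulEquiv (H.equivMapOfInjective _ (MulAut.conj g).injective)).symm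

theorem isNilpotent_conj {H : Subgroup G} (h : Group.IsNilpotent H) (g : G) :
    Group.IsNilpotent ↥(g •ᶜ H) :=
  nilpotent_of_mulEquiv (H.equivMapOfInjective _ (MulAut.conj g).injective)

theorem normedTI_conj {A B : Set G} {L : Subgroup G} {g : G} (h : NormedTI A ⊤ L)
    (hAB : ∀ x, g * x * g⁻¹ ∈ B ↔ x ∈ A) : NormedTI B ⊤ (g •ᶜ L) := by
  refine ⟨?_, le_top, fun x hx a ha => ?_, fun x _ a ha hx => ?_⟩
  · obtain ⟨a, ha⟩ := h.nonempty
    exact ⟨_, (hAB a).2 ha⟩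
  · obtain ⟨y, rfl⟩ : ∃ y, x = g * y * g⁻¹ := ⟨g⁻¹ * x * g, by group⟩
    obtain ⟨b, rfl⟩ : ∃ y, a = g * y * g⁻¹ := ⟨g⁻¹ * a * g, by group⟩
    rw [show g * y * g⁻¹ * (g * b * g⁻¹) * (g * y * g⁻¹)⁻¹ = g * (y * b * y⁻¹) * g⁻¹ by group, hAB]
    exact h.conj_mem y (conj_mem_conj_iff.1 hx) b ((hAB b).1 ha)
  · obtain ⟨y, rfl⟩ : ∃ y, x = g * y * g⁻¹ := ⟨g⁻¹ * x * g, by group⟩
    obtain ⟨b, rfl⟩ : ∃ y, a = g * y * g⁻¹ := ⟨g⁻¹ * a * g, by group⟩
    rw [show g * y * g⁻¹ * (g * b * g⁻¹) * (g * y * g⁻¹)⁻¹ = g * (y * b * y⁻¹) * g⁻¹ by group,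
      hAB] at hx
    exact conj_mem_conj_iff.2 (h.ti y (mem_top _) b ((hAB b).1 ha) hx)

theorem conj_of_typeF {M U : Subgroup G} (h : OfTypeF M U) (g : G) :
    OfTypeF (g •ᶜ M) (g •ᶜ U) := by
  obtain ⟨U1, h1⟩ := h.inertia
  obtain ⟨U0, h0⟩ := h.complement
  refine ⟨by rw [fcore_conj]; exact conj_eq_bot_iff.not.2 h.H_ne, conj_eq_bot_iff.not.2 h.U_ne,
    by rw [fcore_conj]; exact isComplIn_conj h.compl g,
    ⟨g •ᶜ U1, conj_le_conj_iff.2 h1.le, le_norm_conj h1.normal g, isMulCommutative_conj h1.comm g,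
      fun x hx hx1 => ?_⟩,
    ⟨g •ᶜ U0, conj_le_conj_iff.2 h0.le, by rw [exponent_conj, exponent_conj, h0.exponent_eq], ?_⟩⟩
  · obtain ⟨y, rfl⟩ : ∃ y, x = g * y * g⁻¹ := ⟨g⁻¹ * x * g, by group⟩
    rw [fcore_conj, conj_mem_conj_iff] at hx
    rw [cent1_conj, ← map_conj_inf, conj_le_conj_iff]
    exact h1.cent y hx (conj_ne_one_iff.1 hx1)
  · rw [fcore_conj, ← conj_sup]
    exact FrobIn.conj' h0.frob g

theorem piSep_of_normal_hall [Finite G] {π : Set ℕ} {H M : Subgroup G} (h : IsPiHallOf π H M)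
    (hn : M ≤ 𝐍(H)) : PiSep π M := by
  haveI : (H.subgroupOf M).Normal := normal_subgroupOf_of_le_normalizer hn
  refine PiSep.of_normal_of_quotient (H.subgroupOf M) (PiSep.of_isPiSubgroup (Or.inl ?_))
    (PiSep.of_isPiSubgroup_top (Or.inr fun p hp hd => hallOf_relIndex h p hp ?_))
  · exact Hall.isPiSubgroup_of_hall (Hall.isPiHallOf_iff.1 h).2
  · rwa [card_top] at hd

theorem exists_conj_compl_fcore [Finite G] {M U V : Subgroup G}
    (hU : IsComplIn (fittingHallOf M) U M) (hV : IsComplIn (fittingHallOf M) V M) :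
    ∃ x ∈ M, V = x •ᶜ U := by
  have hs : Group.IsSolvable (fittingHallOf M) := haveI := fcore_nil M; inferInstance
  exact Hall.conj_hallOf_of_piSep (piSep_of_normal_hall (fcore_hall M) (fcore_normal M)).compl
    (IsComplIn.hall_compl hU (fcore_hall M)) (IsComplIn.hall_compl hV (fcore_hall M))
    (Or.inr fun L hL h => isSolvable_of_le hs
      (le_of_normal_hallOf (fcore_hall M) (fcore_normal M) (by rwa [compl_compl] at h) hL))

theorem _root_.CfsgLib.FT.compl_of_typeF [Finite G] {M U V : Subgroup G}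
    (hV : IsComplIn (fittingHallOf M) V M) (h : OfTypeF M U) : OfTypeF M V := by
  obtain ⟨x, hx, rfl⟩ := exists_conj_compl_fcore h.compl hV
  have := conj_of_typeF h x
  rwa [conj_eq_of_mem hx] at this

theorem _root_.CfsgLib.FT.Frobenius_of_typeF {M U : Subgroup G}
    (h : FrobIn M (fittingHallOf M) U) : OfTypeF M U :=
  ⟨h.ker_ne, h.compl_ne, h.compl,
    ⟨⊥, bot_le, by rw [normalizer_eq_top]; exact le_top, inferInstance,
      fun x hx h1 => (SemiReg.symm (FrobIn.semiReg h) x hx h1).le⟩,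
    ⟨U, le_rfl, rfl, by rw [IsComplIn.sup_eq h.compl]; exact h⟩⟩

/-- PF (8.2)(a). -/
theorem _root_.CfsgLib.FT.typeF_compl_card [Finite G] (hG : IsMinSimpleOddOrder G)
    {M U U0 : Subgroup G} (h0 : IsTypeFCompl M U U0) : Nat.card U0 = Monoid.exponent U := by
  have := odd_regular_Zgroup (mFT_odd hG U0) h0.frob.ker_ne (le_sup_right.trans h0.frob.normal)
    (FrobIn.semiReg h0.frob)
  rw [← h0.exponent_eq, IsZGroup.exponent_eq_card]

/-- PF (8.2)(b). -/
theorem _root_.CfsgLib.FT.typeF_frob_iff [Finite G] (hG : IsMinSimpleOddOrder G)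
    {M U : Subgroup G} (h : OfTypeF M U) : FrobIn M (fittingHallOf M) U ↔ IsZGroup U := by
  refine ⟨fun hF => odd_regular_Zgroup (mFT_odd hG U) hF.ker_ne (hF.compl.2.1.trans hF.normal)
    (FrobIn.semiReg hF), fun hZ => ?_⟩
  obtain ⟨U0, h0⟩ := h.complement
  have h1 := typeF_compl_card hG h0
  rw [IsZGroup.exponent_eq_card] at h1
  have h2 := h0.frob
  rwa [eq_of_le_of_card_ge h0.le h1.ge, IsComplIn.sup_eq h.compl] at h2

theorem _root_.CfsgLib.FT.compl_of_typeI [Finite G] {M U V : Subgroup G}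
    (hV : IsComplIn (fittingHallOf M) V M) (h : OfTypeI M U) : OfTypeI M V := by
  refine ⟨compl_of_typeF hV h.typeF, ?_⟩
  obtain ⟨x, -, rfl⟩ := exists_conj_compl_fcore h.typeF.compl hV
  rw [exponent_conj]
  exact h.cases

section typeP
variable {M U W W1 W2 : Subgroup G}

theorem _root_.CfsgLib.FT.OfTypeP.W1_le (h : OfTypeP M U W W1 W2) : W1 ≤ M := h.defM.2.1

theorem _root_.CfsgLib.FT.OfTypeP.U_le_der (h : OfTypeP M U W W1 W2) : U ≤ ⁅M, M⁆ := h.defHU.2.1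

theorem _root_.CfsgLib.FT.OfTypeP.H_le_der (h : OfTypeP M U W W1 W2) :
    fittingHallOf M ≤ ⁅M, M⁆ := h.defHU.1

theorem _root_.CfsgLib.FT.OfTypeP.W_le (h : OfTypeP M U W W1 W2) : W ≤ M := by
  rw [← h.defW]
  exact sup_le h.W1_le (h.W2_le_H.trans (fcore_le M))

theorem _root_.CfsgLib.FT.OfTypeP.W_inf (h : OfTypeP M U W W1 W2) : W1 ⊓ W2 = ⊥ := by
  rw [eq_bot_iff, ← h.defM.2.2.1, inf_comm]
  exact inf_le_inf_right _ (h.W2_le_H.trans h.H_le_der)

theorem _root_.CfsgLib.FT.OfTypeP.W_comm (h : OfTypeP M U W W1 W2) :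
    ∀ a ∈ W1, ∀ b ∈ W2, a * b = b * a := by
  intro a ha b hb
  by_cases h1 : a = 1
  · simp [h1]
  · rw [← h.cent a ha h1] at hb
    exact mem_cent1'.1 hb.2

theorem _root_.CfsgLib.FT.OfTypeP.solvable [Finite G] (h : OfTypeP M U W W1 W2) :
    Group.IsSolvable M := by
  have h1 : Group.IsSolvable ↥⁅M, M⁆ := by
    rw [← IsComplIn.sup_eq h.defHU, sup_comm]
    exact isSolvable_sup ((h.U_le_der.trans (der_le M)).trans (fcore_normal M))
      (haveI := h.U_nilpotent; inferInstance) (haveI := fcore_nil M; inferInstance)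
  rw [← IsComplIn.sup_eq h.defM, sup_comm]
  exact isSolvable_sup (h.W1_le.trans (der_normal M))
    (haveI := nil_of_cyclic h.W1_cyclic; inferInstance) h1

theorem _root_.CfsgLib.FT.typeP_cent_compl (h : OfTypeP M U W W1 W2) :
    ⁅M, M⁆ ⊓ centralizer (W1 : Set G) = W2 := by
  obtain ⟨x, hx, h1⟩ := exists_ne_one h.W1_ne
  refine le_antisymm ?_ (le_inf (h.W2_le_H.trans h.H_le_der) fun b hb =>
    mem_cent.2 fun a ha => h.W_comm a ha b hb)
  rw [← h.cent x hx h1]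
  exact inf_le_inf_left _ (cent_le_cent1 hx)

theorem _root_.CfsgLib.FT.typeP_cent_core_compl (h : OfTypeP M U W W1 W2) :
    fittingHallOf M ⊓ centralizer (W1 : Set G) = W2 := by
  refine le_antisymm ?_ (le_inf h.W2_le_H ?_)
  · rw [← typeP_cent_compl h]
    exact inf_le_inf_right _ h.H_le_der
  · rw [← typeP_cent_compl h]
    exact inf_le_right

theorem typeP_hall_der [Finite G] (h : OfTypeP M U W W1 W2) :
    IsPiHallOf {p | p ∣ Nat.card ↥⁅M, M⁆} ⁅M, M⁆ M :=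
  hallOf_of_coprime (der_le M) (by rw [IsComplIn.relIndex_left h.defM]; exact h.W1_hall)

theorem typeP_hall_W1 [Finite G] (h : OfTypeP M U W W1 W2) :
    IsPiHallOf {p | p ∣ Nat.card ↥⁅M, M⁆}ᶜ W1 M := IsComplIn.hall_compl h.defM (typeP_hall_der h)

theorem typeP_hall_H [Finite G] (h : OfTypeP M U W W1 W2) :
    IsPiHallOf {p | p ∣ Nat.card (fittingHallOf M)} (fittingHallOf M) ⁅M, M⁆ :=
  Hall.isPiHallOf_of_le (fcore_hall M) h.H_le_der (der_le M)

theorem typeP_coprime_HU [Finite G] (h : OfTypeP M U W W1 W2) :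
    (Nat.card (fittingHallOf M)).Coprime (Nat.card U) := by
  rw [← IsComplIn.relIndex_left h.defHU]
  exact hallOf_coprime (typeP_hall_H h)

theorem typeP_complM (h : OfTypeP M U W W1 W2) : IsComplIn (fittingHallOf M) (U ⊔ W1) M := by
  have hn : U ⊔ W1 ≤ M := sup_le (h.U_le_der.trans (der_le M)) h.W1_le
  refine isComplIn_of_sup (hn.trans (fcore_normal M)) ?_ ?_
  · rw [← inf_eq_left.2 h.H_le_der, inf_assoc, inf_comm ⁅M, M⁆, dedekind' h.nUW1 h.U_le_der,
      inf_comm W1, h.defM.2.2.1, sup_bot_eq, h.defHU.2.2.1]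
  · rw [← sup_assoc, IsComplIn.sup_eq h.defHU, IsComplIn.sup_eq h.defM]

theorem typeP_inf_der (h : OfTypeP M U W W1 W2) : (U ⊔ W1) ⊓ ⁅M, M⁆ = U := by
  rw [dedekind' h.nUW1 h.U_le_der, inf_comm W1, h.defM.2.2.1, sup_bot_eq]

/-- A nontrivial element of order prime to `|M'|` centralizes a conjugate of `W₂`. -/
theorem typeP_conj_W1 [Finite G] (h : OfTypeP M U W W1 W2) {x : G} (hx : x ∈ M)
    (hπ : IsPiNum {p | p ∣ Nat.card ↥⁅M, M⁆}ᶜ (orderOf x)) : ∃ m ∈ M, m * x * m⁻¹ ∈ W1 := by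
  obtain ⟨m, hm, h1⟩ := Hall.exists_conj_le_hallOf h.solvable (isPiSubgroup_zpowers_iff.2 hπ)
    ((zpowers_le).2 hx) (typeP_hall_W1 h)
  exact ⟨m, hm, h1 (conj_mem_conj_iff.2 (mem_zpowers x))⟩

theorem _root_.CfsgLib.FT.typePF_exclusion [Finite G] (h : OfTypeP M U W W1 W2) (K : Subgroup G) :
    ¬ OfTypeF M K := by
  intro hF
  have hF' := compl_of_typeF (typeP_complM h) hF
  obtain ⟨U0, h0⟩ := hF'.complement
  obtain ⟨p, hp, hd⟩ := exists_prime_dvd_card h.W1_ne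
  haveI := Fact.mk hp
  have h1 : p ∣ Monoid.exponent U0 := by
    rw [h0.exponent_eq]
    obtain ⟨x, hx⟩ := exists_prime_orderOf_dvd_card' (G := ↥(U ⊔ W1)) p
      (hd.trans (card_dvd_of_le le_sup_right))
    exact hx ▸ Monoid.order_dvd_exponent x
  obtain ⟨x, hx⟩ := exists_prime_orderOf_dvd_card' (G := U0) p
    (h1.trans Group.exponent_dvd_nat_card)
  have hxM : (x : G) ∈ M := hF'.compl.2.1 (h0.le x.2)
  have hx' : orderOf (x : G) = p := by rw [orderOf_coe, hx]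
  have hx1 : (x : G) ≠ 1 := fun e => hp.one_lt.ne' (by rw [← hx', e, orderOf_one])
  obtain ⟨m, hm, h2⟩ := typeP_conj_W1 h hxM (by
    rw [hx']; exact isPiNum_prime hp (hallOf_pi (typeP_hall_W1 h) p hp hd))
  have h3 := FrobIn.semiReg h0.frob x x.2 hx1
  refine h.W2_ne (eq_bot_iff.2 ?_)
  rw [← conj_eq_bot_iff (g := m), map_conj_inf, ← cent1_conj, ← fcore_conj, conj_eq_of_mem hm] at h3
  rw [← h3]
  refine le_inf h.W2_le_H ?_
  rw [← h.cent _ h2 (conj_ne_one_iff.2 hx1)]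
  exact inf_le_right

theorem conj_mem_cycTIset_iff {g x : G} :
    g * x * g⁻¹ ∈ cycTIset (g •ᶜ W) (g •ᶜ W1) (g •ᶜ W2) ↔ x ∈ cycTIset W W1 W2 := by
  simp only [cycTIset, Set.mem_diff, Set.mem_union, SetLike.mem_coe, conj_mem_conj_iff]

theorem _root_.CfsgLib.FT.conj_of_typeP [Finite G] (h : OfTypeP M U W W1 W2) (g : G) :
    OfTypeP (M.map (MulAut.conj g).toMonoidHom) (U.map (MulAut.conj g).toMonoidHom)
      (W.map (MulAut.conj g).toMonoidHom) (W1.map (MulAut.conj g).toMonoidHom)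
      (W2.map (MulAut.conj g).toMonoidHom) where
  W1_cyclic := isCyclic_conj.2 h.W1_cyclic
  W1_hall := by rw [← conj_comm, card_map_conj, card_map_conj]; exact h.W1_hall
  W1_ne := conj_eq_bot_iff.not.2 h.W1_ne
  defM := by rw [← conj_comm]; exact isComplIn_conj h.defM g
  U_nilpotent := isNilpotent_conj h.U_nilpotent g
  nUW1 := le_norm_conj h.nUW1 g
  defHU := by rw [← conj_comm, fcore_conj]; exact isComplIn_conj h.defHU g
  H_not_cyclic := by rw [fcore_conj, isCyclic_conj]; exact h.H_not_cyclic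
  der2_le := by rw [← conj_comm, ← conj_comm, fit_conj, conj_le_conj_iff]; exact h.der2_le
  defF := by rw [fit_conj, fcore_conj, centralizer_map_conj, ← map_conj_inf, ← conj_sup, h.defF]
  F_le := by rw [← conj_comm, fit_conj, conj_le_conj_iff]; exact h.F_le
  W2_cyclic := isCyclic_conj.2 h.W2_cyclic
  W2_ne := conj_eq_bot_iff.not.2 h.W2_ne
  W2_le_H := by rw [fcore_conj, conj_le_conj_iff]; exact h.W2_le_H
  W2_le_der2 := by rw [← conj_comm, ← conj_comm, conj_le_conj_iff]; exact h.W2_le_der2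
  cent := fun x hx h1 => by
    obtain ⟨y, rfl⟩ : ∃ y, x = g * y * g⁻¹ := ⟨g⁻¹ * x * g, by group⟩
    rw [← conj_comm, cent1_conj, ← map_conj_inf,
      h.cent y (conj_mem_conj_iff.1 hx) (conj_ne_one_iff.1 h1)]
  defW := by rw [← conj_sup, h.defW]
  normedTI := normedTI_conj h.normedTI fun _ => conj_mem_cycTIset_iff

theorem _root_.CfsgLib.FT.of_typeP_compl_conj [Finite G] (h : OfTypeP M U W W1 W2)
    {V Y Y1 Y2 : Subgroup G} (h' : OfTypeP M V Y Y1 Y2) :
    ∃ x ∈ M, U.map (MulAut.conj x).toMonoidHom = V ∧ W.map (MulAut.conj x).toMonoidHom = Y ∧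
      W1.map (MulAut.conj x).toMonoidHom = Y1 ∧ W2.map (MulAut.conj x).toMonoidHom = Y2 := by
  obtain ⟨x, hx, e⟩ := exists_conj_compl_fcore (typeP_complM h) (typeP_complM h')
  have h1 := conj_of_typeP h x
  rw [conj_eq_of_mem hx] at h1
  rw [conj_sup] at e
  have hE : V ⊔ Y1 ≤ M := (typeP_complM h').2.1
  obtain ⟨y, hy, e1⟩ := Hall.conj_hallOf (isSolvable_of_le h.solvable hE)
    (Hall.isPiHallOf_of_le (typeP_hall_W1 h1) (le_sup_right.trans e.ge) hE)
    (Hall.isPiHallOf_of_le (typeP_hall_W1 h') le_sup_right hE)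
  have e0 : x •ᶜ U = V := by rw [← typeP_inf_der h1, ← e, typeP_inf_der h']
  have e2 : y •ᶜ V = V := map_conj_eq_of_mem_normalizer (sup_le le_normalizer h'.nUW1 hy)
  have h2 := conj_of_typeP h1 y
  rw [conj_eq_of_mem (hE hy), e0, e2, ← e1] at h2
  have e3 : y •ᶜ x •ᶜ W2 = Y2 := by rw [← typeP_cent_compl h2, typeP_cent_compl h']
  refine ⟨y * x, M.mul_mem (hE hy) hx, ?_, ?_, ?_, ?_⟩ <;> rw [map_conj_mul]
  · rw [e0, e2]
  · rw [← h2.defW, e3, h'.defW]
  · exact e1.symm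
  · exact e3

theorem typeP_inf_fit_cent [Finite G] (h : OfTypeP M U W W1 W2) :
    U ⊓ fittingOf M ≤ 𝐂(fittingHallOf M) :=
  le_cent_of_nil (fit_nil M) inf_le_right (fcore_le_fit M)
    ((typeP_coprime_HU h).symm.coprime_dvd_left (card_dvd_of_le inf_le_left))

/-- PF (8.5)(a). -/
theorem _root_.CfsgLib.FT.typeP_fitting_eq [Finite G] (h : OfTypeP M U W W1 W2) :
    fittingHallOf M ⊔ (U ⊓ centralizer (fittingHallOf M : Set G)) = fittingOf M := by
  have hU : U ≤ M := h.U_le_der.trans (der_le M)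
  refine le_antisymm (le_trans (sup_le_sup_left (inf_le_inf_right _ hU) _) h.defF.le) ?_
  rw [← inf_eq_right.2 h.F_le, ← IsComplIn.sup_eq h.defHU,
    dedekind' (hU.trans (fcore_normal M)) (fcore_le_fit M)]
  exact sup_le_sup_left (le_inf inf_le_left (typeP_inf_fit_cent h)) _

/-- PF (8.5)(b). -/
theorem _root_.CfsgLib.FT.typeP_der_cent [Finite G] (h : OfTypeP M U W W1 W2) :
    ⁅U, U⁆ ≤ centralizer (fittingHallOf M : Set G) ∧
      (U ≠ ⊥ → ¬ U ≤ centralizer (fittingHallOf M : Set G)) := by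
  refine ⟨le_trans (le_inf (der_le U) ((commutator_mono h.U_le_der h.U_le_der).trans h.der2_le))
    (typeP_inf_fit_cent h), fun h1 h2 => h1 ?_⟩
  have h3 : Group.IsNilpotent ↥⁅M, M⁆ := by
    rw [← IsComplIn.sup_eq h.defHU, sup_comm]
    exact isNilpotent_sup_of_cent h.U_nilpotent (fcore_nil M) h2
  have h4 := fcore_max (der_le M) (der_normal M) h3 (hallOf_coprime (typeP_hall_der h))
  rw [eq_bot_iff, ← h.defHU.2.2.1]
  exact le_inf (h.U_le_der.trans h4) le_rfl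

/-- PF (8.5)(c). -/
theorem _root_.CfsgLib.FT.typeP_normedTI (h : OfTypeP M U W W1 W2) :
    NormedTI (classSupport (cycTIset W W1 W2) M) ⊤ M := by
  refine ⟨?_, le_top, ?_, ?_⟩
  · obtain ⟨a, ha⟩ := h.normedTI.nonempty
    exact ⟨a, a, ha, 1, M.one_mem, by group⟩
  · rintro x hx _ ⟨a, ha, y, hy, rfl⟩
    exact ⟨a, ha, x * y, M.mul_mem hx hy, by group⟩
  · rintro g - _ ⟨a, ha, y, hy, rfl⟩ ⟨b, hb, z, hz, e⟩
    have h1 : z⁻¹ * g * y ∈ M := h.W_le (h.normedTI.ti _ (mem_top _) a ha (by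
      rwa [show z⁻¹ * g * y * a * (z⁻¹ * g * y)⁻¹ = z⁻¹ * (g * (y * a * y⁻¹) * g⁻¹) * z by group,
        e, show z⁻¹ * (z * b * z⁻¹) * z = b by group]))
    rwa [M.mul_mem_cancel_right hy, M.mul_mem_cancel_left (M.inv_mem hz)] at h1

theorem _root_.CfsgLib.FT.FT_cyclicTI_hyp [Finite G] (hG : IsMinSimpleOddOrder G)
    (h : OfTypeP M U W W1 W2) : CycTI ⊤ W W1 W2 := by
  refine ⟨h.defW, h.W_inf, ?_, mFT_odd hG W, h.normedTI⟩
  rw [← h.defW]
  exact isCyclic_sup h.W1_cyclic h.W2_cyclic (by rw [← typeP_cent_compl h]; exact inf_le_right)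
    (h.W1_hall.symm.coprime_dvd_right (card_dvd_of_le (h.W2_le_H.trans h.H_le_der)))

theorem _root_.CfsgLib.FT.FT_primeTI_hyp [Finite G] (hG : IsMinSimpleOddOrder G)
    (h : OfTypeP M U W W1 W2) : PrimeTI M ⁅M, M⁆ W W1 W2 :=
  ⟨h.defM, der_normal M, h.W1_ne, h.W1_cyclic, h.W1_hall, h.W2_ne, h.W2_le_H.trans h.H_le_der,
    h.W2_cyclic, h.cent, h.defW, mFT_odd hG W⟩

theorem typeP_fcore_der [Finite G] (h : OfTypeP M U W W1 W2) :
    fittingHallOf ⁅M, M⁆ = fittingHallOf M := by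
  refine le_antisymm (fcore_max ((fcore_le _).trans (der_le M))
    ((der_normal M).trans (norm_le_norm_fcore _)) (fcore_nil _) ?_)
    (fcore_max h.H_le_der ((der_le M).trans (fcore_normal M)) (fcore_nil M)
      (hallOf_coprime (typeP_hall_H h)))
  rw [← relIndex_mul_relIndex _ _ _ (fcore_le ⁅M, M⁆) (der_le M)]
  exact (fcore_coprime _).mul_right ((hallOf_coprime (typeP_hall_der h)).coprime_dvd_left
    (card_dvd_of_le (fcore_le _)))

end typeP

theorem cycTIset_comm' {W W1 W2 : Subgroup G} : cycTIset W W2 W1 = cycTIset W W1 W2 := by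
  simp only [cycTIset, Set.union_comm]

theorem _root_.CfsgLib.FT.TypePPair.symm {S T W W1 W2 : Subgroup G}
    (h : TypePPair S T W W1 W2) : TypePPair T S W W2 W1 :=
  ⟨⟨by rw [sup_comm, h.cycTI.sup_eq], by rw [inf_comm, h.cycTI.inf_eq], h.cycTI.cyclic,
    h.cycTI.odd, by rw [cycTIset_comm']; exact h.cycTI.normedTI⟩, h.maxT, h.maxS, h.defT, h.defS,
    by rw [inf_comm, h.inf_eq], h.type2.symm, h.T_ne, h.S_ne,
    fun M hM h1 => (h.conj M hM h1).symm⟩

end CfsgLib.FT.U4.B14
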