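import Mathlib
import Cfsg.Agent.Lib.FT.PF8c
import Cfsg.Agent.Lib.FT.Wielandt
import Cfsg.Agent.Lib.FpfReduce

/-! Peterfalvi, section 9, group theoretic part: (9.3) to (9.6). -/

set_option autoImplicit false

namespace CfsgLib.FT

open Cfsg Subgroup
open scoped commutatorElement

universe u

variable {G : Type u} [Group G]

namespace P9

theorem complIn_sup {A B M : Subgroup G} (h : IsComplIn A B M) : A ⊔ B = M :=
  le_antisymm (sup_le h.1 h.2.1) fun m hm => by
    obtain ⟨a, ha, b, hb, rfl⟩ := h.2.2.2 m hm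
    exact mul_mem_sup ha hb

theorem complIn_card {A B M : Subgroup G} (h : IsComplIn A B M)
    (hn : B ≤ normalizer (A : Set G)) : Nat.card M = Nat.card A * Nat.card B := by
  rw [← complIn_sup h, sup_comm, card_sup_of_disjoint hn (inf_comm A B ▸ h.2.2.1), mul_comm]

theorem complIn_relIndex [Finite G] {A B M : Subgroup G} (h : IsComplIn A B M)
    (hn : B ≤ normalizer (A : Set G)) : A.relIndex M = Nat.card B :=
  Nat.eq_of_mul_eq_mul_left Nat.card_pos ((card_mul_relIndex h.1).trans (complIn_card h hn))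

theorem complIn_of {A B : Subgroup G} (hn : B ≤ normalizer (A : Set G)) (h : A ⊓ B = ⊥) :
    IsComplIn A B (A ⊔ B) :=
  ⟨le_sup_left, le_sup_right, h, fun m hm => by
    obtain ⟨a, ha, b, hb, e⟩ := (mem_sup_iff_of_le_normalizer' hn).1 hm
    exact ⟨a, ha, b, hb, e.symm⟩⟩

theorem le_centMod_iff {H H0 A : Subgroup G} (hA : A ≤ normalizer (H0 : Set G)) :
    A ≤ centMod H H0 ↔ ⁅H, A⁆ ≤ H0 := by
  rw [commutator_comm, commutator_le]
  exact ⟨fun h a ha => (h ha).2, fun h a ha => ⟨hA ha, h a ha⟩⟩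

theorem normalizer_le_centMod {H H0 : Subgroup G} {x : G} (h1 : x ∈ normalizer (H : Set G))
    (h2 : x ∈ normalizer (H0 : Set G)) {g : G} (hg : g ∈ centMod H H0) :
    x * g * x⁻¹ ∈ centMod H H0 :=
  ⟨mul_mem (mul_mem h2 hg.1) (inv_mem h2), fun h hh => by
    have := conj_mem_of_mem_normalizer h2 (hg.2 _ (conj_mem_of_mem_normalizer' h1 hh))
    convert this using 1; group⟩

theorem le_normalizer_centMod [Finite G] {H H0 A : Subgroup G} (h1 : A ≤ normalizer (H : Set G))
    (h2 : A ≤ normalizer (H0 : Set G)) : A ≤ normalizer (centMod H H0 : Set G) :=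
  fun _ hx => mem_normalizer_of_conj_mem fun _ hg => normalizer_le_centMod (h1 hx) (h2 hx) hg

theorem le_normalizer_sup' {D H K : Subgroup G} (h1 : D ≤ normalizer (H : Set G))
    (h2 : D ≤ normalizer (K : Set G)) : D ≤ normalizer ((H ⊔ K : Subgroup G) : Set G) :=
  (le_inf h1 h2).trans (normalizer_inf_normalizer_le_normalizer_sup H K)

theorem le_normalizer_inf' {D H K : Subgroup G} (h1 : D ≤ normalizer (H : Set G))
    (h2 : D ≤ normalizer (K : Set G)) : D ≤ normalizer ((H ⊓ K : Subgroup G) : Set G) :=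
  (le_inf h1 h2).trans inf_normalizer_le_normalizer_inf

theorem le_of_le_sup_commutator {H K : Subgroup G} (hH : Group.IsNilpotent H) (hK : K ≤ H)
    (h : H ≤ K ⊔ ⁅H, H⁆) : H ≤ K := by
  obtain ⟨n, hn⟩ := (Subgroup.isNilpotent_iff_lowerCentralSeries H).1 hH
  suffices ∀ m, H ≤ K ⊔ H.lowerCentralSeries m by simpa [hn] using this n
  intro m
  induction m with
  | zero => exact le_sup_right
  | succ m ih =>
    have h1 := Subgroup.lowerCentralSeries_le_self H m
    have h2 : ⁅H.lowerCentralSeries m, H⁆ ≤ K ⊔ H.lowerCentralSeries (m + 1) := le_sup_right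
    have h3 : H.lowerCentralSeries m ≤
        normalizer ((K ⊔ H.lowerCentralSeries (m + 1) : Subgroup G) : Set G) :=
      le_normalizer_iff_commutator_le_right.2 ((commutator_mono le_rfl (sup_le hK
        (Subgroup.lowerCentralSeries_le_self H _))).trans h2)
    have h4 : K ≤ normalizer ((K ⊔ H.lowerCentralSeries (m + 1) : Subgroup G) : Set G) :=
      le_sup_left.trans le_normalizer
    refine h.trans (sup_le le_sup_left ((commutator_mono ih ih).trans
      (CommCalc.commutator_sup_left_le h4 h3 (CommCalc.commutator_sup_right_le h4 h3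
        ((commutator_le_self K).trans le_sup_left) ?_) ((commutator_mono le_rfl
          (sup_le hK h1)).trans h2))))
    rw [commutator_comm]; exact (commutator_mono le_rfl hK).trans h2

/-- a quotient map defined on `M` -/
theorem exists_quot [Finite G] {M N : Subgroup G} (hN : N ≤ M) (hn : M ≤ normalizer (N : Set G)) :
    ∃ (X : Type u) (_ : Group X) (_ : Finite X) (f : M →* X), f.ker = N.subgroupOf M ∧
      ∀ K : Subgroup G, K ≤ M → Nat.card ((K.subgroupOf M).map f) = N.relIndex K := by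
  have := (normal_subgroupOf_iff_le_normalizer hN).2 hn
  refine ⟨M ⧸ N.subgroupOf M, inferInstance, inferInstance, QuotientGroup.mk' _,
    QuotientGroup.ker_mk' _, fun K hK => ?_⟩
  rw [← relIndex_subgroupOf hK, card_map_mk'_eq_relIndex]

/-- Wielandt's formula in a section. -/
theorem wielandt_section [Finite G] {K R H N : Subgroup G} (hRK : R ≤ normalizer (K : Set G))
    (hfrob : ∀ x ∈ R, x ≠ 1 → K ⊓ centralizer ({x} : Set G) = ⊥)
    (hKR : (Nat.card R).Coprime (Nat.card K))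
    (hKH : K ≤ normalizer (H : Set G)) (hRH : R ≤ normalizer (H : Set G)) (hNH : N ≤ H)
    (hHN : H ≤ normalizer (N : Set G))
    (hKN : K ≤ normalizer (N : Set G)) (hRN : R ≤ normalizer (N : Set G))
    (hs : Group.IsSolvable H) (hcK : (Nat.card K).Coprime (Nat.card H))
    (hcR : (Nat.card R).Coprime (Nat.card H)) (h : H ⊓ centralizer (K : Set G) ≤ N) :
    N.relIndex H = N.relIndex (H ⊓ centralizer (R : Set G)) ^ Nat.card R := by
  obtain ⟨M, hH, hK, hR, hMN⟩ : ∃ M : Subgroup G, H ≤ M ∧ K ≤ M ∧ R ≤ M ∧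
      M ≤ normalizer (N : Set G) := ⟨_, hHN, hKN, hRN, le_rfl⟩
  obtain ⟨X, _, _, f, hf, hc⟩ := exists_quot (hNH.trans hH) hMN
  have hcard : ∀ A : Subgroup G, A ≤ M → (Nat.card A).Coprime (Nat.card H) →
      Nat.card ((A.subgroupOf M).map f) = Nat.card A := fun A hA h => by
    rw [hc A hA, ← inf_relIndex_right, inf_comm,
      inf_eq_bot_of_coprime (h.coprime_dvd_right (card_dvd_of_le hNH)), relIndex_bot_left]
  have hcent : ∀ A B : Subgroup G, A ≤ M → B ≤ M → A ≤ normalizer (B : Set G) →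
      (Nat.card A).Coprime (Nat.card ↥(B ⊓ N)) →
      (B.subgroupOf M).map f ⊓ centralizer (((A.subgroupOf M).map f : Subgroup X) : Set X) =
        ((B ⊓ centralizer (A : Set G)).subgroupOf M).map f := fun A B hA hB h1 h2 => by
    have e : B.subgroupOf M ⊓ f.ker = (B ⊓ N).subgroupOf M := by rw [hf]; rfl
    rw [Cop.map_inf_centralizer_map f (sgOf_le_normalizer h1 M) (by
      rwa [e, card_subgroupOf_of_le hA, card_subgroupOf_of_le (inf_le_left.trans hB)])
      (Or.inr (by
        rw [e]; exact isSolvable_subgroupOf (isSolvable_of_le hs (inf_le_right.trans hNH)) M))]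
    congr 1
    ext x
    simp only [mem_inf, mem_subgroupOf, mem_centralizer_sgOf hA]
  have := Frobenius_Wielandt_card (K := (K.subgroupOf M).map f) (R := (R.subgroupOf M).map f)
    (M := (H.subgroupOf M).map f) (map_le_normalizer_map (sgOf_le_normalizer hRK M) f) ?_
    (map_le_normalizer_map (sgOf_le_normalizer hKH M) f)
    (map_le_normalizer_map (sgOf_le_normalizer hRH M) f)
    (isSolvable_map (isSolvable_subgroupOf hs M) f)
    (by rw [hcard K hK hcK, hc H hH]; exact hcK.coprime_dvd_right (relIndex_dvd_card _ _))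
    (by rw [hcard R hR hcR, hc H hH]; exact hcR.coprime_dvd_right (relIndex_dvd_card _ _))
    (by
      rw [hcent K H hK hH hKH (hcK.coprime_dvd_right (card_dvd_of_le inf_le_left)),
        Subgroup.map_eq_bot_iff, hf]
      exact comap_mono h)
  · rwa [hcent R H hR hH hRH (hcR.coprime_dvd_right (card_dvd_of_le inf_le_left)), hc H hH,
      hc _ (inf_le_left.trans hH), hcard R hR hcR] at this
  · rintro _ ⟨x, hx, rfl⟩ hx1
    have h1 := hcent (zpowers (x : G)) K (zpowers_le.2 x.2) hK (zpowers_le.2 (hRK hx))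
      ((hKR.coprime_dvd_left (card_dvd_of_le (zpowers_le.2 (mem_subgroupOf.1 hx)))).coprime_dvd_right
        (card_dvd_of_le inf_le_left))
    have h2 : (zpowers (x : G)).subgroupOf M = zpowers x := by
      rw [← map_subtype_sgOf (zpowers x), MonoidHom.map_zpowers]; rfl
    rw [h2, MonoidHom.map_zpowers, zpowers_eq_closure, centralizer_closure, zpowers_eq_closure,
      centralizer_closure, hfrob x hx (fun h => hx1 (by rw [show x = 1 from Subtype.ext h, map_one])),
      bot_subgroupOf, Subgroup.map_bot] at h1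
    exact h1

section typeP
variable {M U W W1 W2 : Subgroup G} (hP : OfTypeP M U W W1 W2)
include hP

theorem der_le : ⁅M, M⁆ ≤ M := commutator_le_self M

theorem U_le : U ≤ M := hP.U_le_der.trans (der_le hP)

theorem UW1_le : U ⊔ W1 ≤ M := sup_le (U_le hP) hP.W1_le

theorem U_norm_H : U ≤ normalizer (fittingHallOf M : Set G) := (U_le hP).trans (Fcore_normal M)

theorem W1_norm_H : W1 ≤ normalizer (fittingHallOf M : Set G) := hP.W1_le.trans (Fcore_normal M)

theorem sup_HU : fittingHallOf M ⊔ U = ⁅M, M⁆ := complIn_sup hP.defHU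

theorem sup_M : ⁅M, M⁆ ⊔ W1 = M := complIn_sup hP.defM

theorem der_normal : M ≤ normalizer ((⁅M, M⁆ : Subgroup G) : Set G) :=
  normalizer_commutator_ge_left M M

theorem le_of_HUW {N : Subgroup G} (h1 : fittingHallOf M ≤ N) (h2 : U ≤ N) (h3 : W1 ≤ N) :
    M ≤ N := (sup_M hP).ge.trans (sup_le ((sup_HU hP).ge.trans (sup_le h1 h2)) h3)

theorem card_der : Nat.card ↥⁅M, M⁆ = Nat.card (fittingHallOf M) * Nat.card U :=
  complIn_card hP.defHU (U_norm_H hP)

theorem relIndex_der [Finite G] : (⁅M, M⁆ : Subgroup G).relIndex M = Nat.card W1 :=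
  complIn_relIndex hP.defM (hP.W1_le.trans (der_normal hP))

theorem coprime_W1_U : (Nat.card W1).Coprime (Nat.card U) :=
  (hP.W1_hall.coprime_dvd_left (card_dvd_of_le hP.U_le_der)).symm

theorem coprime_W1_H : (Nat.card W1).Coprime (Nat.card (fittingHallOf M)) :=
  (hP.W1_hall.coprime_dvd_left (card_dvd_of_le hP.H_le_der)).symm

theorem U_fpf : ∀ x ∈ W1, x ≠ 1 → U ⊓ centralizer ({x} : Set G) = ⊥ := fun x hx h1 =>
  le_bot_iff.1 ((le_inf (((inf_le_inf_right _ hP.U_le_der).trans (hP.cent x hx h1).le).trans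
    hP.W2_le_H) inf_le_left).trans hP.defHU.2.2.1.le)

theorem U_cent_W1 : U ⊓ centralizer (W1 : Set G) = ⊥ := by
  obtain ⟨⟨x, hx⟩, h1⟩ := ne_bot_iff_exists_ne_one.1 hP.W1_ne
  exact le_bot_iff.1 ((inf_le_inf_left _ (centralizer_le (Set.singleton_subset_iff.2 hx))).trans
    (U_fpf hP x hx fun h => h1 (Subtype.ext h)).le)

theorem commutator_U_W1 [Finite G] {V : Subgroup G} (hV : V ≤ U)
    (hn : W1 ≤ normalizer (V : Set G)) : ⁅V, W1⁆ = V := by
  have := hP.U_nilpotent
  have h := Cop.commutator_sup_centralizer hn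
    ((coprime_W1_U hP).coprime_dvd_right (card_dvd_of_le hV))
    (Or.inr (isSolvable_of_le (K := U) inferInstance hV))
  rwa [le_bot_iff.1 ((inf_le_inf_right _ hV).trans (U_cent_W1 hP).le), sup_bot_eq] at h

end typeP

end P9

open P9

/-- The prime `p` of PF (9.4). -/
noncomputable def PtypePrime (M H0 : Subgroup G) : ℕ := (H0.relIndex (fittingHallOf M)).minFac

section group
variable [Finite G] (hG : IsMinSimpleOddOrder G) {M : Subgroup G} (hM : IsCoatom M)
  {U W W1 W2 : Subgroup G} (hP : OfTypeP M U W W1 W2) (h5 : FTtype M ≠ 5)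
include hG hM hP h5

omit hG hM h5 [Finite G] in
theorem Ptype_Fcore_sdprod : IsComplIn (fittingHallOf M) (U ⊔ W1) M := by
  refine ⟨Fcore_le M, UW1_le hP, le_bot_iff.1 fun x hx => ?_, fun m hm => ?_⟩
  · obtain ⟨u, hu, w, hw, rfl⟩ := (mem_sup_iff_of_le_normalizer' hP.nUW1).1 hx.2
    have h1 : w ∈ ⁅M, M⁆ ⊓ W1 :=
      ⟨(Subgroup.mul_mem_cancel_left _ (hP.U_le_der hu)).1 (hP.H_le_der hx.1), hw⟩
    rw [hP.defM.2.2.1, mem_bot] at h1
    rw [h1, mul_one] at hx ⊢
    exact hP.defHU.2.2.1.le ⟨hx.1, hu⟩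
  · obtain ⟨k, hk, w, hw, rfl⟩ := hP.defM.2.2.2 m hm
    obtain ⟨h, hh, u, hu, rfl⟩ := hP.defHU.2.2.2 k hk
    exact ⟨h, hh, u * w, mul_mem_sup hu hw, mul_assoc _ _ _⟩

omit hG hM h5 in
theorem Ptype_Fcore_coprime : (Nat.card (fittingHallOf M)).Coprime (Nat.card ↥(U ⊔ W1)) := by
  rw [← complIn_relIndex (Ptype_Fcore_sdprod hP) ((UW1_le hP).trans (Fcore_normal M))]
  exact Fcore_hall M

omit hG hM h5 in
theorem P9.coprime_U_H : (Nat.card U).Coprime (Nat.card (fittingHallOf M)) :=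
  ((Ptype_Fcore_coprime hP).coprime_dvd_right (card_dvd_of_le le_sup_left)).symm

omit hG hM hP h5 in
theorem P9.solvable_H : Group.IsSolvable (fittingHallOf M) :=
  have := Fcore_nil M
  inferInstance

theorem Ptype_compl_Frobenius : FrobIn (U ⊔ W1) U W1 :=
  ⟨complIn_of hP.nUW1 (inf_eq_bot_of_coprime (coprime_W1_U hP).symm),
    sup_le le_normalizer hP.nUW1, (compl_of_typeII_IV hG hM hP h5).U_ne, hP.W1_ne,
    fun e he h1 k hk h => mem_bot.1 ((U_fpf hP e he h1).le
      ⟨hk, mem_centralizer_singleton_iff.2 h.symm⟩)⟩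

omit hG hM h5 in
theorem P9.wielandt : Nat.card ↥(fittingHallOf M ⊓ centralizer ((U ⊔ W1 : Subgroup G) : Set G)) ^
      Nat.card W1 * Nat.card (fittingHallOf M) =
    Nat.card W2 ^ Nat.card W1 * Nat.card ↥(fittingHallOf M ⊓ centralizer (U : Set G)) := by
  rw [← typeP_cent_core_compl hP]
  exact Frobenius_Wielandt_fixpoint hP.nUW1 (U_fpf hP) (U_norm_H hP) (W1_norm_H hP) solvable_H
    (coprime_U_H hP) (coprime_W1_H hP)

/-- PF (9.3), type II. -/
theorem typeII_core (h2 : FTtype M = 2) :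
    fittingHallOf M ⊓ centralizer (U : Set G) = ⊥ ∧
      Nat.card (fittingHallOf M) = Nat.card W2 ^ Nat.card W1 := by
  have hT := (FTtype_eq_two_iff hG hM hP).1 h2
  have h1 : fittingHallOf M ⊓ centralizer (U : Set G) = ⊥ := by
    by_contra hne
    have hs : centralizer (sharp U) = centralizer (U : Set G) :=
      le_antisymm (fun x hx y hy => by
        by_cases h : y = 1
        · simp [h]
        · exact hx y ⟨hy, h⟩) (centralizer_le Set.diff_subset)
    obtain ⟨⟨x, hx⟩, hx1⟩ := ne_bot_iff_exists_ne_one.1 hT.U_ne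
    have h3 := (FTtypeI_II_facts hG hM h2.le (U := U) (by
      rw [FTder_typeP (by omega)]; exact hP.defHU)).2.1 (sharp U)
      ⟨x, hx, fun h => hx1 (Subtype.ext h)⟩ subset_rfl (by rwa [hs])
    obtain ⟨L, hL, hUL⟩ := mmax_exists (mFT_norm_proper hG hT.U_ne
      (ne_top_of_le_ne_top hM.1 (U_le hP)))
    exact hT.not_norm_le (h3.2 L hL (hs.le.trans ((centralizer_le_normalizer _).trans hUL)) ▸ hUL)
  have h3 := P9.wielandt hP
  rw [h1, le_bot_iff.1 ((inf_le_inf_left _ (centralizer_le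
    (le_sup_left : U ≤ U ⊔ W1))).trans h1.le)] at h3
  exact ⟨h1, by simpa using h3⟩

omit h5 in
theorem P9.W2_prime (h2 : FTtype M ≠ 2) : (Nat.card W2).Prime := by
  obtain ⟨T, hT, V, hV⟩ := FTtypeP_pair_witness hG hM hP
  exact ((FTtype_eq_two_iff hG hT.maxT hV).1 (hT.type2.resolve_left h2)).W1_prime

/-- PF (9.3), types III and IV. -/
theorem typeIII_IV_core (h2 : FTtype M ≠ 2) :
    (Nat.card W2).Prime ∧ fittingHallOf M ⊓ centralizer ((U ⊔ W1 : Subgroup G) : Set G) = ⊥ ∧
      Nat.card (fittingHallOf M) =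
        Nat.card W2 ^ Nat.card W1 * Nat.card ↥(fittingHallOf M ⊓ centralizer (U : Set G)) := by
  have hp := P9.W2_prime hG hM hP h2
  have h3 := P9.wielandt hP
  have h1 : fittingHallOf M ⊓ centralizer ((U ⊔ W1 : Subgroup G) : Set G) = ⊥ := by
    have h4 : fittingHallOf M ⊓ centralizer ((U ⊔ W1 : Subgroup G) : Set G) ≤ W2 :=
      (inf_le_inf_left _ (centralizer_le (le_sup_right : W1 ≤ U ⊔ W1))).trans
        (typeP_cent_core_compl hP).le
    rcases (Nat.dvd_prime hp).1 (card_dvd_of_le h4) with h | h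
    · exact card_eq_one.1 h
    · rw [h, Nat.mul_right_inj (pow_pos hp.pos _).ne'] at h3
      exact absurd (le_centralizer_iff.1 ((eq_of_le_of_card_le inf_le_left h3.le).ge.trans
        inf_le_right)) ((typeP_der_cent hP).2 (compl_of_typeII_IV hG hM hP h5).U_ne)
  rw [h1] at h3
  exact ⟨hp, h1, by simpa using h3⟩

/-- PF (9.4). -/
theorem Ptype_Fcore_kernel_exists : ∃ H0, PtypeKer M U H0 := by
  have hn := (typeP_der_cent hP).2 (compl_of_typeII_IV hG hM hP h5).U_ne
  set H := fittingHallOf M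
  have hH' : ⁅H, H⁆ ≤ H := commutator_le_self H
  have h1 : (H ⊓ centralizer (U : Set G)) ⊔ ⁅H, H⁆ < H := by
    refine lt_of_le_of_ne (sup_le inf_le_left hH') fun h => hn (le_centralizer_iff.1 ?_)
    exact (le_of_le_sup_commutator (Fcore_nil M) inf_le_left h.ge).trans inf_le_right
  obtain ⟨H0, ⟨a1, a2, a3⟩, hmax⟩ := exists_maximal_of_wellFoundedGT
    (fun K : Subgroup G => (H ⊓ centralizer (U : Set G)) ⊔ ⁅H, H⁆ ≤ K ∧ K < H ∧
      M ≤ normalizer (K : Set G)) ⟨_, le_rfl, h1, le_of_HUW hP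
        (Cop.le_normalizer_of_commutator_le (G := H) le_sup_right h1.le) (le_normalizer_sup'
          (Cop.le_normalizer_inf_centralizer (U_norm_H hP) le_normalizer)
          (Cop.le_normalizer_commutator (U_norm_H hP) (U_norm_H hP))) (le_normalizer_sup'
          (Cop.le_normalizer_inf_centralizer (W1_norm_H hP) hP.nUW1)
          (Cop.le_normalizer_commutator (W1_norm_H hP) (W1_norm_H hP)))⟩
  refine ⟨H0, a2, a3, fun K b1 b2 b3 => ?_, fun h => a2.not_ge ?_⟩
  · exact or_iff_not_imp_right.2 fun h => le_antisymm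
      (hmax ⟨a1.trans b1, lt_of_le_of_ne b2 h, b3⟩ b1) b1
  · exact (Cop.commutator_sup_centralizer (U_norm_H hP) (coprime_U_H hP)
      (Or.inr solvable_H)).ge.trans (sup_le ((le_centMod_iff ((U_le hP).trans a3)).1 h)
        (le_sup_left.trans a1))

variable {H0 : Subgroup G} (h0 : PtypeKer M U H0)
include h0

omit hG hM hP h5 in
theorem P9.prime : (PtypePrime M H0).Prime :=
  Nat.minFac_prime fun h => h0.lt.not_ge (relIndex_eq_one.1 h)

theorem PtypePrime_prime : (PtypePrime M H0).Prime := P9.prime h0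

omit hG hM hP h5 in
theorem P9.abelem : ⁅fittingHallOf M, fittingHallOf M⁆ ≤ H0 ∧
    ∀ h ∈ fittingHallOf M, h ^ PtypePrime M H0 ∈ H0 := by
  have hHM := Fcore_le M
  have h1 := (normal_subgroupOf_iff_le_normalizer hHM).2 (Fcore_normal M)
  have h2 := (normal_subgroupOf_iff_le_normalizer (h0.lt.le.trans hHM)).2 h0.normal
  have hlt : H0.subgroupOf M < (fittingHallOf M).subgroupOf M :=
    lt_of_le_of_ne (subgroupOf_mono M h0.lt.le) fun h => h0.lt.ne (by
      rw [← map_subgroupOf_eq_of_le hHM, ← h, map_subgroupOf_eq_of_le (h0.lt.le.trans hHM)])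
  have hch : ∀ K : Subgroup M, K.Normal → H0.subgroupOf M ≤ K →
      K ≤ (fittingHallOf M).subgroupOf M →
      K = H0.subgroupOf M ∨ K = (fittingHallOf M).subgroupOf M := fun K hK a1 a2 =>
    (h0.chief (K.map M.subtype) (le_map_of_sgOf_le (h0.lt.le.trans hHM) a1)
      (map_le_iff_le_comap.2 a2) (le_normalizer_map_subtype' K)).imp
      (fun h => by rw [← h, map_subtype_sgOf]) fun h => by rw [← h, map_subtype_sgOf]
  have hc := commutator_le_of_chief_of_isSolvable (isSolvable_subgroupOf solvable_H M) hlt hch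
  obtain ⟨ℓ, hℓ, -, hpow⟩ := Fpf.exists_prime_of_chief hc hlt hch
  have hc' : ⁅fittingHallOf M, fittingHallOf M⁆ ≤ H0 := commutator_le.2 fun a ha b hb =>
    hc (commutator_mem_commutator (g₁ := ⟨a, hHM ha⟩) (g₂ := ⟨b, hHM hb⟩) ha hb)
  have hpow' : ∀ h ∈ fittingHallOf M, h ^ ℓ ∈ H0 := fun a ha => hpow ⟨a, hHM ha⟩ ha
  refine ⟨hc', ?_⟩
  have := Fact.mk hℓ
  have h3 := (normal_subgroupOf_iff_le_normalizer h0.lt.le).2 (hHM.trans h0.normal)
  have h4 : IsPGroup ℓ (fittingHallOf M ⧸ H0.subgroupOf (fittingHallOf M)) := fun x => by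
    obtain ⟨x, rfl⟩ := QuotientGroup.mk_surjective x
    exact ⟨1, by rw [pow_one, ← QuotientGroup.mk_pow, QuotientGroup.eq_one_iff]; exact hpow' x x.2⟩
  obtain ⟨n, hn⟩ := IsPGroup.iff_card.1 h4
  have h5 : PtypePrime M H0 ∣ ℓ ^ n := hn ▸ Nat.minFac_dvd _
  rwa [(Nat.prime_dvd_prime_iff_eq (P9.prime h0) hℓ).1 ((P9.prime h0).dvd_of_dvd_pow h5)]

/-- `H / H0` is elementary abelian. -/
theorem Ptype_Fcore_factor_abelem : ⁅fittingHallOf M, fittingHallOf M⁆ ≤ H0 ∧
    ∀ h ∈ fittingHallOf M, h ^ PtypePrime M H0 ∈ H0 := P9.abelem h0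

omit hG hM h5 in
/-- an `M`-invariant subgroup `V` of `U` centralizes `H / H0` or has no fixed points on it -/
theorem P9.cent_le_of_not_le {V : Subgroup G} (hV : V ≤ U) (h1 : U ≤ normalizer (V : Set G))
    (h2 : W1 ≤ normalizer (V : Set G)) (h3 : ¬ V ≤ centMod (fittingHallOf M) H0) :
    fittingHallOf M ⊓ centralizer (V : Set G) ≤ H0 := by
  have hle : (fittingHallOf M ⊓ centralizer (V : Set G)) ⊔ H0 ≤ fittingHallOf M :=
    sup_le inf_le_left h0.lt.le
  rcases h0.chief _ le_sup_right hle (le_of_HUW hP (Cop.le_normalizer_of_commutator_le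
    ((P9.abelem h0).1.trans le_sup_right) hle) (le_normalizer_sup'
      (Cop.le_normalizer_inf_centralizer (U_norm_H hP) h1) ((U_le hP).trans h0.normal))
      (le_normalizer_sup' (Cop.le_normalizer_inf_centralizer (W1_norm_H hP) h2)
        (hP.W1_le.trans h0.normal))) with h | h
  · exact le_sup_left.trans h.le
  · have hVn := (hV.trans (U_le hP)).trans h0.normal
    refine absurd ((le_centMod_iff hVn).2 ((commutator_mono h.ge le_rfl).trans
      (CommCalc.commutator_sup_left_le ((inf_le_left.trans (Fcore_le M)).trans h0.normal)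
        le_normalizer ((commutator_eq_bot_iff_le_centralizer.2 inf_le_right).le.trans bot_le)
        (Cop.commutator_le_left_of_le_normalizer hVn)))) h3

omit hG hM hP h5 in
theorem P9.mem_sup_of_fixed {A : Subgroup G} (hA : A ≤ M)
    (hcop : (Nat.card A).Coprime (Nat.card (fittingHallOf M))) {h : G}
    (hh : h ∈ fittingHallOf M) (hc : ∀ u ∈ A, u * h * u⁻¹ * h⁻¹ ∈ H0) :
    h ∈ (fittingHallOf M ⊓ centralizer (A : Set G)) ⊔ H0 := by
  obtain ⟨n, hn, c, hc', rfl⟩ := Cop.exists_mul_centralizer_of_commutator_mem (hA.trans h0.normal)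
    (hcop.coprime_dvd_right (card_dvd_of_le h0.lt.le))
    (Or.inr (isSolvable_of_le solvable_H h0.lt.le)) (g := h) fun a ha => by
      rw [← inv_mem_iff, commutatorElement_inv]; exact hc a ha
  exact mul_mem (mem_sup_right hn) (mem_sup_left
    ⟨(Subgroup.mul_mem_cancel_left _ (h0.lt.le hn)).1 hh, hc'⟩)

omit hG hM h5 in
theorem P9.facts :
    (∀ h ∈ fittingHallOf M, (∀ u ∈ U, u * h * u⁻¹ * h⁻¹ ∈ H0) → h ∈ H0) ∧
    (∀ h ∈ fittingHallOf M, (∀ w ∈ W1, w * h * w⁻¹ * h⁻¹ ∈ H0) ↔ h ∈ W2 ⊔ H0) ∧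
    H0.relIndex W2 = PtypePrime M H0 ∧
    H0.relIndex (fittingHallOf M) = PtypePrime M H0 ^ Nat.card W1 := by
  have h1 := P9.cent_le_of_not_le hP h0 le_rfl le_normalizer hP.nUW1 h0.not_cent
  have hW1 := hP.W1_le.trans h0.normal
  have h2 := wielandt_section hP.nUW1 (U_fpf hP) (coprime_W1_U hP) (U_norm_H hP) (W1_norm_H hP)
    h0.lt.le ((Fcore_le M).trans h0.normal) ((U_le hP).trans h0.normal) hW1 solvable_H
    (coprime_U_H hP) (coprime_W1_H hP) h1
  rw [typeP_cent_core_compl hP] at h2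
  have h3 : H0.relIndex W2 = PtypePrime M H0 := by
    refine ((Nat.dvd_prime (P9.prime h0)).1 ?_).resolve_left fun h =>
      h0.lt.not_ge (relIndex_eq_one.1 (by rw [h2, h, one_pow]))
    have := hP.W2_cyclic
    have : (H0.subgroupOf W2).Normal := inferInstance
    have : IsCyclic (W2 ⧸ H0.subgroupOf W2) :=
      isCyclic_of_surjective _ (QuotientGroup.mk'_surjective _)
    rw [relIndex, index, ← IsCyclic.exponent_eq_card, Monoid.exponent_dvd_iff_forall_pow_eq_one]
    intro x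
    obtain ⟨x, rfl⟩ := QuotientGroup.mk_surjective x
    rw [← QuotientGroup.mk_pow, QuotientGroup.eq_one_iff]
    exact (P9.abelem h0).2 x (hP.W2_le_H x.2)
  refine ⟨fun h hh hc => sup_le h1 le_rfl (P9.mem_sup_of_fixed h0 (U_le hP) (coprime_U_H hP) hh hc),
    fun h hh => ⟨fun hc => ?_, fun hc w hw => ?_⟩, h3, h3 ▸ h2⟩
  · rw [← typeP_cent_core_compl hP]
    exact P9.mem_sup_of_fixed h0 hP.W1_le (coprime_W1_H hP) hh hc
  · have : ⁅W1, W2 ⊔ H0⁆ ≤ H0 := CommCalc.commutator_sup_right_le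
      ((hP.W2_le_H.trans (Fcore_le M)).trans h0.normal) le_normalizer
      (commutator_le.2 fun a ha b hb => by
        rw [commutatorElement_eq_one_iff_mul_comm.2 (hP.W_comm a ha b hb)]; exact one_mem _)
      (le_normalizer_iff_commutator_le_right.1 hW1)
    exact this (commutator_mem_commutator hw hc)

/-- PF (9.6). -/
theorem Ptype_Fcore_factor_facts :
    (∀ h ∈ fittingHallOf M, (∀ u ∈ U, u * h * u⁻¹ * h⁻¹ ∈ H0) → h ∈ H0) ∧
    (∀ h ∈ fittingHallOf M, (∀ w ∈ W1, w * h * w⁻¹ * h⁻¹ ∈ H0) ↔ h ∈ W2 ⊔ H0) ∧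
    H0.relIndex W2 = PtypePrime M H0 ∧
    H0.relIndex (fittingHallOf M) = PtypePrime M H0 ^ Nat.card W1 := P9.facts hP h0

theorem def_Ptype_factor_prime (hp : (Nat.card W2).Prime) : PtypePrime M H0 = Nat.card W2 :=
  (Nat.prime_dvd_prime_iff_eq (P9.prime h0) hp).1
    ((P9.facts hP h0).2.2.1 ▸ relIndex_dvd_card H0 W2)

theorem typeIII_IV_core_prime (h2 : FTtype M ≠ 2) : PtypePrime M H0 = Nat.card W2 :=
  def_Ptype_factor_prime hG hM hP h5 h0 (P9.W2_prime hG hM hP h2)

omit hG hM hP h5 h0 [Finite G] in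
theorem P9.C_le : FcomplKer M U H0 ≤ U := inf_le_left

omit hG hM h5 in
theorem P9.U_norm_C : U ≤ normalizer (FcomplKer M U H0 : Set G) :=
  le_normalizer_inf' le_normalizer
    (le_normalizer_centMod (U_norm_H hP) ((U_le hP).trans h0.normal))

omit hG hM h5 in
theorem P9.W1_norm_C : W1 ≤ normalizer (FcomplKer M U H0 : Set G) :=
  le_normalizer_inf' hP.nUW1 (le_normalizer_centMod (W1_norm_H hP) (hP.W1_le.trans h0.normal))

omit hG hM h5 [Finite G] in
theorem P9.commutator_H_C : ⁅fittingHallOf M, FcomplKer M U H0⁆ ≤ H0 :=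
  (le_centMod_iff ((inf_le_left.trans (U_le hP)).trans h0.normal)).1 inf_le_right

omit hG hM h5 in
theorem P9.der_U_le_C : ⁅U, U⁆ ≤ FcomplKer M U H0 :=
  le_inf (commutator_le_self U) ((le_centMod_iff (((commutator_le_self U).trans
    (U_le hP)).trans h0.normal)).2 ((Cop.commutator_eq_bot_iff_le_centralizer'.2
      (typeP_der_cent hP).1).le.trans bot_le))

omit hG hM h5 [Finite G] in
theorem P9.normal_sup {V : Subgroup G} (hV : V ≤ FcomplKer M U H0)
    (h1 : U ≤ normalizer (V : Set G)) (h2 : W1 ≤ normalizer (V : Set G)) :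
    M ≤ normalizer ((H0 ⊔ V : Subgroup G) : Set G) := by
  have hH := (Fcore_le M).trans h0.normal
  refine le_of_HUW hP (le_normalizer_iff_commutator_le_right.2 ?_)
    (le_normalizer_sup' ((U_le hP).trans h0.normal) h1)
    (le_normalizer_sup' (hP.W1_le.trans h0.normal) h2)
  exact (CommCalc.commutator_sup_right_le le_normalizer
    (((hV.trans P9.C_le).trans (U_le hP)).trans h0.normal)
    (le_normalizer_iff_commutator_le_right.1 hH)
    ((commutator_mono le_rfl hV).trans (P9.commutator_H_C hP h0))).trans le_sup_left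

omit hG hM h5 h0 [Finite G] in
theorem P9.normal_H_sup {V : Subgroup G} (h1 : U ≤ normalizer (V : Set G))
    (h2 : W1 ≤ normalizer (V : Set G)) :
    M ≤ normalizer ((fittingHallOf M ⊔ V : Subgroup G) : Set G) :=
  le_of_HUW hP (le_sup_left.trans le_normalizer) (le_normalizer_sup' (U_norm_H hP) h1)
    (le_normalizer_sup' (W1_norm_H hP) h2)

theorem Ptype_Fcore_extensions_normal :
    M ≤ normalizer ((H0 ⊔ FcomplKer M U H0 : Subgroup G) : Set G) ∧
    M ≤ normalizer ((fittingHallOf M ⊔ FcomplKer M U H0 : Subgroup G) : Set G) ∧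
    M ≤ normalizer ((H0 ⊔ ⁅U, U⁆ : Subgroup G) : Set G) ∧
    M ≤ normalizer ((H0 ⊔ ⁅FcomplKer M U H0, FcomplKer M U H0⁆ : Subgroup G) : Set G) :=
  ⟨P9.normal_sup hP h0 le_rfl (P9.U_norm_C hP h0) (P9.W1_norm_C hP h0),
    P9.normal_H_sup hP (P9.U_norm_C hP h0) (P9.W1_norm_C hP h0),
    P9.normal_sup hP h0 (P9.der_U_le_C hP h0) (normalizer_commutator_ge_left U U)
      (Cop.le_normalizer_commutator hP.nUW1 hP.nUW1),
    P9.normal_sup hP h0 (commutator_le_self _)
      (Cop.le_normalizer_commutator (P9.U_norm_C hP h0) (P9.U_norm_C hP h0))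
      (Cop.le_normalizer_commutator (P9.W1_norm_C hP h0) (P9.W1_norm_C hP h0))⟩

end group

end CfsgLib.FT
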