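import Mathlib
import Cfsg.Agent.Lib.FT.PF9a
import Cfsg.Agent.Lib.H9SylowNum

/-! Peterfalvi, section 9, (9.7). -/

set_option autoImplicit false

namespace CfsgLib.FT

open Cfsg Subgroup P9
open scoped commutatorElement

universe u

variable {G : Type u} [Group G]

/-- The conclusion of PF (9.7)(a); `a = |U : C_U(H1 / H0)|` is `(centMod H1 H0).relIndex U`. -/
structure NonGaloisData (M U W1 H0 H1 : Subgroup G) : Prop where
  H0_le : H0 ≤ H1
  le_H : H1 ≤ fittingHallOf M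
  card : H0.relIndex H1 = PtypePrime M H0
  normal : U ≤ normalizer (H1 : Set G)
  iSup_eq : (⨆ w ∈ W1, H1.map (MulAut.conj w).toMonoidHom) = fittingHallOf M
  one_lt : 1 < (centMod H1 H0).relIndex U
  dvd : (centMod H1 H0).relIndex U ∣ PtypePrime M H0 - 1
  cyclic : ∃ g ∈ U, zpowers g ⊔ (U ⊓ centMod H1 H0) = U
  embed : ∃ f : U →* Multiplicative (Fin (Nat.card W1 - 1) → ZMod ((centMod H1 H0).relIndex U)),
    f.ker = (FcomplKer M U H0).subgroupOf U

/-- The field structure of PF (9.7)(b). -/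
structure GaloisData (M U W1 W2 H0 : Subgroup G) (F : Type) [Field F] [Fintype F]
    (φ ψ : G → F) : Prop where
  card : Fintype.card F = PtypePrime M H0 ^ Nat.card W1
  surj : Set.SurjOn φ (fittingHallOf M : Set G) Set.univ
  add : ∀ x ∈ fittingHallOf M, ∀ y ∈ fittingHallOf M, φ (x * y) = φ x + φ y
  ker_add : ∀ x ∈ fittingHallOf M, φ x = 0 ↔ x ∈ H0
  mul : ∀ u ∈ U, ∀ v ∈ U, ψ (u * v) = ψ u * ψ v
  ne_zero : ∀ u ∈ U, ψ u ≠ 0
  ker_mul : ∀ u ∈ U, ψ u = 1 ↔ u ∈ FcomplKer M U H0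
  act : ∀ u ∈ U, ∀ x ∈ fittingHallOf M, φ (u * x * u⁻¹) = ψ u * φ x
  prime_field : ∀ x ∈ fittingHallOf M, x ∈ W2 ⊔ H0 ↔ φ x ^ PtypePrime M H0 = φ x

namespace P9

theorem relIndex_sup_mul [Finite G] {N A B : Subgroup G} (hA : N ≤ A)
    (hn : A ≤ normalizer (B : Set G)) :
    N.relIndex (A ⊔ B) * (N.relIndex (A ⊓ B)) = N.relIndex A * (N ⊓ B).relIndex B := by
  have h1 := relIndex_mul_relIndex N A (A ⊔ B) hA le_sup_left
  rw [H9.relIndex_sup_eq_of_le_normalizer le_rfl hn, ← inf_relIndex_right A B] at h1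
  have h2 := relIndex_mul_relIndex (N ⊓ B) (A ⊓ B) B (inf_le_inf_right _ hA) inf_le_right
  have h3 : (N ⊓ B).relIndex (A ⊓ B) = N.relIndex (A ⊓ B) := by
    rw [← inf_relIndex_right N (A ⊓ B), ← inf_relIndex_right (N ⊓ B) (A ⊓ B)]
    congr 1
    exact le_antisymm (inf_le_inf_right _ inf_le_left)
      (le_inf (le_inf inf_le_left (inf_le_right.trans inf_le_right)) inf_le_right)
  rw [← h1, ← h2, h3]; ring

theorem relIndex_map_conj' {N A : Subgroup G} {w : G} (hw : w ∈ normalizer (N : Set G)) :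
    N.relIndex (A.map (MulAut.conj w).toMonoidHom) = N.relIndex A := by
  conv_lhs => rw [← map_conj_eq_of_mem_normalizer hw]
  exact relIndex_map_map_of_injective _ _ (MulAut.conj w).injective

theorem le_map_conj' {N A : Subgroup G} {w : G} (hw : w ∈ normalizer (N : Set G)) (h : N ≤ A) :
    N ≤ A.map (MulAut.conj w).toMonoidHom :=
  (map_conj_eq_of_mem_normalizer hw).ge.trans (map_mono h)

theorem map_conj_le' {H A : Subgroup G} {w : G} (hw : w ∈ normalizer (H : Set G)) (h : A ≤ H) :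
    A.map (MulAut.conj w).toMonoidHom ≤ H :=
  (map_mono h).trans (map_conj_eq_of_mem_normalizer hw).le

theorem le_normalizer_map_conj' {U A : Subgroup G} {w : G} (hw : w ∈ normalizer (U : Set G))
    (h : U ≤ normalizer (A : Set G)) :
    U ≤ normalizer ((A.map (MulAut.conj w).toMonoidHom : Subgroup G) : Set G) := by
  rw [normalizer_map_conj]; exact le_map_conj' hw h

theorem centMod_map_conj {H H0 : Subgroup G} {w : G} (hw : w ∈ normalizer (H0 : Set G)) {g : G} :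
    g ∈ centMod (H.map (MulAut.conj w).toMonoidHom) H0 ↔ w⁻¹ * g * w ∈ centMod H H0 := by
  constructor
  · refine fun h => ⟨mul_mem (mul_mem (inv_mem hw) h.1) hw, fun x hx => ?_⟩
    have := conj_mem_of_mem_normalizer' hw (h.2 _ (conj_mem_map_conj hx))
    convert this using 1; group
  · refine fun h => ⟨by simpa [mul_assoc] using mul_mem (mul_mem hw h.1) (inv_mem hw), ?_⟩
    rintro _ ⟨x, hx, rfl⟩
    have := conj_mem_of_mem_normalizer hw (h.2 x hx)
    convert this using 1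
    simp only [MulEquiv.coe_toMonoidHom, MulAut.conj_apply]; group

/-- the index of a join of minimal invariant subgroups in an abelian section -/
theorem relIndex_biSup [Finite G] {ι : Type*} {N H U : Subgroup G} (hNH : N ≤ H)
    (hab : ⁅H, H⁆ ≤ N) (hU : U ≤ normalizer (N : Set G)) (S : ι → Subgroup G) {r : ℕ}
    (h1 : ∀ i, N ≤ S i) (h2 : ∀ i, S i ≤ H) (h3 : ∀ i, U ≤ normalizer (S i : Set G))
    (h4 : ∀ i, N.relIndex (S i) = r)
    (h5 : ∀ i, ∀ T : Subgroup G, N ≤ T → T ≤ S i → U ≤ normalizer (T : Set G) → T = N ∨ T = S i)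
    (s : Finset ι) : U ≤ normalizer ((N ⊔ s.sup S : Subgroup G) : Set G) ∧
      ∃ k ≤ s.card, N.relIndex (N ⊔ s.sup S) = r ^ k := by
  classical
  induction s using Finset.induction_on with
  | empty => exact ⟨by simpa using hU, 0, le_rfl, by simp⟩
  | insert i s hi ih =>
    obtain ⟨a1, k, hk, a2⟩ := ih
    have e : N ⊔ (insert i s).sup S = (N ⊔ s.sup S) ⊔ S i := by
      rw [Finset.sup_insert, sup_comm (S i), sup_assoc]
    have hT : N ⊔ s.sup S ≤ H := sup_le hNH (Finset.sup_le fun i _ => h2 i)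
    rw [e, Finset.card_insert_of_notMem hi]
    refine ⟨le_normalizer_sup' a1 (h3 i), ?_⟩
    rcases h5 i ((N ⊔ s.sup S) ⊓ S i) (le_inf le_sup_left (h1 i)) inf_le_right
      (le_normalizer_inf' a1 (h3 i)) with h | h
    · have := relIndex_sup_mul (N := N) (A := N ⊔ s.sup S) (B := S i) le_sup_left
        (hT.trans (Cop.le_normalizer_of_commutator_le (hab.trans (h1 i)) (h2 i)))
      rw [h, relIndex_self, mul_one, inf_eq_left.2 (h1 i), h4, a2] at this
      exact ⟨k + 1, by omega, this⟩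
    · rw [sup_eq_left.2 (h.ge.trans inf_le_left)]
      exact ⟨k, by omega, a2⟩

theorem eq_or_eq_of_relIndex_prime [Finite G] {N S T : Subgroup G} (h : (N.relIndex S).Prime)
    (h1 : N ≤ T) (h2 : T ≤ S) : T = N ∨ T = S := by
  rcases (Nat.dvd_prime h).1 (Dvd.intro _ (relIndex_mul_relIndex N T S h1 h2)) with h3 | h3
  · exact Or.inl (le_antisymm (relIndex_eq_one.1 h3) h1)
  · have := relIndex_mul_relIndex N T S h1 h2
    rw [h3, Nat.mul_eq_left h.ne_zero] at this
    exact Or.inr (le_antisymm h2 (relIndex_eq_one.1 this))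

theorem exists_gen_of_ker {U K : Subgroup G} {A : Type*} [Group A] [IsCyclic A] (f : U →* A)
    (hf : f.ker = K.subgroupOf U) : ∃ g ∈ U, zpowers g ⊔ (U ⊓ K) = U := by
  obtain ⟨⟨_, g, rfl⟩, hg⟩ := IsCyclic.exists_generator (α := f.range)
  refine ⟨g, g.2, le_antisymm (sup_le (zpowers_le.2 g.2) inf_le_left) fun u hu => ?_⟩
  obtain ⟨n, hn⟩ := mem_zpowers_iff.1 (hg ⟨f ⟨u, hu⟩, _, rfl⟩)
  have h1 : (g ^ n)⁻¹ * ⟨u, hu⟩ ∈ f.ker := by
    rw [MonoidHom.mem_ker, map_mul, map_inv, map_zpow, inv_mul_eq_one]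
    exact congrArg Subtype.val hn
  rw [hf] at h1
  have := mul_mem_sup (zpow_mem (mem_zpowers (g : G)) n)
    (show _ ∈ U ⊓ K from ⟨((g ^ n)⁻¹ * ⟨u, hu⟩ : U).2, mem_subgroupOf.1 h1⟩)
  simpa using this

theorem exists_secMod [Finite G] (p : ℕ) {U H N : Subgroup G} (hle : N ≤ H)
    (hH : U ≤ normalizer (H : Set G)) (hN : U ≤ normalizer (N : Set G)) (hab : ⁅H, H⁆ ≤ N)
    (hpow : ∀ a ∈ H, a ^ p ∈ N) :
    ∃ (A : Type u) (_ : AddCommGroup A) (_ : Module (ZMod p) A) (_ : Finite A)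
      (ρ : U →* Module.End (ZMod p) A) (π : G → A),
      (∀ a ∈ H, ∀ b ∈ H, π (a * b) = π a + π b) ∧ (∀ a ∈ H, π a = 0 ↔ a ∈ N) ∧
      (∀ (u : U), ∀ a ∈ H, π (u * a * (u : G)⁻¹) = ρ u (π a)) ∧ (∀ w, ∃ a ∈ H, π a = w) ∧
      (∀ a ∈ H, π a⁻¹ = -π a) ∧ (∀ a ∈ H, ∀ n : ℤ, π (a ^ n) = n • π a) ∧
      Nat.card A = N.relIndex H := by
  classical
  have hc' : _root_.commutator H ≤ N.subgroupOf H := by
    rw [subgroupOf, ← map_le_iff_le_comap, map_subtype_commutator]
    exact hab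
  have hn : (N.subgroupOf H).Normal := Normal.of_commutator_le H hc'
  have hcm : IsMulCommutative (H ⧸ N.subgroupOf H) :=
    Normal.quotient_commutative_iff_commutator_le.2 hc'
  let _ : CommGroup (H ⧸ N.subgroupOf H) := { mul_comm := hcm.is_comm.comm }
  have hp : ∀ x : H ⧸ N.subgroupOf H, x ^ p = 1 := by
    intro x
    obtain ⟨a, rfl⟩ := QuotientGroup.mk_surjective x
    rw [← QuotientGroup.mk_pow, QuotientGroup.eq_one_iff]
    exact hpow a a.2
  let _ : Module (ZMod p) (Additive (H ⧸ N.subgroupOf H)) :=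
    AddCommGroup.zmodModule fun x => by rw [← ofMul_toMul x, ← ofMul_pow, hp, ofMul_one]
  obtain ⟨ρ, hρ⟩ := H9.exists_rep_of_mulAut p (Cop.sectionAction U H N hH hN)
  let π : G → Additive (H ⧸ N.subgroupOf H) := fun a =>
    if h : a ∈ H then Additive.ofMul (QuotientGroup.mk ⟨a, h⟩) else 0
  have hπ : ∀ a (h : a ∈ H), π a = Additive.ofMul (QuotientGroup.mk ⟨a, h⟩) :=
    fun a h => dif_pos h
  refine ⟨_, _, _, inferInstance, ρ, π, fun a ha b hb => ?_, fun a ha => ?_, fun u a ha => ?_,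
    fun w => ?_, fun a ha => ?_, fun a ha n => ?_, rfl⟩
  · rw [hπ a ha, hπ b hb, hπ _ (mul_mem ha hb)]; rfl
  · rw [hπ a ha]; exact QuotientGroup.eq_one_iff (N := N.subgroupOf H) _
  · rw [hπ a ha, hπ _ (conj_mem_of_mem_normalizer (hH u.2) ha), hρ]; rfl
  · obtain ⟨a, ha⟩ := QuotientGroup.mk_surjective (Additive.toMul w)
    exact ⟨a, a.2, by rw [hπ a a.2]; exact congrArg Additive.ofMul ha⟩
  · rw [hπ a ha, hπ _ (inv_mem ha)]; rfl
  · rw [hπ a ha, hπ _ (zpow_mem ha n)]; rfl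

open scoped IsMulCommutative in
theorem exists_field_of_comm_irr {p : ℕ} [Fact p.Prime] {A : Type*} [AddCommGroup A]
    [Module (ZMod p) A] [Finite A] (S : Set (Module.End (ZMod p) A))
    (hcomm : ∀ x ∈ S, ∀ y ∈ S, x * y = y * x)
    (hirr : ∀ T : Submodule (ZMod p) A, (∀ f ∈ S, ∀ v ∈ T, f v ∈ T) → T = ⊥ ∨ T = ⊤)
    {s : A} (hs : s ≠ 0) :
    ∃ (F : Type) (_ : Field F) (_ : Fintype F) (_ : Algebra (ZMod p) F) (e : A ≃ₗ[ZMod p] F),
      e s = 1 ∧ ∀ f ∈ S, ∀ v, e (f v) = e (f s) * e v := by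
  classical
  let R := Algebra.adjoin (ZMod p) S
  have := Algebra.isMulCommutative_adjoin (ZMod p) hcomm
  have hc : ∀ a b : R, ∀ v, a.1 (b.1 v) = b.1 (a.1 v) := fun a b v =>
    LinearMap.congr_fun (congrArg Subtype.val (mul_comm a b)) v
  have hinj : ∀ r : R, r ≠ 0 → ∀ v, r.1 v = 0 → v = 0 := fun r hr v hv => by
    rcases hirr (LinearMap.ker r.1) (fun f hf w hw => by
      rw [LinearMap.mem_ker] at hw ⊢
      rw [hc r ⟨f, Algebra.subset_adjoin hf⟩, hw, map_zero]) with h | h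
    · exact (Submodule.mem_bot _).1 (h.le hv)
    · exact absurd (Subtype.ext (LinearMap.ker_eq_top.1 h)) hr
  let ev : R →ₗ[ZMod p] A := (LinearMap.applyₗ s).comp R.val.toLinearMap
  have hev : ∀ r, ev r = r.1 s := fun r => rfl
  have h1 : Function.Injective ev := (injective_iff_map_eq_zero ev).2 fun r hr => by
    by_contra h; exact hs (hinj r h s hr)
  have h2 : Function.Surjective ev := LinearMap.range_eq_top.1 ((hirr _ (by
    rintro f hf _ ⟨r, rfl⟩
    exact ⟨⟨f, Algebra.subset_adjoin hf⟩ * r, rfl⟩)).resolve_left fun h =>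
      hs ((Submodule.mem_bot _).1 (h.le ⟨1, rfl⟩)))
  have : Finite R := Finite.of_injective _ h1
  have : Nontrivial R := ⟨⟨1, 0, fun h => hs (by simpa [hev] using congrArg ev h)⟩⟩
  have : NoZeroDivisors R := ⟨fun {a b} h => by
    by_contra hne
    push Not at hne
    exact hs (hinj b hne.2 s (hinj a hne.1 _ (congrArg ev h)))⟩
  have : IsDomain R := NoZeroDivisors.to_isDomain R
  let _ := (Finite.isField_of_domain R).toField
  let _ := Fintype.ofFinite R
  have : CharP R p := charP_of_injective_algebraMap (algebraMap (ZMod p) R).injective p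
  obtain ⟨n, -, hn⟩ := FiniteField.card R p
  let _ := Fintype.ofFinite (GaloisField p n)
  let E := GaloisField.algEquivGaloisFieldOfFintype p n hn
  let ev' := LinearEquiv.ofBijective ev ⟨h1, h2⟩
  have h3 : ∀ r : R, ev'.symm (r.1 s) = r := fun r => ev'.symm_apply_apply r
  refine ⟨GaloisField p n, inferInstance, inferInstance, inferInstance,
    ev'.symm.trans E.toLinearEquiv, ?_, fun f hf v => ?_⟩
  · exact (congrArg E (h3 1)).trans (map_one E)
  · obtain ⟨r, rfl⟩ := h2 v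
    change E (ev'.symm ((⟨f, Algebra.subset_adjoin hf⟩ * r : R).1 s)) =
      E (ev'.symm ((⟨f, Algebra.subset_adjoin hf⟩ : R).1 s)) * E (ev'.symm (r.1 s))
    rw [h3, h3, h3, map_mul]

end P9

section group
variable [Finite G] {M U W W1 W2 : Subgroup G} (hP : OfTypeP M U W W1 W2)
  {H0 : Subgroup G} (h0 : PtypeKer M U H0)
include hP h0

theorem P9.iSup_conj_eq {S : Subgroup G} (h1 : H0 < S) (h2 : S ≤ fittingHallOf M)
    (h3 : U ≤ normalizer (S : Set G)) :
    (⨆ w ∈ W1, S.map (MulAut.conj w).toMonoidHom) = fittingHallOf M := by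
  have h4 : S ≤ ⨆ w ∈ W1, S.map (MulAut.conj w).toMonoidHom :=
    (map_conj_one S).ge.trans (le_iSup₂ (f := fun w (_ : w ∈ W1) =>
      S.map (MulAut.conj w).toMonoidHom) 1 (one_mem _))
  have h5 : (⨆ w ∈ W1, S.map (MulAut.conj w).toMonoidHom) ≤ fittingHallOf M :=
    iSup₂_le fun w hw => map_conj_le' (W1_norm_H hP hw) h2
  refine (h0.chief _ (h1.le.trans h4) h5 (le_of_HUW hP (Cop.le_normalizer_of_commutator_le
    ((P9.abelem h0).1.trans (h1.le.trans h4)) h5) (fun x hx => ?_) fun x hx => ?_)).resolve_left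
    fun h => h1.not_ge (h4.trans h.le)
  all_goals
    refine mem_normalizer_of_conj_mem fun y hy =>
      (?_ : (⨆ w ∈ W1, S.map (MulAut.conj w).toMonoidHom).map (MulAut.conj x).toMonoidHom ≤ _)
        (conj_mem_map_conj hy)
    rw [Subgroup.map_iSup]
    refine iSup_le fun w => ?_
    rw [Subgroup.map_iSup]
    refine iSup_le fun hw => ?_
  · rw [map_conj_eq_of_mem_normalizer (le_normalizer_map_conj' (hP.nUW1 hw) h3 hx)]
    exact le_iSup₂ (f := fun w (_ : w ∈ W1) => S.map (MulAut.conj w).toMonoidHom) w hw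
  · rw [← map_conj_mul]
    exact le_iSup₂ (f := fun w (_ : w ∈ W1) => S.map (MulAut.conj w).toMonoidHom) _ (mul_mem hx hw)

theorem P9.mem_C_of_forall {S : Subgroup G} (h2 : S ≤ fittingHallOf M)
    (h : (⨆ w ∈ W1, S.map (MulAut.conj w).toMonoidHom) = fittingHallOf M) {u : G} (hu : u ∈ U)
    (hc : ∀ w ∈ W1, w⁻¹ * u * w ∈ centMod S H0) : u ∈ FcomplKer M U H0 := by
  have h1 := zpowers_le.2 (h0.normal (U_le hP hu))
  refine ⟨hu, zpowers_le.1 ((le_centMod_iff h1).2 ?_)⟩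
  rw [← h, iSup_subtype']
  exact CommCalc.commutator_iSup_left_le (fun w => ((map_conj_le' (W1_norm_H hP w.2) h2).trans
    (Fcore_le M)).trans h0.normal) fun w => (le_centMod_iff h1).1 (zpowers_le.2
      ((centMod_map_conj (h0.normal (hP.W1_le w.2))).2 (hc w w.2)))

theorem P9.nonGalois (hq : (Nat.card W1).Prime) (hGal : ¬ TypePGalois M U H0) :
    ∃ H1, NonGaloisData M U W1 H0 H1 := by
  classical
  have hp := P9.prime h0
  have hUN := (U_le hP).trans h0.normal
  obtain ⟨K, k1, k2, k3, k4, k5⟩ : ∃ K : Subgroup G, H0 ≤ K ∧ K ≤ fittingHallOf M ∧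
      U ≤ normalizer (K : Set G) ∧ K ≠ H0 ∧ K ≠ fittingHallOf M := by
    unfold TypePGalois at hGal
    push Not at hGal
    exact hGal
  obtain ⟨S, ⟨s1, s2, s3⟩, hmin⟩ := exists_minimal_of_wellFoundedLT
    (fun S : Subgroup G => H0 < S ∧ S ≤ K ∧ U ≤ normalizer (S : Set G))
    ⟨K, lt_of_le_of_ne k1 k4.symm, le_rfl, k3⟩
  have hS := s2.trans k2
  have hsup := P9.iSup_conj_eq hP h0 s1 hS s3
  have := Fintype.ofFinite W1
  obtain ⟨-, k, -, hk⟩ := relIndex_biSup h0.lt.le (P9.abelem h0).1 hUN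
    (fun w : W1 => S.map (MulAut.conj (w : G)).toMonoidHom) (r := H0.relIndex S)
    (fun w => le_map_conj' (h0.normal (hP.W1_le w.2)) s1.le)
    (fun w => map_conj_le' (W1_norm_H hP w.2) hS)
    (fun w => le_normalizer_map_conj' (hP.nUW1 w.2) s3)
    (fun w => relIndex_map_conj' (h0.normal (hP.W1_le w.2))) (fun w T t1 t2 t3 => by
      have hw := h0.normal (hP.W1_le (inv_mem w.2))
      refine or_iff_not_imp_left.2 fun h => le_antisymm t2 ?_
      have t4 : T.map (MulAut.conj (w : G)⁻¹).toMonoidHom ≤ S :=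
        (map_mono t2).trans (map_conj_inv_map_conj _ _).le
      rw [← map_conj_map_conj_inv (w : G) T]
      refine map_mono (hmin ⟨lt_of_le_of_ne (le_map_conj' hw t1) fun h' => h ?_, t4.trans s2,
        le_normalizer_map_conj' (hP.nUW1 (inv_mem w.2)) t3⟩ t4)
      rw [← map_conj_map_conj_inv (w : G) T, ← h', map_conj_eq_of_mem_normalizer
        (h0.normal (hP.W1_le w.2))]) Finset.univ
  rw [Finset.sup_univ_eq_iSup, ← iSup_subtype' (f := fun w (_ : w ∈ W1) =>
    S.map (MulAut.conj w).toMonoidHom), hsup, sup_eq_right.2 h0.lt.le,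
    (P9.facts hP h0).2.2.2] at hk
  have hcard : H0.relIndex S = PtypePrime M H0 := by
    have h1 := relIndex_mul_relIndex H0 S _ s1.le hS
    rw [(P9.facts hP h0).2.2.2] at h1
    obtain ⟨d, -, hd⟩ := (Nat.dvd_prime_pow hp).1 (Dvd.intro _ h1)
    rw [hd, ← pow_mul] at hk
    rcases (Nat.dvd_prime hq).1 (Dvd.intro _ (Nat.pow_right_injective hp.two_le hk).symm) with h | h
    · rw [hd, h, pow_one]
    · rw [hd, h, Nat.mul_eq_left (pow_pos hp.pos _).ne'] at h1
      exact absurd (le_antisymm k2 ((relIndex_eq_one.1 h1).trans s2)) k5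
  have hn : (H0.subgroupOf S).Normal := (normal_subgroupOf_iff_le_normalizer s1.le).2
    ((hS.trans (Fcore_le M)).trans h0.normal)
  have := Fact.mk hp
  have hcyc : IsCyclic (S ⧸ H0.subgroupOf S) := isCyclic_of_prime_card hcard
  have hcyc' : IsCyclic (MulAut (S ⧸ H0.subgroupOf S)) := by
    have : Fact (Nat.card (S ⧸ H0.subgroupOf S)).Prime := ⟨by rw [← hcard] at hp; exact hp⟩
    exact isCyclic_of_injective (IsCyclic.mulAutMulEquiv _).toMonoidHom
      (IsCyclic.mulAutMulEquiv _).injective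
  let φ := Cop.sectionAction U S H0 s3 hUN
  have hker : φ.ker = (centMod S H0).subgroupOf U := by
    ext a
    rw [Cop.mem_ker_sectionAction, mem_subgroupOf]
    refine ⟨fun h => ⟨hUN a.2, fun g hg => ?_⟩, fun h g hg => ?_⟩
    · rw [← inv_mem_iff, ← commutatorElement_def, commutatorElement_inv]; exact h g hg
    · rw [← inv_mem_iff, commutatorElement_inv]; exact h.2 g hg
  have ha : (centMod S H0).relIndex U = Nat.card φ.range := by rw [relIndex, ← hker, index_ker]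
  refine ⟨S, s1.le, hS, hcard, s3, hsup, ?_, ?_, exists_gen_of_ker φ hker, ?_⟩
  · refine lt_of_le_of_ne (Nat.one_le_iff_ne_zero.2 index_ne_zero_of_finite)
      fun h => s1.not_ge fun x hx => (P9.facts hP h0).1 x (hS hx) fun u hu => ?_
    exact (relIndex_eq_one.1 h.symm hu).2 x hx
  · rw [ha, ← Nat.totient_prime hp, ← hcard]
    exact (card_subgroup_dvd_card _).trans (IsCyclic.card_mulAut _).dvd
  · rw [ha]
    let χ : U →* Multiplicative (ZMod (Nat.card φ.range)) :=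
      (zmodCyclicMulEquiv (inferInstance : IsCyclic φ.range)).symm.toMonoidHom.comp φ.rangeRestrict
    have hχ : ∀ u, χ u = 1 ↔ (u : G) ∈ centMod S H0 := fun u => by
      rw [← mem_subgroupOf, ← hker, ← MonoidHom.ker_rangeRestrict]
      exact MulEquiv.map_eq_one_iff (zmodCyclicMulEquiv (inferInstance : IsCyclic φ.range)).symm
    let c : W1 → U →* U := fun w =>
      (U.normalizerMonoidHom ⟨(w : G)⁻¹, inv_mem (hP.nUW1 w.2)⟩).toMonoidHom
    have hc : ∀ w u, (c w u : G) = (w : G)⁻¹ * u * w := fun w u => by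
      change (w : G)⁻¹ * u * (w : G)⁻¹⁻¹ = _
      rw [inv_inv]
    have hD : ∀ u, ∏ w, χ (c w u) = 1 := by
      let D : U →* Multiplicative (ZMod (Nat.card φ.range)) := ∏ w, χ.comp (c w)
      have h1 : ∀ u, D u = ∏ w, χ (c w u) := fun u => MonoidHom.finset_prod_apply _ _ _
      have h2 : ⁅U, W1⁆ ≤ D.ker.map U.subtype := commutator_le.2 fun u hu w hw => by
        refine ⟨⟨u, hu⟩ * (c ⟨w, hw⟩⁻¹ ⟨u, hu⟩)⁻¹, ?_, by simp [hc, commutatorElement_def, mul_assoc]⟩
        rw [SetLike.mem_coe, MonoidHom.mem_ker, map_mul, map_inv, mul_inv_eq_one, h1, h1]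
        refine Fintype.prod_equiv (Equiv.mulLeft ⟨w, hw⟩) _ _ fun v => congrArg χ (Subtype.ext ?_)
        simp [hc, mul_assoc]
      rw [commutator_U_W1 hP le_rfl hP.nUW1] at h2
      intro u
      obtain ⟨v, hv, e⟩ := h2 u.2
      rw [← h1, ← show v = u from Subtype.ext e]; exact hv
    let e : Fin (Nat.card W1 - 1) ≃ {w : W1 // w ≠ 1} := Fintype.equivOfCardEq (by
      simp [Fintype.card_subtype_compl])
    refine ⟨(MulEquiv.piMultiplicative _).symm.toMonoidHom.comp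
      (Pi.monoidHom fun i => χ.comp (c (e i))), ?_⟩
    ext u
    rw [MonoidHom.mem_ker, MonoidHom.comp_apply, MulEquiv.coe_toMonoidHom, MulEquiv.map_eq_one_iff,
      funext_iff, mem_subgroupOf]
    refine ⟨fun h => P9.mem_C_of_forall hP h0 hS hsup u.2 fun w hw => ?_, fun h i => ?_⟩
    · have h1 : ∀ w : W1, w ≠ 1 → χ (c w u) = 1 := fun w hw => by
        have : χ (c (e (e.symm ⟨w, hw⟩)) u) = 1 := h (e.symm ⟨w, hw⟩)
        rwa [Equiv.apply_symm_apply] at this
      rw [← hc ⟨w, hw⟩ u, ← hχ]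
      by_cases h2 : (⟨w, hw⟩ : W1) = 1
      · have := hD u
        rwa [Finset.prod_eq_single 1 (fun b _ hb => h1 b hb) (by simp), ← h2] at this
      · exact h1 _ h2
    · refine (hχ _).2 ?_
      have := conj_mem_of_mem_normalizer' (P9.W1_norm_C hP h0 (e i).1.2) h
      rw [hc]
      exact ⟨this.2.1, fun x hx => this.2.2 x (hS hx)⟩

theorem P9.galoisData (hGal : TypePGalois M U H0) :
    ∃ (F : Type) (_ : Field F) (_ : Fintype F) (φ ψ : G → F), GaloisData M U W1 W2 H0 F φ ψ := by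
  classical
  have hp := P9.prime h0
  have := Fact.mk hp
  have hUN := (U_le hP).trans h0.normal
  obtain ⟨hab, hpow⟩ := P9.abelem h0
  obtain ⟨-, -, f3, f4⟩ := P9.facts hP h0
  set H := fittingHallOf M with hH
  set p := PtypePrime M H0
  obtain ⟨A, _, _, _, ρ, π, π1, π2, π3, π4, π5, π6, π7⟩ :=
    exists_secMod p h0.lt.le (U_norm_H hP) hUN hab hpow
  have hker : ∀ u : U, ρ u = 1 ↔ (u : G) ∈ FcomplKer M U H0 := fun u => by
    refine ⟨fun h => ⟨u.2, hUN u.2, fun a ha => ?_⟩, fun h => LinearMap.ext fun v => ?_⟩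
    · have h1 := conj_mem_of_mem_normalizer (U_norm_H hP u.2) ha
      rw [← π2 _ (mul_mem h1 (inv_mem ha)), π1 _ h1 _ (inv_mem ha), π3 u a ha, h, π5 a ha]
      simp
    · obtain ⟨a, ha, rfl⟩ := π4 v
      have h1 := conj_mem_of_mem_normalizer (U_norm_H hP u.2) ha
      have := (π2 _ (mul_mem h1 (inv_mem ha))).2 (h.2.2 a ha)
      rwa [π1 _ h1 _ (inv_mem ha), π3 u a ha, π5 a ha, add_neg_eq_zero] at this
  obtain ⟨s, hs⟩ := (isCyclic_iff_exists_zpowers_eq_top.1 hP.W2_cyclic)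
  have hs' : zpowers (s : G) = W2 := by
    rw [← W2.subtype_apply, ← MonoidHom.map_zpowers, hs, ← MonoidHom.range_eq_map, range_subtype]
  have hsH := hP.W2_le_H s.2
  have hs0 : π s ≠ 0 := fun h => hp.ne_one (f3.symm.trans (relIndex_eq_one.2
    (hs'.ge.trans (zpowers_le.2 ((π2 _ hsH).1 h)))))
  obtain ⟨F, _, _, _, e, e1, e2⟩ := exists_field_of_comm_irr (Set.range ρ) (by
    rintro _ ⟨x, rfl⟩ _ ⟨y, rfl⟩
    rw [← map_mul, ← map_mul, ← mul_inv_cancel_right (x * y) (y * x)⁻¹, map_mul, inv_inv,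
      (hker _).2 (P9.der_U_le_C hP h0 (by
        simpa [commutatorElement_def, mul_assoc] using commutator_mem_commutator x.2 y.2)),
      one_mul]) (fun T hT => by
      let K : Subgroup G :=
        { carrier := {a | a ∈ H ∧ π a ∈ T}
          one_mem' := ⟨one_mem _, by rw [(π2 1 (one_mem _)).2 (one_mem _)]; exact zero_mem _⟩
          mul_mem' := fun {a b} ha hb => ⟨mul_mem ha.1 hb.1, by
            rw [π1 a ha.1 b hb.1]; exact add_mem ha.2 hb.2⟩
          inv_mem' := fun {a} ha => ⟨inv_mem ha.1, by rw [π5 a ha.1]; exact neg_mem ha.2⟩ }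
      refine (hGal K (fun a ha => ⟨h0.lt.le ha, by
        rw [(π2 a (h0.lt.le ha)).2 ha]; exact zero_mem _⟩) (fun a ha => ha.1) fun u hu =>
        mem_normalizer_of_conj_mem fun a ha => ⟨conj_mem_of_mem_normalizer (U_norm_H hP hu) ha.1,
          by rw [π3 ⟨u, hu⟩ a ha.1]; exact hT _ ⟨_, rfl⟩ _ ha.2⟩).imp
        (fun h => eq_bot_iff.2 fun v hv => ?_) fun h => eq_top_iff.2 fun v _ => ?_
      · obtain ⟨a, ha, rfl⟩ := π4 v
        exact (π2 a ha).2 (h.le ⟨ha, hv⟩)
      · obtain ⟨a, ha, rfl⟩ := π4 v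
        exact (h.ge ha).2) hs0
  have : CharP F p := charP_of_injective_algebraMap (algebraMap (ZMod p) F).injective p
  let ψ : G → F := fun u => if h : u ∈ U then e (ρ ⟨u, h⟩ (π s)) else 0
  have hψ : ∀ u (h : u ∈ U), ψ u = e (ρ ⟨u, h⟩ (π s)) := fun u h => dif_pos h
  have hmul : ∀ u ∈ U, ∀ v ∈ U, ψ (u * v) = ψ u * ψ v := fun u hu v hv => by
    rw [hψ u hu, hψ v hv, hψ _ (mul_mem hu hv), ← e2 _ ⟨_, rfl⟩, ← Module.End.mul_apply, ← map_mul]
    rfl
  refine ⟨F, inferInstance, inferInstance, fun x => e (π x), ψ, ?_, fun y _ => ?_,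
    fun x hx y hy => by rw [π1 x hx y hy, map_add], fun x hx => by
      rw [LinearEquiv.map_eq_zero_iff, π2 x hx], hmul, fun u hu h => ?_, fun u hu => ?_,
    fun u hu x hx => by rw [π3 ⟨u, hu⟩ x hx, e2 _ ⟨_, rfl⟩, hψ u hu], fun x hx => ?_⟩
  · rw [← f4, ← Nat.card_eq_fintype_card, ← Nat.card_congr e.toEquiv, π7]
  · obtain ⟨a, ha, h⟩ := π4 (e.symm y)
    exact ⟨a, ha, by simp [h]⟩
  · have h1 := hmul u hu _ (inv_mem hu)
    rw [h, zero_mul, mul_inv_cancel, hψ 1 (one_mem _), show (⟨1, one_mem _⟩ : U) = 1 from rfl,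
      map_one, Module.End.one_apply, e1] at h1
    exact one_ne_zero h1
  · rw [← hker ⟨u, hu⟩, hψ u hu]
    refine ⟨fun h => LinearMap.ext fun v => e.injective ?_, fun h => by rw [h]; exact e1⟩
    rw [e2 _ ⟨_, rfl⟩, h, one_mul]; rfl
  · rw [← Subfield.mem_bot_iff_pow_eq_self, mem_bot_iff_intCast p]
    have h1 : ∀ n : ℤ, e (π (s ^ n)) = n := fun n => by
      rw [π6 _ hsH, map_zsmul, e1, zsmul_one]
    constructor
    · intro h
      obtain ⟨a, ha, b, hb, rfl⟩ := (mem_sup_iff_of_le_normalizer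
        ((hP.W2_le_H.trans (Fcore_le M)).trans h0.normal)).1 h
      obtain ⟨n, rfl⟩ := mem_zpowers_iff.1 (hs'.ge ha)
      exact ⟨n, by rw [π1 _ (zpow_mem hsH n) _ (h0.lt.le hb), (π2 _ (h0.lt.le hb)).2 hb, add_zero, h1]⟩
    · rintro ⟨n, hn⟩
      have h2 := zpow_mem hsH n
      have h3 : (s ^ n : G)⁻¹ * x ∈ H0 := by
        rw [← π2 _ (mul_mem (inv_mem h2) hx), π1 _ (inv_mem h2) _ hx, π5 _ h2, neg_add_eq_zero]
        exact e.injective ((h1 n).trans hn)
      simpa using mul_mem_sup (zpow_mem s.2 n) h3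

theorem P9.mem_C_of_commutator {v : G} (hv : v ∈ U) (h : ∀ w ∈ W1, ⁅v, w⁆ ∈ FcomplKer M U H0) :
    v ∈ FcomplKer M U H0 := by
  have := hP.U_nilpotent
  obtain ⟨n, hn, c, hc, rfl⟩ := Cop.exists_mul_centralizer_of_commutator_mem (P9.W1_norm_C hP h0)
    ((coprime_W1_U hP).coprime_dvd_right (card_dvd_of_le P9.C_le))
    (Or.inr (isSolvable_of_le (K := U) inferInstance P9.C_le)) h
  rwa [mem_bot.1 ((U_cent_W1 hP).le ⟨(U.mul_mem_cancel_left (P9.C_le hn)).1 hv, hc⟩), mul_one]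

theorem P9.galois (hGal : TypePGalois M U H0) :
    (∃ g ∈ U, zpowers g ⊔ FcomplKer M U H0 = U) ∧
    ((FcomplKer M U H0).relIndex U).Coprime (PtypePrime M H0 - 1) ∧
    (FcomplKer M U H0).relIndex U ∣
      (PtypePrime M H0 ^ Nat.card W1 - 1) / (PtypePrime M H0 - 1) := by
  obtain ⟨F, _, _, φ, ψ, hF⟩ := P9.galoisData hP h0 hGal
  have hp := P9.prime h0
  have := Fact.mk hp
  let f : U →* Fˣ := MonoidHom.mk' (fun u => Units.mk0 (ψ u) (hF.ne_zero u u.2))
    fun a b => Units.ext (hF.mul a a.2 b b.2)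
  have hf : f.ker = (FcomplKer M U H0).subgroupOf U := by
    ext u
    rw [MonoidHom.mem_ker, mem_subgroupOf, ← hF.ker_mul u u.2, Units.ext_iff]; rfl
  have hu : (FcomplKer M U H0).relIndex U = Nat.card f.range := by rw [relIndex, ← hf, index_ker]
  have hchar : CharP F (PtypePrime M H0) := by
    obtain ⟨r, hr⟩ := CharP.exists F
    obtain ⟨n, hr', hn⟩ := FiniteField.card F r
    rwa [(Nat.prime_dvd_prime_iff_eq hp hr').1 (hp.dvd_of_dvd_pow (hn ▸ hF.card ▸
      dvd_pow_self _ Nat.card_pos.ne'))]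
  have hcop : ((FcomplKer M U H0).relIndex U).Coprime (PtypePrime M H0 - 1) := by
    refine Nat.coprime_of_dvd fun r hr h1 h2 => ?_
    have := Fact.mk hr
    obtain ⟨⟨_, v, rfl⟩, hv⟩ := exists_prime_orderOf_dvd_card' r (hu ▸ h1)
    have h3 : ψ v ^ PtypePrime M H0 = ψ v := by
      have h4 : f v ^ (PtypePrime M H0 - 1) = 1 := by
        rw [← hv, ← Subgroup.orderOf_coe] at h2
        exact orderOf_dvd_iff_pow_eq_one.1 h2
      have h5 : ψ v ^ (PtypePrime M H0 - 1) = 1 := congrArg Units.val h4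
      rw [← Nat.sub_add_cancel hp.one_le, pow_succ, h5, one_mul]
    obtain ⟨n, hn⟩ := (mem_bot_iff_intCast _ F).1
      ((Subfield.mem_bot_iff_pow_eq_self F _).2 h3)
    have h0' : φ 1 = 0 := (hF.ker_add 1 (one_mem _)).2 (one_mem _)
    have hinv : ∀ x ∈ fittingHallOf M, φ x⁻¹ = -φ x := fun x hx => by
      rw [eq_neg_iff_add_eq_zero, ← hF.add _ (inv_mem hx) _ hx, inv_mul_cancel, h0']
    have hz : ∀ x ∈ fittingHallOf M, ∀ m : ℤ, φ (x ^ m) = m * φ x := fun x hx m => by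
      induction m using Int.induction_on with
      | zero => simp [h0']
      | succ m ih => rw [zpow_add_one, hF.add _ (zpow_mem hx _) _ hx, ih]; push_cast; ring
      | pred m ih =>
        rw [zpow_sub_one, hF.add _ (zpow_mem hx _) _ (inv_mem hx), ih, hinv x hx]; push_cast; ring
    have key : ∀ x ∈ fittingHallOf M, v * x * (v : G)⁻¹ * (x ^ n)⁻¹ ∈ H0 := fun x hx => by
      have h4 := conj_mem_of_mem_normalizer (U_norm_H hP v.2) hx
      rw [← hF.ker_add _ (mul_mem h4 (inv_mem (zpow_mem hx n))), hF.add _ h4 _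
        (inv_mem (zpow_mem hx n)), hF.act v v.2 x hx, hinv _ (zpow_mem hx n), hz x hx, hn,
        add_neg_cancel]
    have h4 : (v : G) ∈ FcomplKer M U H0 := P9.mem_C_of_commutator hP h0 v.2 fun w hw => by
      have h5 := conj_mem_of_mem_normalizer (hP.nUW1 hw) v.2
      have h6 : ψ (w * v * w⁻¹) = ψ v := by
        obtain ⟨x, hx, hx1⟩ := hF.surj (Set.mem_univ (1 : F))
        have h7 := conj_mem_of_mem_normalizer (h0.normal (hP.W1_le hw))
          (key _ (conj_mem_of_mem_normalizer' (W1_norm_H hP hw) hx))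
        have h8 : w * (v * (w⁻¹ * x * w) * (v : G)⁻¹ * ((w⁻¹ * x * w) ^ n)⁻¹) * w⁻¹ =
            w * v * w⁻¹ * x * (w * v * w⁻¹)⁻¹ * (x ^ n)⁻¹ := by
          have := conj_zpow (a := w⁻¹) (b := x) (i := n)
          rw [inv_inv] at this
          rw [this]; group
        have h9 := conj_mem_of_mem_normalizer (U_norm_H hP h5) hx
        rw [h8, ← hF.ker_add _ (mul_mem h9 (inv_mem (zpow_mem hx n))), hF.add _ h9 _
          (inv_mem (zpow_mem hx n)), hF.act _ h5 x hx, hinv _ (zpow_mem hx n), hz x hx, hn, hx1,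
          mul_one, mul_one, add_neg_eq_zero] at h7
        exact h7
      have h7 : ⁅(v : G), w⁆ * (w * v * w⁻¹) = v := by rw [commutatorElement_def]; group
      have h8 : ⁅(v : G), w⁆ ∈ U := (U.mul_mem_cancel_right h5).1 (h7.symm ▸ v.2)
      have h9 := hF.mul _ h8 _ h5
      rw [h7, h6, eq_comm, mul_eq_right₀ (hF.ne_zero _ v.2)] at h9
      exact (hF.ker_mul _ h8).1 h9
    have h5 : (⟨f v, v, rfl⟩ : f.range) = 1 := Subtype.ext (hf.ge h4)
    rw [h5, orderOf_one] at hv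
    exact hr.ne_one hv.symm
  refine ⟨?_, hcop, ?_⟩
  · obtain ⟨g, hg, h⟩ := exists_gen_of_ker f hf
    exact ⟨g, hg, by rwa [inf_eq_right.2 P9.C_le] at h⟩
  · have h1 : (FcomplKer M U H0).relIndex U ∣ PtypePrime M H0 ^ Nat.card W1 - 1 := by
      rw [hu, ← hF.card, ← Nat.card_eq_fintype_card, ← Nat.card_units]
      exact card_subgroup_dvd_card _
    have h2 := Nat.sub_one_dvd_pow_sub_one (PtypePrime M H0) (Nat.card W1)
    exact hcop.dvd_of_dvd_mul_left (by rwa [Nat.mul_div_cancel' h2])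

end group

section group
variable [Finite G] (hG : IsMinSimpleOddOrder G) {M : Subgroup G} (hM : IsCoatom M)
  {U W W1 W2 : Subgroup G} (hP : OfTypeP M U W W1 W2) (h5 : FTtype M ≠ 5)
  {H0 : Subgroup G} (h0 : PtypeKer M U H0)
include hG hM hP h5 h0

/-- PF (9.7)(a). -/
theorem typeP_Galois_Pn (hGal : ¬ TypePGalois M U H0) : ∃ H1, NonGaloisData M U W1 H0 H1 :=
  P9.nonGalois hP h0 (compl_of_typeII_IV hG hM hP h5).W1_prime hGal

/-- PF (9.7)(b). -/
theorem typeP_Galois_P (hGal : TypePGalois M U H0) :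
    (∃ (F : Type) (_ : Field F) (_ : Fintype F) (φ ψ : G → F), GaloisData M U W1 W2 H0 F φ ψ) ∧
    (∃ g ∈ U, zpowers g ⊔ FcomplKer M U H0 = U) ∧
    ((FcomplKer M U H0).relIndex U).Coprime (PtypePrime M H0 - 1) ∧
    (FcomplKer M U H0).relIndex U ∣
      (PtypePrime M H0 ^ Nat.card W1 - 1) / (PtypePrime M H0 - 1) :=
  ⟨P9.galoisData hP h0 hGal, P9.galois hP h0 hGal⟩

end group

end CfsgLib.FT
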