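import Mathlib
import Cfsg.Agent.Lib.FT.PF9b
import Cfsg.Agent.Lib.FT.PF7
import Cfsg.Agent.Lib.FT.PF8

/-! Peterfalvi, section 9: (9.8), (9.9), (9.10). -/

set_option autoImplicit false

namespace CfsgLib.FT

open Cfsg Subgroup
open scoped commutatorElement ComplexConjugate

universe u

variable {G : Type u} [Group G]

namespace P9

theorem inf_sup_eq_of_le {A B T : Subgroup G} (hAT : A ≤ T) (hn : B ≤ normalizer (A : Set G)) :
    T ⊓ (A ⊔ B) = A ⊔ (T ⊓ B) := by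
  refine le_antisymm (fun x hx => ?_) (sup_le (le_inf hAT le_sup_left)
    (inf_le_inf_left _ le_sup_right))
  obtain ⟨a, ha, b, hb, rfl⟩ := (mem_sup_iff_of_le_normalizer' hn).1 hx.2
  exact mul_mem_sup ha ⟨(T.mul_mem_cancel_left (hAT ha)).1 hx.1, hb⟩

theorem relIndex_sup_of_le [Finite G] {A B T : Subgroup G} (hAT : A ≤ T)
    (hn : B ≤ normalizer (A : Set G)) : T.relIndex (A ⊔ B) = T.relIndex B := by
  have h1 := card_inf_mul_relIndex T (A ⊔ B)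
  have h2 := card_inf_mul_relIndex T B
  have h3 := card_sup_mul_card_inf hn
  have h4 := card_sup_mul_card_inf (H := T ⊓ B) (N := A) (inf_le_right.trans hn)
  have e : T ⊓ B ⊓ A = B ⊓ A := by
    rw [inf_assoc, inf_eq_right]; exact inf_le_right.trans hAT
  rw [e, sup_comm] at h4
  rw [inf_sup_eq_of_le hAT hn] at h1
  rw [sup_comm] at h3
  have hp : 0 < Nat.card ↥(A ⊔ T ⊓ B) * Nat.card ↥(B ⊓ A) := Nat.mul_pos Nat.card_pos Nat.card_pos
  refine Nat.eq_of_mul_eq_mul_left hp ?_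
  calc _ = Nat.card ↥(A ⊔ T ⊓ B) * T.relIndex (A ⊔ B) * Nat.card ↥(B ⊓ A) := by ring
    _ = Nat.card B * Nat.card A := by rw [h1, h3]
    _ = Nat.card ↥(T ⊓ B) * Nat.card A * T.relIndex B := by rw [← h2]; ring
    _ = _ := by rw [← h4]

/-- `|A B : A V| = |B : V|` when `A ⊓ B = 1`. -/
theorem relIndex_sup_sup [Finite G] {A B V : Subgroup G} (hV : V ≤ B)
    (hn : B ≤ normalizer (A : Set G)) (hd : A ⊓ B = ⊥) :
    (A ⊔ V).relIndex (A ⊔ B) = V.relIndex B := by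
  rw [relIndex_sup_of_le le_sup_left hn, ← inf_relIndex_right, inf_comm, sup_comm]
  congr 1
  refine le_antisymm (fun x hx => ?_) (le_inf hV le_sup_left)
  obtain ⟨v, hv, a, ha, rfl⟩ := (mem_sup_iff_of_le_normalizer (hV.trans hn)).1 hx.2
  have : a ∈ A ⊓ B := ⟨ha, (B.mul_mem_cancel_left (hV hv)).1 hx.1⟩
  rw [hd, mem_bot] at this
  rwa [this, mul_one]

theorem commutator_sup_sup_le {A B N : Subgroup G} (hA : A ≤ normalizer (N : Set G))
    (hB : B ≤ normalizer (N : Set G)) (h1 : ⁅A, A⁆ ≤ N) (h2 : ⁅A, B⁆ ≤ N) (h3 : ⁅B, B⁆ ≤ N) :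
    ⁅A ⊔ B, A ⊔ B⁆ ≤ N :=
  CommCalc.commutator_sup_left_le hA hB (CommCalc.commutator_sup_right_le hA hB h1 h2)
    (CommCalc.commutator_sup_right_le hA hB (commutator_comm A B ▸ h2) h3)

variable [Fintype G]

theorem lin_mem_cfker {H : Subgroup G} {θ : G → ℂ} (hθ : IsLin H θ) {x : G} :
    x ∈ cfker H θ ↔ x ∈ H ∧ θ x = 1 := by
  rw [hθ.isChar.mem_cfker, hθ.one]

theorem lin_mem_inertia {H : Subgroup G} {θ : G → ℂ} (hθ : IsLin H θ) {x : G}
    (hx : x ∈ normalizer (H : Set G)) :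
    x ∈ inertia θ ↔ ∀ h ∈ H, x * h * x⁻¹ * h⁻¹ ∈ cfker H θ := by
  rw [mem_inertia]
  constructor
  · intro h g hg
    have h1 := conj_mem_of_mem_normalizer hx hg
    rw [lin_mem_cfker hθ, hθ.map_mul h1 (inv_mem hg), h g, ← hθ.map_mul hg (inv_mem hg),
      mul_inv_cancel, hθ.one]
    exact ⟨mul_mem h1 (inv_mem hg), rfl⟩
  · intro h g
    by_cases hg : g ∈ H
    · rw [← cfker_mul_left (h g hg) g]; congr 1; group
    · rw [CF_zero hθ.mem_CF hg, CF_zero hθ.mem_CF]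
      intro h1
      exact hg (by simpa [mul_assoc] using conj_mem_of_mem_normalizer' hx h1)

theorem inertia_normalizes_cfker {H : Subgroup G} {θ : G → ℂ} {x : G}
    (hx : x ∈ normalizer (H : Set G)) (hI : x ∈ inertia θ) :
    x ∈ normalizer (cfker H θ : Set G) :=
  mem_normalizer_of_conj_mem fun k hk => ⟨conj_mem_of_mem_normalizer hx hk.1, fun y => by
    have e : x * k * x⁻¹ * y = x * (k * (x⁻¹ * y * x)) * x⁻¹ := by group
    rw [e, mem_inertia.1 hI, hk.2, ← mem_inertia.1 hI (x⁻¹ * y * x)]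
    congr 1; group⟩

theorem mem_inertia_cfConjg {θ : G → ℂ} {x v : G} :
    v ∈ inertia (cfConjg x θ) ↔ x⁻¹ * v * x ∈ inertia θ := by
  simp only [mem_inertia]
  constructor
  · intro h g
    have := h (x * g * x⁻¹)
    simp only [cfConjg, LinearMap.coe_mk, AddHom.coe_mk] at this
    convert this using 2 <;> group
  · intro h g
    have := h (x⁻¹ * g * x)
    simp only [cfConjg, LinearMap.coe_mk, AddHom.coe_mk]
    convert this using 2; group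

theorem exists_lin_under {K H H0 : Subgroup G} (hHK : H ≤ K) (hn : K ≤ normalizer (H : Set G))
    (h0 : H0 ≤ H) (hn0 : K ≤ normalizer (H0 : Set G)) (hab : ⁅H, H⁆ ≤ H0) {χ : G → ℂ}
    (hχ : IsIrr K χ) (h1 : H0 ≤ cfker K χ) (h2 : ¬ H ≤ cfker K χ) :
    ∃ θ, IsLin H θ ∧ H0 ≤ cfker H θ ∧ ¬ H ≤ cfker H θ ∧ cfdot H χ θ ≠ 0 := by
  obtain ⟨θ, hθ, hd⟩ := exists_irr_under hHK hχ
  have h3 := (sub_cfker_constt_irr hHK h0 hn0 hχ hθ hd).2 h1
  exact ⟨θ, hθ.isLin_of_commutator_le (hab.trans h3), h3,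
    fun h => h2 ((sub_cfker_constt_irr hHK le_rfl hn hχ hθ hd).1 h), hd⟩

theorem clifford_lin_deg {K H : Subgroup G} (hHK : H ≤ K) (hn : K ≤ normalizer (H : Set G))
    {χ θ : G → ℂ} (hχ : IsIrr K χ) (hθ : IsLin H θ) (hd : cfdot H χ θ ≠ 0) :
    ∃ e : ℕ, χ 1 = ((inertia θ).relIndex K * e : ℕ) := by
  obtain ⟨e, he⟩ := (hχ.isChar.cfRes hHK).cfdot_nat hθ.isChar
  rw [cfdot_cfRes_left] at he
  refine ⟨e, ?_⟩
  rw [clifford_one hHK hn hχ hθ.isIrr hd, he, hθ.one]; push_cast; ring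

theorem cfdot_lin_cfRes {T H : Subgroup G} (hHT : H ≤ T) {ξ : G → ℂ} (hξ : IsLin T ξ) :
    cfdot H ξ (cfRes H ξ) ≠ 0 := by
  rw [← cfdot_cfRes_left, (hξ.cfRes hHT).isIrr.cfdot_self]; exact one_ne_zero

theorem seqIndD_sup {K L H Y : Subgroup G} : seqIndD K L (H ⊔ Y) Y = seqIndD K L H Y := by
  unfold seqIndD
  congr 1
  ext θ
  constructor
  · rintro ⟨h1, h2⟩; exact ⟨h1, fun h => h2 (sup_le h h1)⟩
  · rintro ⟨h1, h2⟩; exact ⟨h1, fun h => h2 (le_sup_left.trans h)⟩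

end P9

section character
variable [Fintype G] {M U W W1 W2 : Subgroup G} (hP : OfTypeP M U W W1 W2)
  {H0 : Subgroup G} (h0 : PtypeKer M U H0)
include hP h0

theorem P9.le_C_of_inertia {θ : G → ℂ} (hθ : IsLin (fittingHallOf M) θ)
    (h1 : H0 ≤ cfker (fittingHallOf M) θ) (h2 : ¬ fittingHallOf M ≤ cfker (fittingHallOf M) θ)
    {V : Subgroup G} (hV : V ≤ U) (hI : V ≤ inertia θ) (hUV : U ≤ normalizer (V : Set G))
    (hW : TypePGalois M U H0 ∨ W1 ≤ normalizer (V : Set G)) : V ≤ FcomplKer M U H0 := by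
  have hVH := hV.trans (P9.U_norm_H hP)
  have h3 : ⁅fittingHallOf M, V⁆ ≤ cfker (fittingHallOf M) θ := by
    rw [commutator_comm, commutator_le]
    exact fun v hv h hh => (P9.lin_mem_inertia hθ (hVH hv)).1 (hI hv) h hh
  have h4 : H0 ⊔ ⁅fittingHallOf M, V⁆ ≤ fittingHallOf M := sup_le h0.lt.le (h3.trans cfker_le)
  have h5 : U ≤ normalizer ((H0 ⊔ ⁅fittingHallOf M, V⁆ : Subgroup G) : Set G) :=
    P9.le_normalizer_sup' ((P9.U_le hP).trans h0.normal)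
      (Cop.le_normalizer_commutator (P9.U_norm_H hP) hUV)
  have h6 : H0 ⊔ ⁅fittingHallOf M, V⁆ = H0 ∨ H0 ⊔ ⁅fittingHallOf M, V⁆ = fittingHallOf M := by
    rcases hW with hW | hW
    · exact hW _ le_sup_left h4 h5
    · refine h0.chief _ le_sup_left h4 (P9.le_of_HUW hP ?_ h5 ?_)
      · exact le_normalizer_iff_commutator_le_right.2
          ((commutator_mono le_rfl h4).trans ((P9.abelem h0).1.trans le_sup_left))
      · exact P9.le_normalizer_sup' (hP.W1_le.trans h0.normal)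
          (Cop.le_normalizer_commutator (P9.W1_norm_H hP) hW)
  rcases h6 with h6 | h6
  · exact le_inf hV ((P9.le_centMod_iff ((hV.trans (P9.U_le hP)).trans h0.normal)).2
      (le_sup_right.trans h6.le))
  · exact absurd (h6.ge.trans (sup_le h1 h3)) h2

theorem P9.C_le_inertia {θ : G → ℂ} (hθ : IsLin (fittingHallOf M) θ)
    (h1 : H0 ≤ cfker (fittingHallOf M) θ) : FcomplKer M U H0 ≤ inertia θ := fun _ hc =>
  (P9.lin_mem_inertia hθ (P9.U_norm_H hP hc.1)).2 fun h hh => h1 (hc.2.2 h hh)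

theorem P9.U_norm_of_C_le {V : Subgroup G} (h1 : FcomplKer M U H0 ≤ V) (h2 : V ≤ U) :
    U ≤ normalizer (V : Set G) :=
  le_normalizer_iff_commutator_le_right.2
    ((commutator_mono le_rfl h2).trans ((P9.der_U_le_C hP h0).trans h1))

omit h0 in
theorem P9.der_inf_le {T V : Subgroup G} (hT : fittingHallOf M ≤ T) (h : U ⊓ T ≤ V) :
    ⁅M, M⁆ ⊓ T ≤ fittingHallOf M ⊔ V := by
  rw [← P9.sup_HU hP, inf_comm, P9.inf_sup_eq_of_le hT (P9.U_norm_H hP), inf_comm]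
  exact sup_le_sup_left h _

omit h0 in
theorem P9.relIndex_der_eq {T : Subgroup G} (hT : fittingHallOf M ≤ T) :
    T.relIndex ⁅M, M⁆ = T.relIndex U := by
  rw [← P9.sup_HU hP, P9.relIndex_sup_of_le hT (P9.U_norm_H hP)]

omit h0 in
theorem P9.relIndex_HV_der {V : Subgroup G} (hV : V ≤ U) :
    (fittingHallOf M ⊔ V).relIndex ⁅M, M⁆ = V.relIndex U := by
  rw [← P9.sup_HU hP, P9.relIndex_sup_sup hV (P9.U_norm_H hP) hP.defHU.2.2.1]

omit h0 [Fintype G] in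
theorem P9.HV_le {V : Subgroup G} (hV : V ≤ U) : fittingHallOf M ⊔ V ≤ ⁅M, M⁆ :=
  sup_le hP.H_le_der (hV.trans hP.U_le_der)

omit h0 in
theorem P9.relIndex_HV_M {V : Subgroup G} (hV : V ≤ U) :
    (fittingHallOf M ⊔ V).relIndex M = Nat.card W1 * V.relIndex U := by
  rw [← relIndex_mul_relIndex _ _ _ (P9.HV_le hP hV) (P9.der_le hP), P9.relIndex_HV_der hP hV,
    P9.relIndex_der hP, mul_comm]

omit [Fintype G] in
theorem P9.H0V_inf_H {V : Subgroup G} (hV : V ≤ U) : fittingHallOf M ⊓ (H0 ⊔ V) = H0 := by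
  rw [P9.inf_sup_eq_of_le h0.lt.le ((hV.trans (P9.U_le hP)).trans h0.normal), sup_eq_left]
  exact (inf_le_inf_left _ hV).trans (hP.defHU.2.2.1.le.trans bot_le)

theorem P9.relIndex_H0V_HV {V : Subgroup G} (hV : V ≤ FcomplKer M U H0)
    (h1 : U ≤ normalizer (V : Set G)) (h2 : W1 ≤ normalizer (V : Set G)) :
    (H0 ⊔ V).relIndex (fittingHallOf M ⊔ V) = PtypePrime M H0 ^ Nat.card W1 := by
  have e : fittingHallOf M ⊔ V = (H0 ⊔ V) ⊔ fittingHallOf M := by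
    rw [sup_comm (H0 ⊔ V), ← sup_assoc, sup_eq_left.2 h0.lt.le]
  rw [e, P9.relIndex_sup_of_le le_rfl ((Fcore_le M).trans (P9.normal_sup hP h0 hV h1 h2)),
    ← inf_relIndex_right, inf_comm, P9.H0V_inf_H hP h0 (hV.trans P9.C_le), (P9.facts hP h0).2.2.2]

theorem P9.sum_square {V : Subgroup G} (hV : V ≤ FcomplKer M U H0)
    (h1 : U ≤ normalizer (V : Set G)) (h2 : W1 ≤ normalizer (V : Set G)) :
    ∑ φ ∈ seqIndD ⁅M, M⁆ M (fittingHallOf M) (H0 ⊔ V), (φ 1).re ^ 2 / cfnorm M φ =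
      (Nat.card W1 * V.relIndex U : ℕ) * ((PtypePrime M H0 : ℝ) ^ Nat.card W1 - 1) := by
  have e : fittingHallOf M ⊔ (H0 ⊔ V) = fittingHallOf M ⊔ V := by
    rw [← sup_assoc, sup_eq_left.2 h0.lt.le]
  rw [← P9.seqIndD_sup, e, sum_seqIndD_square (P9.der_le hP) (P9.der_normal hP)
    (P9.HV_le hP (hV.trans P9.C_le)) (sup_le_sup_right h0.lt.le _) (P9.normal_H_sup hP h1 h2)
    (P9.normal_sup hP h0 hV h1 h2), P9.relIndex_HV_M hP (hV.trans P9.C_le),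
    P9.relIndex_H0V_HV hP h0 hV h1 h2]
  push_cast; ring

theorem P9.norm_C' : U ≤ normalizer ((⁅FcomplKer M U H0, FcomplKer M U H0⁆ : Subgroup G) : Set G) ∧
    W1 ≤ normalizer ((⁅FcomplKer M U H0, FcomplKer M U H0⁆ : Subgroup G) : Set G) :=
  ⟨Cop.le_normalizer_commutator (P9.U_norm_C hP h0) (P9.U_norm_C hP h0),
    Cop.le_normalizer_commutator (P9.W1_norm_C hP h0) (P9.W1_norm_C hP h0)⟩

/-- characters over a `θ` whose inertia group is `H C` -/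
theorem P9.exists_ind_HC {χ θ : G → ℂ} (hχ : IsIrr ⁅M, M⁆ χ) (hθ : IsLin (fittingHallOf M) θ)
    (hd : cfdot (fittingHallOf M) χ θ ≠ 0) (hI : U ⊓ inertia θ ≤ FcomplKer M U H0)
    (hk : H0 ⊔ ⁅FcomplKer M U H0, FcomplKer M U H0⁆ ≤ cfker ⁅M, M⁆ χ) :
    χ 1 = ((FcomplKer M U H0).relIndex U : ℕ) ∧
      ∃ ξ, IsLin (fittingHallOf M ⊔ FcomplKer M U H0) ξ ∧
        χ = cfInd (fittingHallOf M ⊔ FcomplKer M U H0) ⁅M, M⁆ ξ := by
  have hle := P9.HV_le hP (P9.C_le (M := M) (U := U) (H0 := H0))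
  have hN := P9.normal_sup hP h0 (commutator_le_self _) (P9.norm_C' hP h0).1 (P9.norm_C' hP h0).2
  obtain ⟨ξ, hξ, -, rfl⟩ := inertia_cfInd_surj le_sup_left hle
    ((P9.der_le hP).trans (Fcore_normal M)) hθ.isIrr
    (P9.der_inf_le hP (le_inertia hθ.mem_CF) hI) hχ hd
  have hlin : IsLin _ ξ := hξ.isLin_of_commutator_le (le_trans
    (P9.commutator_sup_sup_le ((Fcore_le M).trans hN) ((P9.C_le.trans (P9.U_le hP)).trans hN)
      ((P9.abelem h0).1.trans le_sup_left) ((P9.commutator_H_C hP h0).trans le_sup_left)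
      le_sup_right)
    ((sub_cfker_Ind_irr hle ((P9.der_le hP).trans hN) hξ).1 hk))
  refine ⟨?_, ξ, hlin, rfl⟩
  rw [cfInd_one hle, hlin.one, mul_one, P9.relIndex_HV_der hP P9.C_le]

theorem P9.exists_lin_under' {χ : G → ℂ} (hχ : IsIrr ⁅M, M⁆ χ) (h1 : H0 ≤ cfker ⁅M, M⁆ χ)
    (h2 : ¬ fittingHallOf M ≤ cfker ⁅M, M⁆ χ) :
    ∃ θ, IsLin (fittingHallOf M) θ ∧ H0 ≤ cfker (fittingHallOf M) θ ∧
      ¬ fittingHallOf M ≤ cfker (fittingHallOf M) θ ∧ cfdot (fittingHallOf M) χ θ ≠ 0 :=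
  P9.exists_lin_under hP.H_le_der ((P9.der_le hP).trans (Fcore_normal M)) h0.lt.le
    ((P9.der_le hP).trans h0.normal) (P9.abelem h0).1 hχ h1 h2

theorem P9.galois_inertia (hGal : TypePGalois M U H0) {θ : G → ℂ}
    (hθ : IsLin (fittingHallOf M) θ) (h1 : H0 ≤ cfker (fittingHallOf M) θ)
    (h2 : ¬ fittingHallOf M ≤ cfker (fittingHallOf M) θ) : U ⊓ inertia θ ≤ FcomplKer M U H0 :=
  P9.le_C_of_inertia hP h0 hθ h1 h2 inf_le_left inf_le_right
    (P9.U_norm_of_C_le hP h0 (le_inf P9.C_le (P9.C_le_inertia hP h0 hθ h1)) inf_le_left)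
    (Or.inl hGal)

theorem P9.invariant_inertia {χ θ : G → ℂ} (hχ : IsIrr ⁅M, M⁆ χ) (hinv : M ≤ inertia χ)
    (hθ : IsLin (fittingHallOf M) θ) (h1 : H0 ≤ cfker (fittingHallOf M) θ)
    (h2 : ¬ fittingHallOf M ≤ cfker (fittingHallOf M) θ) (hd : cfdot (fittingHallOf M) χ θ ≠ 0) :
    U ⊓ inertia θ ≤ FcomplKer M U H0 := by
  have hU := P9.U_norm_of_C_le hP h0 (le_inf P9.C_le (P9.C_le_inertia hP h0 hθ h1)) inf_le_left
  refine P9.le_C_of_inertia hP h0 hθ h1 h2 inf_le_left inf_le_right hU (Or.inr fun w hw => ?_)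
  have hwH := P9.W1_norm_H hP (inv_mem hw)
  have hd' : cfdot (fittingHallOf M) χ (cfConjg w⁻¹ θ) ≠ 0 := by
    rwa [← mem_inertia_iff.1 (hinv (hP.W1_le (inv_mem hw))), cfdot_cfConjg hwH]
  obtain ⟨x, hx, he⟩ := mem_cfclass.1 (mem_cfclass_of_constt hP.H_le_der
    ((P9.der_le hP).trans (Fcore_normal M)) hχ hθ.isIrr (hθ.isIrr.cfConjg hwH) hd hd')
  rw [← P9.sup_HU hP, sup_comm] at hx
  obtain ⟨y, hy, h, hh, rfl⟩ := (mem_sup_iff_of_le_normalizer (P9.U_norm_H hP)).1 hx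
  rw [cfConjg_mul, cfConjg_of_mem hθ.mem_CF hh] at he
  refine mem_normalizer_of_conj_mem fun v hv => ⟨conj_mem_of_mem_normalizer (hP.nUW1 hw) hv.1, ?_⟩
  have h3 : v ∈ inertia (cfConjg y θ) :=
    P9.mem_inertia_cfConjg.2 (conj_mem_of_mem_normalizer' (hU hy) hv).2
  rw [he, P9.mem_inertia_cfConjg, inv_inv] at h3
  exact h3

end character

/-- `ζ ∈ S(H0 C)` has degree `q u` and is induced from a linear character of `H C`. -/
def IsIndHC [Fintype G] (M U W1 H0 : Subgroup G) (ζ : G → ℂ) : Prop :=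
  ζ 1 = (Nat.card W1 * (FcomplKer M U H0).relIndex U : ℕ) ∧
    ζ ∈ seqIndD ⁅M, M⁆ M (fittingHallOf M) (H0 ⊔ FcomplKer M U H0) ∧
    ∃ ξ, IsLin (fittingHallOf M ⊔ FcomplKer M U H0) ξ ∧
      ζ = cfInd (fittingHallOf M ⊔ FcomplKer M U H0) M ξ

section character
variable [Fintype G] {M U W W1 W2 : Subgroup G} (hP : OfTypeP M U W W1 W2)
  {H0 : Subgroup G} (h0 : PtypeKer M U H0) (hT : PrimeTI M ⁅M, M⁆ W W1 W2)
include hP h0 hT

omit h0 in
theorem P9.H_le_cfker_prTIres (j : Irr W2) :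
    fittingHallOf M ≤ cfker ⁅M, M⁆ (prTIres M ⁅M, M⁆ W W1 W2 j) ↔ j = 1 := by
  rw [hT.le_cfker_prTIres hP.H_le_der (Fcore_normal M), inf_eq_right.2 hP.W2_le_H, Irr.eq_one_iff]

theorem P9.red_cases {ζ : G → ℂ} (hζ : ζ ∈ seqIndD ⁅M, M⁆ M (fittingHallOf M) H0)
    (hr : ¬ IsIrr M ζ) : IsIndHC M U W1 H0 ζ ∧
      ∃ j : Irr W2, j ≠ 1 ∧ H0 ⊓ W2 ≤ cfker W2 j ∧ ζ = prTIred M W W1 W2 j := by
  obtain ⟨χ, hχ, h1, h2, rfl⟩ := mem_seqIndD.1 hζ
  obtain ⟨j, rfl, hj⟩ := (hT.cfInd_red_cases hχ).resolve_left hr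
  have hj0 := (hT.le_cfker_prTIres (h0.lt.le.trans hP.H_le_der) h0.normal j).1 h1
  have hC : H0 ⊔ FcomplKer M U H0 ≤ cfker ⁅M, M⁆ (prTIres M ⁅M, M⁆ W W1 W2 j) := by
    rw [hT.le_cfker_prTIres (sup_le (h0.lt.le.trans hP.H_le_der) (P9.C_le.trans hP.U_le_der))
      (P9.normal_sup hP h0 le_rfl (P9.U_norm_C hP h0) (P9.W1_norm_C hP h0))]
    refine le_trans (le_inf ?_ inf_le_right) hj0
    exact (le_inf (inf_le_right.trans hP.W2_le_H) inf_le_left).trans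
      (P9.H0V_inf_H hP h0 (P9.C_le (M := M) (U := U) (H0 := H0))).le
  obtain ⟨θ, hθ, h3, h4, hd⟩ := P9.exists_lin_under' hP h0 hχ h1 h2
  obtain ⟨h5, ξ, hξ, he⟩ := P9.exists_ind_HC hP h0 hχ hθ hd
    (P9.invariant_inertia hP h0 hχ (hT.le_inertia_prTIres j) hθ h3 h4 hd)
    ((sup_le_sup_left (commutator_le_self _) _).trans hC)
  refine ⟨⟨?_, mem_seqIndD.2 ⟨_, hχ, hC, h2, rfl⟩, ξ, hξ, ?_⟩, j,
    fun h => h2 ((P9.H_le_cfker_prTIres hP hT j).2 h), hj0, hj⟩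
  · rw [cfInd_one (P9.der_le hP), h5, P9.relIndex_der hP]; push_cast; rfl
  · rw [he, cfInd_cfInd (P9.HV_le hP P9.C_le) (P9.der_le hP)]

theorem P9.prTIred_mem {j : Irr W2} (hj : j ≠ 1) (hk : H0 ⊓ W2 ≤ cfker W2 j) :
    prTIred M W W1 W2 j ∈ seqIndD ⁅M, M⁆ M (fittingHallOf M) H0 :=
  mem_seqIndD.2 ⟨_, hT.prTIres_irr j,
    (hT.le_cfker_prTIres (h0.lt.le.trans hP.H_le_der) h0.normal j).2 hk,
    fun h => hj ((P9.H_le_cfker_prTIres hP hT j).1 h), (hT.cfInd_prTIres j).symm⟩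

open Classical in
theorem P9.card_red :
    ((seqIndD ⁅M, M⁆ M (fittingHallOf M) H0).filter fun ζ => ¬ IsIrr M ζ).card =
      PtypePrime M H0 - 1 := by
  have e : ((seqIndD ⁅M, M⁆ M (fittingHallOf M) H0).filter fun ζ => ¬ IsIrr M ζ) =
      ((Finset.univ.filter fun j : Irr W2 => H0 ⊓ W2 ≤ cfker W2 j).erase 1).image
        (prTIred M W W1 W2) := by
    ext ζ
    simp only [Finset.mem_filter, Finset.mem_image, Finset.mem_erase, Finset.mem_univ, true_and]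
    constructor
    · rintro ⟨h1, h2⟩
      obtain ⟨-, j, hj, hk, rfl⟩ := P9.red_cases hP h0 hT h1 h2
      exact ⟨j, ⟨hj, hk⟩, rfl⟩
    · rintro ⟨j, ⟨hj, hk⟩, rfl⟩
      exact ⟨P9.prTIred_mem hP h0 hT hj hk, hT.prTIred_not_irr j⟩
  have hc : ⁅W2, W2⁆ ≤ H0 ⊓ W2 := by
    have := hP.W2_cyclic
    rw [(commutator_self_eq_bot_iff (H := W2)).2 inferInstance]; exact bot_le
  rw [e, Finset.card_image_of_injective _ hT.prTIred_inj, Finset.card_erase_of_mem,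
    card_irr_ker_of_commutator_le inf_le_right hc, inf_relIndex_right, (P9.facts hP h0).2.2.1]
  simp only [Finset.mem_filter, Finset.mem_univ, true_and]
  exact inf_le_right.trans ((Irr.eq_one_iff _).1 rfl)

theorem P9.cfnorm_red {ζ : G → ℂ} (hζ : ζ ∈ seqIndD ⁅M, M⁆ M (fittingHallOf M) H0)
    (hr : ¬ IsIrr M ζ) : cfnorm M ζ = Nat.card W1 := by
  obtain ⟨-, j, -, -, rfl⟩ := P9.red_cases hP h0 hT hζ hr
  exact hT.cfnorm_prTIred j

theorem P9.galois_all_red (hGal : TypePGalois M U H0)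
    (h : ∀ ζ ∈ seqIndD ⁅M, M⁆ M (fittingHallOf M) (H0 ⊔ ⁅FcomplKer M U H0, FcomplKer M U H0⁆),
        ¬ IsIrr M ζ) :
      FcomplKer M U H0 = ⊥ ∧
      (FcomplKer M U H0).relIndex U =
        (PtypePrime M H0 ^ Nat.card W1 - 1) / (PtypePrime M H0 - 1) ∧
      ∀ v ∈ U, v ≠ 1 → ∀ h ∈ fittingHallOf M, v * h * v⁻¹ * h⁻¹ ∈ H0 → h ∈ H0 := by
  classical
  set C := FcomplKer M U H0 with hC
  have hs1 : seqIndD ⁅M, M⁆ M (fittingHallOf M) (H0 ⊔ C) ⊆
      seqIndD ⁅M, M⁆ M (fittingHallOf M) (H0 ⊔ ⁅C, C⁆) :=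
    seqIndDS le_rfl (sup_le_sup_left (commutator_le_self _) _)
  have hs2 : seqIndD ⁅M, M⁆ M (fittingHallOf M) (H0 ⊔ ⁅C, C⁆) ⊆
      seqIndD ⁅M, M⁆ M (fittingHallOf M) H0 := seqIndDS le_rfl le_sup_left
  have e1 : seqIndD ⁅M, M⁆ M (fittingHallOf M) (H0 ⊔ ⁅C, C⁆) =
      seqIndD ⁅M, M⁆ M (fittingHallOf M) (H0 ⊔ C) :=
    Finset.Subset.antisymm (fun ζ hζ => (P9.red_cases hP h0 hT (hs2 hζ) (h ζ hζ)).1.2.1) hs1
  have e2 : seqIndD ⁅M, M⁆ M (fittingHallOf M) (H0 ⊔ C) =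
      (seqIndD ⁅M, M⁆ M (fittingHallOf M) H0).filter fun ζ => ¬ IsIrr M ζ := by
    ext ζ
    rw [Finset.mem_filter]
    exact ⟨fun hζ => ⟨hs2 (hs1 hζ), h ζ (hs1 hζ)⟩,
      fun hζ => (P9.red_cases hP h0 hT hζ.1 hζ.2).1.2.1⟩
  have s1 := P9.sum_square hP h0 le_rfl (P9.U_norm_C hP h0) (P9.W1_norm_C hP h0)
  have s2 := P9.sum_square hP h0 (commutator_le_self _) (P9.norm_C' hP h0).1 (P9.norm_C' hP h0).2
  rw [← hC] at s1 s2
  have hp := (P9.prime h0).one_lt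
  have hq : 0 < Nat.card W1 := Nat.card_pos
  have hpq : (1 : ℝ) < (PtypePrime M H0 : ℝ) ^ Nat.card W1 :=
    one_lt_pow₀ (by exact_mod_cast hp) hq.ne'
  have hCb : C = ⊥ := by
    rw [e1, s1] at s2
    have h1 : C.relIndex U = (⁅C, C⁆ : Subgroup G).relIndex U :=
      Nat.eq_of_mul_eq_mul_left hq (by exact_mod_cast mul_right_cancel₀ (sub_pos.2 hpq).ne' s2)
    have h2 := relIndex_mul_relIndex ⁅C, C⁆ C U (commutator_le_self _) P9.C_le
    rw [← h1] at h2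
    have h3 : (⁅C, C⁆ : Subgroup G).relIndex C = 1 :=
      Nat.eq_of_mul_eq_mul_right (Nat.pos_of_ne_zero (relIndex_ne_zero' C U))
        (h2.trans (one_mul _).symm)
    exact le_bot_iff.1 (P9.le_of_le_sup_commutator (isNilpotent_of_le hP.U_nilpotent P9.C_le) bot_le
      ((relIndex_eq_one.1 h3).trans le_sup_right))
  refine ⟨hCb, ?_, ?_⟩
  · rw [e2, Finset.sum_congr rfl (g := fun _ =>
      ((Nat.card W1 * C.relIndex U : ℕ) : ℝ) ^ 2 / Nat.card W1), Finset.sum_const,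
      P9.card_red hP h0 hT] at s1
    · have hu : (0 : ℝ) < C.relIndex U := relIndex_pos_real _ _
      have hq' : (0 : ℝ) < Nat.card W1 := by exact_mod_cast hq
      have h1 : ((PtypePrime M H0 : ℝ) - 1) * C.relIndex U = PtypePrime M H0 ^ Nat.card W1 - 1 := by
        rw [nsmul_eq_mul, Nat.cast_sub hp.le] at s1
        push_cast at s1
        field_simp at s1
        linarith
      symm
      refine Nat.div_eq_of_eq_mul_right (by omega) ?_
      have h2 : 1 ≤ PtypePrime M H0 ^ Nat.card W1 := Nat.one_le_pow _ _ (by omega)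
      have : ((PtypePrime M H0 ^ Nat.card W1 - 1 : ℕ) : ℝ) =
          ((PtypePrime M H0 - 1) * C.relIndex U : ℕ) := by
        push_cast [Nat.cast_sub h2, Nat.cast_sub hp.le]; exact h1.symm
      exact_mod_cast this
    · intro ζ hζ
      rw [Finset.mem_filter] at hζ
      rw [P9.cfnorm_red hP h0 hT hζ.1 hζ.2, (P9.red_cases hP h0 hT hζ.1 hζ.2).1.1,
        Complex.natCast_re]
  · intro v hv hv1 x hx hc
    obtain ⟨F, _, _, φ, ψ, hF⟩ := P9.galoisData hP h0 hGal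
    have hvx := conj_mem_of_mem_normalizer (P9.U_norm_H hP hv) hx
    have h1 := (hF.ker_add _ (mul_mem hvx (inv_mem hx))).2 hc
    have h2 := hF.add _ (mul_mem hvx (inv_mem hx)) _ hx
    rw [h1, zero_add, inv_mul_cancel_right, hF.act v hv x hx] at h2
    have h3 : ψ v ≠ 1 := fun h => hv1 (by simpa [← hC, hCb] using (hF.ker_mul v hv).1 h)
    refine (hF.ker_add x hx).1 ?_
    have : (ψ v - 1) * φ x = 0 := by rw [sub_mul, h2, one_mul, sub_self]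
    exact (mul_eq_zero.1 this).resolve_left (sub_ne_zero.2 h3)

end character

end CfsgLib.FT
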