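import Mathlib
import Cfsg.Agent.Lib.FT.PF9c

/-! Peterfalvi, section 9: (9.8), the non Galois case. -/

set_option autoImplicit false

namespace CfsgLib.FT

open Cfsg Subgroup
open scoped commutatorElement ComplexConjugate

universe u

variable {G : Type u} [Group G]

/-- The complement `∏_{w ≠ 1} H1 ^ w` of `H1` over `H0`. -/
structure P9.ComplData (M U W1 H0 H1 D : Subgroup G) : Prop where
  H0_le : H0 ≤ D
  le_H : D ≤ fittingHallOf M
  normal : U ≤ normalizer (D : Set G)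
  conj_le : ∀ w ∈ W1, w ≠ 1 → H1.map (MulAut.conj w).toMonoidHom ≤ D
  not_le : ¬ H1 ≤ D
  sup_eq : H1 ⊔ D = fittingHallOf M
  card : D.relIndex (fittingHallOf M) = PtypePrime M H0

section character
variable [Fintype G] {M U W W1 W2 : Subgroup G} (hP : OfTypeP M U W W1 W2)
  {H0 : Subgroup G} (h0 : PtypeKer M U H0) {H1 : Subgroup G} (h1 : NonGaloisData M U W1 H0 H1)
include hP h0

omit hP in
theorem P9.H_norm_of_le {S : Subgroup G} (h2 : H0 ≤ S) (h3 : S ≤ fittingHallOf M) :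
    fittingHallOf M ≤ normalizer (S : Set G) :=
  le_normalizer_iff_commutator_le_right.2
    ((commutator_mono le_rfl h3).trans ((P9.abelem h0).1.trans h2))

/-- extension of `θ` to its inertia group -/
theorem P9.exists_ext {θ : G → ℂ} (hθ : IsLin (fittingHallOf M) θ)
    (h2 : H0 ≤ cfker (fittingHallOf M) θ) (h3 : ¬ fittingHallOf M ≤ cfker (fittingHallOf M) θ)
    {V : Subgroup G} (hV : V = U ⊓ inertia θ) :
    ∃ ξ, IsLin (fittingHallOf M ⊔ V) ξ ∧ cfRes (fittingHallOf M) ξ = θ ∧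
      IsIrr ⁅M, M⁆ (cfInd (fittingHallOf M ⊔ V) ⁅M, M⁆ ξ) ∧
      H0 ⊔ FcomplKer M U H0 ≤ cfker ⁅M, M⁆ (cfInd (fittingHallOf M ⊔ V) ⁅M, M⁆ ξ) ∧
      ¬ fittingHallOf M ≤ cfker ⁅M, M⁆ (cfInd (fittingHallOf M ⊔ V) ⁅M, M⁆ ξ) := by
  have hVU : V ≤ U := hV ▸ inf_le_left
  have hVH := hVU.trans (P9.U_norm_H hP)
  have hle := P9.HV_le hP hVU
  obtain ⟨ξ, hξ, hk, hr⟩ := extend_lin_sdprod (P9.complIn_of hVH
    (le_bot_iff.1 ((inf_le_inf_left _ hVU).trans hP.defHU.2.2.1.le)))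
    (sup_le le_normalizer hVH) hθ (sup_le (le_inertia hθ.mem_CF) (hV ▸ inf_le_right))
  have hker : cfker (fittingHallOf M) θ = fittingHallOf M ⊓ cfker (fittingHallOf M ⊔ V) ξ := by
    rw [← hr, hξ.isChar.cfker_cfRes le_sup_left]
  refine ⟨ξ, hξ, hr, ?_, ?_, ?_⟩
  · exact inertia_cfInd_irr le_sup_left hle ((P9.der_le hP).trans (Fcore_normal M)) hθ.isIrr
      (P9.der_inf_le hP (le_inertia hθ.mem_CF) hV.ge) hξ.isIrr
      (hr ▸ P9.cfdot_lin_cfRes le_sup_left hξ)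
  · refine (sub_cfker_Ind_irr hle ((P9.der_le hP).trans (P9.normal_sup hP h0 le_rfl
      (P9.U_norm_C hP h0) (P9.W1_norm_C hP h0))) hξ.isIrr).2 (sup_le ?_ (le_trans ?_ hk))
    · exact (h2.trans hker.le).trans inf_le_right
    · exact hV ▸ le_inf P9.C_le (P9.C_le_inertia hP h0 hθ h2)
  · rw [sub_cfker_Ind_irr hle ((P9.der_le hP).trans (Fcore_normal M)) hξ.isIrr]
    exact fun h => h3 (hker ▸ le_inf le_rfl h)

include h1

theorem P9.conj_facts {w : G} (hw : w ∈ W1) : H0 ≤ H1.map (MulAut.conj w).toMonoidHom ∧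
    H1.map (MulAut.conj w).toMonoidHom ≤ fittingHallOf M ∧
    U ≤ normalizer ((H1.map (MulAut.conj w).toMonoidHom : Subgroup G) : Set G) ∧
    H0.relIndex (H1.map (MulAut.conj w).toMonoidHom) = PtypePrime M H0 :=
  ⟨P9.le_map_conj' (h0.normal (hP.W1_le hw)) h1.H0_le,
    P9.map_conj_le' (P9.W1_norm_H hP hw) h1.le_H,
    P9.le_normalizer_map_conj' (hP.nUW1 hw) h1.normal,
    (P9.relIndex_map_conj' (h0.normal (hP.W1_le hw))).trans h1.card⟩

theorem P9.exists_complData : ∃ D, P9.ComplData M U W1 H0 H1 D := by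
  classical
  let S : W1 → Subgroup G := fun w => H1.map (MulAut.conj (w : G)).toMonoidHom
  have hp := P9.prime h0
  obtain ⟨h2, k, hk, h3⟩ := P9.relIndex_biSup h0.lt.le (P9.abelem h0).1
    ((P9.U_le hP).trans h0.normal) S (fun w => (P9.conj_facts hP h0 h1 w.2).1)
    (fun w => (P9.conj_facts hP h0 h1 w.2).2.1) (fun w => (P9.conj_facts hP h0 h1 w.2).2.2.1)
    (fun w => (P9.conj_facts hP h0 h1 w.2).2.2.2)
    (fun w T a b _ => P9.eq_or_eq_of_relIndex_prime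
      (by rw [(P9.conj_facts hP h0 h1 w.2).2.2.2]; exact hp) a b) (Finset.univ.erase 1)
  set D := H0 ⊔ (Finset.univ.erase 1).sup S
  have hDH : D ≤ fittingHallOf M :=
    sup_le h0.lt.le (Finset.sup_le fun w _ => (P9.conj_facts hP h0 h1 w.2).2.1)
  have hc : ∀ w ∈ W1, w ≠ 1 → H1.map (MulAut.conj w).toMonoidHom ≤ D := fun w hw hw1 =>
    le_sup_of_le_right (Finset.le_sup (f := S) (b := ⟨w, hw⟩)
      (Finset.mem_erase.2 ⟨fun h => hw1 (congrArg Subtype.val h), Finset.mem_univ _⟩))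
  have hs : H1 ⊔ D = fittingHallOf M := by
    refine le_antisymm (sup_le h1.le_H hDH) (h1.iSup_eq.ge.trans (iSup₂_le fun w hw => ?_))
    by_cases hw1 : w = 1
    · rw [hw1, map_conj_one]; exact le_sup_left
    · exact le_sup_of_le_right (hc w hw hw1)
  have hn : ¬ H1 ≤ D := fun h => by
    rw [sup_eq_right.2 h] at hs
    rw [hs, (P9.facts hP h0).2.2.2] at h3
    have := Nat.pow_right_injective hp.two_le h3
    rw [Finset.card_erase_of_mem (Finset.mem_univ _), Finset.card_univ,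
      ← Nat.card_eq_fintype_card] at hk
    have : 0 < Nat.card W1 := Nat.card_pos
    omega
  refine ⟨D, le_sup_left, hDH, h2, hc, hn, hs, ?_⟩
  rw [← hs, relIndex_sup_of_le_normalizer (h1.le_H.trans (P9.H_norm_of_le h0 le_sup_left hDH)),
    ← inf_relIndex_right]
  rcases P9.eq_or_eq_of_relIndex_prime (T := D ⊓ H1) (by rw [h1.card]; exact hp)
    (le_inf le_sup_left h1.H0_le) inf_le_right with h | h
  · rw [h, h1.card]
  · exact absurd (h.ge.trans inf_le_left) hn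

theorem P9.inertia_le_centMod {θ : G → ℂ} (hθ : IsLin (fittingHallOf M) θ)
    (h2 : H0 ≤ cfker (fittingHallOf M) θ) {w : G} (hw : w ∈ W1)
    (h3 : ¬ H1.map (MulAut.conj w).toMonoidHom ≤ cfker (fittingHallOf M) θ) :
    U ⊓ inertia θ ≤ centMod (H1.map (MulAut.conj w).toMonoidHom) H0 := by
  obtain ⟨a, b, c, d⟩ := P9.conj_facts hP h0 h1 hw
  have e : cfker (fittingHallOf M) θ ⊓ H1.map (MulAut.conj w).toMonoidHom = H0 :=
    (P9.eq_or_eq_of_relIndex_prime (by rw [d]; exact P9.prime h0) (le_inf h2 a)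
      inf_le_right).resolve_right fun h => h3 (h.ge.trans inf_le_left)
  refine fun v hv => ⟨h0.normal (P9.U_le hP hv.1), fun h hh => e.le ⟨?_, ?_⟩⟩
  · exact (P9.lin_mem_inertia hθ (P9.U_norm_H hP hv.1)).1 hv.2 h (b hh)
  · exact Subgroup.mul_mem _ (conj_mem_of_mem_normalizer (c hv.1) hh) (Subgroup.inv_mem _ hh)

omit h1 in
theorem P9.relIndex_centMod_conj {w : G} (hw : w ∈ W1) :
    (centMod (H1.map (MulAut.conj w).toMonoidHom) H0).relIndex U = (centMod H1 H0).relIndex U := by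
  have e : centMod (H1.map (MulAut.conj w).toMonoidHom) H0 =
      (centMod H1 H0).map (MulAut.conj w).toMonoidHom := by
    ext g; rw [P9.centMod_map_conj (h0.normal (hP.W1_le hw)), mem_map_conj_iff]
  rw [e]
  conv_lhs => rw [← map_conj_eq_of_mem_normalizer (hP.nUW1 hw)]
  exact relIndex_map_map_of_injective _ _ (MulAut.conj w).injective

/-- PF (9.8)(a). -/
theorem P9.nonGalois_a {χ : G → ℂ} (hχ : IsIrr ⁅M, M⁆ χ) (h2 : H0 ≤ cfker ⁅M, M⁆ χ)
    (h3 : ¬ fittingHallOf M ≤ cfker ⁅M, M⁆ χ) :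
    ∃ n : ℕ, χ 1 = ((centMod H1 H0).relIndex U * n : ℕ) := by
  obtain ⟨θ, hθ, h4, h5, hd⟩ := P9.exists_lin_under' hP h0 hχ h2 h3
  obtain ⟨w, hw, h6⟩ : ∃ w ∈ W1,
      ¬ H1.map (MulAut.conj w).toMonoidHom ≤ cfker (fittingHallOf M) θ := by
    by_contra! h
    exact h5 (h1.iSup_eq.ge.trans (iSup₂_le h))
  obtain ⟨e, he⟩ := P9.clifford_lin_deg hP.H_le_der ((P9.der_le hP).trans (Fcore_normal M)) hχ hθ hd
  obtain ⟨m, hm⟩ := relIndex_dvd_of_le_left U (P9.inertia_le_centMod hP h0 h1 hθ h4 hw h6)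
  rw [P9.relIndex_centMod_conj hP h0 hw, inf_comm, inf_relIndex_right] at hm
  exact ⟨m * e, by rw [he, P9.relIndex_der_eq hP (le_inertia hθ.mem_CF), hm, mul_assoc]⟩

omit h0 h1 in
theorem P9.decomp {x : G} (hx : x ∈ M) :
    ∃ h ∈ fittingHallOf M, ∃ v ∈ U, ∃ w ∈ W1, x = h * (v * w) := by
  obtain ⟨k, hk, w, hw, rfl⟩ := hP.defM.2.2.2 x hx
  obtain ⟨h, hh, v, hv, rfl⟩ := hP.defHU.2.2.2 k hk
  exact ⟨h, hh, v, hv, w, hw, mul_assoc _ _ _⟩

variable {D : Subgroup G} (hD : P9.ComplData M U W1 H0 H1 D)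
include hD

omit hP h1 in
theorem P9.exists_theta1 : ∃ θ, IsLin (fittingHallOf M) θ ∧ D ≤ cfker (fittingHallOf M) θ ∧
    ¬ fittingHallOf M ≤ cfker (fittingHallOf M) θ := by
  obtain ⟨θ, a, b, c⟩ := exists_lin_ne_one (lt_of_le_of_ne hD.le_H fun h =>
    hD.not_le (h ▸ le_sup_left.trans hD.sup_eq.le)) ((P9.abelem h0).1.trans hD.H0_le)
  exact ⟨θ, a, c, fun h => b (a.isIrr.eq_cf1_iff.2 h)⟩

omit hP h0 h1 [Fintype G] in
theorem P9.H1_not_le {N : Subgroup G} (h2 : D ≤ N) (h3 : ¬ fittingHallOf M ≤ N) : ¬ H1 ≤ N :=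
  fun h => h3 (hD.sup_eq.ge.trans (sup_le h h2))

/-- PF (9.8)(c). -/
theorem P9.nonGalois_c (hodd : Odd (Nat.card G)) : ∃ ζ, IsIrr M ζ ∧ IsIndHC M U W1 H0 ζ := by
  classical
  obtain ⟨θ1, hθ1, hk1, hn1⟩ := P9.exists_theta1 h0 hD
  have hone : ∀ w ∈ W1, w ≠ 1 → ∀ h ∈ H1, θ1 (w * h * w⁻¹) = 1 := fun w hw hw1 h hh =>
    ((P9.lin_mem_cfker hθ1).1 (hk1 (hD.conj_le w hw hw1 (conj_mem_map_conj hh)))).2
  let θ : G → ℂ := fun g => conj (θ1 g) * ∏ w ∈ (elems (W1 : Set G)).erase 1, θ1 (w⁻¹ * g * w)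
  have hmem : ∀ w, w ∈ (elems (W1 : Set G)).erase 1 ↔ w ≠ 1 ∧ w ∈ W1 := fun w => by
    rw [Finset.mem_erase, mem_elems]; rfl
  have hθ : IsLin (fittingHallOf M) θ := by
    refine isLin_of_mul (fun x hx => ?_) ?_ fun x hx y hy => ?_
    · simp [θ, CF_zero hθ1.mem_CF hx]
    · simp [θ, hθ1.one]
    · simp only [θ]
      rw [hθ1.map_mul hx hy, map_mul, Finset.prod_congr rfl (g := fun w =>
        θ1 (w⁻¹ * x * w) * θ1 (w⁻¹ * y * w)), Finset.prod_mul_distrib]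
      · ring
      · intro w hw
        have hwH := P9.W1_norm_H hP ((hmem w).1 hw).2
        rw [← hθ1.map_mul (conj_mem_of_mem_normalizer' hwH hx) (conj_mem_of_mem_normalizer' hwH hy)]
        congr 1; group
  have e1 : ∀ h ∈ H1, θ h = conj (θ1 h) := fun h hh => by
    simp only [θ]
    rw [Finset.prod_eq_one, mul_one]
    intro w hw
    simpa using hone w⁻¹ (inv_mem ((hmem w).1 hw).2) (inv_ne_one.2 ((hmem w).1 hw).1) h hh
  have e2 : ∀ w ∈ W1, w ≠ 1 → ∀ h ∈ H1, θ (w * h * w⁻¹) = θ1 h := fun w hw hw1 h hh => by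
    simp only [θ]
    rw [hone w hw hw1 h hh, map_one, one_mul, Finset.prod_eq_single w]
    · congr 1; group
    · intro v hv hvw
      have := hone (v⁻¹ * w) (mul_mem (inv_mem ((hmem v).1 hv).2) hw)
        (fun h => hvw (inv_mul_eq_one.1 h)) h hh
      rw [← this]; congr 1; group
    · intro h; exact absurd ((hmem w).2 ⟨hw1, hw⟩) h
  obtain ⟨g, hg, hg1⟩ : ∃ g ∈ H1, θ1 g ≠ 1 := by
    by_contra! h
    exact P9.H1_not_le hD hk1 hn1 fun g hg => (P9.lin_mem_cfker hθ1).2 ⟨h1.le_H hg, h g hg⟩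
  have h2 : H0 ≤ cfker (fittingHallOf M) θ := fun x hx =>
    (P9.lin_mem_cfker hθ).2 ⟨h0.lt.le hx, by
      rw [e1 x (h1.H0_le hx), ((P9.lin_mem_cfker hθ1).1 (hk1 (hD.H0_le hx))).2, map_one]⟩
  have h3 : ∀ w ∈ W1, ¬ H1.map (MulAut.conj w).toMonoidHom ≤ cfker (fittingHallOf M) θ := by
    intro w hw h
    have h4 := ((P9.lin_mem_cfker hθ).1 (h (conj_mem_map_conj hg))).2
    by_cases hw1 : w = 1
    · rw [hw1, one_mul, inv_one, mul_one, e1 g hg] at h4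
      exact hg1 (by simpa using congrArg conj h4)
    · exact hg1 (e2 w hw hw1 g hg ▸ h4)
  have h4 : ¬ fittingHallOf M ≤ cfker (fittingHallOf M) θ := fun h =>
    h3 1 W1.one_mem ((P9.conj_facts hP h0 h1 W1.one_mem).2.1.trans h)
  have hV : FcomplKer M U H0 = U ⊓ inertia θ :=
    le_antisymm (le_inf P9.C_le (P9.C_le_inertia hP h0 hθ h2)) fun v hv =>
      P9.mem_C_of_forall hP h0 h1.le_H h1.iSup_eq hv.1 fun w hw =>
        (P9.centMod_map_conj (h0.normal (hP.W1_le hw))).1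
          (P9.inertia_le_centMod hP h0 h1 hθ h2 hw (h3 w hw) hv)
  obtain ⟨ξ, hξ, hr, hi, hk, hk'⟩ := P9.exists_ext hP h0 hθ h2 h4 hV
  have hle := P9.HV_le hP (P9.C_le (M := M) (U := U) (H0 := H0))
  refine ⟨cfInd _ M ξ, inertia_cfInd_irr le_sup_left (hle.trans (P9.der_le hP)) (Fcore_normal M)
    hθ.isIrr (fun x hx => ?_) hξ.isIrr (hr ▸ P9.cfdot_lin_cfRes le_sup_left hξ), ?_,
    mem_seqIndD.2 ⟨_, hi, hk, hk', (cfInd_cfInd hle (P9.der_le hP)).symm⟩, ξ, hξ, rfl⟩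
  · obtain ⟨h, hh, v, hv, w, hw, rfl⟩ := P9.decomp hP hx.1
    have h5 : v * w ∈ inertia θ :=
      ((inertia θ).mul_mem_cancel_left (le_inertia hθ.mem_CF hh)).1 hx.2
    by_cases hw1 : w = 1
    · rw [hw1, mul_one] at h5 ⊢
      exact mul_mem_sup hh (hV.ge ⟨hv, h5⟩)
    exfalso
    have hv' : w⁻¹ * v * w ∈ U := conj_mem_of_mem_normalizer' (hP.nUW1 hw) hv
    set y := w⁻¹ * v * w with hy
    have h6 : ∀ k ∈ H1, θ1 (y * k * y⁻¹) = conj (θ1 k) := fun k hk => by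
      rw [← e1 k hk, ← mem_inertia.1 h5 k,
        ← e2 w hw hw1 _ (conj_mem_of_mem_normalizer (h1.normal hv') hk)]
      congr 1; rw [hy]; group
    have h7 : ∀ n : ℕ, θ1 (y ^ (2 * n + 1) * g * (y ^ (2 * n + 1))⁻¹) = conj (θ1 g) := by
      intro n
      induction n with
      | zero => simpa using h6 g hg
      | succ n ih =>
        have a1 := conj_mem_of_mem_normalizer (h1.normal (pow_mem hv' (2 * n + 1))) hg
        have a2 := conj_mem_of_mem_normalizer (h1.normal hv') a1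
        have a3 := h6 _ a2
        rw [h6 _ a1, ih] at a3
        rw [← Complex.conj_conj (conj (θ1 g)), ← a3]
        congr 1
        rw [show 2 * (n + 1) + 1 = 1 + 1 + (2 * n + 1) by ring, pow_add, pow_add, pow_one]
        group
    obtain ⟨n, hn⟩ := hodd
    have h8 := h7 n
    rw [← hn, pow_card_eq_one', one_mul, inv_one, mul_one] at h8
    have h9 := hθ1.mul_conj (h1.le_H hg)
    have h10 := hθ1.map_pow (h1.le_H hg) (2 * n + 1)
    rw [← hn, pow_card_eq_one', hθ1.one, hn, pow_succ, pow_mul, sq] at h10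
    rw [← h8] at h9
    rw [h9, one_pow, one_mul] at h10
    exact hg1 h10.symm
  · rw [cfInd_one (hle.trans (P9.der_le hP)), hξ.one, mul_one, P9.relIndex_HV_M hP P9.C_le]

theorem P9.commutator_H_U1 : ⁅fittingHallOf M, U ⊓ centMod H1 H0⁆ ≤ D := by
  rw [← hD.sup_eq]
  refine CommCalc.commutator_sup_left_le (h1.le_H.trans (P9.H_norm_of_le h0 hD.H0_le hD.le_H))
    le_normalizer ?_ (le_normalizer_iff_commutator_le_left.1 (inf_le_left.trans hD.normal))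
  exact ((P9.le_centMod_iff ((inf_le_left.trans (P9.U_le hP)).trans h0.normal)).1
    inf_le_right).trans hD.H0_le

omit hD in
theorem P9.C_le_U1 {w : G} (hw : w ∈ W1) :
    FcomplKer M U H0 ≤ U ⊓ centMod (H1.map (MulAut.conj w).toMonoidHom) H0 := fun _ hc =>
  ⟨hc.1, hc.2.1, fun h hh => hc.2.2 h ((P9.conj_facts hP h0 h1 hw).2.1 hh)⟩

omit hD in
theorem P9.C_le_U1' : FcomplKer M U H0 ≤ U ⊓ centMod H1 H0 := by
  simpa only [map_conj_one] using P9.C_le_U1 hP h0 h1 W1.one_mem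

theorem P9.inertia_theta1 {θ : G → ℂ} (hθ : IsLin (fittingHallOf M) θ)
    (h2 : D ≤ cfker (fittingHallOf M) θ) (h3 : ¬ fittingHallOf M ≤ cfker (fittingHallOf M) θ) :
    U ⊓ inertia θ = U ⊓ centMod H1 H0 := by
  refine le_antisymm (le_inf inf_le_left ?_) (le_inf inf_le_left fun v hv => ?_)
  · simpa only [map_conj_one] using P9.inertia_le_centMod hP h0 h1 hθ (hD.H0_le.trans h2)
      W1.one_mem (by rw [map_conj_one]; exact P9.H1_not_le hD h2 h3)
  · refine (P9.lin_mem_inertia hθ (P9.U_norm_H hP hv.1)).2 fun h hh => h2 ?_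
    have := P9.commutator_H_U1 hP h0 h1 hD
    rw [commutator_comm] at this
    exact this (commutator_mem_commutator hv hh)

omit hP h1 in
theorem P9.cfker_theta1 {θ : G → ℂ} (h2 : D ≤ cfker (fittingHallOf M) θ)
    (h3 : ¬ fittingHallOf M ≤ cfker (fittingHallOf M) θ) : cfker (fittingHallOf M) θ = D :=
  (P9.eq_or_eq_of_relIndex_prime (by rw [hD.card]; exact P9.prime h0) h2 cfker_le).resolve_right
    fun h => h3 h.ge

theorem P9.mem_der_of_norm_D {x : G} (hx : x ∈ M) (h : x ∈ normalizer (D : Set G)) :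
    x ∈ (⁅M, M⁆ : Subgroup G) := by
  obtain ⟨k, hk, v, hv, w, hw, rfl⟩ := P9.decomp hP hx
  by_cases hw1 : w = 1
  · rw [hw1, mul_one]; exact mul_mem (hP.H_le_der hk) (hP.U_le_der hv)
  exfalso
  have h2 : w ∈ normalizer (D : Set G) := (Subgroup.mul_mem_cancel_left _ (hD.normal hv)).1
    ((Subgroup.mul_mem_cancel_left _ (P9.H_norm_of_le h0 hD.H0_le hD.le_H hk)).1 h)
  refine hD.not_le fun g hg => ?_
  have := conj_mem_of_mem_normalizer h2
    (hD.conj_le w⁻¹ (inv_mem hw) (inv_ne_one.2 hw1) (conj_mem_map_conj hg))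
  simpa [mul_assoc] using this

theorem P9.inertia_theta1_M {θ : G → ℂ} (hθ : IsLin (fittingHallOf M) θ)
    (h2 : D ≤ cfker (fittingHallOf M) θ) (h3 : ¬ fittingHallOf M ≤ cfker (fittingHallOf M) θ) :
    M ⊓ inertia θ ≤ fittingHallOf M ⊔ (U ⊓ centMod H1 H0) := fun x hx =>
  P9.der_inf_le hP (le_inertia hθ.mem_CF) (P9.inertia_theta1 hP h0 h1 hD hθ h2 h3).le
    ⟨P9.mem_der_of_norm_D hP h0 h1 hD hx.1 (P9.cfker_theta1 h0 hD h2 h3 ▸
      P9.inertia_normalizes_cfker (Fcore_normal M hx.1) hx.2), hx.2⟩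

open Classical in
/-- PF (9.8)(d). -/
theorem P9.nonGalois_d :
    (centMod H1 H0).relIndex U ^ 2 * Nat.card ↥⁅U, U⁆ ∣ (PtypePrime M H0 - 1) * Nat.card U ∧
      (PtypePrime M H0 - 1) * Nat.card U / ((centMod H1 H0).relIndex U ^ 2 * Nat.card ↥⁅U, U⁆) ≤
        ((seqIndD ⁅M, M⁆ M (fittingHallOf M) (H0 ⊔ ⁅U, U⁆)).filter fun ζ =>
          IsIrr M ζ ∧ ζ 1 = (Nat.card W1 * (centMod H1 H0).relIndex U : ℕ)).card := by
  set U1 := U ⊓ centMod H1 H0 with hU1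
  set a := (centMod H1 H0).relIndex U with ha
  have ha' : U1.relIndex U = a := by rw [hU1, inf_comm, inf_relIndex_right]
  have hU1U : U1 ≤ U := inf_le_left
  have hC := P9.C_le_U1' hP h0 h1
  have hU'C := P9.der_U_le_C hP h0
  have hU'1 : ⁅U, U⁆ ≤ U1 := hU'C.trans hC
  have c1 := card_mul_relIndex hU1U
  have c2 := card_mul_relIndex hU'1
  obtain ⟨m, hm⟩ := h1.dvd
  rw [← ha] at hm
  rw [ha'] at c1
  have c3 : (PtypePrime M H0 - 1) * Nat.card U =
      a ^ 2 * Nat.card ↥⁅U, U⁆ * (m * (⁅U, U⁆ : Subgroup G).relIndex U1) := by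
    rw [hm, ← c1, ← c2]; ring
  have ha0 : 0 < a := lt_trans one_pos h1.one_lt
  refine ⟨⟨_, c3⟩, ?_⟩
  rw [c3, Nat.mul_div_cancel_left _ (Nat.mul_pos (pow_pos ha0 _) Nat.card_pos)]
  set H := fittingHallOf M with hH
  set T := H ⊔ U1 with hT
  have hTK : T ≤ ⁅M, M⁆ := P9.HV_le hP hU1U
  have hTM : T ≤ M := hTK.trans (P9.der_le hP)
  have hKT : ⁅M, M⁆ ≤ normalizer (T : Set G) := by
    rw [← P9.sup_HU hP]
    exact sup_le (le_sup_left.trans le_normalizer) (P9.le_normalizer_sup' (P9.U_norm_H hP)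
      (P9.U_norm_of_C_le hP h0 hC hU1U))
  have hUU' : U ≤ normalizer ((⁅U, U⁆ : Subgroup G) : Set G) := normalizer_commutator_ge_left U U
  have hHN : H ≤ normalizer ((D ⊔ ⁅U, U⁆ : Subgroup G) : Set G) :=
    le_normalizer_iff_commutator_le_right.2 (le_sup_of_le_left
      (CommCalc.commutator_sup_right_le le_normalizer ((commutator_le_self U).trans hD.normal)
        (le_normalizer_iff_commutator_le_right.1 (P9.H_norm_of_le h0 hD.H0_le hD.le_H))
        ((commutator_mono le_rfl hU'1).trans (P9.commutator_H_U1 hP h0 h1 hD))))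
  have hab : ⁅T, T⁆ ≤ D ⊔ ⁅U, U⁆ := P9.commutator_sup_sup_le hHN
    (hU1U.trans (P9.le_normalizer_sup' hD.normal hUU'))
    (le_sup_of_le_left ((P9.abelem h0).1.trans hD.H0_le))
    (le_sup_of_le_left (P9.commutator_H_U1 hP h0 h1 hD))
    (le_sup_of_le_right (commutator_mono hU1U hU1U))
  have hDH : D ⊔ ⁅U, U⁆ ≤ H ⊔ ⁅U, U⁆ := sup_le_sup_right hD.le_H _
  have hHT : H ⊔ ⁅U, U⁆ ≤ T := sup_le_sup_left hU'1 _
  have n1 := card_irr_ker_of_commutator_le (hDH.trans hHT) hab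
  have n2 := card_irr_ker_of_commutator_le hHT (hab.trans hDH)
  have i1 : (H ⊔ ⁅U, U⁆).relIndex T = (⁅U, U⁆ : Subgroup G).relIndex U1 :=
    P9.relIndex_sup_sup hU'1 (hU1U.trans (P9.U_norm_H hP))
      (le_bot_iff.1 ((inf_le_inf_left _ hU1U).trans hP.defHU.2.2.1.le))
  have i2 : (D ⊔ ⁅U, U⁆).relIndex (H ⊔ ⁅U, U⁆) = PtypePrime M H0 := by
    have e : H ⊔ ⁅U, U⁆ = (D ⊔ ⁅U, U⁆) ⊔ H := by
      rw [sup_comm (D ⊔ _), ← sup_assoc, sup_eq_left.2 hD.le_H]
    rw [e, P9.relIndex_sup_of_le le_rfl hHN, ← inf_relIndex_right, inf_comm,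
      P9.inf_sup_eq_of_le hD.le_H ((commutator_le_self U).trans hD.normal), sup_eq_left.2,
      hD.card]
    exact (inf_le_inf_left _ (commutator_le_self U)).trans (hP.defHU.2.2.1.le.trans bot_le)
  rw [← relIndex_mul_relIndex _ _ _ hDH hHT, i1, i2] at n1
  rw [i1] at n2
  set X := Finset.univ.filter fun ξ : Irr T => D ⊔ ⁅U, U⁆ ≤ cfker T ξ ∧ ¬ H ≤ cfker T ξ with hX
  have hXc : X.card = a * (m * (⁅U, U⁆ : Subgroup G).relIndex U1) := by
    have e : X = (Finset.univ.filter fun ξ : Irr T => D ⊔ ⁅U, U⁆ ≤ cfker T ξ) \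
        (Finset.univ.filter fun ξ : Irr T => H ⊔ ⁅U, U⁆ ≤ cfker T ξ) := by
      ext ξ
      simp only [hX, Finset.mem_filter, Finset.mem_univ, true_and, Finset.mem_sdiff]
      exact ⟨fun h => ⟨h.1, fun h' => h.2 (le_sup_left.trans h')⟩,
        fun h => ⟨h.1, fun h' => h.2 (sup_le h' (le_sup_right.trans h.1))⟩⟩
    rw [e, Finset.card_sdiff_of_subset, n1, n2, ← mul_assoc, ← hm, Nat.sub_one_mul]
    intro ξ
    simp only [Finset.mem_filter, Finset.mem_univ, true_and]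
    exact fun h => hDH.trans h
  have hXp : ∀ ξ ∈ X, IsLin T ξ ∧ D ⊔ ⁅U, U⁆ ≤ cfker T ξ ∧ ¬ H ≤ cfker T ξ ∧
      D ≤ cfker H (cfRes H ξ) ∧ ¬ H ≤ cfker H (cfRes H ξ) := fun ξ hξ => by
    simp only [hX, Finset.mem_filter, Finset.mem_univ, true_and] at hξ
    rw [ξ.isChar.cfker_cfRes le_sup_left]
    exact ⟨ξ.irr.isLin_of_commutator_le (hab.trans hξ.1), hξ.1, hξ.2,
      le_inf hD.le_H (le_sup_left.trans hξ.1), fun h => hξ.2 (h.trans inf_le_right)⟩
  have hirr : ∀ ξ ∈ X, IsIrr M (cfInd T M ξ) := fun ξ hξ => by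
    obtain ⟨a1, a2, a3, a4, a5⟩ := hXp ξ hξ
    exact inertia_cfInd_irr le_sup_left hTM (Fcore_normal M) (a1.cfRes le_sup_left).isIrr
      (P9.inertia_theta1_M hP h0 h1 hD (a1.cfRes le_sup_left) a4 a5) a1.isIrr
      (P9.cfdot_lin_cfRes le_sup_left a1)
  have hle := Finset.card_le_mul_card_image (f := fun ξ : Irr T => cfInd T M ξ) X a (by
    intro ζ hζ
    obtain ⟨ξ, hξ, rfl⟩ := Finset.mem_image.1 hζ
    obtain ⟨a1, a2, a3, a4, a5⟩ := hXp ξ hξ
    have b1 : (cfclass ⁅M, M⁆ (ξ : G → ℂ)).card ≤ a := by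
      rw [card_cfclass, ← ha', ← P9.relIndex_HV_der hP hU1U]
      exact relIndex_le_of_le_left (le_inertia ξ.mem_CF) (relIndex_ne_zero' _ _)
    refine le_trans (Finset.card_le_card_of_injOn (fun ξ : Irr T => (ξ : G → ℂ)) ?_
      fun _ _ _ _ h => Irr.ext h) b1
    intro ξ' hξ'
    obtain ⟨hξ', he⟩ := Finset.mem_filter.1 hξ'
    obtain ⟨b1, b2, b3, b4, b5⟩ := hXp ξ' hξ'
    have l1 := (a1.cfRes le_sup_left : IsLin H _)
    have l2 := (b1.cfRes le_sup_left : IsLin H _)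
    have d1 := inertia_cfdot_cfInd le_sup_left hTM (Fcore_normal M) l1.isIrr
      (P9.inertia_theta1_M hP h0 h1 hD l1 a4 a5) a1.isIrr (P9.cfdot_lin_cfRes le_sup_left a1)
    have d2 := inertia_cfdot_cfInd le_sup_left hTM (Fcore_normal M) l2.isIrr
      (P9.inertia_theta1_M hP h0 h1 hD l2 b4 b5) b1.isIrr (P9.cfdot_lin_cfRes le_sup_left b1)
    obtain ⟨x, hx, hxe⟩ := mem_cfclass.1 (mem_cfclass_of_constt (Fcore_le M) (Fcore_normal M)
      (hirr ξ hξ) l1.isIrr l2.isIrr (d1 ▸ P9.cfdot_lin_cfRes le_sup_left a1)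
      (he ▸ d2 ▸ P9.cfdot_lin_cfRes le_sup_left b1))
    have hxK : x ∈ (⁅M, M⁆ : Subgroup G) := by
      refine P9.mem_der_of_norm_D hP h0 h1 hD hx (inv_mem_iff.1 (mem_normalizer_of_conj_mem ?_))
      intro d hd
      rw [← P9.cfker_theta1 h0 hD a4 a5, inv_inv, ← mem_cfker_cfConjg (Fcore_normal M hx), hxe]
      exact b4 hd
    have l3 := a1.cfConjg (hKT hxK)
    refine Finset.mem_coe.2 (mem_cfclass.2 ⟨x, hxK, inertia_cfInd_inj le_sup_left hTM
      (Fcore_normal M) l2.isIrr (P9.inertia_theta1_M hP h0 h1 hD l2 b4 b5) l3.isIrr ?_ b1.isIrr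
      (P9.cfdot_lin_cfRes le_sup_left b1) ?_⟩)
    · rw [← hxe, cfdot_cfConjg (Fcore_normal M hx)]; exact P9.cfdot_lin_cfRes le_sup_left a1
    · rw [cfInd_cfConjg hx (hKT hxK)]; exact he.symm)
  rw [hXc] at hle
  refine (Nat.le_of_mul_le_mul_left hle ha0).trans (Finset.card_le_card fun ζ hζ => ?_)
  obtain ⟨ξ, hξ, rfl⟩ := Finset.mem_image.1 hζ
  obtain ⟨a1, a2, a3, a4, a5⟩ := hXp ξ hξ
  refine Finset.mem_filter.2 ⟨mem_seqIndD.2 ⟨cfInd T ⁅M, M⁆ ξ, ?_, ?_, ?_,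
    (cfInd_cfInd hTK (P9.der_le hP)).symm⟩, hirr ξ hξ, ?_⟩
  · exact inertia_cfInd_irr le_sup_left hTK ((P9.der_le hP).trans (Fcore_normal M))
      (a1.cfRes le_sup_left).isIrr ((inf_le_inf_right _ (P9.der_le hP)).trans
      (P9.inertia_theta1_M hP h0 h1 hD (a1.cfRes le_sup_left) a4 a5)) a1.isIrr
      (P9.cfdot_lin_cfRes le_sup_left a1)
  · exact (sub_cfker_Ind_irr hTK ((P9.der_le hP).trans (P9.normal_sup hP h0 hU'C hUU'
      (Cop.le_normalizer_commutator hP.nUW1 hP.nUW1))) a1.isIrr).2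
      ((sup_le_sup_right hD.H0_le _).trans a2)
  · rwa [sub_cfker_Ind_irr hTK ((P9.der_le hP).trans (Fcore_normal M)) a1.isIrr]
  · rw [cfInd_one hTM, a1.one, mul_one, P9.relIndex_HV_M hP hU1U, ha']

end character

end CfsgLib.FT
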