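import Mathlib
import Cfsg.Agent.Lib.FT.PF7

/-! Peterfalvi, section 9: the abstract part of (9.11). -/

set_option autoImplicit false

namespace CfsgLib.FT

open Cfsg Subgroup
open scoped commutatorElement ComplexConjugate

variable {G : Type*} [Group G] [Fintype G]

namespace P9

section proj
variable {L : Subgroup G} {ι : Type*} (s : Finset ι) (f : ι → G → ℂ)
  (h1 : ∀ i ∈ s, cfdot L (f i) (f i) = 1) (h2 : ∀ i ∈ s, ∀ j ∈ s, i ≠ j → cfdot L (f i) (f j) = 0)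
include h1 h2

theorem cfdot_sub_proj (β : G → ℂ) {j : ι} (hj : j ∈ s) :
    cfdot L (β - ∑ i ∈ s, cfdot L β (f i) • f i) (f j) = 0 := by
  rw [cfdot_sub_left, cfdot_sum_smul_ortho s f _ h2 hj, h1 j hj, mul_one, sub_self]

theorem cfnorm_sum_smul (c : ι → ℂ) : cfnorm L (∑ i ∈ s, c i • f i) = ∑ i ∈ s, ‖c i‖ ^ 2 := by
  rw [cfnorm_sum_of_ortho s _ fun i hi j hj hij => by
    rw [cfdot_smul_left, cfdot_smul_right, h2 i hi j hj hij, mul_zero, mul_zero]]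
  exact Finset.sum_congr rfl fun i hi => by
    rw [cfnorm_smul, cfnorm_eq_one_iff.2 (h1 i hi), mul_one]

theorem cfnorm_proj (β : G → ℂ) : cfnorm L β =
    cfnorm L (β - ∑ i ∈ s, cfdot L β (f i) • f i) + ∑ i ∈ s, ‖cfdot L β (f i)‖ ^ 2 := by
  rw [← cfnorm_sum_smul s f h1 h2, ← cfnorm_add_of_ortho, sub_add_cancel]
  rw [cfdot_sum_right]
  exact Finset.sum_eq_zero fun i hi => by
    rw [cfdot_smul_right, cfdot_sub_proj s f h1 h2 β hi, mul_zero]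

theorem bessel (β : G → ℂ) : ∑ i ∈ s, ‖cfdot L β (f i)‖ ^ 2 ≤ cfnorm L β := by
  rw [cfnorm_proj s f h1 h2 β]
  exact le_add_of_nonneg_left cfnorm_nonneg

end proj

theorem one_le_norm_int {z : ℂ} {n : ℤ} (h : z = n) (h0 : z ≠ 0) : 1 ≤ ‖z‖ ^ 2 := by
  subst h
  have : n ≠ 0 := fun h => h0 (by simp [h])
  rw [Complex.norm_intCast, sq_abs]
  exact_mod_cast (one_le_sq_iff_one_le_abs n).2 (Int.one_le_abs this)

variable {L : Subgroup G} {S S1 S3 S4 : Finset (G → ℂ)} {τ τ1 τ3 : CFMap G}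
  {R : (G → ℂ) → Finset (G → ℂ)}

theorem sub_mem_zspan {φ ψ : G → ℂ} (h1 : φ ∈ S) (h2 : ψ ∈ S) : φ - ψ ∈ zspan S :=
  sub_mem (subset_zspan h1) (subset_zspan h2)

theorem coh_sub (h : CoherentWith L S τ τ1) {φ ψ : G → ℂ} (h1 : φ ∈ S) (h2 : ψ ∈ S)
    (he : φ 1 = ψ 1) : τ1 φ = τ1 ψ + τ (φ - ψ) := by
  rw [← h.agree _ (sub_mem_zspan h1 h2) (by simp [he]), map_sub, add_sub_cancel]

open Classical in
/-- PF (9.11.6) to (9.11.8). -/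
theorem bridge_extend (h : Subcoherent L S τ R) (hS1 : ConjCSubset S1 S) (hS3 : ConjCSubset S3 S)
    (hd : Disjoint S1 S3) (hi1 : ∀ ψ ∈ S1, IsIrr L ψ) (hτ1 : CoherentWith L S1 τ τ1)
    (hτ3 : CoherentWith L S3 τ τ3) (hS4 : S4 ⊆ S3) (hi4 : ∀ ψ ∈ S4, IsIrr L ψ)
    {ψ1 l1 : G → ℂ} (hψ1 : ψ1 ∈ S1) (hl1 : l1 ∈ S4) {n : ℕ} (hn : 1 < n) (hc : S1.card = 2 * n)
    (hd1 : ∀ ψ ∈ S1, ψ 1 = ψ1 1) (hd3 : ∀ ψ ∈ S3, ψ 1 = n * ψ1 1) {α : G → ℂ}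
    (hα : α ∈ ZIrr (⊤ : Subgroup G))
    (hα1 : ∀ φ ∈ zspan S, φ 1 = 0 → cfdot ⊤ α (τ φ) = -cfdot L ψ1 φ)
    (hα2 : cfnorm ⊤ α < S4.card) : Coherent L (insert l1 (insert (cfConjC l1) S1)) τ := by
  have hl3 := hS4 hl1
  have hl3' := hS3.2 _ hl3
  have o13 : ∀ ψ ∈ S1, ∀ l ∈ S3, cfdot L ψ l = 0 := fun ψ hψ l hl =>
    h.ortho _ (hS1.1 hψ) _ (hS3.1 hl) fun e => Finset.disjoint_left.1 hd hψ (e ▸ hl)
  have t13 : ∀ ψ ∈ S1, ∀ l ∈ S3, cfdot ⊤ (τ1 ψ) (τ3 l) = 0 := fun ψ hψ l hl =>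
    coherent_ortho h hS1 hτ1 hS3 hτ3 hd (subset_zspan hψ) (subset_zspan hl)
  have n1 : ∀ ψ ∈ S1, cfdot ⊤ (τ1 ψ) (τ1 ψ) = 1 := fun ψ hψ => by
    rw [hτ1.isom _ (subset_zspan hψ) _ (subset_zspan hψ), (hi1 ψ hψ).cfdot_self]
  have n1' : ∀ ψ ∈ S1, ∀ φ ∈ S1, ψ ≠ φ → cfdot ⊤ (τ1 ψ) (τ1 φ) = 0 := fun ψ hψ φ hφ e => by
    rw [hτ1.isom _ (subset_zspan hψ) _ (subset_zspan hφ), h.ortho _ (hS1.1 hψ) _ (hS1.1 hφ) e]
  -- (9.11.6)
  have a3 : ∀ l ∈ S3, cfdot ⊤ α (τ3 l) = 0 := by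
    have a1 : ∀ l ∈ S3, cfdot ⊤ α (τ3 l) = cfdot ⊤ α (τ3 l1) := fun l hl => by
      have e : l 1 = l1 1 := by rw [hd3 l hl, hd3 l1 hl3]
      rw [coh_sub hτ3 hl hl3 e, cfdot_add_right, hα1 _ (sub_mem_zspan (hS3.1 hl) (hS3.1 hl3))
        (by simp [e]), cfdot_sub_right, o13 _ hψ1 _ hl, o13 _ hψ1 _ hl3]
      simp
    obtain ⟨c, hc⟩ := ZIrr_cfdot_int hα (hτ3.virt _ (subset_zspan hl3))
    intro l hl
    rw [a1 l hl]
    by_contra h0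
    have := bessel S4 τ3 (fun ψ hψ => by
      rw [hτ3.isom _ (subset_zspan (hS4 hψ)) _ (subset_zspan (hS4 hψ)), (hi4 ψ hψ).cfdot_self])
      (fun ψ hψ φ hφ e => by
        rw [hτ3.isom _ (subset_zspan (hS4 hψ)) _ (subset_zspan (hS4 hφ)),
          h.ortho _ (hS3.1 (hS4 hψ)) _ (hS3.1 (hS4 hφ)) e]) α
    rw [Finset.sum_congr rfl fun l hl => by rw [a1 l (hS4 hl)], Finset.sum_const,
      nsmul_eq_mul] at this
    have h3 := one_le_norm_int hc h0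
    have : (0 : ℝ) ≤ S4.card := Nat.cast_nonneg _
    nlinarith
  -- (9.11.7)
  set β := l1 - (n : ℂ) • ψ1 with hβ
  have hβS : β ∈ zspan S :=
    sub_mem (subset_zspan (hS3.1 hl3)) (natCast_smul_mem (subset_zspan (hS1.1 hψ1)) n)
  have hβ1 : β 1 = 0 := by simp [hβ, hd3 l1 hl3]
  have hβv := h.isom.virt β hβS hβ1
  have dψ : cfdot L ψ1 ψ1 = 1 := (hi1 _ hψ1).cfdot_self
  have dl : cfdot L l1 l1 = 1 := (hi4 _ hl1).cfdot_self
  have nβ : cfnorm ⊤ (τ β) = 1 + (n : ℝ) ^ 2 := by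
    refine cfnorm_eq_of_cfdot_eq ?_
    rw [h.isom.isom β hβS hβ1 β hβS hβ1, hβ, cfdot_sub_left, cfdot_sub_right, cfdot_sub_right,
      cfdot_smul_left, cfdot_smul_left, cfdot_natCast_smul_right, cfdot_natCast_smul_right,
      dψ, dl, o13 _ hψ1 _ hl3, cfdot_symm_zero (o13 _ hψ1 _ hl3)]
    push_cast; ring
  obtain ⟨b', hb'⟩ := ZIrr_cfdot_int hβv (hτ1.virt _ (subset_zspan hψ1))
  obtain ⟨b, rfl⟩ : ∃ b : ℤ, b' = b - n := ⟨b' + n, by ring⟩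
  have hb : ∀ ψ ∈ S1.erase ψ1, cfdot ⊤ (τ β) (τ1 ψ) = b := fun ψ hψ => by
    obtain ⟨e, hψ⟩ := Finset.mem_erase.1 hψ
    rw [coh_sub hτ1 hψ hψ1 (hd1 ψ hψ), cfdot_add_right, hb', h.isom.isom β hβS hβ1 _
      (sub_mem_zspan (hS1.1 hψ) (hS1.1 hψ1)) (by simp [hd1 ψ hψ]), hβ, cfdot_sub_left,
      cfdot_sub_right, cfdot_smul_left, cfdot_sub_right, dψ, cfdot_symm_zero (o13 _ hψ1 _ hl3),
      cfdot_symm_zero (o13 _ hψ _ hl3), h.ortho _ (hS1.1 hψ1) _ (hS1.1 hψ) e.symm]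
    push_cast; ring
  have hce : ((S1.erase ψ1).card : ℤ) = 2 * n - 1 := by
    rw [Finset.card_erase_of_mem hψ1, hc]; omega
  set X := τ β - ∑ ψ ∈ S1, cfdot ⊤ (τ β) (τ1 ψ) • τ1 ψ with hX
  have hXv : X ∈ ZIrr (⊤ : Subgroup G) := sub_mem hβv (Submodule.sum_mem _ fun ψ hψ => by
    obtain ⟨c, hc⟩ := ZIrr_cfdot_int hβv (hτ1.virt _ (subset_zspan hψ))
    rw [hc]; exact intCast_smul_mem (hτ1.virt _ (subset_zspan hψ)) c)
  have hX3 : ∀ l ∈ S3, cfdot ⊤ X (τ3 l) = cfdot ⊤ (τ β) (τ3 l) := fun l hl => by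
    rw [hX, cfdot_sub_left, cfdot_sum_left, Finset.sum_eq_zero, sub_zero]
    intro ψ hψ
    rw [cfdot_smul_left, t13 ψ hψ l hl, mul_zero]
  have hX1 : cfdot ⊤ X (τ3 l1) = cfdot ⊤ X (τ3 (cfConjC l1)) + 1 := by
    have e : l1 1 = cfConjC l1 1 := by rw [hd3 _ hl3, hd3 _ hl3']
    rw [hX3 _ hl3, hX3 _ hl3', coh_sub hτ3 hl3 hl3' e, cfdot_add_right, h.isom.isom β hβS hβ1 _
      (sub_mem_zspan (hS3.1 hl3) (hS3.1 hl3')) (by rw [Pi.sub_apply, e, sub_self]), hβ,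
      cfdot_sub_left, cfdot_sub_right,
      cfdot_smul_left, cfdot_sub_right, dl, o13 _ hψ1 _ hl3, o13 _ hψ1 _ hl3',
      h.ortho_conj (hS3.1 hl3)]
    ring
  have hX0 : X ≠ 0 := fun e => by simp [e] at hX1
  have nX := ZIrr_one_le_cfnorm hXv hX0
  have pr := cfnorm_proj S1 τ1 n1 n1' (τ β)
  rw [← hX, nβ, ← Finset.add_sum_erase _ _ hψ1, hb', Finset.sum_congr rfl fun ψ hψ => by
    rw [hb ψ hψ], Finset.sum_const, nsmul_eq_mul, Complex.norm_intCast, Complex.norm_intCast,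
    sq_abs, sq_abs] at pr
  have hce' : ((S1.erase ψ1).card : ℝ) = 2 * n - 1 := by exact_mod_cast hce
  rw [hce'] at pr
  push_cast at pr
  have hn' : (1 : ℝ) < n := by exact_mod_cast hn
  have hb01 : b = 0 ∨ b = 1 := by
    have : (b : ℝ) ^ 2 - b ≤ 0 := by nlinarith
    have : b ^ 2 - b ≤ 0 := by exact_mod_cast this
    have : b * (b - 1) ≤ 0 := by linarith
    by_contra! hb
    rcases lt_or_gt_of_ne hb.1 with h3 | h3
    · nlinarith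
    · have : 1 < b := by omega
      nlinarith
  have nX1 : cfnorm ⊤ X = 1 := by
    rcases hb01 with rfl | rfl <;> push_cast at pr <;> nlinarith
  have hXd := isDirr_of_cfnorm hXv nX1
  have hαX : cfdot ⊤ α X = 0 := by
    have key : ∀ l ∈ S3, IsIrr L l → cfdot ⊤ X (τ3 l) ≠ 0 → cfdot ⊤ α X = 0 := fun l hl hi h0 => by
      rcases hXd.eq_or_neg_of_cfdot_ne (hτ3.toZIsom.dirr (subset_zspan hl) hi) h0 with e | e
      · rw [e, a3 l hl]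
      · rw [e, cfdot_neg_right, a3 l hl, neg_zero]
    by_cases h0 : cfdot ⊤ X (τ3 (cfConjC l1)) = 0
    · exact key l1 hl3 (hi4 _ hl1) (by rw [hX1, h0, zero_add]; exact one_ne_zero)
    · exact key _ hl3' ((hi4 _ hl1).cfAut _) h0
  -- (9.11.8)
  obtain ⟨x, hx⟩ := ZIrr_cfdot_int hα (hτ1.virt _ (subset_zspan hψ1))
  have hx' : ∀ ψ ∈ S1.erase ψ1, cfdot ⊤ α (τ1 ψ) = x + 1 := fun ψ hψ => by
    obtain ⟨e, hψ⟩ := Finset.mem_erase.1 hψ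
    rw [coh_sub hτ1 hψ hψ1 (hd1 ψ hψ), cfdot_add_right, hx, hα1 _
      (sub_mem_zspan (hS1.1 hψ) (hS1.1 hψ1)) (by simp [hd1 ψ hψ]), cfdot_sub_right, dψ,
      h.ortho _ (hS1.1 hψ1) _ (hS1.1 hψ) e.symm]
    ring
  have hb0 : b = 0 := by
    refine hb01.resolve_right fun hb1 => ?_
    rw [hX, cfdot_sub_right, hα1 β hβS hβ1, cfdot_sum_right, ← Finset.add_sum_erase _ _ hψ1,
      Finset.sum_congr rfl (g := fun _ => (x : ℂ) + 1) fun ψ hψ => by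
        rw [hb ψ hψ, cfdot_intCast_smul_right, hx' ψ hψ, hb1, Int.cast_one, one_mul],
      hb', cfdot_intCast_smul_right, hx, hβ, cfdot_sub_right, cfdot_natCast_smul_right, dψ,
      o13 _ hψ1 _ hl3, Finset.sum_const, nsmul_eq_mul, hb1] at hαX
    have hce'' : ((S1.erase ψ1).card : ℂ) = 2 * n - 1 := by exact_mod_cast hce
    rw [hce''] at hαX
    have : (((n : ℤ) * (x + 1) : ℤ) : ℂ) = (1 : ℤ) := by
      push_cast at hαX ⊢; linear_combination -hαX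
    have h3 : (n : ℤ) * (x + 1) = 1 := by exact_mod_cast this
    have := Int.eq_one_of_mul_eq_one_right (by positivity) h3
    omega
  have hXe : X = τ β + (n : ℂ) • τ1 ψ1 := by
    rw [hX, ← Finset.add_sum_erase _ _ hψ1, Finset.sum_eq_zero fun ψ hψ => by
      rw [hb ψ hψ, hb0, Int.cast_zero, zero_smul], hb', hb0]
    push_cast
    rw [zero_sub, neg_smul, add_zero, sub_neg_eq_add]
  refine extend_coherent_with h hS1 hτ1 hψ1 (hS3.1 hl3)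
    (fun e => Finset.disjoint_left.1 hd e hl3) (a := n) (X := X) (by simpa using hd3 _ hl3) ?_ ?_
  · rw [cfdot_intCast_smul_right, hX, cfdot_sub_proj S1 τ1 n1 n1' _ hψ1, mul_zero]
  · rw [hXe]; simp [hβ]

theorem pow_bound (a : ℕ) (ha : 0 < a) {q : ℕ} (hq : 3 ≤ q) :
    1 + 2 * a * q + q ^ 2 * a ^ 2 + (q + 2) * a ^ 3 < (2 * a + 1) ^ q := by
  induction q, hq using Nat.le_induction with
  | base => have := pow_pos ha 3; have := pow_pos ha 2; nlinarith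
  | succ q hq ih =>
    rw [pow_succ (2 * a + 1)]
    have h1 := Nat.mul_lt_mul_of_pos_right ih (show 0 < 2 * a + 1 by omega)
    refine lt_of_le_of_lt ?_ h1
    have : a ^ 2 ≤ q * a ^ 2 := Nat.le_mul_of_pos_left _ (by omega)
    have : a ^ 3 ≤ q ^ 2 * a ^ 3 := Nat.le_mul_of_pos_left _ (by positivity)
    nlinarith [Nat.zero_le ((q + 2) * a ^ 4)]

end P9

end CfsgLib.FT
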