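import Mathlib
import Cfsg.Agent.Lib.FT.PF9d
import Cfsg.Agent.Lib.FT.PF9e

/-! Peterfalvi, section 9: (9.11). -/

set_option autoImplicit false

namespace CfsgLib.FT

open Cfsg Subgroup
open scoped commutatorElement ComplexConjugate

universe u

variable {G : Type u} [Group G]

section character
variable [Fintype G] {M U W W1 W2 : Subgroup G} (hP : OfTypeP M U W W1 W2)
  {H0 : Subgroup G} (h0 : PtypeKer M U H0) {H1 : Subgroup G} (h1 : NonGaloisData M U W1 H0 H1)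
  {D : Subgroup G} (hD : P9.ComplData M U W1 H0 H1 D)
include hP h0 h1 hD

theorem P9.exists_deg_inf {w : G} (hw : w ∈ W1) (hw1 : w ≠ 1) :
    ∃ ζ ∈ seqIndD ⁅M, M⁆ M (fittingHallOf M) (H0 ⊔ FcomplKer M U H0), ζ 1 = (Nat.card W1 *
      (U ⊓ centMod H1 H0 ⊓ centMod (H1.map (MulAut.conj w).toMonoidHom) H0).relIndex U : ℕ) := by
  obtain ⟨θ1, hθ1, hk1, hn1⟩ := P9.exists_theta1 h0 hD
  have hwH := P9.W1_norm_H hP hw
  have hθ2 := hθ1.cfConjg hwH
  have hθ := hθ1.mul hθ2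
  have hone : ∀ w ∈ W1, w ≠ 1 → ∀ h ∈ H1, θ1 (w * h * w⁻¹) = 1 := fun w hw hw1 h hh =>
    ((P9.lin_mem_cfker hθ1).1 (hk1 (hD.conj_le w hw hw1 (conj_mem_map_conj hh)))).2
  obtain ⟨g, hg, hg1⟩ : ∃ g ∈ H1, θ1 g ≠ 1 := by
    by_contra! h
    exact P9.H1_not_le hD hk1 hn1 fun g hg => (P9.lin_mem_cfker hθ1).2 ⟨h1.le_H hg, h g hg⟩
  have h2 : H0 ≤ cfker (fittingHallOf M) (θ1 * cfConjg w θ1) :=
    (le_inf (hD.H0_le.trans hk1) ((le_cfker_cfConjg hwH (h0.normal (hP.W1_le hw))).2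
      (hD.H0_le.trans hk1))).trans cfker_inf_le_mul
  have h3 : ¬ H1.map (MulAut.conj (1 : G)).toMonoidHom ≤
      cfker (fittingHallOf M) (θ1 * cfConjg w θ1) := fun h => by
    rw [map_conj_one] at h
    have h4 := ((P9.lin_mem_cfker hθ).1 (h hg)).2
    have h5 := hone w⁻¹ (inv_mem hw) (inv_ne_one.2 hw1) g hg
    rw [inv_inv] at h5
    rw [Pi.mul_apply, cfConjg_apply, h5, mul_one] at h4
    exact hg1 h4
  have h4 : ¬ H1.map (MulAut.conj w).toMonoidHom ≤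
      cfker (fittingHallOf M) (θ1 * cfConjg w θ1) := fun h => by
    have h4 := ((P9.lin_mem_cfker hθ).1 (h (conj_mem_map_conj hg))).2
    rw [Pi.mul_apply, cfConjg_apply, hone w hw hw1 g hg, one_mul] at h4
    exact hg1 (by simpa [mul_assoc] using h4)
  have hV : U ⊓ centMod H1 H0 ⊓ centMod (H1.map (MulAut.conj w).toMonoidHom) H0 =
      U ⊓ inertia (θ1 * cfConjg w θ1) := by
    refine le_antisymm (fun v hv => ?_) (le_inf (le_inf inf_le_left ?_)
      (P9.inertia_le_centMod hP h0 h1 hθ h2 hw h4))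
    · refine ⟨hv.1.1, ?_⟩
      have a1 := ((P9.inertia_theta1 hP h0 h1 hD hθ1 hk1 hn1).ge hv.1).2
      have a2 : v ∈ inertia (cfConjg w θ1) := P9.mem_inertia_cfConjg.2
        ((P9.inertia_theta1 hP h0 h1 hD hθ1 hk1 hn1).ge
          ⟨conj_mem_of_mem_normalizer' (hP.nUW1 hw) hv.1.1,
            (P9.centMod_map_conj (h0.normal (hP.W1_le hw))).1 hv.2⟩).2
      refine mem_inertia_iff.2 ?_
      rw [cfConjg_mul_fun, mem_inertia_iff.1 a1, mem_inertia_iff.1 a2]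
    · simpa only [map_conj_one] using P9.inertia_le_centMod hP h0 h1 hθ h2 W1.one_mem h3
  obtain ⟨ξ, hξ, -, hi, hk, hk'⟩ := P9.exists_ext hP h0 hθ h2
    (fun h => h4 ((P9.conj_facts hP h0 h1 hw).2.1.trans h)) hV
  have hle := P9.HV_le hP (hV.le.trans inf_le_left)
  refine ⟨_, mem_seqIndD.2 ⟨_, hi, hk, hk', rfl⟩, ?_⟩
  rw [cfInd_cfInd hle (P9.der_le hP), cfInd_one (hle.trans (P9.der_le hP)), hξ.one, mul_one,
    P9.relIndex_HV_M hP (hV.le.trans inf_le_left)]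

omit hD in
theorem P9.U1_eq_C (hq : (Nat.card W1).Prime) {w : G} (hw : w ∈ W1) (hw1 : w ≠ 1)
    (h : U ⊓ centMod H1 H0 ≤ centMod (H1.map (MulAut.conj w).toMonoidHom) H0) :
    U ⊓ centMod H1 H0 = FcomplKer M U H0 := by
  have a1 : w⁻¹ ∈ normalizer ((U ⊓ centMod H1 H0 : Subgroup G) : Set G) :=
    mem_normalizer_of_conj_mem fun v hv => by
      rw [inv_inv]
      exact ⟨conj_mem_of_mem_normalizer' (hP.nUW1 hw) hv.1,
        (P9.centMod_map_conj (h0.normal (hP.W1_le hw))).1 (h hv)⟩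
  have a2 : zpowers w = W1 := by
    refine eq_of_le_of_card_le (zpowers_le.2 hw) (le_of_eq ?_)
    rcases (Nat.dvd_prime hq).1 (card_dvd_of_le (zpowers_le.2 hw)) with h | h
    · exact absurd (zpowers_eq_bot.1 (card_eq_one.1 h)) hw1
    · exact h.symm
  have a3 : W1 ≤ normalizer ((U ⊓ centMod H1 H0 : Subgroup G) : Set G) :=
    a2 ▸ zpowers_le.2 (inv_mem_iff.1 a1)
  exact le_antisymm (fun v hv => P9.mem_C_of_forall hP h0 h1.le_H h1.iSup_eq hv.1 fun x hx =>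
    (conj_mem_of_mem_normalizer' (a3 hx) hv).2) (P9.C_le_U1' hP h0 h1)

omit hD in
theorem P9.cfnorm_gamma (h : ∀ w ∈ W1, w ≠ 1 →
    U ⊓ centMod H1 H0 ⊓ centMod (H1.map (MulAut.conj w).toMonoidHom) H0 ≤ FcomplKer M U H0) :
    cfnorm M (cfInd (fittingHallOf M ⊔ (U ⊓ centMod H1 H0)) M
        (cf1 (fittingHallOf M ⊔ (U ⊓ centMod H1 H0)))) =
      (centMod H1 H0).relIndex U + (Nat.card W1 - 1) * ((centMod H1 H0).relIndex U : ℝ) ^ 2 /
        (FcomplKer M U H0).relIndex U := by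
  classical
  set U1 := U ⊓ centMod H1 H0 with hU1
  set a := (centMod H1 H0).relIndex U with ha
  have ha' : U1.relIndex U = a := by rw [hU1, inf_comm, inf_relIndex_right]
  have hU1U : U1 ≤ U := inf_le_left
  have hC := P9.C_le_U1' hP h0 h1
  set H := fittingHallOf M with hH
  set T := H ⊔ U1 with hT
  set C := FcomplKer M U H0 with hC'
  set K : Subgroup G := ⁅M, M⁆ with hK
  have hTK : T ≤ K := P9.HV_le hP hU1U
  have hKM : K ≤ M := P9.der_le hP
  have hKT : K ≤ normalizer (T : Set G) := by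
    rw [hK, ← P9.sup_HU hP]
    exact sup_le (le_sup_left.trans le_normalizer) (P9.le_normalizer_sup' (P9.U_norm_H hP)
      (P9.U_norm_of_C_le hP h0 hC hU1U))
  have hHC : M ≤ normalizer ((H ⊔ C : Subgroup G) : Set G) :=
    P9.normal_H_sup hP (P9.U_norm_C hP h0) (P9.W1_norm_C hP h0)
  have hf : cf1 T ∈ CF K := CFon_CF (cfInd1_mem_CFon hTK fun x hx y hy =>
    conj_mem_of_mem_normalizer (hKT hx) hy)
  have hdot : ∀ V : Subgroup G, V ≤ U → cfdot K (cf1 (H ⊔ V)) (cf1 (H ⊔ V)) =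
      (V.relIndex U : ℂ)⁻¹ := fun V hV => by
    rw [cf1_eq_cfInd1, cfdot_cfInd1 (P9.HV_le hP hV), ← P9.relIndex_HV_der hP hV,
      card_eq_relIndex_mul (P9.HV_le hP hV), ← Nat.card_coe_set_eq]
    have := card_ne_zero (H ⊔ V)
    have := relIndex_cast_ne_zero (H ⊔ V) ⁅M, M⁆
    push_cast
    field_simp
  have key : ∀ x ∈ M, x ∉ K → ∀ g, (g ∈ T ∧ x⁻¹ * g * x ∈ T) ↔ g ∈ H ⊔ C := by
    intro x hx hxK g
    refine ⟨fun hg => ?_, fun hg => ⟨sup_le_sup_left hC _ hg,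
      sup_le_sup_left hC _ (conj_mem_of_mem_normalizer' (hHC hx) hg)⟩⟩
    obtain ⟨k, hk, w, hw, rfl⟩ := hP.defM.2.2.2 x hx
    have hw1 : w ≠ 1 := fun e => hxK (by rwa [e, mul_one])
    obtain ⟨y, hy, v, hv, e⟩ := (mem_sup_iff_of_le_normalizer' (hU1U.trans (P9.U_norm_H hP))).1
      (conj_mem_of_mem_normalizer' (hKT hk) hg.1)
    have a1 : w⁻¹ * v * w ∈ T := by
      refine (T.mul_mem_cancel_left (le_sup_left (a := H)
        (conj_mem_of_mem_normalizer' (P9.W1_norm_H hP hw) hy))).1 ?_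
      convert hg.2 using 1
      rw [mul_inv_rev, mul_assoc w⁻¹ k⁻¹, mul_assoc w⁻¹ (k⁻¹ * g), ← mul_assoc (k⁻¹ * g), ← e]
      group
    have a2 : w⁻¹ * v * w ∈ U := conj_mem_of_mem_normalizer' (hP.nUW1 hw) hv.1
    have a3 : U ⊓ T = U1 := by
      rw [hT, sup_comm]
      refine le_antisymm (fun x hx => ?_) (le_inf hU1U le_sup_left)
      obtain ⟨v, hv, y, hy, rfl⟩ :=
        (mem_sup_iff_of_le_normalizer (hU1U.trans (P9.U_norm_H hP))).1 hx.2
      have : y ∈ H ⊓ U := ⟨hy, (U.mul_mem_cancel_left hv.1).1 hx.1⟩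
      rw [hP.defHU.2.2.1, mem_bot] at this
      rwa [this, mul_one]
    have a4 : v ∈ C := h w hw hw1 ⟨hv, (P9.centMod_map_conj (h0.normal (hP.W1_le hw))).2
      (a3.le ⟨a2, a1⟩).2⟩
    have := conj_mem_of_mem_normalizer (hHC (hKM hk)) (e ▸ mul_mem_sup hy a4)
    simpa [mul_assoc] using this
  have hF : ∀ x ∈ elems (M : Set G), cfdot K (cf1 T) (cfConjg x (cf1 T)) =
      if x ∈ K then (a : ℂ)⁻¹ else (C.relIndex U : ℂ)⁻¹ := fun x hx => by
    split_ifs with hxK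
    · rw [cfConjg_cf1 (hKT hxK), hdot U1 hU1U, ha']
    · rw [← hdot C P9.C_le]
      unfold cfdot
      congr 1
      refine Finset.sum_congr rfl fun g _ => ?_
      have := key x (mem_elems.1 hx) hxK g
      rw [cfConjg_apply]
      by_cases a1 : g ∈ H ⊔ C
      · rw [cf1_apply a1, cf1_apply (this.2 a1).1, cf1_apply (this.2 a1).2]
      · rw [cf1_apply_of_notMem a1, zero_mul]
        by_cases a2 : g ∈ T
        · rw [cf1_apply_of_notMem (fun a3 => a1 (this.1 ⟨a2, a3⟩)), map_zero, mul_zero]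
        · rw [cf1_apply_of_notMem a2, zero_mul]
  have hfil : (elems (M : Set G)).filter (· ∈ K) = elems (K : Set G) := by
    ext x; simp only [Finset.mem_filter, mem_elems]; exact ⟨fun h => h.2, fun h => ⟨hKM h, h⟩⟩
  have hc1 := Finset.card_filter_add_card_filter_not (s := elems (M : Set G)) (· ∈ K)
  rw [hfil, card_elems, card_elems, card_eq_relIndex_mul hKM, P9.relIndex_der hP] at hc1
  have hc2 : (((elems (M : Set G)).filter (· ∉ K)).card : ℂ) = (Nat.card W1 - 1) * Nat.card K := by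
    have := congrArg (Nat.cast : ℕ → ℂ) hc1
    push_cast at this
    linear_combination this
  refine cfnorm_eq_of_cfdot_eq ?_
  rw [← cfInd_cfInd hTK hKM, cfInd_cf1_normal hTK hKT, map_smul, cfdot_smul_left,
    cfdot_natCast_smul_right, cfdot_cfInd_cfRes hKM cfInd_mem_CF,
    cfRes_cfInd_normal hKM (P9.der_normal hP) hf, cfdot_smul_right, cfdot_sum_right,
    Finset.sum_congr rfl hF, Finset.sum_ite, Finset.sum_const, Finset.sum_const, hfil, card_elems,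
    nsmul_eq_mul, nsmul_eq_mul, hc2, P9.relIndex_HV_der hP hU1U, ha']
  have := card_ne_zero K
  have : (a : ℂ) ≠ 0 := relIndex_cast_ne_zero _ _
  have := relIndex_cast_ne_zero C U
  rw [map_inv₀, map_natCast]
  push_cast
  field_simp

theorem P9.gamma_on {A : Set G} (hA : ∀ x ∈ M, ∀ a ∈ A, x * a * x⁻¹ ∈ A)
    (hc : ∀ h ∈ fittingHallOf M, h ≠ 1 → ∀ k ∈ (⁅M, M⁆ : Subgroup G), k ≠ 1 → k * h = h * k →
      k ∈ A) :
    cfInd (fittingHallOf M ⊔ (U ⊓ centMod H1 H0)) M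
        (cf1 (fittingHallOf M ⊔ (U ⊓ centMod H1 H0))) ∈ CFon M (insert 1 A) := by
  obtain ⟨θ1, hθ1, hk1, hn1⟩ := P9.exists_theta1 h0 hD
  obtain ⟨ξ, hξ, hr, -, -, hk⟩ := P9.exists_ext hP h0 hθ1 (hD.H0_le.trans hk1) hn1
    (P9.inertia_theta1 hP h0 h1 hD hθ1 hk1 hn1).symm
  have hle := P9.HV_le hP (V := U ⊓ centMod H1 H0) inf_le_left
  rw [sub_cfker_Ind_irr hle ((P9.der_le hP).trans (Fcore_normal M)) hξ.isIrr] at hk
  refine cfInd_mem_CFon (fun x hx a ha => ?_) fun x hx => cf1_apply_of_notMem fun hxT => hx ?_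
  · rcases ha with rfl | ha
    · left; simp
    · right; exact hA x hx a ha
  · by_cases hx1 : x = 1
    · left; exact hx1
    right
    have h2 : fittingHallOf M ⊓ centralizer ({x} : Set G) ≠ ⊥ := fun h =>
      hξ.apply_ne_zero hxT (irr_reg_off_ker_0 hξ.isIrr le_sup_left
        ((hle.trans (P9.der_le hP)).trans (Fcore_normal M)) hk h)
    obtain ⟨⟨h, hh⟩, hh1⟩ := ne_bot_iff_exists_ne_one.1 h2
    exact hc h hh.1 (fun e => hh1 (Subtype.ext e)) x (hle hxT) hx1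
      (mem_centralizer_singleton_iff.1 hh.2).symm

end character

end CfsgLib.FT
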