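import Mathlib
import Cfsg.Agent.Lib.FT.PF10a

/-! Peterfalvi, section 10: (10.5) to (10.8). -/

set_option autoImplicit false

namespace CfsgLib.FT

open Cfsg Subgroup
open scoped commutatorElement ComplexConjugate

variable {G : Type*} [Group G] [Fintype G]

/-- A sum of integers over the irreducible characters of a group of odd order. -/
theorem P10.sum_conj_parity {L : Subgroup G} (hodd : Odd (Nat.card L)) (f : Irr L → ℤ)
    (hf : ∀ i, f i.conj = f i) : Even (∑ i, f i - f 1) := by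
  classical
  rw [← Finset.add_sum_erase _ _ (Finset.mem_univ 1), add_sub_cancel_left,
    ← ZMod.intCast_eq_zero_iff_even, Int.cast_sum]
  refine Finset.sum_involution (fun i _ => i.conj) (fun i _ => ?_) (fun i hi _ h => ?_)
    (fun i hi => ?_) fun i _ => Irr.conj_conj i
  · rw [hf, ← two_mul]; exact mul_eq_zero_of_left rfl _
  · exact (Finset.mem_erase.1 hi).1 ((Irr.conj_eq_self hodd i).1 h)
  · exact Finset.mem_erase.2 ⟨fun h => (Finset.mem_erase.1 hi).1 ((Irr.aut_eq_one _).1 h),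
      Finset.mem_univ _⟩

theorem P10.cfdot_col_row {G0 W W1 W2 : Subgroup G} (h : CycTI G0 W W1 W2) (i : Irr W1)
    (j : Irr W2) : cfdot G0 (∑ l, cycEta G0 W W1 W2 l j) (∑ l, cycEta G0 W W1 W2 i l) = 1 := by
  rw [cfdot_sum_right, Finset.sum_eq_single j]
  · rw [← cfdot_conj, P10.cfdot_sum_col h, if_pos rfl, map_one]
  · intro l _ hl; rw [← cfdot_conj, P10.cfdot_sum_col h, if_neg hl, map_zero]
  · simp

theorem P10.exists_conj_cent {H : Subgroup G} {p : ℕ} (hp : p.Prime) (hi : ¬ p ∣ H.index) {g : G}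
    (hg : p ∣ orderOf g) :
    ∃ x : G, ∃ a ∈ H, a ≠ 1 ∧ x * g * x⁻¹ ∈ centralizer ({a} : Set G) := by
  have := Fact.mk hp
  have h1 : orderOf (g ^ (orderOf g / p)) = p := orderOf_pow_orderOf_div (orderOf_pos g).ne' hg
  obtain ⟨P, hP⟩ := IsSylowIn.exists_in (p := p) H
  have h2 : IsSylowIn p P ⊤ := ⟨le_top, hP.isPGroup, fun h => by
    rw [relIndex_top_right, ← relIndex_mul_index hP.le] at h
    exact ((Nat.Prime.dvd_mul hp).1 h).elim hP.not_dvd hi⟩
  obtain ⟨x, -, hx⟩ := h2.exists_conj_le (Q := zpowers (g ^ (orderOf g / p)))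
    (IsPGroup.of_card (n := 1) (by rw [Nat.card_zpowers, h1, pow_one])) le_top
  refine ⟨x, _, hP.le (hx (conj_mem_map_conj (mem_zpowers _))), fun h => ?_, ?_⟩
  · rw [conj_eq_one_iff] at h
    rw [h, orderOf_one] at h1
    exact hp.one_lt.ne h1
  · rw [mem_centralizer_singleton_iff, ← conj_pow]
    exact (Commute.self_pow _ _).eq

section
variable (hG : IsMinSimpleOddOrder G) {M : Subgroup G} (hM : IsCoatom M)
  {U W W1 W2 : Subgroup G} (hP : OfTypeP M U W W1 W2) (h2 : FTtype M ≠ 2)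
  {d : ℕ} {δ : ℤ} {n : ℕ} (hc : FT345Const M W W1 W2 d δ n) {ζ : G → ℂ}
  (hζirr : IsIrr M ζ) (hζS : ζ ∈ seqIndD ⁅M, M⁆ M ⁅M, M⁆ ⊥) (hζ1 : ζ 1 = Nat.card W1)
include hG hM hP h2 hc hζirr hζS hζ1

omit hM h2 hζirr hζS hζ1 in
theorem P10.n_even {j : Irr W2} (hj : j ≠ 1) : Even n ∧ 2 ≤ n := by
  obtain ⟨a, ha⟩ := (P10.odd hG M).of_dvd_nat
    (((FT_primeTI_hyp hG hP).prTIirr_irr 1 j).degree_dvd_card (hc.deg 1 j hj))
  have h1 := hc.ratio
  have h3 := hc.one_lt
  have h4 : Even ((n : ℤ) * Nat.card W1) := by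
    rw [← h1, ha]
    rcases P10.sign_cases hc hj with h | h <;> rw [h]
    · exact ⟨a, by push_cast; ring⟩
    · exact ⟨a + 1, by push_cast; ring⟩
  have h5 : Even n := by
    have : Even (n * Nat.card W1) := by exact_mod_cast h4
    exact (Nat.even_mul.1 this).resolve_right (Nat.not_even_iff_odd.2 (P10.odd hG W1))
  refine ⟨h5, ?_⟩
  obtain ⟨b, hb⟩ := h5
  rcases b with _ | b
  · rw [hb] at h1
    rcases P10.sign_cases hc hj with h | h <;> omega
  · omega

omit hM h2 hζirr hζS in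
theorem P10.red_sub_one {j : Irr W2} (hj : j ≠ 1) {ψ : G → ℂ} (hψ : ψ 1 = ζ 1) :
    (prTIred M W W1 W2 j - (d : ℂ) • ψ) 1 = 0 := by
  rw [Pi.sub_apply, (FT_primeTI_hyp hG hP).prTIred_1 1, hc.deg 1 j hj, Pi.smul_apply, hψ, hζ1,
    smul_eq_mul, mul_comm, sub_self]

variable {τ1 : CFMap G} (hcoh : CoherentWith M (seqIndD ⁅M, M⁆ M ⁅M, M⁆ ⊥) (FTDade0 M) τ1)
include hcoh

theorem P10.tau_alpha_aux (i : Irr W1) {j : Irr W2} (hj : j ≠ 1) {k : Irr W2} (hk : k ≠ 1) :
    cfdot ⊤ (FTDade0 M (FT345bridge M W W1 W2 δ n ζ i j)) (τ1 (prTIred M W W1 W2 k)) =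
      d * (cfdot ⊤ (FTDade0 M (FT345bridge M W W1 W2 δ n ζ i j)) (τ1 ζ) + n) +
        if j = k then 1 else 0 := by
  have hT := FT_primeTI_hyp hG hP
  have hζ' := cfAut_seqInd (starRingEnd ℂ) hζS
  have e1 : cfConjC ζ 1 = ζ 1 := hζirr.isChar.conj_one
  have a1 := P10.bridge_dot hG hM hP h2 hc hζirr hζS hζ1 subset_rfl hcoh i hj
    (P9.sub_mem_zspan hζS hζ') (sub_eq_zero.2 e1.symm)
  have a2 := P10.bridge_dot hG hM hP h2 hc hζirr hζS hζ1 subset_rfl hcoh i hj
    (sub_mem (subset_zspan (P10.prTIred_mem hT hk)) (natCast_smul_mem (subset_zspan hζ') d))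
    (P10.red_sub_one hG hP hc hζ1 hk e1)
  have a3 := seqInd_conjC_ortho hT.K_le hT.normal le_rfl (P10.odd hG M) hζS
  rw [map_sub, cfdot_sub_right, cfdot_sub_right, P10.bridge_dot_irr hG hP i j hζirr hζS,
    P10.bridge_dot_irr hG hP i j (hζirr.cfAut _) hζ', hζirr.cfdot_self, a3] at a1
  rw [map_sub, map_smul, cfdot_sub_right, cfdot_sub_right, cfdot_natCast_smul_right,
    cfdot_natCast_smul_right, P10.bridge_dot_irr hG hP i j (hζirr.cfAut _) hζ', a3,
    P10.bridge_dot_red hG hP hζirr hζS i j hk] at a2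
  linear_combination a2 - d * a1

theorem P10.tau_alpha_dot (i : Irr W1) {j : Irr W2} (hj : j ≠ 1) :
    cfdot ⊤ (FTDade0 M (FT345bridge M W W1 W2 δ n ζ i j)) (τ1 ζ) = -n := by
  classical
  have hT := FT_primeTI_hyp hG hP
  obtain ⟨k, hk⟩ : ((Finset.univ.erase 1).erase j).Nonempty := Finset.card_pos.1 (by
    rw [Finset.card_erase_of_mem (Finset.mem_erase.2 ⟨hj, Finset.mem_univ _⟩),
      Finset.card_erase_of_mem (Finset.mem_univ _), Finset.card_univ, hT.cycTI.card_irr_W2]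
    have := hT.cycTI.three_le_W2
    omega)
  obtain ⟨hkj, hk⟩ := Finset.mem_erase.1 hk
  have hk1 := (Finset.mem_erase.1 hk).1
  obtain ⟨x, hx⟩ := ZIrr_cfdot_int (P10.Dade_bridge_vchar hG hM hP h2 hc hζirr hζS hζ1 i hj)
    (hcoh.virt _ (subset_zspan hζS))
  have a1 := P10.tau_alpha_aux hG hM hP h2 hc hζirr hζS hζ1 hcoh i hj hk1
  have a2 := norm_cfdot_sq_le (L := ⊤) (φ := FTDade0 M (FT345bridge M W W1 W2 δ n ζ i j))
    (ψ := τ1 (prTIred M W W1 W2 k))
  rw [a1, if_neg hkj.symm, add_zero, hx, norm_FTtype345_bridge hG hM hP h2 hc hζirr hζS hζ1 i hj,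
    hcoh.toZIsom.cfnorm (subset_zspan (P10.prTIred_mem hT hk1)), hT.cfnorm_prTIred,
    show (d : ℂ) * ((x : ℂ) + n) = ((d * (x + n) : ℤ) : ℂ) by push_cast; rfl,
    Complex.norm_intCast, sq_abs] at a2
  have a3 : ((d : ℤ) * (x + n)) ^ 2 ≤ (2 + (n : ℤ) ^ 2) * Nat.card W1 := by exact_mod_cast a2
  rw [hx]
  suffices x + n = 0 by
    have : ((x + n : ℤ) : ℂ) = 0 := by rw [this]; simp
    push_cast at this; linear_combination this
  by_contra h0
  have a4 : 1 ≤ (x + n) ^ 2 := (one_le_sq_iff_one_le_abs _).2 (Int.one_le_abs h0)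
  have a5 : (d : ℤ) ^ 2 ≤ (2 + (n : ℤ) ^ 2) * Nat.card W1 := by
    rw [mul_pow] at a3; nlinarith [sq_nonneg (d : ℤ)]
  have a6 : (2 : ℤ) ≤ n := by exact_mod_cast (P10.n_even hG hP hc hj).2
  have a7 : (3 : ℤ) ≤ Nat.card W1 := by exact_mod_cast hT.cycTI.three_le_W1
  have a8 : (n : ℤ) * Nat.card W1 - 1 ≤ d := by
    have := hc.ratio
    rcases P10.sign_cases hc hj with h | h <;> omega
  have a9 : ((n : ℤ) * Nat.card W1 - 1) ^ 2 ≤ (d : ℤ) ^ 2 :=
    pow_le_pow_left₀ (by nlinarith) a8 2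
  generalize (Nat.card W1 : ℤ) = w at *
  have b1 : 2 * (n : ℤ) + 2 ≤ (n : ℤ) ^ 2 * (w - 1) := by nlinarith
  nlinarith

theorem P10.tau_alpha (i : Irr W1) {j : Irr W2} (hj : j ≠ 1) :
    FTDade0 M (FT345bridge M W W1 W2 δ n ζ i j) =
      (δ : ℂ) • (cycEta ⊤ W W1 W2 i j - cycEta ⊤ W W1 W2 i 1) - (n : ℂ) • τ1 ζ :=
  P10.def_tau_alpha hG hM hP h2 hc hζirr hζS hζ1 hcoh (seqInd_conjC_subset le_rfl le_rfl) i hj hζS
    (P10.tau_alpha_dot hG hM hP h2 hc hζirr hζS hζ1 hcoh i hj)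

/-- PF (10.6)(a). -/
theorem P10.tau1mu {j : Irr W2} (hj : j ≠ 1) :
    τ1 (prTIred M W W1 W2 j) = (δ : ℂ) • ∑ i, cycEta ⊤ W W1 W2 i j := by
  have hT := FT_primeTI_hyp hG hP
  have hV := FT_cyclicTI_hyp hG hP
  rcases FTtypeP_coherent_TIred hG hM hP (by
    rw [P10.core hG hM hP h2]; exact seqInd_conjC_subset le_rfl le_rfl) hcoh hζS hζirr
    (P10.prTIred_mem hT hj) (k := j.conj) rfl with h | ⟨h, -⟩
  · rw [h, hc.sign j hj]
  exfalso
  have a1 := P10.tau_alpha_aux hG hM hP h2 hc hζirr hζS hζ1 hcoh 1 hj hj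
  rw [P10.tau_alpha_dot hG hM hP h2 hc hζirr hζS hζ1 hcoh 1 hj,
    P10.tau_alpha hG hM hP h2 hc hζirr hζS hζ1 hcoh 1 hj, cfdot_sub_left, cfdot_smul_left,
    cfdot_smul_left, hcoh.isom _ (subset_zspan hζS) _ (subset_zspan (P10.prTIred_mem hT hj)),
    cfdot_symm_zero (P10.ortho_red hT hζirr hζS j), h, cfdot_neg_right, cfdot_intCast_smul_right,
    cfdot_sub_left, P10.cfdot_sum_col hV, P10.cfdot_sum_col hV,
    if_neg fun h => hj ((Irr.conj_eq_self hV.odd_W2 j).1 h.symm),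
    if_neg fun h => hj ((Irr.aut_eq_one _).1 h.symm)] at a1
  simp at a1

theorem P10.tau1mu0 :
    FTDade0 M (prTIred M W W1 W2 1 - ζ) = ∑ i, cycEta ⊤ W W1 W2 i 1 - τ1 ζ := by
  have hT := FT_primeTI_hyp hG hP
  obtain ⟨j, hj⟩ := P10.exists_irr_ne_one (L := W2) (by
    rw [hT.cycTI.card_irr_W2]; exact lt_of_lt_of_le (by norm_num) hT.cycTI.three_le_W2)
  have a1 := congrArg (FTDade0 M) (P10.sum_bridge hG hP hc (ζ := ζ) j)
  rw [map_sum, Finset.sum_congr rfl fun i _ => P10.tau_alpha hG hM hP h2 hc hζirr hζS hζ1 hcoh i hj,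
    map_sub, map_smul, ← hcoh.agree _ (sub_mem (subset_zspan (P10.prTIred_mem hT hj))
      (natCast_smul_mem (subset_zspan hζS) d)) (P10.red_sub_one hG hP hc hζ1 hj rfl), map_sub,
    map_smul, P10.tau1mu hG hM hP h2 hc hζirr hζS hζ1 hcoh hj, Finset.sum_sub_distrib,
    ← Finset.smul_sum, Finset.sum_sub_distrib, Finset.sum_const, Finset.card_univ,
    hT.cycTI.card_irr_W1, P10.ratio hc, ← Nat.cast_smul_eq_nsmul ℂ] at a1
  have a2 : (δ : ℂ) ≠ 0 := hc.sign j hj ▸ prTIsign_ne_zero j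
  refine smul_right_injective _ a2 ?_
  simp only
  linear_combination (norm := module) a1

/-- PF (10.6)(b). -/
theorem P10.zeta_tau1_coprime {g : G} (hg : g ∉ dadeSupp (sharp ⁅M, M⁆) (supportR M))
    (hcop : (orderOf g).Coprime (Nat.card W1)) : 1 ≤ ‖τ1 ζ g‖ ^ 2 := by
  have hD := P10.prDade hG hM hP h2
  have hV := hD.cycTI
  have a1 : FTDade0 M (prTIred M W W1 W2 1 - ζ) g = 0 := by
    rw [← restr_DadeE hD.dade hD.A_subset (P10.bridge0_on hG hM hP h2 hζS hζ1)]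
    exact Dade_apply_of_notMem hg
  rw [P10.tau1mu0 hG hM hP h2 hc hζirr hζS hζ1 hcoh, Pi.sub_apply, sub_eq_zero,
    Finset.sum_apply] at a1
  choose f hf using fun i => hV.Cint_cycEta_left i hcop
  have a2 := P10.sum_conj_parity hV.odd_W1 f fun i => by
    have := congrFun (hV.cycEta_aut (starRingEnd ℂ) i 1) g
    rw [Irr.aut_one, hf, cfAut_apply, hf, map_intCast] at this
    exact_mod_cast this
  have a3 : f 1 = 1 := by
    have := hf 1
    rw [hV.cycEta_one, cf1_top, Pi.one_apply] at this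
    exact_mod_cast this.symm
  refine P9.one_le_norm_int (n := ∑ i, f i) (by rw [← a1]; simp [hf]) fun h => ?_
  have a4 : ∑ i, f i = 0 := by
    rw [h, Finset.sum_congr rfl fun i _ => hf i] at a1
    exact_mod_cast a1
  rw [a3, a4] at a2
  norm_num at a2

/-- PF (10.7). -/
theorem P10.frob_der1_type2 {S V : Subgroup G} (hS : IsCoatom S) (hS2 : FTtype S = 2)
    (hPS : OfTypeP S V W W2 W1) : FrobIn ⁅S, S⁆ (fittingHallOf S) V := by
  classical
  have hD := P10.prDade hG hM hP h2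
  have hT := hD.prTI
  have hV := hD.cycTI
  have hDS := FT_prDade_hypF hG hS hPS
  have hnc : ¬ ConjSub M S := fun ⟨g, hg⟩ => h2 (by rw [← hS2, hg, FTtype_map_conj])
  have hdis : Disjoint (dadeSupp (sharp ⁅M, M⁆) (supportR M)) (dadeSupp (FTsupp S) (supportR S)) := by
    rw [← P10.supp hG hM hP h2, FTsupp_eq1 (P10.gt2 hG hM hP h2)]
    by_contra h
    obtain ⟨g, x, hx, h3, h4⟩ := (FT_Dade_support_disjoint hG hM hS hnc).2.2.1.2 h
    obtain ⟨-, L, -, hL, -, -, -, -, -, -, h5⟩ := FTsupport_facts hG hM (FTsupp_sub0 M hx) h3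
    refine FTtypeP_ne_one hG hM hP (FT_Frobenius_type1 hG hM (h5 ?_))
    rw [← hL.2 (S.map (MulAut.conj g).toMonoidHom)
      ((OrderIso.isCoatom_iff (MulAut.conj g).mapSubgroup S).2 hS) h4, FTtype_map_conj, hS2]
  have h5 : FTtype S ≠ 5 := by omega
  obtain ⟨H0, h0⟩ := Ptype_Fcore_kernel_exists hG hS hPS h5
  rcases typeP_reducible_core_cases hG hS hPS h5 h0 with ⟨l, hl, hlS, hl1, -⟩ | h
  swap; · exact h.2.2.2.2 hS2
  exfalso
  obtain ⟨c1, c2⟩ := typeP_reducible_core_Ind hG hS hPS h5 h0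
  obtain ⟨ν, hν⟩ := Finset.card_pos.1 (c1 ▸ Nat.sub_pos_of_lt (P9.prime h0).one_lt)
  obtain ⟨hν, hνr⟩ := Finset.mem_filter.1 hν
  obtain ⟨⟨hν1, -⟩, r, hr, rfl⟩ := c2 ν hν hνr
  obtain ⟨R, hR, -⟩ := FTtypeP_subcoherent hG hS hPS
  have core := FTcore_type2 hS2
  obtain ⟨S2, l2, ν2, cS2, τ2, hτ2⟩ := pair_degree_coherence hR (φ1 := l)
    (φ2 := prTIred S W W2 W1 r) (core ▸ seqIndDS le_rfl bot_le hlS)
    (core ▸ seqIndDS le_rfl bot_le hν) (hl1.trans hν1.symm)
  have hon : ∀ φ ∈ zspan S2, φ 1 = 0 → φ ∈ CFon S (FTsupp S) := fun φ hφ h1 =>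
    zspan_mem_CFon_of_one (fun ξ hξ => by
      obtain ⟨θ, hθ, -, h3, rfl⟩ := mem_seqIndD.1 (core ▸ cS2.1 hξ)
      exact hDS.prDade_Ind_irr_on hθ h3) hφ h1
  have hτ1' : CoherentWith M _ (Dade (sharp ⁅M, M⁆) (supportR M)) τ1 := hcoh.congr_tau
    fun φ hφ h1 => (restr_DadeE hD.dade hD.A_subset (zcharD1_seqInd_on hT.normal hφ h1)).symm
  have hτ2' : CoherentWith S _ (Dade (FTsupp S) (supportR S)) τ2 := hτ2.congr_tau
    fun φ hφ h1 => (FTDade_eq hG hS (hon φ hφ h1)).symm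
  have o1 := disjoint_coherent_ortho' hD.dadeA hDS.dadeA hdis hτ1' hτ2' hζirr hζS
    (cfAut_seqInd _ hζS) (seqInd_conjC_neq hT.K_le hT.normal le_rfl (P10.odd hG M) hζS) hl l2
    (cS2.2 _ l2) (hR.not_real _ (cS2.1 l2))
  obtain ⟨s, hs⟩ := P10.exists_irr_ne_one (L := W2) (by
    rw [hT.cycTI.card_irr_W2]; exact lt_of_lt_of_le (by norm_num) hT.cycTI.three_le_W2)
  have o2 := disjoint_Dade_ortho hdis (φ := prTIred M W W1 W2 s - (d : ℂ) • ζ)
    (ψ := prTIred S W W2 W1 r - l)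
  obtain ⟨ε, r', hε, e⟩ : ∃ (ε : ℤ) (r' : Irr W1), ε ≠ 0 ∧
      τ2 (prTIred S W W2 W1 r) = (ε : ℂ) • ∑ j, cycEta ⊤ W W1 W2 r' j := by
    have := prTIsign_ne_zero (L := S) (W := W) (W1 := W2) r
    rcases FTtypeP_coherent_TIred hG hS hPS cS2 hτ2 l2 hl ν2 (k := r.conj) rfl with h | ⟨h, -⟩
    · exact ⟨_, r, by exact_mod_cast this, by simpa only [hV.cycEta_comm] using h⟩
    · exact ⟨-prTIsign S W W2 W1 r, r.conj, by exact_mod_cast neg_ne_zero.2 this,
        by simpa only [hV.cycEta_comm, Int.cast_neg, neg_smul] using h⟩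
  have o3 : cfdot ⊤ (∑ i, cycEta ⊤ W W1 W2 i s) (τ2 l) = 0 := by
    rw [cfdot_sum_left]
    exact Finset.sum_eq_zero fun i _ => cfdot_symm_zero
      (hV.cycEta_comm i s ▸ coherent_ortho_cycTIiso hG hS hPS cS2 hτ2 l2 hl s i)
  have o4 : cfdot ⊤ (τ1 ζ) (∑ j, cycEta ⊤ W W1 W2 r' j) = 0 := by
    rw [cfdot_sum_right]
    exact Finset.sum_eq_zero fun j _ => P10.ortho_eta hG hM hP h2
      (seqInd_conjC_subset le_rfl le_rfl) hcoh hζS hζirr r' j
  rw [← hτ1'.agree _ (sub_mem (subset_zspan (P10.prTIred_mem hT hs))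
      (natCast_smul_mem (subset_zspan hζS) d)) (P10.red_sub_one hG hP hc hζ1 hs rfl),
    ← hτ2'.agree _ (P9.sub_mem_zspan ν2 l2) (by rw [Pi.sub_apply, hν1, hl1, sub_self]),
    map_sub, map_sub, map_smul, e, P10.tau1mu hG hM hP h2 hc hζirr hζS hζ1 hcoh hs,
    cfdot_sub_left, cfdot_smul_left, cfdot_smul_left, cfdot_sub_right, cfdot_sub_right,
    cfdot_intCast_smul_right, cfdot_intCast_smul_right, o1, o3, o4, P10.cfdot_col_row hV] at o2
  have a2 : (δ : ℂ) ≠ 0 := hc.sign s hs ▸ prTIsign_ne_zero s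
  simp [a2, hε] at o2

theorem P10.noncoherence_main : False := by
  classical
  have hD := P10.prDade hG hM hP h2
  have hT := hD.prTI
  have hV := hD.cycTI
  obtain ⟨S, hpair, V, hPS⟩ := FTtypeP_pair_witness hG hM hP
  have hS := hpair.maxT
  have hS2 := hpair.type2.resolve_left h2
  have hF := P10.frob_der1_type2 hG hM hP h2 hc hζirr hζS hζ1 hcoh hS hS2 hPS
  have hTS := FT_primeTI_hyp hG hPS
  have core := FTcore_type2 hS2
  set K : Subgroup G := ⁅M, M⁆ with hK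
  set H := fittingHallOf S with hH
  have hTI : NormedTI (sharp H) ⊤ S := by
    have := (FTtypeII_ker_TI hG hS hS2).2.2
    rwa [FTsupp1, core] at this
  have hτ1' : CoherentWith M _ (Dade (sharp K) (supportR M)) τ1 := hcoh.congr_tau
    fun φ hφ h1 => (restr_DadeE hD.dade hD.A_subset (zcharD1_seqInd_on hT.normal hφ h1)).symm
  have hq := hT.relIndex
  have q3 : (3 : ℝ) ≤ Nat.card W1 := by exact_mod_cast hV.three_le_W1
  have p3 : (3 : ℝ) ≤ Nat.card W2 := by exact_mod_cast hV.three_le_W2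
  have hk : (2 * Nat.card W1 + 1 : ℝ) * Nat.card W2 ≤ Nat.card K := by
    have a1 := P10.index_bound hP hG.1 (P10.der2_lt hP) le_rfl (P9.der_normal hP)
    have a2 := card_le_of_le hP.W2_le_der2
    have := (Nat.mul_le_mul a1 a2).trans (card_eq_relIndex_mul (P10.der2_lt hP).le).ge
    exact_mod_cast this
  obtain ⟨a, Γ, -, -, -, -, -, lb⟩ := Dade_Ind1_sub_lin hD.dadeA hτ1'
    (seqInd_nontrivial hT.K_le hT.normal le_rfl (P10.odd hG M) hζS) hζirr hζS (hq ▸ hζ1)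
  rw [hq] at lb
  have lb1 := (lb (by nlinarith)).1
  have hχ := ZIrr_mem_CF (hcoh.virt _ (subset_zspan hζS))
  have ub1 := leC_cfnorm_invDade_support hD.dadeA hχ
  have nχ : cfnorm ⊤ (τ1 ζ) = 1 := by rw [hcoh.toZIsom.cfnorm (subset_zspan hζS), hζirr.cfnorm]
  set A := dadeSupp (sharp K) (supportR M) with hA
  set G1 := Finset.univ.filter fun g : G => g ∉ A ∧ (orderOf g).Coprime (Nat.card W1) with hG1
  have hN : (0 : ℝ) < Nat.card G := by exact_mod_cast Nat.card_pos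
  have ub2 : ∑ g ∈ elems A, ‖τ1 ζ g‖ ^ 2 + G1.card ≤ Nat.card G := by
    rw [cfnorm_eq, elems_top, card_top, inv_mul_eq_div, div_eq_one_iff_eq hN.ne'] at nχ
    have hd : Disjoint (elems A) G1 := Finset.disjoint_left.2 fun g h1 h3 =>
      (Finset.mem_filter.1 h3).2.1 (mem_elems.1 h1)
    rw [← nχ]
    refine le_trans ?_ (Finset.sum_le_sum_of_subset_of_nonneg (Finset.subset_univ (elems A ∪ G1))
      fun _ _ _ => by positivity)
    rw [Finset.sum_union hd]
    refine add_le_add_right ?_ _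
    rw [← mul_one (G1.card : ℝ), ← nsmul_eq_mul]
    exact Finset.card_nsmul_le_sum _ _ _ fun g hg => P10.zeta_tau1_coprime hG hM hP h2 hc hζirr hζS
      hζ1 hcoh (Finset.mem_filter.1 hg).2.1 (Finset.mem_filter.1 hg).2.2
  have cover : ∀ g : G, g ∈ G1 ∪ elems A ∪ elems (classSupport (sharp H) ⊤) ∪
      elems (classSupport (cycTIset W W1 W2) ⊤) := by
    intro g
    simp only [Finset.mem_union, mem_elems, hG1, Finset.mem_filter, Finset.mem_univ, true_and]
    by_cases g1 : g ∈ A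
    · exact Or.inl (Or.inl (Or.inr g1))
    by_cases g2 : (orderOf g).Coprime (Nat.card W1)
    · exact Or.inl (Or.inl (Or.inl ⟨g1, g2⟩))
    obtain ⟨p, hp, p1, p2⟩ := Nat.Prime.not_coprime_iff_dvd.1 g2
    have p3 : p ∣ Nat.card H := p2.trans (card_dvd_of_le hPS.W2_le_H)
    obtain ⟨x, a, ha, ha1, hx⟩ := P10.exists_conj_cent hp (fun h => hp.one_lt.ne'
      (Nat.eq_one_of_dvd_coprimes (FTcore_facts hG hS).1 p3 h)) p1
    have hxS := hTI.cent_le (a := a) ⟨ha, ha1⟩ ⟨mem_top _, hx⟩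
    by_cases h : x * g * x⁻¹ ∈ (⁅S, S⁆ : Subgroup G)
    · refine Or.inl (Or.inr ⟨_, ⟨hF.frobKer.cent_le ha ha1 ⟨h, hx⟩, fun e => ?_⟩, x⁻¹, mem_top _,
        by group⟩)
      rw [Set.mem_singleton_iff, conj_eq_one_iff] at e
      rw [e, orderOf_one] at p1
      exact hp.one_lt.ne' (Nat.dvd_one.1 p1)
    · obtain ⟨y, -, h3, h4⟩ := hTS.exists_conj_mem hxS h
      refine Or.inr ⟨_, mem_cycTIset.2 ⟨h3, h4, fun h5 => ?_⟩, (y * x)⁻¹, mem_top _, by group⟩
      have h6 := Subgroup.orderOf_dvd_natCard _ h5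
      rw [show y * (x * g * x⁻¹) * y⁻¹ = MulAut.conj (y * x) g by simp [mul_assoc],
        MulEquiv.orderOf_eq] at h6
      exact hp.one_lt.ne' (Nat.eq_one_of_dvd_coprimes hV.coprime p2 (p1.trans h6))
  have c0 : (Nat.card G : ℝ) ≤ G1.card + A.ncard + (classSupport (sharp H) ⊤).ncard +
      (classSupport (cycTIset W W1 W2) ⊤).ncard := by
    have := (Finset.card_le_card fun g _ => cover g : Finset.univ.card ≤ _)
    rw [Finset.card_univ, ← Nat.card_eq_fintype_card] at this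
    have := this.trans ((Finset.card_union_le _ _).trans (Nat.add_le_add_right
      ((Finset.card_union_le _ _).trans (Nat.add_le_add_right (Finset.card_union_le _ _) _)) _))
    rw [card_elems_set, card_elems_set, card_elems_set] at this
    exact_mod_cast this
  have sh : ∀ L : Subgroup G, ((sharp L).ncard : ℝ) = Nat.card L - 1 := fun L => by
    rw [sharp, Set.ncard_diff_singleton_of_mem (SetLike.mem_coe.2 L.one_mem), ← Nat.card_coe_set_eq,
      Nat.cast_sub Nat.card_pos, Nat.cast_one]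
    rfl
  have c1 : (A.ncard : ℝ) * (Nat.card W1 * Nat.card K) = (Nat.card K - 1) * Nat.card G := by
    have := congrArg (Nat.cast : ℕ → ℝ) (card_dadeSupp hD.dadeA)
    rwa [card_eq_relIndex_mul hT.K_le, hq, Nat.cast_mul, Nat.cast_mul, Nat.cast_mul, sh] at this
  have c2 : ((classSupport (sharp H) ⊤).ncard : ℝ) * (Nat.card W2 * (Nat.card H * Nat.card V)) =
      (Nat.card H - 1) * Nat.card G := by
    have e := card_eq_relIndex_mul (le_top (a := S))
    rw [card_top, card_eq_relIndex_mul hTS.K_le, hTS.relIndex, P9.card_der hPS] at e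
    rw [hTI.card_classSupport, Nat.cast_mul, sh, e]
    push_cast; ring
  have c3 : ((classSupport (cycTIset W W1 W2) ⊤).ncard : ℝ) * (Nat.card W1 * Nat.card W2) =
      (Nat.card W1 - 1) * (Nat.card W2 - 1) * Nat.card G := by
    have e := card_eq_relIndex_mul (le_top (a := W))
    rw [card_top, hV.card_eq] at e
    rw [hV.normedTI.card_classSupport, hV.card_cycTIset, e]
    push_cast [Nat.cast_sub (Nat.card_pos (α := W1)), Nat.cast_sub (Nat.card_pos (α := W2))]; ring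
  have u7 : (7 : ℝ) ≤ Nat.card V := by
    have a1 := Ptype_compl_Frobenius hG hS hPS (by omega)
    have a2 := odd_Frobenius_index_ler a1.frobKer (P10.odd hG _)
    rw [IsComplIn_relIndex a1.compl] at a2
    linarith
  have h1 := card_pos_real H
  have k1 := card_pos_real K
  have y0 : (0 : ℝ) ≤ (classSupport (sharp H) ⊤).ncard := Nat.cast_nonneg _
  generalize (Nat.card G : ℝ) = N at *
  generalize (Nat.card K : ℝ) = k at *
  generalize (Nat.card H : ℝ) = h at *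
  generalize (Nat.card V : ℝ) = u at *
  generalize (Nat.card W1 : ℝ) = q at *
  generalize (Nat.card W2 : ℝ) = p at *
  generalize (A.ncard : ℝ) = x at *
  generalize ((classSupport (sharp H) ⊤).ncard : ℝ) = y at *
  generalize ((classSupport (cycTIset W W1 W2) ⊤).ncard : ℝ) = z at *
  have b0 : (1 - q / k) * N ≤ x + y + z := by
    have := (lb1.trans ub1)
    rw [inv_mul_eq_div, le_div_iff₀ hN] at this
    linarith
  have b1 : x ≤ N / q := by
    rw [le_div_iff₀ (by linarith)]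
    refine le_of_mul_le_mul_right ?_ k1
    linarith
  have b2 : y ≤ N / (7 * p) := by
    rw [le_div_iff₀ (by linarith)]
    have : y * (p * u) ≤ N := by
      refine le_of_mul_le_mul_right ?_ h1
      linarith
    nlinarith [mul_nonneg y0 (by linarith : (0 : ℝ) ≤ p)]
  have b3 : z = (1 - 1 / q - 1 / p + 1 / (q * p)) * N := by
    field_simp
    linarith
  have b4 : q / k < 1 / (2 * p) := by
    rw [div_lt_div_iff₀ k1 (by linarith)]
    linarith
  have b5 : 1 / (q * p) ≤ 1 / (3 * p) := by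
    apply one_div_le_one_div_of_le <;> nlinarith
  have b6 : N / q = 1 / q * N := by ring
  have b7 : N / (7 * p) = 1 / 7 * (1 / p) * N := by field_simp
  have b8 : 1 / (2 * p) = 1 / 2 * (1 / p) := by field_simp
  have b9 : 1 / (3 * p) = 1 / 3 * (1 / p) := by field_simp
  have p0 : 0 < 1 / p := by positivity
  have : (1 - q / k) * N ≤ (1 / q + 1 / 7 * (1 / p) + (1 - 1 / q - 1 / p + 1 / (q * p))) * N := by
    linarith
  have := le_of_mul_le_mul_right this hN
  linarith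

end

end CfsgLib.FT
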