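import Mathlib
import Cfsg.Agent.Lib.FT.PF11b

/-! Peterfalvi, section 11: maximal subgroups of types III and IV.
Here `C = C_U(H)`, `S(Y) = seqIndD HU M HU Y`, `p = |W2|`, `q = |W1|`. -/

set_option autoImplicit false

namespace CfsgLib.FT

open Cfsg Subgroup
open scoped commutatorElement

variable {G : Type*} [Group G] [Fintype G]
  (hG : IsMinSimpleOddOrder G) {M : Subgroup G} (hM : IsCoatom M)
  {U W W1 W2 : Subgroup G} (hP : OfTypeP M U W W1 W2) (h2 : FTtype M ≠ 2)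
include hG hM hP h2

section
variable (h0 : PtypeKer M U ⊥) {ζ : G → ℂ} (hζ : ζ ∈ seqIndD ⁅M, M⁆ M ⁅M, M⁆ ⁅⁅M, M⁆, ⁅M, M⁆⁆)
include hζ

theorem P11.dot_aut (u : ℂ →+* ℂ) (i : Irr W1) (j : Irr W2) :
    cfdot ⊤ (FTDade0 M (prTIred M W W1 W2 1 - ζ)) (cycEta ⊤ W W1 W2 (i.aut u) (j.aut u)) =
      cfdot ⊤ (FTDade0 M (prTIred M W W1 W2 1 - ζ)) (cycEta ⊤ W W1 W2 i j) := by
  have hT := FT_primeTI_hyp hG hP
  have hV := FT_cyclicTI_hyp hG hP
  obtain ⟨R, hR⟩ := P10.subcoh hG hM hP h2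
  have cS1 : ConjCSubset (seqIndD ⁅M, M⁆ M ⁅M, M⁆ ⁅⁅M, M⁆, ⁅M, M⁆⁆) (seqIndD ⁅M, M⁆ M ⁅M, M⁆ ⊥) :=
    seqInd_conjC_subset le_rfl bot_le
  obtain ⟨hi, h1⟩ := P10.S1_facts hP hT hζ
  obtain ⟨τ1, hτ1⟩ := uniform_degree_coherence (subset_subcoherent hR cS1)
    fun χ hχ φ hφ => by rw [(P10.S1_facts hP hT hχ).2, (P10.S1_facts hP hT hφ).2]
  have a1 := cfdot_cfAut_ZIrr u (P10.bridge0_facts hG hM hP h2 hi (cS1.1 hζ) h1).1
    (hV.cycEta_vchar i j)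
  have hζ' := cfAut_seqInd u hζ
  rw [← hV.cycEta_aut, ← Dade_aut, cfAut_sub, ← hT.prTIred_aut, Irr.aut_one,
    ← sub_add_sub_cancel _ ζ, map_add, ← hτ1.agree _ (P9.sub_mem_zspan hζ hζ')
      (by rw [Pi.sub_apply, h1, (P10.S1_facts hP hT hζ').2, sub_self]), map_sub τ1, cfdot_add_left,
    cfdot_sub_left (φ := τ1 ζ), P10.ortho_eta hG hM hP h2 cS1 hτ1 hζ hi,
    P10.ortho_eta hG hM hP h2 cS1 hτ1 hζ' (hi.cfAut u), sub_self, add_zero] at a1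
  exact a1

include h0

theorem P11.row : (∀ i j, cfdot ⊤ (FTDade0 M (prTIred M W W1 W2 1 - ζ))
    (cycEta ⊤ W W1 W2 i j) = if i = 1 then 1 else 0) ∧ Nat.card W2 < Nat.card W1 := by
  classical
  have hT := FT_primeTI_hyp hG hP
  have hV := FT_cyclicTI_hyp hG hP
  obtain ⟨hi, h1⟩ := P10.S1_facts hP hT hζ
  obtain ⟨hv, hn, h11, hz⟩ := P10.bridge0_facts hG hM hP h2 hi (seqIndDS le_rfl bot_le hζ) h1
  obtain ⟨hq, hp⟩ := FTtypeP_primes hG hM hP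
  have q3 := hV.three_le_W1
  have p3 := hV.three_le_W2
  obtain ⟨i0, hi0⟩ := P10.exists_irr_ne_one (L := W1) (by rw [hV.card_irr_W1]; omega)
  obtain ⟨j0, hj0⟩ := P10.exists_irr_ne_one (L := W2) (by rw [hV.card_irr_W2]; omega)
  have hnc := P11.not_col hG hM hP h2 h0 hζ
  have hau := P11.dot_aut hG hM hP h2 hζ
  set ψ := FTDade0 M (prTIred M W W1 W2 1 - ζ)
  obtain ⟨x, hx⟩ := ZIrr_cfdot_int hv (hV.cycEta_vchar i0 1)
  obtain ⟨y, hy⟩ := ZIrr_cfdot_int hv (hV.cycEta_vchar 1 j0)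
  have ex : ∀ i, i ≠ 1 → cfdot ⊤ ψ (cycEta ⊤ W W1 W2 i 1) = x := fun i hi => by
    obtain ⟨u, hu, -⟩ := exists_aut_of_prime_card hq i0.irr i.irr
      (fun h => hi0 (Irr.ext h)) (fun h => hi (Irr.ext h)) (Nat.coprime_one_left _) one_ne_zero
    rw [← hx, ← hau u i0 1, Irr.aut_one, show i0.aut u = i from Irr.ext hu]
  have ey : ∀ j, j ≠ 1 → cfdot ⊤ ψ (cycEta ⊤ W W1 W2 1 j) = y := fun j hj => by
    obtain ⟨u, hu, -⟩ := exists_aut_of_prime_card hp j0.irr j.irr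
      (fun h => hj0 (Irr.ext h)) (fun h => hj (Irr.ext h)) (Nat.coprime_one_left _) one_ne_zero
    rw [← hy, ← hau u 1 j0, Irr.aut_one, show j0.aut u = j from Irr.ext hu]
  have exy : ∀ i j, i ≠ 1 → j ≠ 1 → cfdot ⊤ ψ (cycEta ⊤ W W1 W2 i j) = (x + y - 1 : ℤ) :=
    fun i j hi hj => by
      have := hV.cycTIiso_cfdot_exchange (ZIrr_mem_CF hv) hz i 1 j 1
      rw [h11, ex i hi, ey j hj] at this
      push_cast
      linear_combination this
  have b := P9.bessel Finset.univ (fun k : Irr W1 × Irr W2 => cycEta ⊤ W W1 W2 k.1 k.2)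
    (fun k _ => by rw [hV.cfdot_cycEta, if_pos ⟨rfl, rfl⟩])
    (fun k _ l _ e => by rw [hV.cfdot_cycEta, if_neg fun h => e (Prod.ext h.1 h.2)]) ψ
  have sq : ∀ z : ℤ, ‖(z : ℂ)‖ ^ 2 = (z : ℝ) ^ 2 := fun z => by rw [Complex.norm_intCast, sq_abs]
  have s1 : ∀ i : Irr W1, ∀ a b : ℝ, ‖cfdot ⊤ ψ (cycEta ⊤ W W1 W2 i 1)‖ ^ 2 = a →
      (∀ j, j ≠ 1 → ‖cfdot ⊤ ψ (cycEta ⊤ W W1 W2 i j)‖ ^ 2 = b) →
      ∑ j, ‖cfdot ⊤ ψ (cycEta ⊤ W W1 W2 i j)‖ ^ 2 = a + (Nat.card W2 - 1) * b :=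
    fun i a b ha hb => by
      rw [← Finset.add_sum_erase _ _ (Finset.mem_univ 1), ha,
        Finset.sum_congr rfl fun j hj => hb j (Finset.mem_erase.1 hj).1, Finset.sum_const,
        Finset.card_erase_of_mem (Finset.mem_univ _), Finset.card_univ, hV.card_irr_W2,
        nsmul_eq_mul, Nat.cast_sub hp.pos, Nat.cast_one]
  rw [hn, Fintype.sum_prod_type, ← Finset.add_sum_erase _ _ (Finset.mem_univ 1),
    s1 1 1 _ (by simp [h11]) fun j hj => by rw [ey j hj, sq],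
    Finset.sum_congr rfl fun i hi => s1 i _ _ (by rw [ex i (Finset.mem_erase.1 hi).1, sq])
      fun j hj => by rw [exy i j (Finset.mem_erase.1 hi).1 hj, sq], Finset.sum_const,
    Finset.card_erase_of_mem (Finset.mem_univ _), Finset.card_univ, hV.card_irr_W1,
    nsmul_eq_mul, Nat.cast_sub hq.pos, Nat.cast_one] at b
  have b' : 1 + ((Nat.card W2 : ℤ) - 1) * y ^ 2 + ((Nat.card W1 : ℤ) - 1) *
      (x ^ 2 + ((Nat.card W2 : ℤ) - 1) * (x + y - 1) ^ 2) ≤ Nat.card W1 + 1 := by exact_mod_cast b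
  have hpq := P11.ne hG hP
  obtain ⟨a, ha⟩ := hV.odd_W1
  obtain ⟨c, hc⟩ := hV.odd_W2
  have q3' : (3 : ℤ) ≤ Nat.card W1 := by exact_mod_cast q3
  have p3' : (3 : ℤ) ≤ Nat.card W2 := by exact_mod_cast p3
  have one : ∀ z : ℤ, z ≠ 0 → 1 ≤ z ^ 2 := fun z hz =>
    (one_le_sq_iff_one_le_abs _).2 (Int.one_le_abs hz)
  have c1 : x + y - 1 = 0 := by
    by_contra h
    have k1 := one _ h
    have k2 : 2 ≤ x ^ 2 + ((Nat.card W2 : ℤ) - 1) * (x + y - 1) ^ 2 := by nlinarith [sq_nonneg x]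
    nlinarith [sq_nonneg y]
  have c2 : y ≠ 0 := fun h => hnc fun i j => by
    have : x = 1 := by omega
    by_cases hj : j = 1
    · by_cases hi : i = 1
      · rw [hi, hj, h11, if_pos rfl]
      · rw [hj, ex i hi, this, if_pos rfl, Int.cast_one]
    · by_cases hi : i = 1
      · rw [hi, ey j hj, h, if_neg hj, Int.cast_zero]
      · rw [exy i j hi hj, c1, if_neg hj, Int.cast_zero]
  rw [c1] at b'
  have c3 : x = 0 := by
    by_contra h
    nlinarith [one _ h, one _ c2]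
  obtain rfl : y = 1 := by omega
  refine ⟨fun i j => ?_, by rw [c3] at b'; omega⟩
  by_cases hi : i = 1
  · by_cases hj : j = 1
    · rw [hi, hj, h11, if_pos rfl]
    · rw [hi, ey j hj, if_pos rfl, Int.cast_one]
  · by_cases hj : j = 1
    · rw [hj, ex i hi, c3, if_neg hi, Int.cast_zero]
    · rw [exy i j hi hj, c1, if_neg hi, Int.cast_zero]

theorem P11.galois : TypePGalois M U ⊥ := by
  classical
  by_contra hGal
  have hD := P10.prDade hG hM hP h2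
  have hT := hD.prTI
  have hV := hD.cycTI
  obtain ⟨hrow, hlt⟩ := P11.row hG hM hP h2 h0 hζ
  obtain ⟨hq, hp⟩ := FTtypeP_primes hG hM hP
  obtain ⟨H1, h1⟩ := P9.nonGalois hP h0 hq hGal
  obtain ⟨D, hD'⟩ := P9.exists_complData hP h0 h1
  obtain ⟨k1, k2⟩ := P9.nonGalois_d hP h0 h1 hD'
  rw [← (FTtype34_facts hG hM hP h2 h0).2.2.2, ← P11.ker_eq hG hM hP h2 h0] at k1 k2
  obtain ⟨l, hl⟩ := Finset.card_pos.1 (lt_of_lt_of_le (Nat.div_pos (Nat.le_of_dvd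
    (Nat.mul_pos (Nat.sub_pos_of_lt (P9.prime h0).one_lt) Nat.card_pos) k1)
    (Nat.mul_pos (pow_pos (by have := h1.one_lt; omega) 2) Nat.card_pos)) k2)
  obtain ⟨hl, hli, hl1⟩ := Finset.mem_filter.1 hl
  obtain ⟨j, hj⟩ := P10.exists_irr_ne_one (L := W2) (by
    rw [hV.card_irr_W2]; exact hp.one_lt)
  obtain ⟨hμ1, hμ⟩ := P11.red_mem hG hP h0 hj
  obtain ⟨τ2, hτ2⟩ := P11.coh2 hG hM hP h0
  have cS2 : ConjCSubset (seqIndD ⁅M, M⁆ M (fittingHallOf M) (⊥ ⊔ FcomplKer M U ⊥))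
    (seqIndD ⁅M, M⁆ M ⁅M, M⁆ ⊥) := seqInd_conjC_subset hP.H_le_der bot_le
  obtain ⟨b, hb⟩ := relIndex_dvd_of_le_left U ((P9.C_le_U1' hP h0 h1).trans inf_le_right)
  obtain ⟨hi, hζ1⟩ := P10.S1_facts hP hT hζ
  have hζS := seqIndDS le_rfl bot_le hζ
  have z1 := sub_mem (subset_zspan hμ) (natCast_smul_mem (subset_zspan hl) b)
  have z2 : (prTIred M W W1 W2 j - (b : ℂ) • l) 1 = 0 := by
    rw [Pi.sub_apply, Pi.smul_apply, hμ1, hl1, hb, smul_eq_mul]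
    push_cast
    ring
  have a1 := Dade_isometry hD.dade (CFon_mono hD.A_subset (P10.bridge0_on hG hM hP h2 hζS hζ1))
    (P10.zon hG hM hP h2 subset_rfl z1 z2)
  obtain ⟨m, hm⟩ := ZIrr_cfdot_int (P10.bridge0_facts hG hM hP h2 hi hζS hζ1).1
    (hτ2.virt _ (subset_zspan hl))
  have hs : ∀ k, cfdot ⊤ (FTDade0 M (prTIred M W W1 W2 1 - ζ)) (∑ i, cycEta ⊤ W W1 W2 i k) = 1 :=
    fun k => by simp only [cfdot_sum_right, hrow]; simp
  obtain ⟨e, he, he'⟩ : ∃ e : ℤ, IsUnit e ∧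
      cfdot ⊤ (FTDade0 M (prTIred M W W1 W2 1 - ζ)) (τ2 (prTIred M W W1 W2 j)) = e := by
    have hu : IsUnit (prTIsign M W W1 W2 j) := Int.isUnit_iff.2 (prTIsign_cases j)
    rcases FTtypeP_coherent_TIred hG hM hP (by rw [P10.core hG hM hP h2]; exact cS2) hτ2 hl hli
      hμ (k := j.conj) rfl with h | ⟨h, -⟩
    · exact ⟨_, hu, by rw [h, cfdot_intCast_smul_right, hs, mul_one]⟩
    · exact ⟨_, hu.neg, by rw [h, cfdot_neg_right, cfdot_intCast_smul_right, hs, mul_one,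
        Int.cast_neg]⟩
  rw [← hτ2.agree _ z1 z2, map_sub τ2, map_smul, cfdot_sub_right, cfdot_natCast_smul_right, he', hm,
    cfdot_sub_left, cfdot_sub_right, cfdot_sub_right, cfdot_natCast_smul_right,
    cfdot_natCast_smul_right, hT.cfdot_prTIred, if_neg hj.symm, P10.ortho_red hT hli hl,
    cfdot_symm_zero (P10.ortho_red hT hi hζ j), hi.cfdot_ne hli fun h =>
      Finset.disjoint_left.1 (P11.disj hG hM hP h2 h0) hl (h ▸ hζ)] at a1
  have a2 : e = b * m := by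
    have : (e : ℂ) = ((b * m : ℤ) : ℂ) := by push_cast; linear_combination a1
    exact_mod_cast this
  obtain rfl : b = 1 := by
    have := Int.isUnit_iff_natAbs_eq.1 (isUnit_of_mul_isUnit_left (a2 ▸ he))
    simpa using this
  have a3 := P10.card_seqInd hP hT le_rfl (P10.der2_lt hP).le (P10.der2_normal hP)
  generalize (seqIndD ⁅M, M⁆ M ⁅M, M⁆ ⁅⁅M, M⁆, ⁅M, M⁆⁆).card = s at a3
  rw [P11.der2_eq hG hM hP h2 h0, P9.relIndex_HV_der hP P9.C_le, hb, mul_one] at a3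
  have a4 := Nat.le_of_dvd (Nat.sub_pos_of_lt (P9.prime h0).one_lt) h1.dvd
  have a5 := h1.one_lt
  rw [P11.prime hG hM hP h2 h0] at a4
  rcases s with _ | s
  · omega
  · rw [mul_add] at a3
    omega

end

variable {H0 : Subgroup G} (h0 : PtypeKer M U H0)
include h0

/-- PF (11.9). -/
theorem FTtype34_structure :
    (∀ ζ ∈ seqIndD ⁅M, M⁆ M ⁅M, M⁆ (fittingHallOf M ⊔ (U ⊓ centralizer (fittingHallOf M : Set G))),
      ∀ (i : Irr W1) (j : Irr W2),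
        cfdot ⊤ (FTDade0 M (prTIred M W W1 W2 1 - ζ) - ∑ l : Irr W2, cycEta ⊤ W W1 W2 1 l)
          (cycEta ⊤ W W1 W2 i j) = 0) ∧
    Nat.card W2 < Nat.card W1 ∧ FTtype M = 3 ∧ TypePGalois M U H0 := by
  classical
  obtain rfl := P11.H0_eq hG hM hP h2 h0
  have hV := FT_cyclicTI_hyp hG hP
  obtain ⟨ζ0, hζ0⟩ := seqIndD_nonempty (L := M) le_rfl ((P9.der_le hP).trans (P10.der2_normal hP))
    (P10.der2_lt hP)
  have hGal := P11.galois hG hM hP h2 h0 hζ0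
  rw [← FTtype34_der2 hG hM hP h2]
  refine ⟨fun ζ hζ i j => ?_, (P11.row hG hM hP h2 h0 hζ0).2, ?_, hGal⟩
  · rw [cfdot_sub_left, (P11.row hG hM hP h2 h0 hζ).1, cfdot_sum_left]
    simp only [hV.cfdot_cycEta]
    by_cases hi : i = 1
    · simp [hi]
    · simp [hi, Ne.symm hi]
  · have h3 := P10.gt2 hG hM hP h2
    have h5 := FTtype5_exclusion hG hM
    have h6 := (FTtype_range M).2
    have h4 : FTtype M ≠ 4 := fun h => ((FTtype_eq_four_iff hG hM hP).1 h).U_not_comm (by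
      obtain ⟨⟨g, hg, he⟩, -⟩ := P9.galois hP h0 hGal
      rw [P11.ker_eq hG hM hP h2 h0, (FTtype34_facts hG hM hP h2 h0).2.2.2] at he
      rw [le_antisymm (P9.le_of_le_sup_commutator hP.U_nilpotent (zpowers_le.2 hg) he.ge)
        (zpowers_le.2 hg)]
      infer_instance)
    omega

end CfsgLib.FT
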