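import Mathlib
import Cfsg.Agent.Lib.FT.PF13a

/-! Peterfalvi, section 13, (13.4) to (13.9). -/

set_option autoImplicit false
set_option linter.unusedSectionVars false

namespace CfsgLib.FT

open Cfsg Subgroup P12
open scoped ComplexConjugate commutatorElement Classical

variable {G : Type*} [Group G] [Fintype G]

namespace P13

theorem sum_sharp (K : Subgroup G) (f : G → ℂ) :
    ∑ x ∈ elems (sharp K), ‖f x‖ ^ 2 = Nat.card K * cfnorm K f - ‖f 1‖ ^ 2 := by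
  rw [cfnorm_eq, ← mul_assoc, mul_inv_cancel₀ (card_pos_real K).ne', one_mul,
    ← Finset.add_sum_erase _ _ (mem_elems.mpr K.one_mem), add_sub_cancel_left]
  refine Finset.sum_congr ?_ fun _ _ => rfl
  ext x; simp [mem_sharp, and_comm]

theorem card_mul_le_cfnorm {K N : Subgroup G} {f : G → ℂ} (h : N ≤ cfker K f) :
    Nat.card N * ‖f 1‖ ^ 2 ≤ Nat.card K * cfnorm K f := by
  rw [cfnorm_eq, ← mul_assoc, mul_inv_cancel₀ (card_pos_real K).ne', one_mul, ← card_elems,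
    ← nsmul_eq_mul, ← Finset.sum_const]
  calc _ = ∑ x ∈ elems (N : Set G), ‖f x‖ ^ 2 := Finset.sum_congr rfl fun x hx => by
        rw [cfker_apply (h (mem_elems.mp hx))]
    _ ≤ _ := Finset.sum_le_sum_of_subset_of_nonneg (fun x hx =>
        mem_elems.mpr (cfker_le (h (mem_elems.mp hx)))) fun _ _ _ => by positivity

theorem le_cfker_of_constt {K N : Subgroup G} {f : G → ℂ} (hf : f ∈ CF K) (hN : N ≤ K)
    (h : ∀ θ, IsIrr K θ → ¬ N ≤ cfker K θ → cfdot K f θ = 0) : N ≤ cfker K f := by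
  rw [cfun_sum_constt hf]
  refine le_cfker_sum _ _ hN fun θ hθ => le_trans ?_ (cfker_le_smul _)
  by_contra hk
  exact mem_irrConstt.mp hθ (h θ θ.irr hk)

variable {S U W W1 W2 : Subgroup G} (c : Ctx S U W W1 W2)
  {τ1 : CFMap G} {ε : ℤ} {π : Irr W2 → Irr W2} (r : RedCoh S W W1 W2 τ1 ε π)
include c

local notation "P" => fittingHallOf S
local notation "C" => FcomplKer S U ⊥
local notation "H" => fitH S U
local notation "p" => Nat.card W2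
local notation "q" => Nat.card W1
local notation "u" => relIndex (FcomplKer S U ⊥) U
local notation "μ" => prTIred S W W1 W2
local notation "η" => cycEta ⊤ W W1 W2

theorem Ctx.S1_ortho {φ ψ : G → ℂ} (h : φ ∈ calS1 S U) (h' : ψ ∈ calS1 S U) (hne : φ ≠ ψ) :
    cfdot S φ ψ = 0 := seqInd_ortho c.H_le c.H_normal h h' hne

theorem Ctx.S1_sub_on {φ ψ : G → ℂ} (h : φ ∈ calS1 S U) (h' : ψ ∈ calS1 S U) :
    φ - ψ ∈ CFon S (sharp H) :=
  zcharD1_seqInd_on c.H_normal (sub_mem (subset_zspan h) (subset_zspan h'))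
    (by simp [c.S1_one h, c.S1_one h'])

theorem Ctx.S1_conj_ne {φ : G → ℂ} (h : φ ∈ calS1 S U) : cfConjC φ ≠ φ :=
  seqInd_conjC_neq c.H_le c.H_normal le_sup_left (mFT_odd c.hG S) h

include r

theorem RedCoh.sub_eq {φ ψ : G → ℂ} (h : φ ∈ calS1 S U) (h' : ψ ∈ calS1 S U) :
    τ1 φ - τ1 ψ = cfInd S ⊤ (φ - ψ) := by
  rw [← map_sub, r.coh.agree _ (sub_mem (c.S1_sub h) (c.S1_sub h'))
    (by simp [c.S1_one h, c.S1_one h']), c.Dade_eq (CFon_mono c.H_supp (c.S1_sub_on h h'))]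

/-- PF (13.5). -/
theorem RedCoh.split {ζ1 : G → ℂ} (hζ1 : ζ1 ∈ calS1 S U) {χ : G → ℂ}
    (hχ : χ ∈ ZIrr (⊤ : Subgroup G)) {a : ℤ}
    (h : ∀ ζ ∈ calS1 S U, cfdot ⊤ (τ1 ζ) χ = if ζ = ζ1 then (a : ℂ) else 0) :
    ∃ (n : ℤ) (N : ℕ), (∀ x ∈ sharp P, χ x = a / cfnorm S ζ1 * ζ1 x + n) ∧ (n ≠ 0 → N ≠ 0) ∧
      (N = 1 → n ^ 2 = 1) ∧ (p : ℝ) ^ q * n ^ 2 ≤ Nat.card H * N ∧
      ∑ x ∈ elems (sharp H), ‖χ x‖ ^ 2 = a ^ 2 * Nat.card S / cfnorm S ζ1 -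
        (a * (q * u) / cfnorm S ζ1 + n) ^ 2 + Nat.card H * N := by
  have hCF := ZIrr_mem_CF hχ
  obtain ⟨θ1, hθ1, -, hk1, e1⟩ := mem_seqIndD.mp hζ1
  have hζ0 : cfConjC ζ1 ∈ calS1 S U := cfAut_seqInd _ hζ1
  obtain ⟨θ0, hθ0, -, hk0, e0⟩ := mem_seqIndD.mp hζ0
  have hN := cfnorm_seqInd_pos c.H_le hζ1
  have hN' : (cfnorm S ζ1 : ℂ) ≠ 0 := by exact_mod_cast hN.ne'
  obtain ⟨σ, hσ⟩ : ∃ σ, σ = ((cfnorm S ζ1 : ℂ))⁻¹ • cfRes H ζ1 := ⟨_, rfl⟩
  have hσe : σ = ∑ ξ ∈ cfclass S θ1, ξ := by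
    rw [hσ, e1, cfResInd_sum_cfclass c.H_le c.H_normal hθ1.mem_CF,
      cfnorm_Ind_irr c.H_le c.H_normal hθ1, smul_smul, Complex.ofReal_natCast,
      inv_mul_cancel₀ (relIndex_cast_ne_zero _ _), one_smul]
  have hσZ : σ ∈ ZIrr H := by
    rw [hσe]
    exact Submodule.sum_mem _ fun ξ hξ => (hθ1.of_mem_cfclass c.H_normal hξ).mem_ZIrr
  obtain ⟨ρ, hρ⟩ : ∃ ρ : G → ℂ, ρ = ∑ θ : Irr H, (θ : G → ℂ) := ⟨_, rfl⟩
  have hρZ : ρ ∈ ZIrr H := hρ ▸ Submodule.sum_mem _ fun θ _ => θ.mem_ZIrr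
  have hρ0 : ∀ x, x ≠ 1 → ρ x = 0 := fun x hx => by
    rw [hρ, Finset.sum_apply, ← sum_irr_one_mul (L := H) hx]
    exact Finset.sum_congr rfl fun θ _ => by rw [(θ.irr.isLin_of_comm c.H_comm).one, one_mul]
  have hf : cfRes H χ ∈ ZIrr H := ZIrr_cfRes le_top hχ
  obtain ⟨b, hb⟩ := ZIrr_cfdot_int hf hθ0.mem_ZIrr
  obtain ⟨α, hα⟩ : ∃ α, α = cfRes H χ - (a : ℂ) • σ - (b : ℂ) • ρ := ⟨_, rfl⟩
  have hαZ : α ∈ ZIrr H :=
    hα ▸ sub_mem (sub_mem hf (intCast_smul_mem hσZ a)) (intCast_smul_mem hρZ b)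
  have hne : cfConjC ζ1 ≠ ζ1 := c.S1_conj_ne hζ1
  have key : ∀ θ, IsIrr H θ → ¬ P ≤ cfker H θ → cfdot H α θ = 0 := by
    intro θ hθ hk
    have m : cfInd H S θ ∈ calS1 S U := mem_seqIndD.mpr ⟨θ, hθ, bot_le, hk, rfl⟩
    have d1 : cfdot H ρ θ = 1 := by
      have := cfdot_sum_irr (L := H) (fun _ => 1) ⟨θ, hθ⟩
      simpa [hρ] using this
    have d2 : cfdot H σ θ = if cfInd H S θ = ζ1 then 1 else 0 := by
      rw [hσ, cfdot_smul_left, ← cfdot_cfRes_cfInd c.H_le (seqInd_mem_CF hζ1)]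
      split_ifs with e
      · rw [e, cfdot_self, inv_mul_cancel₀ hN']
      · rw [c.S1_ortho hζ1 m (Ne.symm e), mul_zero]
    have d3 : cfdot H (cfRes H χ) θ = b + if cfInd H S θ = ζ1 then (a : ℂ) else 0 := by
      have e := congrArg (fun φ => cfdot ⊤ φ χ) (r.sub_eq c m hζ0)
      rw [cfdot_sub_left, h _ m, h _ hζ0, if_neg hne, sub_zero, e0, ← map_sub,
        cfInd_cfInd c.H_le le_top, cfdot_cfInd_cfRes le_top hCF, cfdot_sub_left,
        ← ZIrr_cfdot_comm hf hθ.mem_ZIrr, ← ZIrr_cfdot_comm hf hθ0.mem_ZIrr, hb] at e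
      rw [e]; ring
    rw [hα, cfdot_sub_left, cfdot_sub_left, cfdot_smul_left, cfdot_smul_left, d1, d2, d3]
    split_ifs <;> ring
  have hker : P ≤ cfker H α := le_cfker_of_constt (ZIrr_mem_CF hαZ) le_sup_left key
  obtain ⟨n, hn⟩ := ZIrr_one_int hαZ
  obtain ⟨N, hNα⟩ := ZIrr_cfnorm_nat hαZ
  have hval : ∀ x ∈ sharp H, χ x = ((a : ℂ) • σ + α) x := fun x hx => by
    rw [hα]; simp [cfRes_apply hx.1, hρ0 x hx.2]
  refine ⟨n, N, fun x hx => ?_, fun h0 h1 => h0 ?_, fun h1 => ?_, ?_, ?_⟩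
  · have hx' := sharp_mono (le_sup_left : P ≤ H) hx
    rw [hval x hx', Pi.add_apply, cfker_apply (hker hx.1), hn, hσ]
    simp only [Pi.smul_apply, smul_eq_mul, cfRes_apply hx'.1]; ring
  · rw [h1, Nat.cast_zero, cfnorm_eq_zero (ZIrr_mem_CF hαZ)] at hNα
    rw [hNα, Pi.zero_apply] at hn
    exact_mod_cast hn.symm
  · obtain ⟨e, ψ, he, hψ, e'⟩ := (isDirr_of_cfnorm hαZ (by rw [hNα, h1, Nat.cast_one])).exists_sign
    rw [e', Pi.smul_apply, (hψ.isLin_of_comm c.H_comm).one, smul_eq_mul, mul_one] at hn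
    have : e = n := by exact_mod_cast hn
    rcases he with he | he <;> rw [← this, he] <;> norm_num
  · have := card_mul_le_cfnorm hker
    rw [c.card_P, hn, hNα] at this
    simpa using this
  · have hσα : cfdot H ((a : ℂ) • σ) α = 0 := by
      rw [cfdot_smul_left, hσe, cfdot_sum_left, Finset.sum_eq_zero, mul_zero]
      intro ξ hξ
      refine cfdot_symm_zero (key ξ (hθ1.of_mem_cfclass c.H_normal hξ) ?_)
      obtain ⟨x, hx, rfl⟩ := mem_cfclass.mp hξ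
      rwa [le_cfker_cfConjg (c.H_normal hx) (Fcore_normal S hx)]
    have hσn : cfnorm H σ = (q * u) / cfnorm S ζ1 := by
      have e := cfdot_of_supp_subgroup (ψ := ζ1) c.H_le (seqInd_on c.H_normal hζ1).2
      rw [cfdot_self, cfdot_self, c.index_H] at e
      have e' : cfnorm H ζ1 = (q * u) * cfnorm S ζ1 := by exact_mod_cast e
      rw [hσ, cfnorm_smul, cfnorm_congr (ψ := ζ1) fun x hx => cfRes_apply hx, e', norm_inv,
        Complex.norm_real, Real.norm_of_nonneg hN.le]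
      field_simp
    have hcard : (Nat.card S : ℝ) = Nat.card H * (q * u) := by
      rw [← card_mul_relIndex c.H_le, c.index_H]; push_cast; ring
    have h1 : ((a : ℂ) • σ + α) 1 = ((a * (q * u) / cfnorm S ζ1 + n : ℝ) : ℂ) := by
      rw [Pi.add_apply, hn, hσ]
      simp only [Pi.smul_apply, smul_eq_mul, cfRes_one, c.S1_one hζ1]
      push_cast; ring
    rw [Finset.sum_congr rfl fun x hx => by rw [hval x (mem_elems.mp hx)], sum_sharp,
      cfnorm_add_of_ortho hσα, cfnorm_intCast_smul, hσn, hNα, h1, hcard, Complex.norm_real,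
      Real.norm_eq_abs, sq_abs]
    ring

omit r in
theorem Ctx.exists_W : ∃ x ∈ W2, ∃ y ∈ W1, x ≠ 1 ∧ y ≠ 1 ∧ orderOf y = q ∧ y * x = x * y ∧
    y * x ∈ cycTIset W W1 W2 := by
  obtain ⟨x, hx, hx1⟩ := exists_ne_one c.hP.W2_ne
  obtain ⟨y, hy, hy1⟩ := exists_ne_one c.hP.W1_ne
  refine ⟨x, hx, y, hy, hx1, hy1, ?_, c.hP.W_comm y hy x hx, (c.cyc.mul_mem_cycTIset hy hx).mpr ⟨hy1, hx1⟩⟩
  rw [← Nat.card_zpowers, zpowers_eq_of_card_prime c.q_prime hy hy1]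

omit r in
theorem Ctx.quad_bound (n : ℤ) : 2 * (u : ℝ) * n ≤ ((p : ℝ) ^ q - 1) * n ^ 2 := by
  have h1 : (2 * u + 1 : ℝ) ≤ p ^ q := by exact_mod_cast c.two_u_le
  have h2 : (n : ℝ) ≤ n ^ 2 := by exact_mod_cast Int.le_self_sq n
  have h3 : (0 : ℝ) ≤ u := Nat.cast_nonneg _
  nlinarith [sq_nonneg (n : ℝ)]

theorem RedCoh.lam_dot {l : G → ℂ} (hl : HasLam S U l) :
    ∀ ζ ∈ calS1 S U, cfdot ⊤ (τ1 ζ) (τ1 l) = if ζ = l then ((1 : ℤ) : ℂ) else 0 := by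
  intro ζ hζ
  rw [r.coh.isom _ (c.S1_sub hζ) _ (subset_zspan hl.2.1)]
  split_ifs with e
  · rw [e, hl.1.cfdot_self, Int.cast_one]
  · exact c.S1_ortho hζ hl.2.2 e

/-- PF (13.6). -/
theorem RedCoh.sum_lam {l : G → ℂ} (hl : HasLam S U l) :
    (Nat.card S : ℝ) - (q * u) ^ 2 ≤ ∑ x ∈ elems (sharp H), ‖τ1 l x‖ ^ 2 := by
  have hZ := r.coh.virt _ (subset_zspan hl.2.1)
  obtain ⟨n, N, h1, -, -, h2, h3⟩ := r.split c hl.2.2 hZ (r.lam_dot c hl)
  rw [hl.1.cfnorm] at h1 h3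
  obtain ⟨x, hx, y, hy, hx1, hy1, ho, hc, hV⟩ := c.exists_W
  have hε := Complex.isPrimitiveRoot_exp q c.q_prime.ne_zero
  have c1 := vchar_ker_mod_prim hε hZ (mem_top y) ho hc
  have c2 := vchar_ker_mod_prim hε hl.1.mem_ZIrr (c.hP.W1_le hy) ho hc
  rw [c.cyc.ortho_cycTIiso_vanish (ZIrr_mem_CF hZ) (r.irr_ortho c hl.2.1 hl.1) _ hV,
    h1 x (mem_sharp.mpr ⟨c.hP.W2_le_H hx, hx1⟩)] at c1
  rw [CFon_zero (seqInd_on c.H_normal hl.2.2) fun h => hy1 (by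
    have : y ∈ ⁅S, S⁆ ⊓ W1 := ⟨by simpa using mul_mem (c.H_le_der h) (inv_mem
      (c.hP.H_le_der (c.hP.W2_le_H hx))), hy⟩
    rwa [c.hP.defM.2.2.1] at this)] at c2
  obtain ⟨b, hb⟩ := int_eqAmod_prime_prim hε c.q_prime (n := n) (by
    simpa using (c1.sub c2).symm)
  have := c.quad_bound b
  have hb' : (n : ℝ) = q * b := by exact_mod_cast hb
  rw [h3]
  rw [hb'] at h2 ⊢
  have h4 : (0 : ℝ) ≤ (q : ℝ) ^ 2 := by positivity
  simp only [Int.cast_one, div_one]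
  nlinarith [mul_le_mul_of_nonneg_left this h4]

omit r in
/-- PF (13.7). -/
theorem Ctx.sum_eta10 {i : Irr W1} :
    (Nat.card H : ℝ) - 1 ≤ ∑ x ∈ elems (sharp H), ‖η i 1 x‖ ^ 2 := by
  obtain ⟨τ1, ε, π, r⟩ := c.exists_redCoh
  obtain ⟨k, hk⟩ := exists_irr_ne_one c.hP.W2_ne c.hP.W2_cyclic
  have hZ := c.cyc.cycEta_vchar i 1
  obtain ⟨n, N, h1, h0, h0', h2, h3⟩ := r.split c (c.mu_mem1 hk) hZ (a := 0) fun ζ hζ => by
    rw [r.dot_zero c (c.S1_sub hζ)]; simp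
  obtain ⟨x, hx, y, hy, hx1, hy1, ho, hc, hV⟩ := c.exists_W
  have hε := Complex.isPrimitiveRoot_exp q c.q_prime.ne_zero
  have c1 := vchar_ker_mod_prim hε hZ (mem_top y) ho hc
  have c2 := vchar_ker_mod_prim hε i.mem_ZIrr hy ho (y := 1) (by simp)
  rw [c.cyc.cycEta_apply _ _ hV, c.cyc.cycW_apply _ _ hy hx, Irr.coe_one, cf1_apply hx, mul_one,
    h1 x (mem_sharp.mpr ⟨c.hP.W2_le_H hx, hx1⟩)] at c1
  rw [mul_one, (c.cyc.lin_W1 i).one] at c2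
  have hd := int_eqAmod_prime_prim hε c.q_prime (n := n - 1) (by
    have := c1.symm.trans c2
    push_cast; simpa using eqAmod_sub_zero.mpr this)
  have hn0 : n ≠ 0 := by
    rintro rfl
    rw [zero_sub, dvd_neg] at hd
    have := Int.le_of_dvd one_pos hd
    have := c.q3; omega
  rw [h3]
  simp only [Int.cast_zero, zero_mul, zero_div, zero_add, ne_eq, OfNat.ofNat_ne_zero,
    not_false_eq_true, zero_pow, zero_sub]
  have hH := card_pos_real H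
  by_cases hN : N = 1
  · have : (n : ℝ) ^ 2 = 1 := by exact_mod_cast h0' hN
    rw [this, hN]; simp [add_comm, sub_eq_add_neg]
  · have hN2 : (2 : ℝ) ≤ N := by have := h0 hn0; exact_mod_cast (by omega : 2 ≤ N)
    have : (2 : ℝ) ≤ (p : ℝ) ^ q := by
      have := c.two_u_le
      have := Ctx.u_pos (S := S) (U := U)
      exact_mod_cast (by omega : 2 ≤ p ^ q)
    nlinarith [sq_nonneg (n : ℝ)]

omit r in
/-- PF (13.8). -/
theorem Ctx.sum_eta01 {j : Irr W2} (hj : j ≠ 1) :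
    (Nat.card ↥⁅S, S⁆ : ℝ) - u ^ 2 ≤ ∑ x ∈ elems (sharp H), ‖η 1 j x‖ ^ 2 := by
  obtain ⟨τ1, ε, π, r⟩ := c.exists_redCoh
  have hk := r.ne_one hj
  have hZ := intCast_smul_mem (c.cyc.cycEta_vchar 1 j) ε
  have hq := card_ne_zero W1
  obtain ⟨n, N, -, -, -, h2, h3⟩ := r.split c (c.mu_mem1 hk) hZ (a := 1) fun ζ hζ => by
    have := r.dot_eta c (c.S1_sub hζ) 1 hk
    rw [r.invol] at this
    rw [cfdot_intCast_smul_right, this]
    split_ifs with e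
    · rw [e, c.prTI.cfdot_prTIred, if_pos rfl, mul_div_assoc, div_self hq, mul_one, r.sq, Int.cast_one]
    · rw [c.S1_ortho hζ (c.mu_mem1 hk) e]; simp
  rw [Finset.sum_congr rfl (g := fun x => ‖η 1 j x‖ ^ 2) fun x _ => by
    rcases r.sign with h | h <;> simp [h]] at h3
  have hq' := (card_pos_real W1).ne'
  rw [h3, c.prTI.cfnorm_prTIred, c.card_S]
  have := c.quad_bound n
  push_cast
  rw [show (1 : ℝ) ^ 2 * (Nat.card ↥⁅S, S⁆ * q) / q = Nat.card ↥⁅S, S⁆ by field_simp,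
    show (1 : ℝ) * (q * u) / q = u by field_simp]
  nlinarith

/-- PF (13.9)(a). -/
theorem RedCoh.ne_zero {l : G → ℂ} (hl : HasLam S U l) {i : Irr W1} (hi : i ≠ 1) {x : G}
    (hx : x ∉ classSupport (sharp H) ⊤) (h1 : τ1 l x = 0) : η i 1 x ≠ 0 := by
  intro h2
  by_cases hV : x ∈ classSupport (cycTIset W W1 W2) ⊤
  · obtain ⟨w, hw, y, -, rfl⟩ := hV
    rw [CF_conj (c.cyc.cycEta_mem_CF i 1) (mem_top y), c.cyc.cycEta_apply _ _ hw] at h2
    exact (c.cyc.cycW_lin i 1).apply_ne_zero hw.1 h2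
  obtain ⟨j, hj⟩ := exists_irr_ne_one c.hP.W2_ne c.hP.W2_cyclic
  have e := congrFun (r.sub_eq c hl.2.2 (c.mu_mem1 hj)) x
  rw [CFon_zero (cfInd_mem_CFon_classSupport (c.S1_sub_on hl.2.2 (c.mu_mem1 hj)).2) hx, Pi.sub_apply,
    h1, zero_sub, neg_eq_zero, r.red j hj, Pi.smul_apply, smul_eq_mul, Finset.sum_apply] at e
  have e' : ∑ k : Irr W1, η k (π j) x = 0 := by
    rcases r.sign with h | h <;> simpa [h] using e
  have h0 : ∀ k : Irr W1, k ≠ 1 → η k 1 x = 0 := by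
    intro k hk
    obtain ⟨v, hv, -⟩ := exists_aut_of_prime_card c.q_prime i.irr k.irr (fun e => hi (Irr.ext e))
      (fun e => hk (Irr.ext e)) (m := 1) (Nat.coprime_one_left _) one_ne_zero
    have := c.cyc.cycEta_aut v i 1
    rw [Irr.aut_one, show i.aut v = k from Irr.ext hv] at this
    rw [this, cfAut_apply, h2, map_zero]
  have h3 : ∀ k : Irr W1, k ≠ 1 → η k (π j) x = η 1 (π j) x - 1 := by
    intro k hk
    have := c.cyc.cycEta_apply_of_notMem k 1 (π j) 1 hV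
    rw [h0 k hk, c.cyc.cycEta_one, cf1_apply (mem_top x)] at this
    linear_combination this
  rw [← Finset.add_sum_erase _ _ (Finset.mem_univ 1), Finset.sum_congr rfl fun k hk =>
    h3 k (Finset.ne_of_mem_erase hk), Finset.sum_const, Finset.card_erase_of_mem (Finset.mem_univ _),
    Finset.card_univ, c.cyc.card_irr_W1, nsmul_eq_mul, Nat.cast_sub c.q_prime.one_le] at e'
  have hq := card_ne_zero W1
  obtain ⟨n, hn⟩ := int_of_isIntegral_of_rat (ZIrr_isIntegral (c.cyc.cycEta_vchar 1 (π j)) x)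
    (((q : ℚ) - 1) / q) (by push_cast; field_simp; linear_combination e')
  rw [hn] at e'
  have e2 : (q : ℤ) * (1 - n) = 1 := by
    have : (q : ℂ) * (1 - n) = 1 := by linear_combination -e'
    exact_mod_cast this
  have := Int.le_of_dvd one_pos ⟨_, e2.symm⟩
  have := c.q3; omega

/-- PF (13.9)(b). -/
theorem RedCoh.card_le_sum {l : G → ℂ} (hl : HasLam S U l) {i : Irr W1} (hi : i ≠ 1) {G0 : Set G}
    (h0 : ∀ x ∈ G0, ∀ y, zpowers y = zpowers x → y ∈ G0)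
    (hG0 : ∀ x ∈ G0, x ∉ classSupport (sharp H) ⊤) :
    (G0.ncard : ℝ) ≤ ∑ x ∈ elems G0, ‖τ1 l x‖ ^ 2 + ∑ x ∈ elems G0, ‖η i 1 x‖ ^ 2 := by
  have hZ := r.coh.virt _ (subset_zspan hl.2.1)
  have a := card_le_sum_norm2 (A := {x ∈ G0 | τ1 l x ≠ 0}) hZ (fun x hx y hy =>
    ⟨h0 x hx.1 y hy, fun e => hx.2 (ZIrr_eq_zero_of_zpowers_eq hZ hy.symm e)⟩) fun y hy => hy.2
  have b := card_le_sum_norm2 (A := {x ∈ G0 | τ1 l x = 0}) (c.cyc.cycEta_vchar i 1) (fun x hx y hy =>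
    ⟨h0 x hx.1 y hy, ZIrr_eq_zero_of_zpowers_eq hZ hy hx.2⟩)
    fun y hy => r.ne_zero c hl hi (hG0 y hy.1) hy.2
  have e : G0.ncard = {x ∈ G0 | τ1 l x ≠ 0}.ncard + {x ∈ G0 | τ1 l x = 0}.ncard := by
    rw [← Set.ncard_union_eq (Set.disjoint_left.mpr fun x a b => a.2 b.2)]
    congr 1; ext x; by_cases h : τ1 l x = 0 <;> simp [h]
  rw [e, Nat.cast_add]
  refine add_le_add (a.trans ?_) (b.trans ?_) <;>
    exact Finset.sum_le_sum_of_subset_of_nonneg (fun x hx => mem_elems.mpr (mem_elems.mp hx).1)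
      fun _ _ _ => by positivity

end P13

end CfsgLib.FT
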