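import Mathlib
import Cfsg.Agent.Lib.FT.PF13c
import Cfsg.Agent.Lib.FT.U4

/-! Peterfalvi, section 13, (13.16) and (13.17). -/

set_option autoImplicit false
set_option linter.unusedSectionVars false

namespace CfsgLib.FT

open Cfsg Subgroup P12
open scoped ComplexConjugate commutatorElement Classical

variable {G : Type*} [Group G] [Fintype G]

namespace P13

theorem eq_bot_of_le_of_coprime {A B : Subgroup G} (h : A ≤ B)
    (hc : (Nat.card A).Coprime (Nat.card B)) : A = ⊥ :=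
  card_eq_one.mp (Nat.Coprime.eq_one_of_dvd hc (card_dvd_of_le h))

variable {S U W W1 W2 : Subgroup G} (c : Ctx S U W W1 W2)
include c

local notation "P" => fittingHallOf S
local notation "p" => Nat.card W2
local notation "q" => Nat.card W1

theorem Ctx.conj (g : G) : Ctx (S.map (MulAut.conj g).toMonoidHom)
    (U.map (MulAut.conj g).toMonoidHom) (W.map (MulAut.conj g).toMonoidHom)
    (W1.map (MulAut.conj g).toMonoidHom) (W2.map (MulAut.conj g).toMonoidHom) :=
  ⟨c.hG, isCoatom_map_conj c.hS g, conj_of_typeP c.hP g⟩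

theorem Ctx.U_ne : U ≠ ⊥ := c.frobUW.ker_ne

theorem Ctx.comm_UW : ⁅U, W1⁆ = U := P9.commutator_U_W1 c.hP le_rfl c.hP.nUW1

theorem Ctx.le_cent_W2 : P ⊔ W1 ≤ centralizer (W2 : Set G) :=
  sup_le (fun _ hx _ hy => P12.comm_of_isMulCommutative c.P_elem.1 (c.hP.W2_le_H hy) hx)
    fun x hx y hy => (c.hP.W_comm x hx y hy).symm

/-- PF (13.16). -/
theorem Ctx.norm_W2 : normalizer (W2 : Set G) = P ⊔ W1 := by
  refine le_antisymm ?_ (c.le_cent_W2.trans (U4.cent_le_norm _))
  have hW1 : W1 ≤ normalizer (W2 : Set G) :=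
    le_sup_right.trans (c.le_cent_W2.trans (U4.cent_le_norm _))
  have hK : U ⊓ normalizer (W2 : Set G) = ⊥ := by
    set K := U ⊓ normalizer (W2 : Set G) with hKd
    have nK : W1 ≤ normalizer (K : Set G) :=
      P9.le_normalizer_inf' c.hP.nUW1 (hW1.trans le_normalizer)
    have cK : K ≤ centralizer (W2 : Set G) := by
      rw [← P9.commutator_U_W1 c.hP (V := K) inf_le_left nK, commutator_le]
      intro k hk w hw y hy
      have h1 := c.hP.W_comm w hw
      have h2 := h1 _ ((norm_conj_mem' hk.2).mpr hy)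
      have h3 := h1 y hy
      rw [commutatorElement_def]
      calc _ = k * (k⁻¹ * y * k * w) * k⁻¹ * w⁻¹ := by group
        _ = k * w * k⁻¹ * (y * w⁻¹) := by rw [← h2]; group
        _ = _ := by rw [mul_inv_eq_iff_eq_mul.mpr (show y = w⁻¹ * y * w by rw [mul_assoc, ← h3]; group)]; group
    have hw := Frobenius_Wielandt_fixpoint nK
      (fun x hx h1 => eq_bot_iff.mpr ((inf_le_inf_right _ inf_le_left).trans
        (P9.U_fpf c.hP x hx h1).le)) (inf_le_left.trans (P9.U_norm_H c.hP)) (P9.W1_norm_H c.hP)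
      P9.solvable_H ((P9.coprime_U_H c.hP).coprime_dvd_left (card_dvd_of_le inf_le_left))
      (P9.coprime_W1_H c.hP)
    have e1 : P ⊓ centralizer ((K ⊔ W1 : Subgroup G) : Set G) = W2 := by
      refine le_antisymm (fun x hx => (typeP_cent_core_compl c.hP).le ⟨hx.1, fun y hy =>
        hx.2 y (mem_sup_right hy)⟩) (le_inf c.hP.W2_le_H (le_centralizer_iff.mp ?_))
      exact sup_le cK (le_sup_right.trans c.le_cent_W2)
    rw [e1, typeP_cent_core_compl c.hP] at hw
    have e2 := eq_of_le_of_card_ge (inf_le_left (a := P) (b := centralizer (K : Set G)))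
      (Nat.eq_of_mul_eq_mul_left (pow_pos Nat.card_pos _) hw).le
    exact eq_bot_iff.mpr ((le_inf inf_le_left (le_centralizer_iff.mp (inf_eq_left.mp e2))).trans
      c.reg.le)
  intro g hg
  obtain ⟨x, hx, hx1⟩ := exists_ne_one c.hP.W2_ne
  have hgS : g ∈ S := c.TIP.ti g (mem_top _) x ⟨c.hP.W2_le_H hx, hx1⟩
    ⟨c.hP.W2_le_H ((norm_conj_mem hg).mpr hx), U4.conj_ne_one_iff.mpr hx1⟩
  obtain ⟨a, ha, b, hb, rfl⟩ := (Ptype_Fcore_sdprod c.hP).2.2.2 g hgS
  obtain ⟨k, hk, w, hw, rfl⟩ := exists_mul_of_mem_sup c.hP.nUW1 hb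
  have h1 : a ∈ normalizer (W2 : Set G) := U4.cent_le_norm _ (c.le_cent_W2 (mem_sup_left ha))
  have h2 : k ∈ normalizer (W2 : Set G) :=
    (mul_mem_cancel_right (hW1 hw)).mp ((mul_mem_cancel_left h1).mp hg)
  rw [mem_bot.mp (hK.le ⟨hk, h2⟩), one_mul]
  exact mul_mem_sup ha hw

theorem Ctx.not_norm_le (h2 : FTtype S = 2) : ¬ normalizer (U : Set G) ≤ S :=
  ((FTtype_eq_two_iff c.hG c.hS c.hP).mp h2).not_norm_le

theorem Ctx.not_conj_S (h2 : FTtype S = 2) {L : Subgroup G} (hUL : normalizer (U : Set G) ≤ L) :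
    ¬ ConjSub S L := by
  rintro ⟨g, rfl⟩
  have c' := c.conj g
  have h1 : U ≤ ⁅_, _⁆ := c.comm_UW.ge.trans
    (commutator_mono (le_normalizer.trans hUL) (c.hP.nUW1.trans hUL))
  rw [← P9.sup_HU c'.hP] at h1
  obtain ⟨n, hn, h3⟩ := Cop.exists_conj_le_of_le_sup (P9.U_norm_H c'.hP) h1
    (by rw [← card_map_conj g U]; exact P9.coprime_U_H c'.hP) (Or.inr P9.solvable_H)
  refine c'.not_norm_le (by rw [FTtype_map_conj, h2]) ?_
  rw [← eq_of_le_of_card_ge h3 (by rw [card_map_conj, card_map_conj]), normalizer_map_conj]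
  exact Cop.map_conj_le_of_mem hUL (Fcore_le _ hn)

theorem Ctx.not_conj_T {T V : Subgroup G} (d : Ctx T V W W2 W1) {L : Subgroup G}
    (hUL : normalizer (U : Set G) ≤ L) : ¬ ConjSub T L := by
  rintro ⟨g, rfl⟩
  have d' := d.conj g
  have hc := d'.card_P
  rw [card_map_conj, card_map_conj] at hc
  have h1 : W1 ≤ fittingHallOf _ := le_of_coprime_relIndex (Fcore_normal _) (c.hP.nUW1.trans hUL)
    ((Fcore_hall _).coprime_dvd_left (hc ▸ dvd_pow_self _ c.p_prime.ne_zero))
  have h2 : U ≤ fittingHallOf _ := c.comm_UW.ge.trans ((commutator_mono le_rfl h1).trans (by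
    rw [commutator_comm]
    exact Cop.commutator_le_left_of_le_normalizer ((le_normalizer.trans hUL).trans (Fcore_normal _))))
  exact c.U_ne (eq_bot_of_le_of_coprime h2 (hc ▸ (P9.coprime_W1_U c.hP).symm.pow_right _))

theorem Ctx.coprime_of_not_conj {L : Subgroup G} (hL : IsCoatom L) (h : ¬ ConjSub S L) :
    (p).Coprime (Nat.card (fittingHallOf L)) :=
  ((coprime_FTcore c.hG c.hS hL h).coprime_dvd_left (card_dvd_of_le
    (c.hP.W2_le_H.trans (Fcore_le_FTcore c.hG c.hS)))).coprime_dvd_right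
      (card_dvd_of_le (Fcore_le_FTcore c.hG hL))

/-- PF (13.17). -/
theorem Ctx.support_facts {T V : Subgroup G} (d : Ctx T V W W2 W1) (h : TypePPair S T W W1 W2)
    (h2 : FTtype S = 2) {L : Subgroup G} (hL : IsCoatom L) (hUL : normalizer (U : Set G) ≤ L) :
    FrobKer L (fittingHallOf L) ∧ U ≤ fittingHallOf L ∧
      (((fittingHallOf L).relIndex L = q ∧ fittingHallOf L ≠ U) ∨
        ((fittingHallOf L).relIndex L = q * p ∧
          ∃ y ∈ fittingHallOf T, W2.map (MulAut.conj y).toMonoidHom ≤ L)) := by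
  have n1 := c.not_conj_S h2 hUL
  have n2 := c.not_conj_T d hUL
  have hF := FTtype1_Frobenius c.hG hL (by
    by_contra h1
    exact (h.conj L hL h1).elim n1 n2)
  have cq := d.coprime_of_not_conj hL n2
  set K := fittingHallOf L with hK
  have hW1 : W1 ≤ L := c.hP.nUW1.trans hUL
  obtain ⟨E, hE, hWE⟩ : ∃ E, IsComplIn K E L ∧ W1 ≤ E := by
    obtain ⟨E0, h0⟩ := hF
    obtain ⟨n, hn, h1⟩ := Cop.exists_conj_le_of_le_sup (h0.compl.2.1.trans h0.normal)
      (hW1.trans (IsComplIn_sup h0.compl).ge) cq (Or.inr P9.solvable_H)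
    refine ⟨_, ?_, U4.conj_le_iff.mp h1⟩
    have := U4.isComplIn_conj h0.compl n⁻¹
    rwa [U4.conj_eq_of_mem (inv_mem hn), U4.conj_eq_of_mem (inv_mem (h0.compl.1 hn))] at this
  have hFE := hF.frobIn hE
  have nKE : E ≤ normalizer (K : Set G) := hE.2.1.trans hF.normal
  have hN : E ≤ normalizer (W1 : Set G) :=
    odd_regular_prime_normal (mFT_odd c.hG E) hF.ker_ne nKE (P12.FrobIn.reg hFE) hWE c.q_prime
  have hUK : U ≤ K := by
    have a1 : L ≤ normalizer ((K ⊔ W1 : Subgroup G) : Set G) := by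
      rw [← IsComplIn_sup hE]
      exact sup_le (le_sup_left.trans le_normalizer) (P9.le_normalizer_sup' nKE hN)
    have a2 : U ≤ K ⊔ W1 := c.comm_UW.ge.trans ((commutator_mono le_rfl le_sup_right).trans (by
      rw [commutator_comm]
      exact Cop.commutator_le_left_of_le_normalizer ((le_normalizer.trans hUL).trans a1)))
    refine le_of_coprime_relIndex (sup_le le_normalizer (hWE.trans nKE)) a2 ?_
    rw [IsComplIn_relIndex (isComplIn_of_sup rfl (eq_bot_iff.mpr
      ((inf_le_inf_left _ hWE).trans hE.2.2.1.le)) (hWE.trans nKE))]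
    exact (P9.coprime_W1_U c.hP).symm
  refine ⟨hF, hUK, ?_⟩
  rw [IsComplIn_relIndex hE]
  rw [d.norm_W2] at hN
  set Q := fittingHallOf T with hQ
  have hQE : Q ⊓ E = W1 := by
    have a1 : IsMulCommutative ↥(Q ⊓ E) := (elemAb_of_le d.P_elem inf_le_left).1
    have a2 := regular_abelian_cyclic a1 hF.ker_ne (inf_le_right.trans nKE)
      fun x hx => P12.FrobIn.reg hFE x hx.2
    obtain ⟨g, hg, h1, -⟩ := exists_generator a2
    refine (eq_of_le_of_card_ge (le_inf d.hP.W2_le_H hWE) ?_).symm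
    rw [← h1]
    exact Nat.le_of_dvd c.q_prime.pos (orderOf_dvd_of_pow_eq_one (d.P_elem.2 g hg.1))
  have hQW : IsComplIn Q W2 (Q ⊔ W2) := isComplIn_of_sup rfl
    (disjoint_of_coprime_natCard (P9.coprime_W1_H d.hP).symm).eq_bot (P9.W1_norm_H d.hP)
  have hcard : Nat.card E = q * Q.relIndex E := by
    rw [← hQE, ← inf_relIndex_right, card_mul_relIndex inf_le_right]
  have hdvd : Q.relIndex E ∣ p := by
    rw [← IsComplIn_relIndex hQW, ← Cop.relIndex_sup_left_of_le_normalizer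
      (hN.trans (sup_le le_normalizer (P9.W1_norm_H d.hP)))]
    exact relIndex_dvd_right le_sup_left (sup_le le_sup_left hN)
  rcases (Nat.dvd_prime c.p_prime).mp hdvd with h1 | h1
  · rw [h1, mul_one] at hcard
    refine Or.inl ⟨hcard, fun e => c.not_norm_le h2 (hUL.trans ?_)⟩
    rw [← IsComplIn_sup hE, e, ← eq_of_le_of_card_ge hWE hcard.le]
    exact P9.UW1_le c.hP
  · rw [h1] at hcard
    refine Or.inr ⟨hcard, ?_⟩
    obtain ⟨X, hX, hXp⟩ := U4.exists_card_prime c.p_prime (hcard ▸ Dvd.intro_left _ rfl)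
    obtain ⟨n, hn, h3⟩ := Cop.exists_conj_le_of_le_sup (P9.W1_norm_H d.hP) (hX.trans hN)
      (hXp ▸ P9.coprime_W1_H d.hP) (Or.inr P9.solvable_H)
    refine ⟨n⁻¹, inv_mem hn, ?_⟩
    rw [← eq_of_le_of_card_ge h3 (by rw [card_map_conj, hXp]), map_conj_inv_map_conj]
    exact hX.trans hE.2.1

end P13

end CfsgLib.FT
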