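import Mathlib
import Cfsg.Agent.Lib.FT.PF12

/-! Tools for Peterfalvi (13.18), (13.19) and section 14: Bessel inequalities, bridge characters,
and the coherent sets of a maximal subgroup of type I. -/

set_option autoImplicit false
set_option linter.unusedSectionVars false

namespace CfsgLib.FT

open Cfsg Subgroup P12
open scoped ComplexConjugate commutatorElement Classical

variable {G : Type*} [Group G] [Fintype G]

namespace P13

/-- An orthonormal family. -/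
def ONF {ι : Type*} (s : Finset ι) (f : ι → G → ℂ) : Prop :=
  (∀ i ∈ s, cfdot ⊤ (f i) (f i) = 1) ∧ ∀ i ∈ s, ∀ j ∈ s, i ≠ j → cfdot ⊤ (f i) (f j) = 0

section onf
variable {ι : Type*} {s : Finset ι} {f : ι → G → ℂ} {β α : G → ℂ}

theorem ONF.proj_dot (h : ONF s f) (β : G → ℂ) {j : ι} (hj : j ∈ s) :
    cfdot ⊤ (β - ∑ i ∈ s, cfdot ⊤ β (f i) • f i) (f j) = 0 := by
  rw [cfdot_sub_left, cfdot_sum_smul_ortho s f _ h.2 hj, h.1 j hj, mul_one, sub_self]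

theorem proj_dot' (β : G → ℂ) (c : ι → ℂ) (ho : ∀ i ∈ s, cfdot ⊤ (f i) α = 0) :
    cfdot ⊤ (β - ∑ i ∈ s, c i • f i) α = cfdot ⊤ β α := by
  rw [cfdot_sub_left, cfdot_sum_left, Finset.sum_eq_zero, sub_zero]
  intro i hi
  rw [cfdot_smul_left, ho i hi, mul_zero]

theorem ONF.proj_norm (h : ONF s f) (β : G → ℂ) :
    cfnorm ⊤ (β - ∑ i ∈ s, cfdot ⊤ β (f i) • f i) =
      cfnorm ⊤ β - ∑ i ∈ s, ‖cfdot ⊤ β (f i)‖ ^ 2 := by
  have h1 : cfdot ⊤ (β - ∑ i ∈ s, cfdot ⊤ β (f i) • f i) (∑ i ∈ s, cfdot ⊤ β (f i) • f i) = 0 := by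
    rw [cfdot_sum_right, Finset.sum_eq_zero]
    intro i hi
    rw [cfdot_smul_right, h.proj_dot β hi, mul_zero]
  have h2 := cfnorm_add_of_ortho h1
  rw [sub_add_cancel, cfnorm_sum_of_ortho s _ fun i hi j hj hne => by
    rw [cfdot_smul_left, cfdot_smul_right, h.2 i hi j hj hne, mul_zero, mul_zero],
    Finset.sum_congr (g := fun i => ‖cfdot ⊤ β (f i)‖ ^ 2) rfl fun i hi => by
      rw [cfnorm_smul, cfnorm_eq_one_iff.mpr (h.1 i hi), mul_one]] at h2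
  linarith

theorem ONF.bessel (h : ONF s f) (β : G → ℂ) : ∑ i ∈ s, ‖cfdot ⊤ β (f i)‖ ^ 2 ≤ cfnorm ⊤ β := by
  have := cfnorm_nonneg (L := ⊤) (φ := β - ∑ i ∈ s, cfdot ⊤ β (f i) • f i)
  rw [h.proj_norm] at this
  linarith

theorem one_le_norm_sq {z : ℂ} {n : ℤ} (h : z = n) (h0 : z ≠ 0) : 1 ≤ ‖z‖ ^ 2 := by
  have h1 : n ≠ 0 := by rintro rfl; exact h0 (by simpa using h)
  rw [h, Complex.norm_intCast, sq_abs]
  exact_mod_cast (one_le_sq_iff_one_le_abs n).mpr (Int.one_le_abs h1)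

theorem odd_ne_zero {z : ℂ} {n : ℤ} (h : z = n) (ho : Odd n) : z ≠ 0 := by
  have : n ≠ 0 := fun e => by simp [e] at ho
  rw [h]; exact_mod_cast this

/-- `β = 1 - α + Γ` with `Γ` real and orthogonal to `1`. -/
structure Bridge (β α : G → ℂ) : Prop where
  virt : β ∈ ZIrr (⊤ : Subgroup G)
  dirr : IsDirr ⊤ α
  one : cfdot ⊤ β (cf1 ⊤) = 1
  one' : cfdot ⊤ α (cf1 ⊤) = 0
  ortho : cfdot ⊤ α (cfConjC α) = 0
  real : cfConjC β + cfConjC α = β + α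

theorem Bridge.dot_conj (h : Bridge β α) : cfdot ⊤ β (cfConjC α) = cfdot ⊤ β α + 1 := by
  have h1 := cfdot_cfAut_ZIrr (starRingEnd ℂ) (add_mem h.virt h.dirr.mem_ZIrr) h.dirr.mem_ZIrr
  rw [cfAut_add, h.real, cfdot_add_left, cfdot_add_left, h.ortho, h.dirr.cfdot_self] at h1
  simpa using h1

theorem Bridge.bessel (h : Bridge β α) (hf : ONF s f) (h1 : ∀ i ∈ s, cfdot ⊤ (f i) (cf1 ⊤) = 0)
    (h2 : ∀ i ∈ s, cfdot ⊤ (f i) α = 0) (h3 : ∀ i ∈ s, cfdot ⊤ (f i) (cfConjC α) = 0) :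
    ∑ i ∈ s, ‖cfdot ⊤ β (f i)‖ ^ 2 ≤ cfnorm ⊤ β - 2 := by
  have o : cfdot ⊤ (cfConjC α) (cf1 ⊤) = 0 := by
    rw [cfdot_cfConjC_left]; simp only [cfAut_cf1, h.one', map_zero]
  have hg : ONF Finset.univ ![cf1 ⊤, α, cfConjC α] := by
    refine ⟨fun i _ => ?_, fun i _ j _ hne => ?_⟩
    · fin_cases i
      exacts [cfdot_cf1, h.dirr.cfdot_self, (h.dirr.cfAut _).cfdot_self]
    · fin_cases i <;> fin_cases j <;> first | exact absurd rfl hne | skip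
      exacts [cfdot_symm_zero h.one', cfdot_symm_zero o, h.one', h.ortho, o,
        cfdot_symm_zero h.ortho]
  have b := hg.bessel (β - ∑ i ∈ s, cfdot ⊤ β (f i) • f i)
  rw [hf.proj_norm, Fin.sum_univ_three] at b
  simp only [Matrix.cons_val_zero, Matrix.cons_val_one, Matrix.cons_val] at b
  obtain ⟨n, hn⟩ := ZIrr_cfdot_int h.virt h.dirr.mem_ZIrr
  rw [proj_dot' _ _ h1, proj_dot' _ _ h2, proj_dot' _ _ h3, h.one, h.dot_conj, hn,
    show (n : ℂ) + 1 = ((n + 1 : ℤ) : ℂ) by push_cast; rfl, Complex.norm_intCast,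
    Complex.norm_intCast, sq_abs, sq_abs, norm_one] at b
  have : (1 : ℝ) ≤ n ^ 2 + ((n + 1 : ℤ) : ℝ) ^ 2 := by
    have : (1 : ℤ) ≤ n ^ 2 + (n + 1) ^ 2 := by
      rcases le_or_gt 0 n with h | h <;> nlinarith
    exact_mod_cast this
  linarith

theorem Bridge.parity (hodd : Odd (Nat.card G)) (h : Bridge β α) {β' α' : G → ℂ} (h' : Bridge β' α')
    (h1 : cfdot ⊤ β β' = 0) (h2 : cfdot ⊤ α α' = 0) {a b : ℤ} (ha : cfdot ⊤ β α' = a)
    (hb : cfdot ⊤ β' α = b) : Odd a ∨ Odd b := by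
  obtain ⟨n, hn⟩ := cfdot_real_vchar_even (L := ⊤) (by rwa [card_top])
    (add_mem h.virt h.dirr.mem_ZIrr) (by rw [conjC_add, h.real])
    (add_mem h'.virt h'.dirr.mem_ZIrr) (by rw [conjC_add, h'.real])
  simp only [cfdot_add_left, cfdot_add_right] at hn
  rw [h1, h2, ha, ZIrr_cfdot_comm h.dirr.mem_ZIrr h'.virt, hb, h.one, h.one', h'.one, h'.one'] at hn
  have : a + b = 2 * n + 1 := by
    have : ((a + b : ℤ) : ℂ) = (2 * n + 1 : ℤ) := by push_cast; linear_combination hn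
    exact_mod_cast this
  rw [Int.odd_iff, Int.odd_iff]; omega

end onf

theorem onf_eta {W W1 W2 : Subgroup G} (h : CycTI ⊤ W W1 W2) (s : Finset (Irr W1 × Irr W2)) :
    ONF s fun k => cycEta ⊤ W W1 W2 k.1 k.2 :=
  ⟨fun i _ => (h.cycEta_dirr _ _).cfdot_self, fun i _ j _ hne => by
    rw [h.cfdot_cycEta, if_neg fun e => hne (Prod.ext e.1 e.2)]⟩

theorem ortho_eta_of_vanish {W W1 W2 : Subgroup G} (h : CycTI ⊤ W W1 W2) {a b : G → ℂ}
    (ha : IsDirr ⊤ a) (hb : IsDirr ⊤ b) (hab : cfdot ⊤ a b = 0)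
    (h0 : ∀ x ∈ cycTIset W W1 W2, (a - b) x = 0) (i : Irr W1) (j : Irr W2) :
    cfdot ⊤ a (cycEta ⊤ W W1 W2 i j) = 0 := by
  have h1 := h.ortho_of_NC_lt (sub_mem ha.mem_CF hb.mem_CF) h0 (by
    have := cycTI_NC_sub (G0 := ⊤) (W := W) (W1 := W1) (W2 := W2) (φ := a) (ψ := b)
    have := h.NC_dirr ha
    have := h.NC_dirr hb
    have := h.three_le_W1
    have := h.three_le_W2
    omega) i j
  by_contra hne
  rw [cfdot_sub_left, sub_eq_zero] at h1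
  have h2 := cfdot_symm_zero hab
  rcases ha.eq_or_neg_of_cfdot_ne (h.cycEta_dirr i j) hne with e | e
  · exact hne (by rw [h1, ← e, h2])
  · rw [e, cfdot_neg_right, neg_eq_zero] at h2
    exact hne (h1.trans h2)

/-- A maximal subgroup of type I with its coherent set and reference character. -/
structure TypeI (L : Subgroup G) (τ : CFMap G) (φ : G → ℂ) : Prop where
  hG : IsMinSimpleOddOrder G
  max : IsCoatom L
  frob : FrobKer L (fittingHallOf L)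
  coh : CoherentWith L (seqIndD (fittingHallOf L) L (fittingHallOf L) ⊥) (FTDadeF L) τ
  mem : φ ∈ seqIndD (fittingHallOf L) L (fittingHallOf L) ⊥
  one : φ 1 = (fittingHallOf L).relIndex L

theorem exists_typeI (hG : IsMinSimpleOddOrder G) {L : Subgroup G} (hL : IsCoatom L)
    (hF : FrobKer L (fittingHallOf L)) : ∃ τ φ, TypeI L τ φ := by
  obtain ⟨τ, h⟩ := (FT_Frobenius_coherence hG hL hF).2.2
  obtain ⟨φ, h1, h2⟩ := FTtype1_ref_irr hG hL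
  exact ⟨τ, φ, hG, hL, hF, h, h1, h2⟩

/-- `β_L^τ`. -/
noncomputable def betaL (L : Subgroup G) (φ : G → ℂ) : G → ℂ :=
  FTDadeF L (cfInd (fittingHallOf L) L (cf1 (fittingHallOf L)) - φ)

namespace TypeI

variable {L : Subgroup G} {τ : CFMap G} {φ χ : G → ℂ} (t : TypeI L τ φ)
include t

local notation "K" => fittingHallOf L
local notation "𝓛" => seqIndD (fittingHallOf L) L (fittingHallOf L) ⊥
local notation "e" => relIndex (fittingHallOf L) L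

theorem type1 : FTtype L = 1 := FT_Frobenius_type1 t.hG t.max t.frob
theorem dade : DadeHypothesis (sharp K) L (supportR L) := FT_DadeF_hyp t.hG t.max
theorem supp_eq : sharp K = FTsupp1 L := by rw [FTsupp1, FTcore_type1 t.type1]
theorem irr (h : χ ∈ 𝓛) : IsIrr L χ := (FT_Frobenius_coherence t.hG t.max t.frob).1 χ h
theorem dirr (h : χ ∈ 𝓛) : IsDirr ⊤ (τ χ) := t.coh.toZIsom.dirr (subset_zspan h) (t.irr h)

theorem conjC (h : χ ∈ 𝓛) : cfConjC (τ χ) = τ (cfConjC χ) :=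
  cfAut_Dade_coherent_seqInd t.dade t.coh (mFT_odd t.hG L) (Fcore_le L) (Fcore_normal L) le_rfl _ h
    (t.irr h)

theorem onf : ONF 𝓛 τ :=
  ⟨fun _ h => (t.dirr h).cfdot_self, fun _ h _ h' hne => by
    rw [t.coh.isom _ (subset_zspan h) _ (subset_zspan h'), (t.irr h).cfdot_ne (t.irr h') hne]⟩

theorem conj_ne (h : χ ∈ 𝓛) : cfConjC χ ≠ χ :=
  seqInd_conjC_neq (Fcore_le L) (Fcore_normal L) le_rfl (mFT_odd t.hG L) h

theorem sub_conj (h : χ ∈ 𝓛) : τ χ - τ (cfConjC χ) = FTDadeF L (χ - cfConjC χ) := by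
  rw [← map_sub]
  exact t.coh.agree _ (sub_mem_zspan h (cfAut_seqInd _ h))
    (sub_eq_zero.mpr ((t.irr h).isChar.conj_one).symm)

theorem a1 : (∀ ξ ∈ 𝓛, cfdot ⊤ (τ ξ) (cf1 ⊤) = 0) ∧ cfdot ⊤ (betaL L φ) (cf1 ⊤) = 1 ∧
    betaL L φ ∈ ZIrr (⊤ : Subgroup G) ∧ cfnorm ⊤ (betaL L φ) = e + 1 :=
  Dade_Ind1_sub_lin_a1 t.dade t.coh (seqInd_nontrivial (Fcore_le L) (Fcore_normal L) le_rfl
    (mFT_odd t.hG L) t.mem) (t.irr t.mem) t.mem t.one

theorem bridge : Bridge (betaL L φ) (τ φ) where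
  virt := t.a1.2.2.1
  dirr := t.dirr t.mem
  one := t.a1.2.1
  one' := t.a1.1 φ t.mem
  ortho := by
    rw [t.conjC t.mem]
    exact t.onf.2 _ t.mem _ (cfAut_seqInd _ t.mem) (t.conj_ne t.mem).symm
  real := by
    have h : cfConjC (cfInd K L (cf1 K)) = cfInd K L (cf1 K) := by
      rw [cfConjC, cfInd_cfAut, cfAut_cf1]
    rw [t.conjC t.mem, betaL, conjC_Dade, conjC_sub, h, eq_comm, ← sub_eq_iff_eq_add, add_sub_assoc,
      t.sub_conj t.mem, ← map_add, sub_add_sub_cancel]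

theorem bessel {ι : Type*} {s : Finset ι} {f : ι → G → ℂ} (hf : ONF s f)
    (h1 : ∀ i ∈ s, cfdot ⊤ (f i) (cf1 ⊤) = 0) (h2 : ∀ i ∈ s, ∀ χ ∈ 𝓛, cfdot ⊤ (f i) (τ χ) = 0) :
    ∑ i ∈ s, ‖cfdot ⊤ (betaL L φ) (f i)‖ ^ 2 ≤ e - 1 := by
  have := t.bridge.bessel hf h1 (fun i hi => h2 i hi _ t.mem) fun i hi => by
    rw [t.conjC t.mem]; exact h2 i hi _ (cfAut_seqInd _ t.mem)
  rw [t.a1.2.2.2] at this
  linarith

theorem le_sum {ψ : G → ℂ} (hψ : ψ ∈ ZIrr (⊤ : Subgroup G)) (h : ∀ α, cfdot ⊤ ψ (FTDadeF L α) = 0)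
    (h0 : cfdot ⊤ ψ (τ φ) ≠ 0) :
    ((Nat.card K : ℝ) - 1) / e ≤ ∑ χ ∈ 𝓛, ‖cfdot ⊤ ψ (τ χ)‖ ^ 2 := by
  obtain ⟨n, hn⟩ := ZIrr_cfdot_int hψ (t.dirr t.mem).mem_ZIrr
  have h1 := one_le_norm_sq hn h0
  have he := relIndex_pos_real K L
  have h2 := sum_seqIndC1_square (Fcore_le L) (Fcore_normal L)
  have h3 : ∀ χ ∈ 𝓛, (χ 1).re ^ 2 / cfnorm L χ ≤ (e : ℝ) ^ 2 * ‖cfdot ⊤ ψ (τ χ)‖ ^ 2 := by
    intro χ hχ
    have a := h (χ - (χ 1 / φ 1) • φ)
    rw [← t.coh.agree_pivot (subset_zspan hχ) (subset_zspan t.mem) (t.irr hχ).mem_ZIrr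
      (t.irr t.mem).mem_ZIrr (t.irr t.mem).one_ne_zero, map_sub, map_smul, cfdot_sub_right,
      cfdot_smul_right, sub_eq_zero] at a
    obtain ⟨m, -, hm⟩ := (t.irr hχ).exists_nat_one
    rw [a, (t.irr hχ).cfnorm, t.one, hm, norm_mul, RCLike.norm_conj, norm_div, Complex.norm_natCast,
      Complex.norm_natCast, Complex.natCast_re, mul_pow, ← mul_assoc, ← mul_pow,
      mul_div_cancel₀ _ he.ne', div_one]
    nlinarith [sq_nonneg (m : ℝ)]
  have h4 := Finset.sum_le_sum h3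
  rw [h2, ← Finset.mul_sum] at h4
  rw [div_le_iff₀ he]
  nlinarith

end TypeI

end P13

end CfsgLib.FT
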