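import Mathlib
import Cfsg.Agent.Lib.FT.PF13d
import Cfsg.Agent.Lib.FT.PF13e

/-! Peterfalvi, section 13, (13.18) and (13.19). -/

set_option autoImplicit false
set_option linter.unusedSectionVars false

namespace CfsgLib.FT

open Cfsg Subgroup P12
open scoped ComplexConjugate commutatorElement Classical

variable {G : Type*} [Group G] [Fintype G]

namespace P13

/-- `Ind_{P W1}^S 1`. -/
noncomputable def gam (S W1 : Subgroup G) : G → ℂ :=
  cfInd (fittingHallOf S ⊔ W1) S (cf1 (fittingHallOf S ⊔ W1))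

/-- `β_j^τ` of PF (13.18). -/
noncomputable def betaS (S W W1 W2 : Subgroup G) (j : Irr W2) : G → ℂ :=
  cfInd S ⊤ (gam S W1 - prTIirr S W W1 W2 1 j)

variable {S U W W1 W2 : Subgroup G} (c : Ctx S U W W1 W2)
include c

local notation "P" => fittingHallOf S
local notation "p" => Nat.card W2
local notation "q" => Nat.card W1
local notation "η" => cycEta ⊤ W W1 W2
local notation "γ" => gam S W1
local notation "β" => betaS S W W1 W2
local notation "V" => cycTIset W W1 W2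

theorem Ctx.PW_le : P ⊔ W1 ≤ S := sup_le (Fcore_le S) c.hP.W1_le

theorem Ctx.PW_compl : IsComplIn P W1 (P ⊔ W1) := isComplIn_of_sup rfl
  (disjoint_of_coprime_natCard (P9.coprime_W1_H c.hP).symm).eq_bot (P9.W1_norm_H c.hP)

theorem Ctx.index_PW : (P ⊔ W1).relIndex S = Nat.card U := by
  have h := card_eq_relIndex_mul c.PW_le
  rw [IsComplIn_card c.PW_compl, c.card_S, c.card_der, c.card_P] at h
  refine Nat.eq_of_mul_eq_mul_right (mul_pos (pow_pos c.p_prime.pos q) c.q_prime.pos) ?_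
  rw [← h]; ring

theorem Ctx.gam_ker : P ≤ cfker S γ :=
  le_cfker_cfInd c.PW_le (Fcore_normal S) (by rw [cfker_cf1]; exact le_sup_left)

theorem Ctx.gam_one : γ 1 = Nat.card U := by rw [gam, cfInd_one c.PW_le, c.index_PW, cf1_one, mul_one]

theorem Ctx.gam_W1 {x : G} (hx : x ∈ W1) (h1 : x ≠ 1) : γ x = 1 := by
  have key : ∀ y ∈ S, y * x * y⁻¹ ∈ P ⊔ W1 ↔ y ∈ P ⊔ W1 := by
    refine fun y hy => ⟨fun h => ?_, fun h => (conj_mem_iff h).mpr (mem_sup_right hx)⟩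
    obtain ⟨a, ha, b, hb, rfl⟩ := (Ptype_Fcore_sdprod c.hP).2.2.2 y hy
    obtain ⟨k, hk, w, hw, rfl⟩ := exists_mul_of_mem_sup c.hP.nUW1 hb
    have e : a * (k * w) * x * (a * (k * w))⁻¹ = a * (k * x * k⁻¹ * x⁻¹ * x) * a⁻¹ := by
      calc _ = a * (k * (w * x) * w⁻¹ * k⁻¹) * a⁻¹ := by group
        _ = _ := by rw [comm_of_isCyclic c.hP.W1_cyclic w hw x hx]; group
    rw [e, conj_mem_iff (mem_sup_left ha), mul_mem_cancel_right (mem_sup_right hx)] at h
    have h2 : k * x * k⁻¹ * x⁻¹ ∈ U := by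
      rw [mul_assoc, mul_assoc, ← mul_assoc x]
      exact mul_mem hk ((norm_conj_mem (c.hP.nUW1 hx)).mpr (inv_mem hk))
    have h3 : (P ⊔ W1) ⊓ U = ⊥ := (disjoint_of_coprime_natCard (by
      rw [IsComplIn_card c.PW_compl]
      exact (P9.coprime_U_H c.hP).symm.mul_left (P9.coprime_W1_U c.hP))).eq_bot
    have h4 := mem_bot.mp (h3.le ⟨h, h2⟩)
    rw [mem_bot.mp ((P9.U_fpf c.hP x hx h1).le ⟨hk, mem_cent1.mpr (by
      rw [mul_inv_eq_one, mul_inv_eq_iff_eq_mul] at h4; exact h4.symm)⟩), one_mul]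
    exact mul_mem_sup ha hw
  rw [gam, cfInd_apply' (fun _ h => cf1_apply_of_notMem h) (c.hP.W1_le hx),
    Finset.sum_congr (g := fun y => cf1 (P ⊔ W1) y * 1) rfl fun y hy => by
      by_cases h : y ∈ P ⊔ W1
      · rw [cf1_apply h, cf1_apply ((key y (mem_elems.mp hy)).mpr h), mul_one]
      · rw [cf1_apply_of_notMem h, cf1_apply_of_notMem (mt (key y (mem_elems.mp hy)).mp h), mul_one],
    sum_elems_mul_CF c.PW_le, sum_elems_const, nsmul_eq_mul, mul_one,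
    inv_mul_cancel₀ (card_ne_zero _)]

theorem Ctx.gam_der {x : G} (hx : x ∈ ⁅S, S⁆) (h1 : x ∉ P) : γ x = 0 := by
  refine cfInd_eq_zero fun y hy h => absurd ?_ h1
  obtain ⟨a, ha, w, hw, e⟩ := c.PW_compl.2.2.2 _ h
  have h2 := (norm_conj_mem (P9.der_normal c.hP hy)).mpr hx
  rw [e, mul_mem_cancel_left (c.hP.H_le_der ha)] at h2
  rw [mem_bot.mp (c.hP.defM.2.2.1.le ⟨h2, hw⟩), mul_one] at e
  exact (norm_conj_mem (Fcore_normal S hy)).mp (e ▸ ha)

theorem Ctx.beta_on {j : Irr W2} (hj : j ≠ 1) :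
    γ - prTIirr S W W1 W2 1 j ∈ CFon S (sharp P ∪ classSupport V S) := by
  have hCF : γ - prTIirr S W W1 W2 1 j ∈ CF S := sub_mem cfInd_mem_CF (c.prTI.prTIirr_irr 1 j).mem_CF
  refine ⟨hCF, fun x hx => ?_⟩
  by_cases hS : x ∈ S
  swap
  · exact CF_zero hCF hS
  by_cases h1 : x = 1
  · rw [h1, Pi.sub_apply, c.gam_one, c.mu0_one 1 hj, c.u_eq, sub_self]
  by_cases hD : x ∈ ⁅S, S⁆
  · have hP : x ∉ P := fun h => hx (Or.inl ⟨h, h1⟩)
    have h2 := CFon_zero (seqInd_on c.H_normal (c.mu_mem1 hj)) (x := x) (by rwa [c.H_eq_P])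
    rw [c.prTI.prTIred_eq_smul, Pi.smul_apply, prTIres, cfRes_apply hD, smul_eq_mul,
      mul_eq_zero_iff_left (card_ne_zero _)] at h2
    rw [Pi.sub_apply, c.gam_der hD hP, h2, sub_self]
  · obtain ⟨y, hy, h2, h3⟩ := c.prTI.exists_conj_mem hS hD
    have hyS := der_le_self S hy
    have h4 : y * x * y⁻¹ ∈ W1 := by
      by_contra h4
      exact hx (Or.inr ⟨_, mem_cycTIset.mpr ⟨h2, h4, h3⟩, y⁻¹, inv_mem hyS, by group⟩)
    rw [← CF_conj hCF hyS, Pi.sub_apply, c.gam_W1 h4 (U4.conj_ne_one_iff.mpr h1),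
      c.prTI.prTIirr_id 1 j h2 h3, c.sign, c.cyc.cycW_apply_left 1 j h4, Irr.coe_one, cf1_apply h4]
    simp

theorem Ctx.beta_on0 {j : Irr W2} (hj : j ≠ 1) :
    γ - prTIirr S W W1 W2 1 j ∈ CFon S (FTsupp0 S) :=
  CFon_mono (Set.union_subset (c.H_eq_P ▸ c.H_supp) (c.prDade.A0_eq ▸ Set.subset_union_right))
    (c.beta_on hj)

theorem Ctx.beta_zero {j : Irr W2} (hj : j ≠ 1) {g : G} (h1 : g ∉ classSupport (sharp P) ⊤)
    (h2 : g ∉ classSupport V ⊤) : β j g = 0 := by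
  refine CFon_zero (cfInd_mem_CFon_classSupport (c.beta_on hj).2) ?_
  rintro ⟨a, ha | ⟨b, hb, z, -, rfl⟩, y, hy, rfl⟩
  · exact h1 ⟨a, ha, y, hy, rfl⟩
  · exact h2 ⟨b, hb, y * z, mem_top _, by group⟩

theorem Ctx.beta_sub {j k : Irr W2} (hj : j ≠ 1) (hk : k ≠ 1) : β j + η 1 j = β k + η 1 k := by
  have he : prTIirr S W W1 W2 1 j 1 = prTIirr S W W1 W2 1 k 1 := by
    rw [c.mu0_one 1 hj, c.mu0_one 1 hk]
  have h := c.prDade.prDade_sub_TIirr hj hk he
  rw [c.sign, Int.cast_one, one_smul] at h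
  have h2 : β k - β j = η 1 j - η 1 k := by
    rw [← h, betaS, betaS, ← map_sub, sub_sub_sub_cancel_left]
    exact (c.Dade_eq (c.prDade.prDade_sub_TIirr_on hj hk he)).symm
  linear_combination -h2

theorem Ctx.conj_ne {j : Irr W2} (hj : j ≠ 1) : j.conj ≠ j :=
  mt (Irr.conj_eq_self c.odd_p j).mp hj

theorem Ctx.eta_one {i : Irr W1} {j : Irr W2} (h : ¬ (i = 1 ∧ j = 1)) :
    cfdot ⊤ (η i j) (cf1 ⊤) = 0 := by rw [← c.cyc.cycEta_one, c.cyc.cfdot_cycEta, if_neg h]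

theorem Ctx.eta_conj (i : Irr W1) (j : Irr W2) : cfConjC (η i j) = η i.conj j.conj :=
  (c.cyc.cycEta_aut _ i j).symm

/-- PF (13.18)(c). -/
theorem Ctx.bridge {j : Irr W2} (hj : j ≠ 1) : Bridge (β j) (η 1 j) where
  virt := ZIrr_cfInd le_top
    (sub_mem (ZIrr_cfInd c.PW_le cf1_mem_ZIrr) (c.prTI.prTIirr_irr 1 j).mem_ZIrr)
  dirr := c.cyc.cycEta_dirr 1 j
  one := by
    rw [betaS, cfdot_cfInd_cfRes le_top cf1_mem_CF, cfRes_cf1 le_top, cfdot_sub_left, gam,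
      cfdot_cfInd_cfRes c.PW_le cf1_mem_CF, cfRes_cf1 c.PW_le, cfdot_cf1, ← c.prTI.prTIirr00,
      c.prTI.cfdot_prTIirr, if_neg fun h => hj h.2, sub_zero]
  one' := c.eta_one fun h => hj h.2
  ortho := by rw [c.eta_conj, c.cyc.cfdot_cycEta, if_neg fun h => c.conj_ne hj h.2.symm]
  real := by
    have h : cfConjC (β j) = β j.conj := by
      rw [betaS, cfConjC, cfInd_cfAut, cfAut_sub, gam, cfInd_cfAut, cfAut_cf1,
        ← c.prTI.prTIirr_aut, Irr.aut_one]; rfl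
    rw [h, c.eta_conj, show (1 : Irr W1).conj = 1 from Irr.aut_one _]
    exact c.beta_sub (mt (Irr.aut_eq_one _).mp hj) hj

/-- PF (13.18)(b). -/
theorem Ctx.norm_beta {j : Irr W2} (hj : j ≠ 1) :
    cfnorm ⊤ (β j) = ((Nat.card U : ℝ) - 1) / q + 2 := by
  have h1 : cfdot S γ (prTIirr S W W1 W2 1 j) = 0 := by
    by_contra h
    have h2 := (c.prTI.le_cfker_prTIirr c.hP.H_le_der (Fcore_normal S) 1 j).mp
      (c.gam_ker.trans (cfker_constt cfInd_mem_CF (c.prTI.prTIirr_irr 1 j) h))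
    exact hj ((Irr.eq_one_iff j).mpr ((le_inf c.hP.W2_le_H le_rfl).trans h2))
  have h2 : cfdot S γ γ = (((Nat.card U : ℝ) - 1) / q + 1 : ℝ) := by
    have e : ∀ a ∈ elems (P : Set G), ∑ w ∈ elems (W1 : Set G), γ (a * w) = Nat.card U - 1 + q := by
      intro a ha
      rw [Finset.sum_congr (g := fun w => (if w = 1 then (Nat.card U : ℂ) - 1 else 0) + 1) rfl
        fun w hw => by
          rw [cfker_mul_left (c.gam_ker (mem_elems.mp ha))]
          split_ifs with h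
          · rw [h, c.gam_one]; ring
          · rw [c.gam_W1 (mem_elems.mp hw) h, zero_add],
        Finset.sum_add_distrib, Finset.sum_ite_eq', if_pos (mem_elems.mpr W1.one_mem),
        sum_elems_const, nsmul_eq_mul, mul_one]
    conv_lhs => enter [3]; rw [gam]
    rw [cfdot_cfInd_right c.PW_le (ψ := γ) cfInd_mem_CF, cfdot_cf1_right, sum_elems_compl c.PW_compl,
      Finset.sum_congr rfl e, sum_elems_const, IsComplIn_card c.PW_compl, nsmul_eq_mul]
    have := card_ne_zero P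
    have := card_ne_zero W1
    push_cast
    field_simp
  rw [betaS, cfnorm_eq_of_cfdot (normedTI_isometry c.TI0 (c.beta_on0 hj) (c.beta_on0 hj)),
    cfnorm_sub_of_ortho h1, cfnorm_eq_of_cfdot_eq h2, (c.prTI.prTIirr_irr 1 j).cfnorm]
  ring

/-- PF (13.18)(d). -/
theorem Ctx.bessel {j : Irr W2} (hj : j ≠ 1) {ι : Type*} {s : Finset ι} {f : ι → G → ℂ}
    (hf : ONF s f) (h : ∀ k ∈ s, ∀ i j, cfdot ⊤ (f k) (η i j) = 0) :
    ∑ i ∈ s, ‖cfdot ⊤ (β j) (f i)‖ ^ 2 ≤ ((Nat.card U : ℝ) - 1) / q := by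
  have := (c.bridge hj).bessel hf (fun k hk => c.cyc.cycEta_one ▸ h k hk 1 1)
    (fun k hk => h k hk 1 j) fun k hk => c.eta_conj 1 j ▸ h k hk _ _
  rw [c.norm_beta hj] at this
  linarith

variable {L : Subgroup G} {τ : CFMap G} {φ : G → ℂ} (t : TypeI L τ φ)
include t

local notation "K" => fittingHallOf L
local notation "𝓛" => seqIndD (fittingHallOf L) L (fittingHallOf L) ⊥
local notation "e" => relIndex (fittingHallOf L) L

theorem Ctx.not_conj_typeI : ¬ ConjSub S L := by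
  rintro ⟨g, rfl⟩
  exact c.ne1 ((FTtype_map_conj S g).symm.trans t.type1)

/-- PF (13.19)(a). -/
theorem Ctx.disj_typeI {g : G} (hg : g ∈ dadeSupp (sharp K) (supportR L)) :
    g ∉ classSupport (sharp P) ⊤ ∧ g ∉ classSupport V ⊤ := by
  rw [t.supp_eq] at hg
  obtain ⟨T, V', -, h⟩ := c.exists_pair
  refine ⟨?_, fun h' => Set.disjoint_left.mp ((FTtilde1_cover_typeP c.hG h).2 L t.max) h' hg⟩
  rintro ⟨a, ha, y, -, rfl⟩
  exact Set.disjoint_left.mp (FT_Dade1_support_disjoint c.hG c.hS t.max (c.not_conj_typeI t))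
    (dadeSupp_conj (subset_dadeSupp (Fcore_sub_FTsupp1 c.hG c.hS ha)) y) hg

theorem Ctx.beta_ortho {j : Irr W2} (hj : j ≠ 1) (α : G → ℂ) : cfdot ⊤ (β j) (FTDadeF L α) = 0 := by
  refine cfdot_eq_zero_of_supp fun x _ => ?_
  by_cases hx : x ∈ dadeSupp (sharp K) (supportR L)
  · exact Or.inl (c.beta_zero hj (c.disj_typeI t hx).1 (c.disj_typeI t hx).2)
  · exact Or.inr (Dade_apply_of_notMem hx)

theorem Ctx.vanish_typeI (α : G → ℂ) : ∀ x ∈ V, FTDadeF L α x = 0 := fun x hx =>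
  Dade_apply_of_notMem fun h => (c.disj_typeI t h).2 ⟨x, hx, 1, mem_top _, by group⟩

/-- PF (13.19)(b). -/
theorem Ctx.typeI_ortho {χ : G → ℂ} (h : χ ∈ 𝓛) (i : Irr W1) (j : Irr W2) :
    cfdot ⊤ (τ χ) (η i j) = 0 :=
  ortho_eta_of_vanish c.cyc (t.dirr h) (t.dirr (cfAut_seqInd _ h))
    (t.onf.2 _ h _ (cfAut_seqInd _ h) (t.conj_ne h).symm)
    (by rw [t.sub_conj h]; exact c.vanish_typeI t _) i j

/-- PF (13.19)(c). -/
theorem Ctx.typeI_cases : ((Nat.card K : ℝ) - 1) / e ≤ ((Nat.card U : ℝ) - 1) / q ∨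
    ((∀ j, j ≠ 1 → ∃ n : ℤ, Odd n ∧ cfdot ⊤ (betaL L φ) (η 1 j) = n) ∧ p ≤ e) := by
  obtain ⟨j, hj⟩ := exists_irr_ne_one c.hP.W2_ne c.hP.W2_cyclic
  obtain ⟨a, ha⟩ := ZIrr_cfdot_int (c.bridge hj).virt t.bridge.dirr.mem_ZIrr
  obtain ⟨b, hb⟩ := ZIrr_cfdot_int t.bridge.virt (c.bridge hj).dirr.mem_ZIrr
  rcases (c.bridge hj).parity c.hG.1 t.bridge (c.beta_ortho t hj _)
    (cfdot_symm_zero (c.typeI_ortho t t.mem 1 j)) ha hb with h | h
  · exact Or.inl ((t.le_sum (c.bridge hj).virt (c.beta_ortho t hj) (odd_ne_zero ha h)).trans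
      (c.bessel hj t.onf fun k hk => c.typeI_ortho t hk))
  · have h1 : ∀ k, k ≠ 1 → cfdot ⊤ (betaL L φ) (η 1 k) = b := by
      intro k hk
      have := congrArg (cfdot ⊤ (betaL L φ)) (c.beta_sub hj hk)
      rw [cfdot_add_right, cfdot_add_right, betaL, cfdot_symm_zero (c.beta_ortho t hj _),
        cfdot_symm_zero (c.beta_ortho t hk _), zero_add, zero_add] at this
      exact this.symm.trans hb
    refine Or.inr ⟨fun k hk => ⟨b, h, h1 k hk⟩, ?_⟩
    have h2 := t.bessel (s := Finset.univ.erase 1) (f := fun k => η 1 k)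
      ⟨fun k _ => (c.cyc.cycEta_dirr 1 k).cfdot_self, fun k _ l _ hne => by
        rw [c.cyc.cfdot_cycEta, if_neg fun h => hne h.2]⟩
      (fun k hk => c.eta_one fun h => (Finset.mem_erase.mp hk).1 h.2)
      fun k _ χ hχ => cfdot_symm_zero (c.typeI_ortho t hχ 1 k)
    have h3 := Finset.card_nsmul_le_sum _ _ _ fun k (hk : k ∈ Finset.univ.erase 1) =>
      one_le_norm_sq (h1 k (Finset.mem_erase.mp hk).1)
        (odd_ne_zero (h1 k (Finset.mem_erase.mp hk).1) h)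
    rw [Finset.card_erase_of_mem (Finset.mem_univ _), Finset.card_univ, c.cyc.card_irr_W2,
      nsmul_eq_mul, Nat.cast_sub c.p_prime.one_le] at h3
    have : (p : ℝ) ≤ e := by push_cast at h3; linarith
    exact_mod_cast this

end P13

end CfsgLib.FT
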