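import Mathlib
import Cfsg.Agent.Lib.FT.PF13N

/-! Numerical estimates for Peterfalvi, section 14. -/

set_option autoImplicit false

namespace CfsgLib.FT.P14

theorem succ_pow_le {n m : ℕ} (h : m ≤ n) : (n + 1) ^ m ≤ 3 * n ^ m := by
  rcases Nat.eq_zero_or_pos n with rfl | hn
  · obtain rfl : m = 0 := by omega
    simp
  have h0 : (0 : ℝ) < n := by exact_mod_cast hn
  have h1 : ((n : ℝ) + 1) ^ m ≤ 3 * n ^ m := by
    calc ((n : ℝ) + 1) ^ m = (1 / n + 1) ^ m * n ^ m := by rw [← mul_pow]; congr 1; field_simp; ring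
      _ ≤ Real.exp (1 / n) ^ m * n ^ m := by gcongr; exact Real.add_one_le_exp _
      _ ≤ 3 * n ^ m := by
        gcongr
        rw [← Real.exp_nat_mul]
        refine (Real.exp_le_exp.mpr ?_).trans (Real.exp_one_lt_d9.le.trans (by norm_num))
        rw [mul_one_div, div_le_one h0]; exact_mod_cast h
  exact_mod_cast h1

/-- PF (14.8)(a). -/
theorem pow_lt_pow {p q : ℕ} (hq : 3 ≤ q) (hp : q + 2 ≤ p) : p ^ (q + 1) < q ^ (p + 1) := by
  induction p, hp using Nat.le_induction with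
  | base =>
    rcases hq.eq_or_lt with rfl | h4
    · norm_num
    calc (q + 1 + 1) ^ (q + 1) ≤ 3 * ((q + 1) ^ q * (q + 1)) := succ_pow_le le_rfl
      _ ≤ 3 * (3 * q ^ q * (q + 1)) := by gcongr; exact succ_pow_le le_rfl
      _ = q ^ q * (9 * (q + 1)) := by ring
      _ < q ^ q * q ^ 3 := by gcongr; nlinarith [Nat.mul_le_mul h4 h4]
      _ = _ := by ring
  | succ n hn ih =>
    calc (n + 1) ^ (q + 1) ≤ 3 * n ^ (q + 1) := succ_pow_le (by omega)
      _ < 3 * q ^ (n + 1) := by omega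
      _ ≤ _ := by rw [pow_succ q (n + 1), mul_comm]; gcongr

/-- PF (14.8)(b). -/
theorem ratio_lt {p q u v : ℕ} (hq : 3 ≤ q) (hp : q + 2 ≤ p) (hu : u * (p - 1) ≤ p ^ q - 1)
    (hv : v * (q - 1) = q ^ p - 1) : ((u : ℝ) - 1) / q < ((v : ℝ) - 1) / p := by
  have h1 : (p : ℝ) ^ q * p < q ^ p * q := by exact_mod_cast pow_lt_pow hq hp
  have h2 : (u : ℝ) * (p - 1) ≤ p ^ q - 1 := by
    have := (Nat.cast_le (α := ℝ)).mpr hu
    push_cast [Nat.cast_sub (show 1 ≤ p by omega), Nat.cast_sub (Nat.one_le_pow q p (by omega))] at this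
    exact this
  have h3 : (v : ℝ) * (q - 1) = q ^ p - 1 := by
    have := congrArg (Nat.cast : ℕ → ℝ) hv
    push_cast [Nat.cast_sub (show 1 ≤ q by omega), Nat.cast_sub (Nat.one_le_pow p q (by omega))] at this
    exact this
  have hq' : (3 : ℝ) ≤ q := by exact_mod_cast hq
  have hp' : (q : ℝ) + 2 ≤ p := by exact_mod_cast hp
  rw [div_lt_div_iff₀ (by linarith) (by linarith)]
  by_contra h
  have h4 : (0 : ℝ) ≤ (v - 1) * q := by
    have : (1 : ℝ) ≤ v := by
      have : 1 < q ^ p := Nat.one_lt_pow (by omega) (by omega)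
      have : v ≠ 0 := by rintro rfl; omega
      exact_mod_cast Nat.pos_of_ne_zero this
    nlinarith
  nlinarith [mul_le_mul_of_nonneg_right (not_lt.mp h) (show (0 : ℝ) ≤ p - 1 by linarith),
    mul_le_mul_of_nonneg_left (show (q : ℝ) - 1 ≤ p - 1 by linarith) h4]

theorem two_mul_lt {x m : ℕ} (hx : Odd x) (hm : Odd m) (h : x ≡ 1 [MOD m]) (h1 : x ≠ 1) :
    2 * m + 1 ≤ x := by
  have h3 := Nat.Coprime.mul_dvd_of_dvd_of_dvd (Nat.coprime_two_left.mpr hm)
    (by obtain ⟨k, rfl⟩ := hx; simp) ((Nat.modEq_iff_dvd' hx.pos).mp h.symm)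
  have := Nat.le_of_dvd (by have := hx.pos; omega) h3
  have := hx.pos
  omega

theorem modEq_one_of_mul {u x m : ℕ} (h : u * x ≡ 1 [MOD m]) (hu : u ≡ 1 [MOD m]) :
    x ≡ 1 [MOD m] := by simpa using ((hu.mul_right x).symm.trans h)

theorem geom_mod_self (p : ℕ) {q : ℕ} (hq : 0 < q) : ∑ i ∈ Finset.range q, p ^ i ≡ 1 [MOD p] := by
  obtain ⟨k, rfl⟩ : ∃ k, q = k + 1 := ⟨q - 1, by omega⟩
  rw [geom_sum_succ]
  simp

theorem sq_le_three_pow {p : ℕ} (hp : 7 ≤ p) : p ^ 2 ≤ 3 ^ (p - 3) := by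
  induction p, hp using Nat.le_induction with
  | base => norm_num
  | succ n hn ih => rw [show n + 1 - 3 = n - 3 + 1 by omega, pow_succ 3]; nlinarith

theorem le_three_pow {p : ℕ} (hp : 3 ≤ p) : p ≤ 3 ^ (p - 2) := by
  induction p, hp using Nat.le_induction with
  | base => norm_num
  | succ n hn ih => rw [show n + 1 - 2 = n - 2 + 1 by omega, pow_succ 3]; omega

theorem mul_le_pow {p q : ℕ} (hp : 3 ≤ p) (hq : 3 ≤ q) : q * p ≤ q ^ (p - 1) := by
  rw [show p - 1 = p - 2 + 1 by omega, pow_succ']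
  exact Nat.mul_le_mul_left _ ((le_three_pow hp).trans (Nat.pow_le_pow_left hq _))

theorem lt_sq_of_ratio {h e : ℕ} (he : 1 < e) (hh : ((h : ℝ) - 1) / e ≤ e - 1) : h < e ^ 2 := by
  have h0 : (1 : ℝ) < e := by exact_mod_cast he
  rw [div_le_iff₀ (by linarith)] at hh
  have : (h : ℝ) < e ^ 2 := by nlinarith
  exact_mod_cast this

/-- The final inequality of PF (14.11). -/
theorem cover_contra {p q u v k a b : ℝ} (hp : 5 ≤ p) (hq : 3 ≤ q) (hu : 7 ≤ u) (hv : q * p ≤ v)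
    (hk : 2 * p * v ≤ k) (ha : a ≤ 1 / (u * q)) (hb : b ≤ 1 / (v * p))
    (h : 1 - q * p / k ≤ 1 / (q * p) + (q - 1) * (p - 1) / (q * p) + a + b) : False := by
  have hv0 : 15 ≤ v := by nlinarith
  have h1 : q * p / k ≤ 1 / (2 * p) := by
    rw [div_le_div_iff₀ (by nlinarith) (by linarith)]; nlinarith
  have h2 : 1 / (v * p) ≤ 1 / (2 * p) := one_div_le_one_div_of_le (by linarith) (by nlinarith)
  have h3 : 1 / (u * q) ≤ 1 / (7 * q) := one_div_le_one_div_of_le (by linarith) (by nlinarith)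
  have h4 : 1 / (q * p) ≤ 1 / (5 * q) := one_div_le_one_div_of_le (by linarith) (by nlinarith)
  have h5 : (q - 1) * (p - 1) / (q * p) = 1 - 1 / q - 2 * (1 / (2 * p)) + 1 / (q * p) := by
    field_simp; ring
  have h6 : 1 / (7 * q) + 2 * (1 / (5 * q)) < 1 / q := by
    rw [show 1 / (7 * q) + 2 * (1 / (5 * q)) = 19 / 35 * (1 / q) by field_simp; ring]
    have : 0 < 1 / q := by positivity
    linarith
  linarith

/-- The arithmetic of PF (14.15). -/
theorem contra15 {p q u x : ℕ} (hq : 3 ≤ q) (hp : q < p) (op : Odd p) (oq : Odd q) (ox : Odd x)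
    (h1 : p ≡ 1 [MOD q]) (hu : u * q = ∑ i ∈ Finset.range q, p ^ i) (h2 : u * x ≡ 1 [MOD q * p])
    (h3 : u ≡ 1 [MOD q]) (h4 : u * x < (q * p) ^ 2) : False := by
  have a1 : x ≡ 1 [MOD q] := modEq_one_of_mul (h2.of_mul_right p) h3
  have a2 : x ≡ q [MOD p] := by
    have b1 := ((hu ▸ geom_mod_self p (show 0 < q by omega) : u * q ≡ 1 [MOD p]).mul_right x).symm
    have b2 := (h2.of_mul_left q).mul_right q
    rw [one_mul] at b1 b2
    exact b1.trans (by rwa [mul_right_comm])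
  obtain ⟨n, rfl⟩ : ∃ n, x = q + p * n :=
    ⟨x / p, by rw [← Nat.mod_eq_of_lt hp, ← a2, Nat.mod_add_div]⟩
  have a3 : n ≡ 1 [MOD q] := modEq_one_of_mul (by simpa [Nat.ModEq] using a1) h1
  have a4 : q + 1 ≤ n := by
    obtain ⟨k, hk⟩ := (Nat.modEq_iff_dvd' (show 1 ≤ n by
      rcases n with _ | n
      · exact absurd a3 (by simp [Nat.ModEq, Nat.mod_eq_of_lt (show 1 < q by omega)])
      · omega)).mp a3.symm
    rcases k with _ | k
    · obtain rfl | rfl : n = 0 ∨ n = 1 := by omega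
      · simp [Nat.ModEq, Nat.mod_eq_of_lt (show 1 < q by omega)] at a3
      · obtain ⟨a, rfl⟩ := op; obtain ⟨b, rfl⟩ := oq; obtain ⟨c, hc⟩ := ox; omega
    · have : q ≤ q * (k + 1) := Nat.le_mul_of_pos_right _ (by omega)
      omega
  have a5 : u < q * p := by
    by_contra h
    nlinarith [Nat.mul_le_mul (not_lt.mp h) (show q * p ≤ q + p * n by nlinarith)]
  have a6 : p ^ (q - 1) ≤ u * q := hu ▸ Finset.single_le_sum (f := fun i => p ^ i)
    (fun _ _ => Nat.zero_le _) (Finset.mem_range.mpr (by omega))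
  have a7 : p ^ (q - 1) < p ^ 3 := by
    nlinarith [Nat.mul_lt_mul'' hp hp, Nat.mul_lt_mul_of_pos_right a5 (show 0 < q by omega)]
  obtain rfl : q = 3 := by have := (Nat.pow_lt_pow_iff_right (by omega)).mp a7; omega
  have a8 : p < 9 := by norm_num at a6; nlinarith
  obtain rfl : p = 7 := by obtain ⟨a, rfl⟩ := op; unfold Nat.ModEq at h1; omega
  simp only [Finset.sum_range_succ, Finset.range_zero, Finset.sum_empty] at hu
  obtain rfl : u = 19 := by omega
  omega

end CfsgLib.FT.P14
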