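import Mathlib
import Cfsg.Agent.Lib.FT.PF13
import Cfsg.Agent.Lib.FT.PF14N
import Cfsg.Agent.Lib.FT.BGAppC

/-! Peterfalvi, section 14: auxiliary results, (14.6), (14.7), (14.9). -/

set_option autoImplicit false
set_option linter.unusedSectionVars false

namespace CfsgLib.FT

open Cfsg Subgroup P12 P14
open scoped ComplexConjugate commutatorElement Classical

variable {G : Type*} [Group G] [Fintype G]

namespace P13

theorem frob_modEq {L K Z : Subgroup G} (hF : FrobKer L K) (hZ : Z ≤ K)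
    (hn : L ≤ normalizer (Z : Set G)) : Nat.card Z ≡ 1 [MOD K.relIndex L] := by
  obtain ⟨E, h⟩ := hF
  rw [IsComplIn_relIndex h.compl]
  exact ((Nat.modEq_iff_dvd' Nat.card_pos).mpr (semiregular_card_dvd (h.compl.2.1.trans hn)
    fun x hx h1 => eq_bot_iff.mpr
      ((inf_le_inf_right _ hZ).trans (P12.FrobIn.reg h x hx h1).le))).symm

/-- The inequality used in both cases of PF (14.14). -/
theorem TypeI.core_le {L M : Subgroup G} {τ τ' : CFMap G} {φ ψ : G → ℂ} (t : TypeI L τ φ)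
    (t' : TypeI M τ' ψ) (hd : Disjoint (dadeSupp (sharp (fittingHallOf L)) (supportR L))
      (dadeSupp (sharp (fittingHallOf M)) (supportR M))) (h : cfdot ⊤ (betaL L φ) (τ' ψ) ≠ 0) :
    ((Nat.card (fittingHallOf M) : ℝ) - 1) / (fittingHallOf M).relIndex M ≤
      (fittingHallOf L).relIndex L - 1 :=
  (t'.le_sum t.bridge.virt (fun _ => disjoint_Dade_ortho hd) h).trans (t.bessel t'.onf t'.a1.1
    fun _ hi _ hχ => disjoint_coherent_ortho t.hG.1 t'.dade t.dade hd.symm t'.coh t.coh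
      (t'.irr hi) hi (t.irr hχ) hχ)

variable {S U W W1 W2 : Subgroup G} (c : Ctx S U W W1 W2)
include c

local notation "P" => fittingHallOf S
local notation "p" => Nat.card W2
local notation "q" => Nat.card W1
local notation "η" => cycEta ⊤ W W1 W2
local notation "β" => betaS S W W1 W2

theorem Ctx.U_mod : Nat.card U ≡ 1 [MOD q] := ((Nat.modEq_iff_dvd' Nat.card_pos).mpr c.q_dvd').symm

theorem Ctx.U_le : Nat.card U * (p - 1) ≤ p ^ q - 1 := by
  rw [← geom_mul p q, ← c.u_eq]; exact Nat.mul_le_mul_right _ c.u_le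

theorem Ctx.seven_le : 7 ≤ Nat.card U := by
  have := odd_semiregular_card_lt c.hP.nUW1 (P9.U_fpf c.hP) c.U_ne (mFT_odd c.hG _) c.odd_q
  have := c.q3
  omega

theorem Ctx.Galois_of_lt (h : p < q) :
    TypePGalois S U ⊥ ∧ Nat.card U = (p ^ q - 1) / (p - 1) := by
  have := c.p3
  have hG : TypePGalois S U ⊥ := by
    by_contra hG
    have := (c.nonGalois hG).1
    omega
  refine ⟨hG, ((c.Galois_card hG).resolve_left fun h1 => ?_).2⟩
  have := Nat.ModEq.eq_of_lt_of_lt h1.1 h (by omega)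
  omega

theorem Ctx.cyclic_U (h : TypePGalois S U ⊥) : IsCyclic U := by
  obtain ⟨-, ⟨g, -, hg⟩, -⟩ := typeP_Galois_P c.hG c.hS c.hP c.ne5 c.ker h
  rw [c.C_eq, sup_bot_eq] at hg
  rw [← hg]; infer_instance

theorem Ctx.cent_le_P (h : TypePGalois S U ⊥) {x g : G} (hx : x ∈ P) (h1 : x ≠ 1)
    (hg : g ∈ ⁅S, S⁆) (hc : g * x = x * g) : g ∈ P := by
  obtain ⟨⟨F, _, _, φ, ψ, D⟩, -⟩ := typeP_Galois_P c.hG c.hS c.hP c.ne5 c.ker h
  obtain ⟨a, ha, k, hk, rfl⟩ := c.hP.defHU.2.2.2 g hg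
  have e : k * x * k⁻¹ = x := by
    rw [← mul_assoc, ← P12.comm_of_isMulCommutative c.P_elem.1 ha hx, mul_assoc, mul_assoc,
      mul_right_inj] at hc
    rw [hc, mul_inv_cancel_right]
  have h2 := D.act k hk x hx
  rw [e, eq_comm, mul_eq_right₀ (mt (D.ker_add x hx).mp h1), D.ker_mul k hk, c.C_eq] at h2
  rwa [mem_bot.mp h2, mul_one]

theorem Ctx.not_dvd_orderOf (h : TypePGalois S U ⊥) {g : G} (h1 : g ∉ classSupport (sharp P) ⊤)
    (h2 : g ∉ classSupport (cycTIset W W1 W2) ⊤) : ¬ p ∣ orderOf g := by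
  intro hd
  have := Fact.mk c.p_prime
  obtain ⟨X, hX, hXp⟩ := U4.exists_card_prime_zpowers c.p_prime hd
  have hs : IsSylowIn p P ⊤ := ⟨le_top, elemAb_isPGroup c.P_elem, by
    rw [relIndex_top_right]
    exact not_dvd_of_coprime c.p_prime (FTcore_facts c.hG c.hS).1
      (c.card_P ▸ dvd_pow_self _ c.q_prime.ne_zero)⟩
  obtain ⟨y, -, hy⟩ := hs.exists_conj_le (U4.isPGroup_of_card_eq hXp) le_top
  obtain ⟨x, hx, hx1⟩ := exists_ne_one (U4.ne_bot_of_card_prime (hXp ▸ c.p_prime))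
  have a1 : y * x * y⁻¹ ∈ P := hy (U4.conj_mem_conj_iff.mpr hx)
  have a2 : y * x * y⁻¹ ≠ 1 := U4.conj_ne_one_iff.mpr hx1
  have a3 : y * g * y⁻¹ * (y * x * y⁻¹) = y * x * y⁻¹ * (y * g * y⁻¹) := by
    obtain ⟨k, rfl⟩ := hX hx
    simp only; group
  have a4 : y * g * y⁻¹ ∈ S := c.TIP.cent_le ⟨a1, a2⟩ ⟨mem_top _, mem_cent1.mpr a3.symm⟩
  by_cases hD : y * g * y⁻¹ ∈ ⁅S, S⁆
  · refine h1 ⟨_, ⟨c.cent_le_P h a1 a2 hD a3, U4.conj_ne_one_iff.mpr ?_⟩, y⁻¹, mem_top _, by group⟩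
    rintro rfl
    exact hx1 (by simpa using hX hx)
  · obtain ⟨z, -, h3, h4⟩ := c.prTI.exists_conj_mem a4 hD
    refine h2 ⟨_, mem_cycTIset.mpr ⟨h3, fun h5 => ?_, h4⟩, (z * y)⁻¹, mem_top _, by group⟩
    have := orderOf_dvd_card_of_mem h5
    rw [orderOf_conj', orderOf_conj'] at this
    exact c.p_ne_q ((Nat.prime_dvd_prime_iff_eq c.p_prime c.q_prime).mp (hd.trans this))

theorem Ctx.beta_zero' {j : Irr W2} (hj : j ≠ 1) {g : G} (h : (orderOf g).Coprime p) : β j g = 0 := by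
  refine c.beta_zero hj ?_ ?_ <;> rintro ⟨a, ha, y, -, rfl⟩ <;> rw [orderOf_conj'] at h
  · exact ha.2 (orderOf_eq_one_iff.mp (h.eq_one_of_dvd
      (orderOf_dvd_of_pow_eq_one (c.P_elem.2 a ha.1))))
  · refine (mem_cycTIset.mp ha).2.1 (P12.mem_of_coprime_relIndex c.cyc.dprod.normal_left ha.1 ?_)
    rwa [IsComplIn_relIndex c.cyc.dprod.compl]

theorem Ctx.sum_eta_odd {a : Irr W1 × Irr W2 → ℤ} (ha : ∀ k, Odd (a k)) {g : G}
    (hg : (orderOf g).Coprime (Nat.card W)) :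
    ∃ n : ℤ, Odd n ∧ ∑ k, (a k : ℂ) * η k.1 k.2 g = n := by
  choose n hn using fun k : Irr W1 × Irr W2 => c.cyc.Cint_cycEta k.1 k.2 hg
  refine ⟨∑ k, a k * n k, ?_, by push_cast; simp only [hn]⟩
  have h1 : n (1, 1) = 1 := by
    have := hn (1, 1)
    rw [c.cyc.cycEta_one, cf1_top, Pi.one_apply] at this
    exact_mod_cast this.symm
  have h2 : ∀ k : Irr W1 × Irr W2, n (k.1.conj, k.2.conj) = n k := fun k => by
    have := hn (k.1.conj, k.2.conj)
    rw [← c.eta_conj, cfConjC, cfAut_apply, hn, map_intCast] at this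
    exact_mod_cast this.symm
  rw [← ZMod.intCast_eq_one_iff_odd, ← Finset.add_sum_erase _ _ (Finset.mem_univ (1, 1))]
  push_cast
  simp only [ZMod.intCast_eq_one_iff_odd.mpr (ha _), one_mul]
  rw [h1, Finset.sum_involution (fun k _ => (k.1.conj, k.2.conj))]
  · simp
  · intro k _; rw [h2]; exact CharTwo.add_self_eq_zero _
  · intro k hk _ e
    exact (Finset.mem_erase.mp hk).1 (Prod.ext ((Irr.conj_eq_self c.odd_q _).mp (congrArg Prod.fst e))
      ((Irr.conj_eq_self c.odd_p _).mp (congrArg Prod.snd e)))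
  · intro k hk
    refine Finset.mem_erase.mpr ⟨fun e => (Finset.mem_erase.mp hk).1 (Prod.ext
      ((Irr.aut_eq_one _).mp (congrArg Prod.fst e)) ((Irr.aut_eq_one _).mp (congrArg Prod.snd e))),
      Finset.mem_univ _⟩
  · intro k _; simp

/-- PF (14.6). -/
theorem Ctx.Galois_of_support (h2 : FTtype S = 2) {L : Subgroup G}
    (hF : FrobKer L (fittingHallOf L)) (hU : U ≤ fittingHallOf L)
    (hp : p ∣ (fittingHallOf L).relIndex L) : TypePGalois S U ⊥ := by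
  by_contra hG
  obtain ⟨hq, hu⟩ := c.nonGalois hG
  obtain ⟨H1, D⟩ := typeP_Galois_Pn c.hG c.hS c.hP c.ne5 c.ker hG
  have h5 := c.five_le hq
  obtain ⟨b, hb⟩ := c.odd_p
  rw [show (p - 1) / 2 = b by omega] at hu
  have hX : centralizer (H1 : Set G) ⊓ U ≠ ⊥ := by
    intro e
    have a1 := D.dvd
    rw [centMod_bot, ← inf_relIndex_right, e, relIndex_bot_left, c.prime_eq,
      show p - 1 = 2 * b by omega] at a1
    have := Nat.le_of_dvd (by omega)
      ((Nat.coprime_two_right.mpr (mFT_odd c.hG U)).dvd_of_dvd_mul_left a1)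
    nlinarith
  obtain ⟨x, hx, hx1, hr⟩ := exists_prime_order_mem hX
  set r := orderOf x
  have := Fact.mk hr
  have hrU : r ∣ Nat.card U := orderOf_dvd_card_of_mem hx.2
  have hrb : r ≤ b := Nat.le_of_dvd (by omega) (hr.dvd_of_dvd_pow (hu ▸ hrU))
  obtain ⟨f1, f2, -⟩ := FTtypeI_II_facts c.hG c.hS h2.le (U := U) (by
    rw [FTder_typeP c.ne1]; exact c.hP.defHU)
  have hC : centralizer ({x} : Set G) ≤ S := (f2 {x} (Set.singleton_nonempty x)
    (Set.singleton_subset_iff.mpr ⟨hx.2, hx1⟩) fun e => by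
      have a1 : H1 = ⊥ := eq_bot_iff.mpr fun y hy =>
        e.le ⟨D.le_H hy, mem_cent1.mpr (hx.1 y hy).symm⟩
      have a2 := D.card
      rw [a1, relIndex_self, c.prime_eq] at a2
      omega).1
  obtain ⟨R, hR⟩ := IsSylowIn.exists_in («p» := r) (fittingHallOf L)
  obtain ⟨R0, hR0⟩ := IsSylowIn.exists_in («p» := r) U
  have hxR : x ∈ R := nil_sylow_le hR (Fcore_nil L) (U4.isPGroup_of_card_eq (Nat.card_zpowers x))
    (zpowers_le.mpr (hU hx.2)) (mem_zpowers x)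
  have hS0 : IsSylowIn r R0 S := sylow_trans hR0 (P9.U_le c.hP) (by
    have a1 := card_eq_relIndex_mul (P9.U_le c.hP)
    rw [c.card_S, c.card_der, mul_right_comm] at a1
    rw [← Nat.eq_of_mul_eq_mul_right Nat.card_pos a1]
    exact not_dvd_of_coprime hr
      ((c.p_coprime_U.symm.pow_right _).mul_right (P9.coprime_W1_U c.hP).symm) hrU)
  have e0 := hS0.eq_of_le (hR.isPGroup.to_inf_left (K := S))
    (le_inf (nil_sylow_le hR (Fcore_nil L) hR0.isPGroup (hR0.le.trans hU)) hS0.le) inf_le_right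
  have hZ := PGrp.isElementaryAbelian_omegaOne («p» := r) (A := R ⊓ centralizer (R : Set G))
    (isMulCommutative_of_le_centralizer fun y hy z hz => hy.2 z hz.1)
  have hle := PGrp.omegaOne_le («p» := r) (R ⊓ centralizer (R : Set G))
  have hn : L ≤ normalizer (R : Set G) := (Fcore_normal L).trans (nil_sylow_norm hR (Fcore_nil L))
  have h1 := (frob_modEq hF (hle.trans (inf_le_left.trans hR.le)) ((P9.le_normalizer_inf' hn
    (hn.trans (Cop.normalizer_le_normalizer_centralizer R))).trans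
      (normalizer_le_normalizer_omegaOne _))).of_dvd hp
  have h3 := pRankLE_iff.mp (f1 r R0 hr hR0).2 _ (fun y hy => e0.le
    ⟨(hle hy).1, hC (mem_cent1.mpr ((hle hy).2 x hxR))⟩) hZ
  have h4 := omegaOne_ne_bot (pgroup_dvd hR.isPGroup.to_inf_left
    (inf_centralizer_ne_bot_of_isNilpotent hR.isPGroup.isNilpotent le_rfl le_normalizer
      (U4.ne_bot_of_mem hxR hx1)))
  obtain ⟨k, hk⟩ := (elemAb_isPGroup hZ).exists_card_eq
  have h6 : p ∣ (r + 1) * (r - 1) := by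
    rw [← Nat.sq_sub_sq r 1, one_pow]
    rw [hk] at h1 h3
    obtain rfl | rfl | rfl : k = 0 ∨ k = 1 ∨ k = 2 := by
      have := (Nat.pow_le_pow_iff_right hr.one_lt).mp h3; omega
    · exact absurd (card_eq_one.mp hk) h4
    · exact (Nat.modEq_iff_dvd' (Nat.one_le_pow _ _ hr.pos)).mp (by simpa using (h1.pow 2).symm)
    · exact (Nat.modEq_iff_dvd' (Nat.one_le_pow _ _ hr.pos)).mp h1.symm
  have := hr.two_le
  rcases (Nat.Prime.dvd_mul c.p_prime).mp h6 with h | h <;>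
    have := Nat.le_of_dvd (by omega) h <;> omega

variable {T V : Subgroup G} (d : Ctx T V W W2 W1)
include d

/-- PF (14.7). -/
theorem Ctx.not_le_norm (hlt : q < p) (hG : TypePGalois S U ⊥) {L : Subgroup G}
    (hF : FrobKer L (fittingHallOf L)) (hU : U ≤ fittingHallOf L)
    (hp : p ∣ (fittingHallOf L).relIndex L) {y : G} (hy : y ∈ fittingHallOf T)
    (hL : W2.map (MulAut.conj y).toMonoidHom ≤ L) : ¬ L ≤ normalizer (U : Set G) := by
  intro hn
  have h1 := (frob_modEq hF hU hn).of_dvd hp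
  have hu : Nat.card U = (p ^ q - 1) / (p - 1) := ((c.Galois_card hG).resolve_left fun h => by
    have a := geom_mod_self p c.q_prime.pos
    rw [← geom_eq c.p_prime.two_le, ← h.2] at a
    have := (modEq_one_of_mul a h1).eq_of_lt_of_lt hlt c.p_prime.one_lt
    have := c.q3
    omega).2
  obtain ⟨⟨F, _, _, φ, ψ, D⟩, -, h3, -⟩ := typeP_Galois_P c.hG c.hS c.hP c.ne5 c.ker hG
  rw [c.u_eq, c.prime_eq, hu] at h3
  have hW : ∀ x ∈ P, φ x ^ p = φ x → x ∈ W2 := fun x hx h => by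
    simpa using (D.prime_field x hx).mpr (by rwa [c.prime_eq])
  refine (prime_dim_normed_finField c.p_prime c.q_prime h3 (c.prime_eq ▸ D.card) (f := φ) (ψ := ψ)
    ⟨Set.mapsTo_univ _ _, fun x hx z hz e => ?_, D.surj⟩ D.add (P9.U_norm_H c.hP)
    (fun u hu => ⟨D.ne_zero u hu, D.act u hu⟩) D.mul (fun x hx z hz e => ?_)
    (hu ▸ geom_mul p q) d.P_elem.1 (P9.coprime_W1_H d.hP).symm
    (fun x hx h => P9.W1_norm_H d.hP (hW x hx h)) hy
    fun x hx h => hn (hL (U4.conj_mem_conj_iff.mpr (hW x hx h)))).not_gt hlt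
  · have a := D.add _ (mul_mem hx (inv_mem hz)) z hz
    rw [inv_mul_cancel_right, e, eq_comm, add_eq_right, D.ker_add _ (mul_mem hx (inv_mem hz))] at a
    exact mul_inv_eq_one.mp (mem_bot.mp a)
  · have a := D.mul _ (mul_mem hx (inv_mem hz)) z hz
    rw [inv_mul_cancel_right, e, eq_comm, mul_eq_right₀ (D.ne_zero z hz),
      D.ker_mul _ (mul_mem hx (inv_mem hz)), c.C_eq] at a
    exact mul_inv_eq_one.mp (mem_bot.mp a)

/-- PF (14.9). -/
theorem Ctx.type2_of_ratio (h : ((Nat.card U : ℝ) - 1) / q < ((Nat.card V : ℝ) - 1) / p) :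
    FTtype T = 2 := by
  by_contra h2
  obtain ⟨s1, -, h3, -⟩ := FTtype34_structure d.hG d.hS d.hP h2 d.ker
  have s2 := FTtype34_der2 d.hG d.hS d.hP h2
  rw [d.reg, sup_bot_eq] at s1 s2
  have hc : FTcore T = ⁅T, T⁆ := FTcore_type_gt2 (by omega)
  have hle := der_le_self T
  have hn := P9.der_normal d.hP
  set Q := fittingHallOf T
  set 𝓣 := seqIndD ⁅T, T⁆ T ⁅T, T⁆ Q
  have hsub : ConjCSubset 𝓣 (seqIndD ⁅T, T⁆ T (FTcore T) ⊥) :=
    seqInd_conjC_subset hc.ge bot_le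
  have hT : ∀ χ ∈ 𝓣, IsIrr T χ ∧ χ 1 = p := by
    intro χ hχ
    obtain ⟨θ, a1, a2, a3, rfl⟩ := mem_seqIndD.mp hχ
    refine ⟨d.prTI.cfInd_irr_of_W2_le d.hP.H_le_der (Fcore_normal T) d.hP.W2_le_H a1
      (mt a1.eq_cf1_iff.mp a3) a2, ?_⟩
    rw [cfInd_one hle, (a1.isLin_of_commutator_le (s2 ▸ a2)).one, P9.relIndex_der d.hP, mul_one]
  obtain ⟨R, hR, -⟩ := FTtypeP_subcoherent d.hG d.hS d.hP
  obtain ⟨τ, hτ⟩ := uniform_degree_coherence (subset_subcoherent hR hsub)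
    fun χ hχ φ hφ => (hT χ hχ).2.trans (hT φ hφ).2.symm
  have ho : ∀ χ ∈ 𝓣, ∀ i j, cfdot ⊤ (τ χ) (η i j) = 0 := fun χ hχ i j =>
    c.cyc.cycEta_comm i j ▸ coherent_ortho_cycTIiso d.hG d.hS d.hP hsub hτ hχ (hT χ hχ).1 j i
  have honf : ONF 𝓣 τ := ⟨fun χ hχ => (hτ.toZIsom.dirr (subset_zspan hχ) (hT χ hχ).1).cfdot_self,
    fun χ hχ φ hφ hne => by
      rw [hτ.isom _ (subset_zspan hχ) _ (subset_zspan hφ), (hT χ hχ).1.cfdot_ne (hT φ hφ).1 hne]⟩
  obtain ⟨j, hj⟩ := exists_irr_ne_one c.hP.W2_ne c.hP.W2_cyclic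
  have hν : prTIred T W W2 W1 1 = cfInd ⁅T, T⁆ T (cf1 ⁅T, T⁆) := by
    rw [← d.prTI.cfInd_prTIres, d.prTI.prTIres0]
  have key : ∀ χ ∈ 𝓣, 1 ≤ ‖cfdot ⊤ (β j) (τ χ)‖ ^ 2 := by
    intro χ hχ
    have hχ' : cfConjC χ ∈ 𝓣 := hsub.2 χ hχ
    have hne := seqInd_conjC_neq hle hn le_rfl (mFT_odd c.hG T) hχ
    have a1 := cfInd1_sub_lin_on hle hn hχ (by rw [(hT χ hχ).2, P9.relIndex_der d.hP])
    have a2 := CFon_mono ((FTsupp_type_gt2 (by omega)).ge.trans (FTsupp_sub0 T)) a1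
    have a3 : cfConjC (τ χ) = τ (cfConjC χ) := cfAut_Dade_coherent (FT_Dade0_hyp d.hG d.hS) hτ _
      hsub.2 hχ (hT χ hχ).1 hχ' (hT _ hχ').1 hne
    have b : Bridge (FTDade0 T (cfInd ⁅T, T⁆ T (cf1 ⁅T, T⁆) - χ)) (τ χ) := {
      virt := Dade_vchar (FT_Dade0_hyp d.hG d.hS) (cfInd1_sub_lin_vchar hle hχ) a2.2
      dirr := hτ.toZIsom.dirr (subset_zspan hχ) (hT χ hχ).1
      one := by
        rw [cfdot_Dade_cf1 (FT_Dade0_hyp d.hG d.hS) a2, cfdot_sub_left,
          cfdot_cfInd_cfRes hle cf1_mem_CF, cfRes_cf1 hle, cfdot_cf1,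
          seqInd_ortho_1 hle le_rfl hχ, sub_zero]
      one' := c.cyc.cycEta_one ▸ ho χ hχ 1 1
      ortho := a3 ▸ honf.2 _ hχ _ hχ' hne.symm
      real := by
        have h : cfConjC (cfInd ⁅T, T⁆ T (cf1 ⁅T, T⁆)) = cfInd ⁅T, T⁆ T (cf1 ⁅T, T⁆) := by
          rw [cfConjC, cfInd_cfAut, cfAut_cf1]
        rw [a3, conjC_Dade, conjC_sub, h, eq_comm, ← sub_eq_iff_eq_add, add_sub_assoc, ← map_sub,
          hτ.agree _ (sub_mem_zspan hχ hχ') (by
            rw [Pi.sub_apply, (hT χ hχ).2, (hT _ hχ').2, sub_self]), ← map_add, sub_add_sub_cancel] }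
    obtain ⟨a, ha⟩ := ZIrr_cfdot_int (c.bridge hj).virt b.dirr.mem_ZIrr
    refine one_le_norm_sq ha (odd_ne_zero ha (((c.bridge hj).parity c.hG.1 b ?_
      (cfdot_symm_zero (ho χ hχ 1 j)) ha (b := 0) ?_).resolve_right (by simp)))
    · rw [d.Dade_eq a2]
      refine cfdot_eq_zero_of_supp fun x _ => ?_
      by_cases hx : x ∈ classSupport (sharp ⁅T, T⁆) ⊤
      · obtain ⟨z, hz, y, -, rfl⟩ := hx
        exact Or.inl (c.beta_zero' hj (by
          rw [orderOf_conj']; exact d.hP.W1_hall.coprime_dvd_left (orderOf_dvd_card_of_mem hz.1)))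
      · exact Or.inr (CFon_zero (cfInd_mem_CFon_classSupport a1.2) hx)
    · have := s1 χ hχ j 1
      rw [cfdot_sub_left, cfdot_sum_left, Finset.sum_eq_zero fun l _ => by
        rw [d.cyc.cfdot_cycEta, if_neg fun h => hj h.1.symm], sub_zero, hν,
        c.cyc.cycEta_comm] at this
      rw [this, Int.cast_zero]
  have h4 := (Finset.card_nsmul_le_sum _ _ _ key).trans (c.bessel hj honf ho)
  have h5 := sum_seqIndD_square hle hn le_rfl d.hP.H_le_der hn (Fcore_normal T)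
  rw [Finset.sum_congr (g := fun _ => (p : ℝ) ^ 2) rfl fun χ hχ => by
      rw [(hT χ hχ).2, (hT χ hχ).1.cfnorm, Complex.natCast_re, div_one],
    Finset.sum_const, P9.relIndex_der d.hP, IsComplIn_relIndex d.hP.defHU] at h5
  have hp := card_pos_real W2
  rw [nsmul_eq_mul] at h4 h5
  rw [lt_div_iff₀ hp] at h
  nlinarith

end P13

end CfsgLib.FT
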