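import Mathlib
import Cfsg.Agent.Lib.FT.PF14a

/-! Peterfalvi, section 14: non-existence of `G`. -/

set_option autoImplicit false
set_option linter.unusedSectionVars false

namespace CfsgLib.FT

open Cfsg Subgroup P12 P14
open scoped ComplexConjugate commutatorElement Classical

variable {G : Type*} [Group G] [Fintype G]

namespace P13

theorem ncard_cs {A : Set G} {L : Subgroup G} (h : NormedTI A ⊤ L) :
    ((classSupport A ⊤).ncard : ℝ) / Nat.card G = A.ncard / Nat.card L := by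
  rw [h.card_classSupport, relIndex_top_right, ← L.index_mul_card]
  have : (L.index : ℝ) ≠ 0 := by exact_mod_cast L.index_ne_zero_of_finite
  push_cast
  rw [mul_div_mul_left _ _ this]

variable {S U W W1 W2 : Subgroup G} (c : Ctx S U W W1 W2)
include c

local notation "P" => fittingHallOf S
local notation "p" => Nat.card W2
local notation "q" => Nat.card W1
local notation "η" => cycEta ⊤ W W1 W2

theorem Ctx.ncard_P : ((classSupport (sharp P) ⊤).ncard : ℝ) / Nat.card G ≤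
    1 / (Nat.card U * q) := by
  have := card_pos_real P
  have := card_pos_real U
  have := card_pos_real W1
  rw [ncard_cs c.TIP, card_sharp, c.card_S, c.card_der, ← c.card_P,
    div_le_div_iff₀ (by push_cast; positivity) (by positivity)]
  push_cast
  nlinarith [mul_pos ‹0 < (Nat.card U : ℝ)› ‹0 < (q : ℝ)›]

variable {T V : Subgroup G} (d : Ctx T V W W2 W1)
  {L : Subgroup G} {τ : CFMap G} {φ : G → ℂ} (t : TypeI L τ φ)
include d t

local notation "K" => fittingHallOf L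
local notation "e" => relIndex (fittingHallOf L) L

/-- The common part of PF (14.11.2) and (14.16). -/
theorem Ctx.support_coherence (he : e ≤ q * p)
    (h1 : ((Nat.card U : ℝ) - 1) / q < ((Nat.card K : ℝ) - 1) / e)
    (h2 : ((Nat.card V : ℝ) - 1) / p < ((Nat.card K : ℝ) - 1) / e) :
    e = q * p ∧ ∃ (a : Irr W1 × Irr W2 → ℤ) (Y : G → ℂ), (∀ k, Odd (a k)) ∧
      (Y = -τ φ ∨ Y = cfConjC (τ φ)) ∧ betaL L φ = ∑ k, (a k : ℂ) • η k.1 k.2 + Y := by
  obtain ⟨o1, -⟩ := (c.typeI_cases t).resolve_left h1.not_ge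
  obtain ⟨o2, -⟩ := (d.typeI_cases t).resolve_left h2.not_ge
  have b := t.bridge
  choose a ha using fun k : Irr W1 × Irr W2 => ZIrr_cfdot_int b.virt (c.cyc.cycEta_vchar k.1 k.2)
  have a0 : a (1, 1) = 1 := by
    have := ha (1, 1)
    rw [c.cyc.cycEta_one, b.one] at this
    exact_mod_cast this.symm
  have a1 : ∀ j, Odd (a (1, j)) := fun j => by
    by_cases hj : j = 1
    · rw [hj, a0]; exact odd_one
    · obtain ⟨n, hn, h⟩ := o1 j hj
      rwa [Int.cast_injective ((ha (1, j)).symm.trans h)]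
  have a2 : ∀ i, Odd (a (i, 1)) := fun i => by
    by_cases hi : i = 1
    · rw [hi, a0]; exact odd_one
    · obtain ⟨n, hn, h⟩ := o2 i hi
      rw [c.cyc.cycEta_comm] at h
      rwa [Int.cast_injective ((ha (i, 1)).symm.trans h)]
  have odd : ∀ k, Odd (a k) := fun k => by
    have h := c.cyc.cycTIiso_cfdot_exchange (ZIrr_mem_CF b.virt) (c.vanish_typeI t _) k.1 1 k.2 1
    rw [ha k, ha (1, 1), ha (k.1, 1), ha (1, k.2), a0] at h
    have h' : a k + 1 = a (k.1, 1) + a (1, k.2) := by exact_mod_cast h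
    have := a1 k.2
    have := a2 k.1
    rw [Int.odd_iff] at *
    omega
  have n := (onf_eta c.cyc Finset.univ).proj_norm (betaL L φ)
  have hs := Finset.card_nsmul_le_sum Finset.univ _ _ fun k _ =>
    one_le_norm_sq (ha k) (odd_ne_zero (ha k) (odd k))
  rw [Finset.card_univ, Fintype.card_prod, c.cyc.card_irr_W1, c.cyc.card_irr_W2, nsmul_eq_mul,
    mul_one] at hs
  rw [t.a1.2.2.2] at n
  conv_lhs at n => simp only [ha]
  obtain ⟨Y, hY⟩ : ∃ Y, Y = betaL L φ - ∑ k, (a k : ℂ) • η k.1 k.2 := ⟨_, rfl⟩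
  have hd : cfdot ⊤ Y (cfConjC (τ φ)) = cfdot ⊤ Y (τ φ) + 1 := by
    have f1 : ∀ χ ∈ seqIndD K L K ⊥, cfdot ⊤ Y (τ χ) = cfdot ⊤ (betaL L φ) (τ χ) := fun χ hχ => by
      rw [hY]
      exact proj_dot' (f := fun k : Irr W1 × Irr W2 => η k.1 k.2) _ _
        fun k _ => cfdot_symm_zero (c.typeI_ortho t hχ k.1 k.2)
    rw [f1 φ t.mem, ← b.dot_conj, t.conjC t.mem]
    exact f1 _ (cfAut_seqInd _ t.mem)
  have hZ : Y ∈ ZIrr (⊤ : Subgroup G) :=
    hY ▸ sub_mem b.virt (sum_mem fun k _ => intCast_smul_mem (c.cyc.cycEta_vchar _ _) _)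
  rw [← hY] at n
  have h3 := ZIrr_one_le_cfnorm hZ fun h => by simp [h] at hd
  have he' : (e : ℝ) ≤ (q * p : ℕ) := by exact_mod_cast he
  have h4 := isDirr_of_cfnorm hZ (by linarith)
  refine ⟨by exact_mod_cast he'.antisymm (by linarith), a, Y, odd, ?_, by rw [hY, add_sub_cancel]⟩
  rcases h4.cfdot_cases b.dirr with ⟨h5, h6⟩ | h5 | ⟨-, -, h5⟩
  · rw [h6, h5, b.ortho] at hd; norm_num at hd
  · exact Or.inl h5.1
  · exact Or.inr (h4.eq_of_cfdot_eq_one (b.dirr.cfAut _) (by rw [hd, h5, zero_add]))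

/-- PF (14.11.3), (14.11.4). -/
theorem Ctx.cover (gS : TypePGalois S U ⊥) (gT : TypePGalois T V ⊥) (he : e ≤ q * p)
    (h1 : ((Nat.card U : ℝ) - 1) / q < ((Nat.card K : ℝ) - 1) / e)
    (h2 : ((Nat.card V : ℝ) - 1) / p < ((Nat.card K : ℝ) - 1) / e) (hp : 5 ≤ p)
    (hv : q * p ≤ Nat.card V) (hk : (2 * p + 1) * Nat.card V ≤ Nat.card K) : False := by
  obtain ⟨he, a, Y, odd, hY, hβ⟩ := c.support_coherence d t he h1 h2
  set D := dadeSupp (sharp K) (supportR L)
  set Z := classSupport (cycTIset W W1 W2) ⊤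
  set A := classSupport (sharp P) ⊤
  set B := classSupport (sharp (fittingHallOf T)) ⊤
  have g0 : ∀ g ∈ elems (D ∪ Z ∪ A ∪ B)ᶜ, 1 ≤ ‖τ φ g‖ ^ 2 := by
    intro g hg
    simp only [mem_elems, Set.mem_compl_iff, Set.mem_union, not_or] at hg
    obtain ⟨⟨⟨g1, g2⟩, g3⟩, g4⟩ := hg
    obtain ⟨n, hn, h⟩ := c.sum_eta_odd odd (g := g) (by
      rw [c.cyc.card_eq]
      exact (((Nat.Prime.coprime_iff_not_dvd c.q_prime).mpr (d.not_dvd_orderOf gT g4
        (by rwa [cycTIset_comm]))).mul_left ((Nat.Prime.coprime_iff_not_dvd c.p_prime).mpr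
          (c.not_dvd_orderOf gS g3 g2))).symm)
    have h3 := congrFun hβ g
    rw [betaL, Dade_apply_of_notMem g1, Pi.add_apply, Finset.sum_apply] at h3
    simp only [Pi.smul_apply, smul_eq_mul, h] at h3
    have h4 := one_le_norm_sq rfl (odd_ne_zero rfl hn)
    rw [eq_neg_of_add_eq_zero_left h3.symm, norm_neg] at h4
    rcases hY with rfl | rfl <;> simpa using h4
  have s1 := (Finset.card_nsmul_le_sum _ _ _ g0)
  have s2 : ∑ g ∈ elems D, ‖τ φ g‖ ^ 2 + ∑ g ∈ elems (D ∪ Z ∪ A ∪ B)ᶜ, ‖τ φ g‖ ^ 2 ≤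
      Nat.card G := by
    have hd : Disjoint (elems D) (elems (D ∪ Z ∪ A ∪ B)ᶜ) := Finset.disjoint_left.mpr fun g h h' =>
      Set.notMem_of_mem_compl (mem_elems.mp h') (Or.inl (Or.inl (Or.inl (mem_elems.mp h))))
    rw [← sum_top_eq (t.dirr t.mem).cfnorm, elems_top, ← Finset.sum_union hd]
    exact Finset.sum_le_sum_of_subset_of_nonneg (Finset.subset_univ _) fun _ _ _ => by positivity
  have s3 : (Nat.card G : ℝ) ≤ D.ncard + Z.ncard + A.ncard + B.ncard + (D ∪ Z ∪ A ∪ B)ᶜ.ncard := by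
    have := Set.ncard_add_ncard_compl (D ∪ Z ∪ A ∪ B)
    have := Set.ncard_union_le (D ∪ Z ∪ A) B
    have := Set.ncard_union_le (D ∪ Z) A
    have := Set.ncard_union_le D Z
    exact_mod_cast (by omega : Nat.card G ≤ _)
  rw [card_elems_set, nsmul_eq_mul, mul_one] at s1
  have hq := c.q3
  have hG : (0 : ℝ) < Nat.card G := by exact_mod_cast Nat.card_pos
  have hK := card_pos_real K
  have hqp : (0 : ℝ) < q * p := mul_pos (card_pos_real _) (card_pos_real _)
  have k1 : (2 * p + 1 : ℝ) * Nat.card V ≤ Nat.card K := by exact_mod_cast hk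
  have k2 : (q * p : ℝ) ≤ Nat.card V := by exact_mod_cast hv
  have k3 : (5 : ℝ) ≤ p := by exact_mod_cast hp
  have k4 : (3 : ℝ) ≤ q := by exact_mod_cast hq
  obtain ⟨_, _, -, -, -, -, -, s4⟩ := Dade_Ind1_sub_lin t.dade t.coh (seqInd_nontrivial
    (Fcore_le L) (Fcore_normal L) le_rfl (mFT_odd t.hG L) t.mem) (t.irr t.mem) t.mem t.one
  have s5 := (s4 (by rw [he]; push_cast; nlinarith)).1.trans
    (leC_cfnorm_invDade_support t.dade (t.dirr t.mem).mem_CF)
  have c1 : (D.ncard : ℝ) / Nat.card G ≤ 1 / (q * p) := by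
    have h := congrArg (Nat.cast : ℕ → ℝ) (card_dadeSupp t.dade)
    push_cast at h
    rw [card_sharp, card_real_eq_relIndex_mul (Fcore_le L), he] at h
    rw [div_le_div_iff₀ hG hqp]
    push_cast at h
    refine le_of_mul_le_mul_right ?_ hK
    nlinarith
  have c2 : (Z.ncard : ℝ) / Nat.card G = (q - 1) * (p - 1) / (q * p) := by
    rw [ncard_cs c.cyc.normedTI, c.cyc.card_cycTIset, c.cyc.card_eq]
    push_cast [Nat.cast_sub c.q_prime.one_le, Nat.cast_sub c.p_prime.one_le]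
    rfl
  refine cover_contra (k := Nat.card K) k3 k4 (by exact_mod_cast c.seven_le) k2
    (by nlinarith) c.ncard_P d.ncard_P ?_
  rw [he, ← div_eq_inv_mul] at s5
  push_cast at s5
  refine s5.trans (le_trans ?_ (add_le_add_left (add_le_add_left (add_le_add c1 c2.le) _) _))
  rw [← add_div, ← add_div, ← add_div]
  gcongr
  linarith

end P13

open P13

variable (hG : IsMinSimpleOddOrder G)
include hG

/-- PF (14.1)–(14.16), with Appendix C of Bender–Glauberman. -/
theorem typeP_pair_exclusion {S T W W1 W2 : Subgroup G} (h : TypePPair S T W W1 W2)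
    (hlt : Nat.card W1 < Nat.card W2) : False := by
  obtain ⟨U, hU⟩ := typeP_pairW hG h
  obtain ⟨V, hV⟩ := typeP_pairW hG h.symm
  have c : Ctx S U W W1 W2 := ⟨hG, h.maxS, hU⟩
  have d : Ctx T V W W2 W1 := ⟨hG, h.maxT, hV⟩
  have hq := c.q3
  have op := c.odd_p
  have oq := c.odd_q
  have hp : Nat.card W1 + 2 ≤ Nat.card W2 := by
    obtain ⟨a, ha⟩ := op; obtain ⟨b, hb⟩ := oq; omega
  have hp0 := card_pos_real W2
  have hq0 := card_pos_real W1
  obtain ⟨gT, hv⟩ := d.Galois_of_lt hlt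
  have hv1 := hv ▸ pow_le_geom c.q_prime.two_le c.p_prime.one_le
  have hv2 := (mul_le_pow c.p3 hq).trans hv1
  have r := ratio_lt hq hp c.U_le (hv ▸ geom_mul _ _)
  have hex : ∀ X : Subgroup G, X ≠ ⊥ → X ≤ S ∨ X ≤ T →
      ∃ L, IsCoatom L ∧ normalizer (X : Set G) ≤ L := fun X h1 h2 =>
    mmax_exists (mFT_norm_proper hG h1 fun e => h2.elim
      (fun a => h.maxS.1 (top_le_iff.mp (e ▸ a))) fun a => h.maxT.1 (top_le_iff.mp (e ▸ a)))
  obtain ⟨L, hL, hUL⟩ := hex U c.U_ne (Or.inl (P9.U_le hU))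
  obtain ⟨M, hM, hVM⟩ := hex V d.U_ne (Or.inr (P9.U_le hV))
  obtain ⟨fL, hUH, hLc⟩ := c.support_facts d h (c.type2_of_lt hlt) hL hUL
  obtain ⟨fM, hVK, hMc⟩ := d.support_facts c h.symm (c.type2_of_ratio d r) hM hVM
  obtain ⟨τ, φ, t⟩ := exists_typeI hG hL fL
  obtain ⟨τ', ψ, t'⟩ := exists_typeI hG hM fM
  -- (14.5)
  obtain ⟨eL, y, hy, hyL⟩ := hLc.resolve_left fun ⟨e1, e2⟩ => by
    rcases c.typeI_cases t with h1 | ⟨-, h1⟩
    · rw [e1, div_le_div_iff_of_pos_right hq0, sub_le_sub_iff_right, Nat.cast_le] at h1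
      exact e2 (eq_of_le_of_card_ge hUH h1).symm
    · omega
  have pL : Nat.card W2 ∣ (fittingHallOf L).relIndex L := eL ▸ Dvd.intro_left _ rfl
  have gS := c.Galois_of_support (c.type2_of_lt hlt) fL hUH pL
  have nL := c.not_le_norm d hlt gS fL hUH pL hy hyL
  -- (14.11)
  have hK : fittingHallOf M = V := by
    by_contra hne
    have pM : Nat.card W2 ∣ (fittingHallOf M).relIndex M :=
      hMc.elim (fun a => a.1.symm.dvd) fun a => a.1 ▸ Dvd.intro _ rfl
    have eM : (fittingHallOf M).relIndex M ≤ Nat.card W1 * Nat.card W2 :=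
      hMc.elim (fun a => by rw [a.1]; nlinarith) fun a => (a.1.trans (mul_comm _ _)).le
    have k1 := card_mul_relIndex hVK
    have k2 := two_mul_lt (odd_relIndex (mFT_odd hG _)) op (modEq_one_of_mul
      (k1 ▸ (frob_modEq fM le_rfl (Fcore_normal M)).of_dvd pM) d.U_mod)
      fun e => hne (le_antisymm (relIndex_eq_one.mp e) hVK)
    have k3 : (2 * Nat.card W2 + 1) * Nat.card V ≤ Nat.card (fittingHallOf M) := by
      rw [← k1, mul_comm]; exact Nat.mul_le_mul_left _ k2
    have k4 : ((Nat.card V : ℝ) - 1) / Nat.card W2 <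
        ((Nat.card (fittingHallOf M) : ℝ) - 1) / (fittingHallOf M).relIndex M := by
      have a1 : (2 * Nat.card W2 + 1 : ℝ) * Nat.card V ≤ Nat.card (fittingHallOf M) := by
        exact_mod_cast k3
      have a2 : ((fittingHallOf M).relIndex M : ℝ) ≤ Nat.card W1 * Nat.card W2 := by
        exact_mod_cast eM
      have a3 : (Nat.card W1 : ℝ) < Nat.card W2 := by exact_mod_cast hlt
      have a4 : (1 : ℝ) ≤ Nat.card V := by exact_mod_cast Nat.card_pos
      rw [div_lt_div_iff₀ hp0 (relIndex_pos_real _ _)]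
      nlinarith [mul_le_mul_of_nonneg_left a2 (sub_nonneg.mpr a4),
        mul_le_mul_of_nonneg_right a1 hp0.le, mul_pos hp0 hp0,
        mul_le_mul_of_nonneg_left a3.le (mul_nonneg (sub_nonneg.mpr a4) hp0.le)]
    exact c.cover d t' gS gT eM (r.trans k4) k4 (by omega) hv2 k3
  have eM := (hMc.resolve_left fun a => a.2 hK).1
  -- (14.12)
  have nc : ¬ ConjSub M L := by
    rintro ⟨g, rfl⟩
    refine nL ((Fcore_normal _).trans (U4.norm_le_norm_of_le_cyclic ?_ hUH))
    rw [Fcore_map_conj, hK, U4.isCyclic_conj]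
    exact d.cyclic_U gT
  have hd := FT_Dade1_support_disjoint hG hM hL nc
  rw [← t.supp_eq, ← t'.supp_eq] at hd
  -- (14.14)
  have e1 : 1 < Nat.card W1 * Nat.card W2 := by nlinarith
  have LM : Nat.card (fittingHallOf L) < (Nat.card W1 * Nat.card W2) ^ 2 ∨
      (cfdot ⊤ (betaL L φ) (τ' ψ) ≠ 0 ∧ Nat.card W1 = 3 ∧ Nat.card W2 = 5) := by
    rcases Dade_sub_lin_nonorthogonal hG.1 t'.dade t.dade hd t'.coh t.coh (t'.irr t'.mem) t'.mem
      t'.one (t.irr t.mem) t.mem t.one with a | a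
    · have := t'.core_le t hd a
      rw [eM, eL, mul_comm (Nat.card W2)] at this
      exact Or.inl (lt_sq_of_ratio e1 this)
    · have := t.core_le t' hd.symm a
      rw [eM, eL, mul_comm (Nat.card W2), hK] at this
      have a1 := hv1.trans_lt (lt_sq_of_ratio e1 this)
      rw [show Nat.card W2 - 1 = 2 + (Nat.card W2 - 3) by omega, pow_add, mul_pow,
        Nat.mul_lt_mul_left (by positivity)] at a1
      have a2 : Nat.card W2 < 7 := by
        by_contra a2
        exact a1.not_ge ((sq_le_three_pow (not_lt.mp a2)).trans (Nat.pow_le_pow_left hq _))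
      obtain ⟨m, hm⟩ := op
      exact Or.inr ⟨a, by omega, by omega⟩
  have k1 := card_mul_relIndex hUH
  have k2 := frob_modEq fL le_rfl (Fcore_normal L)
  rw [eL, ← k1] at k2
  have ox : Odd (U.relIndex (fittingHallOf L)) := odd_relIndex (mFT_odd hG _)
  rw [← k1] at LM
  -- (14.15)
  have hu := ((c.Galois_card gS).resolve_left fun ⟨a1, a2⟩ => LM.elim
    (contra15 hq hlt op oq ox a1 (geom_eq c.p_prime.two_le _ ▸ a2) k2 c.U_mod)
    fun a => by rw [a.2.1, a.2.2] at a1; exact absurd a1 (by decide)).2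
  -- (14.16)
  have k3 := two_mul_lt ox (oq.mul op) (modEq_one_of_mul k2
    ((Nat.modEq_and_modEq_iff_modEq_mul c.cyc.coprime).mp ⟨c.U_mod, by
      rw [hu, geom_eq c.p_prime.two_le]; exact geom_mod_self _ c.q_prime.pos⟩))
    fun e => nL (le_antisymm (relIndex_eq_one.mp e) hUH ▸ Fcore_normal L)
  rcases LM with a | ⟨a, q3, p5⟩
  · have a1 := hu ▸ pow_le_geom c.p_prime.two_le c.q_prime.one_le
    have a2 := (Nat.pow_le_pow_right c.p_prime.pos (show 2 ≤ Nat.card W1 - 1 by omega)).trans a1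
    have a3 : Nat.card W1 * Nat.card W2 ≤ Nat.card U := by nlinarith
    nlinarith [Nat.mul_le_mul a3 k3]
  · rw [q3, p5] at hu hv k3
    replace hu : Nat.card U = 31 := hu.trans (by norm_num)
    replace hv : Nat.card V = 121 := hv.trans (by norm_num)
    have a1 : (961 : ℝ) ≤ Nat.card (fittingHallOf L) := by
      rw [← k1, hu]; exact_mod_cast (by omega)
    obtain ⟨-, b, Y, -, hY, hβ⟩ := c.support_coherence d t eL.le
      (by rw [eL, q3, p5, hu]; push_cast; linarith) (by rw [eL, q3, p5, hv]; push_cast; linarith)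
    have o : ∀ χ ∈ seqIndD (fittingHallOf L) L (fittingHallOf L) ⊥, cfdot ⊤ (τ χ) (τ' ψ) = 0 :=
      fun χ hχ => disjoint_coherent_ortho hG.1 t.dade t'.dade hd.symm t.coh t'.coh (t.irr hχ) hχ
        (t'.irr t'.mem) t'.mem
    refine a ?_
    rw [hβ, cfdot_add_left, cfdot_sum_left, Finset.sum_eq_zero fun k _ => by
      rw [cfdot_smul_left, cfdot_symm_zero (c.typeI_ortho t' t'.mem _ _), mul_zero], zero_add]
    rcases hY with rfl | rfl
    · rw [cfdot_neg_left, o φ t.mem, neg_zero]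
    · rw [t.conjC t.mem]; exact o _ (cfAut_seqInd _ t.mem)

theorem no_minSimple_odd_group : False := by
  rcases FTtypeP_pair_cases hG with h | ⟨S, T, W, W1, W2, h⟩
  · exact not_all_FTtype1 hG h
  · rcases lt_trichotomy (Nat.card W1) (Nat.card W2) with hlt | heq | hlt
    · exact typeP_pair_exclusion hG h hlt
    · obtain ⟨U, hP⟩ := typeP_pairW hG h
      have h1 := hP.W1_hall
      have h2 : Nat.card W2 ∣ Nat.card ↥⁅S, S⁆ := card_dvd_of_le (hP.W2_le_H.trans hP.H_le_der)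
      have h3 : (Nat.card W2).Coprime (Nat.card W1) := Nat.Coprime.coprime_dvd_left h2 h1
      rw [heq, Nat.coprime_self] at h3
      exact hP.W2_ne (Subgroup.card_eq_one.mp h3)
    · exact typeP_pair_exclusion hG h.symm hlt

end CfsgLib.FT
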