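import Mathlib
import Cfsg.Agent.Lib.FT.PF14
import Cfsg.Agent.Lib.CoreSolvable

/-! The odd order theorem. -/

set_option autoImplicit false

namespace CfsgLib.FT

open Cfsg Subgroup

universe u

/-- **Feit–Thompson**: finite groups of odd order are solvable. -/
theorem feit_thompson {G : Type u} [Group G] [Finite G] (h : Odd (Nat.card G)) :
    Group.IsSolvable G := by
  refine card_induction (P := fun X _ _ => Odd (Nat.card X) → Group.IsSolvable X) ?_ G h
  intro X _ _ ih hX
  by_contra hns
  have hsub : ∀ H : Subgroup X, H ≠ ⊤ → Group.IsSolvable H := fun H hH =>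
    ih H (card_lt_of_ne_top hH) (hX.of_dvd_nat (card_subgroup_dvd_card H))
  have hnt : Nontrivial X := by
    by_contra hc
    rw [not_nontrivial_iff_subsingleton] at hc
    exact hns inferInstance
  have hsimple : IsSimpleGroup X := by
    refine ⟨fun N hN => ?_⟩
    by_contra hc
    push Not at hc
    haveI := hsub N hc.2
    haveI : Group.IsSolvable (X ⧸ N) :=
      ih (X ⧸ N) (card_quotient_lt hc.1) (hX.of_dvd_nat (card_quotient_dvd_card N))
    exact hns (solvable_of_ker_le_range N.subtype (QuotientGroup.mk' N) (by simp))
  have hG : IsMinSimpleOddOrder X :=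
    ⟨hX, hsimple, fun hc => hns (isSolvable_of_comm fun a b => hc.is_comm.comm a b), hsub⟩
  letI : Fintype X := Fintype.ofFinite X
  exact no_minSimple_odd_group hG

end CfsgLib.FT
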