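import Cfsg.Agent.Lib.FT.CFInd

/-!
# Ambient-style class functions: Galois action and algebraic integers
-/

set_option autoImplicit false
set_option linter.unusedSectionVars false

namespace CfsgLib.FT

open Cfsg Subgroup
open scoped ComplexConjugate

variable {G : Type*} [Group G] [Fintype G]
variable {L K H N : Subgroup G} {A B : Set G} {φ φ' ψ ψ' χ θ : G → ℂ}

theorem isCharacter_aut {Q : Type*} [Group Q] {ξ : Q → ℂ} (h : IsCharacter Q ξ) (u : ℂ →+* ℂ) :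
    IsCharacter Q fun x => u (ξ x) := by
  obtain ⟨n, ρ, rfl⟩ := h
  let ρ' : Representation ℂ Q (Fin n → ℂ) :=
    (Matrix.toLinAlgEquiv' (R := ℂ) (n := Fin n)).toRingEquiv.toMonoidHom.comp
      ((RingHom.mapMatrix u).toMonoidHom.comp
        ((LinearMap.toMatrixAlgEquiv' (R := ℂ) (n := Fin n)).toRingEquiv.toMonoidHom.comp ρ))
  refine ⟨n, ρ', funext fun x => ?_⟩
  change LinearMap.trace ℂ _ (Matrix.toLin' ((LinearMap.toMatrix' (ρ x)).map u)) =
    u (LinearMap.trace ℂ _ (ρ x))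
  rw [Matrix.trace_toLin'_eq, ← Matrix.toLin'_toMatrix' (ρ x), Matrix.trace_toLin'_eq,
    LinearMap.toMatrix'_toLin']
  simp [Matrix.trace]

theorem IsChar.cfAut (h : IsChar L χ) (u : ℂ →+* ℂ) : IsChar L (cfAut u χ) := by
  exact ⟨isCharacter_aut h.1 u, fun x hx => by simp [h.2 x hx]⟩

theorem ZIrr_cfAut (h : φ ∈ ZIrr L) (u : ℂ →+* ℂ) : cfAut u φ ∈ ZIrr L := by
  obtain ⟨a, b, ha, hb, rfl⟩ := mem_ZIrr_iff_sub.mp h
  rw [cfAut_sub]
  exact (ZIrr L).sub_mem (ha.cfAut u).mem_ZIrr (hb.cfAut u).mem_ZIrr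

theorem ZIrr_aut_conj (h : φ ∈ ZIrr L) (u : ℂ →+* ℂ) (x : G) :
    u (conj (φ x)) = conj (u (φ x)) := by
  rw [← ZIrr_inv h]
  exact ZIrr_inv (ZIrr_cfAut h u) x

theorem cfdot_cfAut (u : ℂ →+* ℂ) (hψ : ψ ∈ ZIrr L) :
    cfdot L (cfAut u φ) (cfAut u ψ) = u (cfdot L φ ψ) := by
  simp [cfdot, ZIrr_aut_conj hψ]

theorem cfdot_cfAut_ZIrr (u : ℂ →+* ℂ) (hφ : φ ∈ ZIrr L) (hψ : ψ ∈ ZIrr L) :
    cfdot L (cfAut u φ) (cfAut u ψ) = cfdot L φ ψ := by
  obtain ⟨n, hn⟩ := ZIrr_cfdot_int hφ hψ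
  rw [cfdot_cfAut u hψ, hn, map_intCast]

theorem cfnorm_cfAut (u : ℂ →+* ℂ) (hφ : φ ∈ ZIrr L) : cfnorm L (cfAut u φ) = cfnorm L φ :=
  cfnorm_eq_of_cfdot (cfdot_cfAut_ZIrr u hφ hφ)

theorem IsIrr.cfAut (h : IsIrr L χ) (u : ℂ →+* ℂ) : IsIrr L (cfAut u χ) :=
  (h.isChar.cfAut u).isIrr_of_cfnorm (by rw [cfnorm_cfAut u h.mem_ZIrr, h.cfnorm])

theorem IsLin.cfAut (h : IsLin L χ) (u : ℂ →+* ℂ) : IsLin L (cfAut u χ) :=
  ⟨h.1.cfAut u, by simp [h.2]⟩

theorem IsDirr.cfAut (h : IsDirr L χ) (u : ℂ →+* ℂ) : IsDirr L (cfAut u χ) :=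
  h.imp (fun h => h.cfAut u) fun h => by rw [← cfAut_neg]; exact h.cfAut u

theorem ZIrr_cfAut_one (h : φ ∈ ZIrr L) (u : ℂ →+* ℂ) : cfAut u φ 1 = φ 1 := by
  obtain ⟨n, hn⟩ := ZIrr_one_int h
  rw [cfAut_apply, hn, map_intCast]

theorem ZIrr_cfConjC_apply (h : φ ∈ ZIrr L) (x : G) : cfConjC φ x = φ x⁻¹ :=
  (ZIrr_inv h x).symm

theorem cfAut_cfConjC (h : φ ∈ ZIrr L) (u : ℂ →+* ℂ) :
    cfAut u (cfConjC φ) = cfConjC (cfAut u φ) := funext fun x => ZIrr_aut_conj h u x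

/-- The Galois action on irreducible characters. -/
def Irr.aut (u : ℂ →+* ℂ) (χ : Irr L) : Irr L := ⟨cfAut u χ, χ.2.cfAut u⟩

/-- The complex conjugate of an irreducible character. -/
abbrev Irr.conj (χ : Irr L) : Irr L := χ.aut (starRingEnd ℂ)

@[simp] theorem Irr.coe_aut (u : ℂ →+* ℂ) (χ : Irr L) : (χ.aut u : G → ℂ) = cfAut u χ := rfl

@[simp] theorem Irr.aut_one (u : ℂ →+* ℂ) : (1 : Irr L).aut u = 1 := Irr.ext (cfAut_cf1 u)

theorem Irr.aut_injective (u : ℂ →+* ℂ) : Function.Injective (Irr.aut u : Irr L → Irr L) :=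
  fun _ _ h => Irr.ext (cfAut_injective u (congrArg Subtype.val h))

theorem Irr.aut_bijective (u : ℂ →+* ℂ) : Function.Bijective (Irr.aut u : Irr L → Irr L) :=
  Finite.injective_iff_bijective.mp (Irr.aut_injective u)

theorem Irr.aut_eq_one (u : ℂ →+* ℂ) {χ : Irr L} : χ.aut u = 1 ↔ χ = 1 := by
  rw [← Irr.aut_one u, (Irr.aut_injective u).eq_iff, Irr.aut_one]

@[simp] theorem Irr.conj_conj (χ : Irr L) : χ.conj.conj = χ := Irr.ext cfConjC_cfConjC

theorem Irr.sum_aut {M : Type*} [AddCommMonoid M] (u : ℂ →+* ℂ) (f : Irr L → M) :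
    ∑ χ : Irr L, f (χ.aut u) = ∑ χ : Irr L, f χ :=
  (Irr.aut_bijective u).sum_comp f

/-- The conjugation action of the normalizer on irreducible characters. -/
def Irr.conjg (χ : Irr H) (x : G) (hx : x ∈ normalizer (H : Set G)) : Irr H :=
  ⟨cfConjg x χ, χ.2.cfConjg hx⟩

@[simp] theorem Irr.coe_conjg (χ : Irr H) (x : G) (hx : x ∈ normalizer (H : Set G)) :
    (χ.conjg x hx : G → ℂ) = cfConjg x χ := rfl

/-! ### Field automorphisms of `ℂ` -/

theorem exists_extend_aut (A : IntermediateField ℚ ℂ) (σ : A ≃+* A) :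
    ∃ u : ℂ →+* ℂ, ∀ a : A, u a = σ a := by
  obtain ⟨s, hs⟩ := exists_isTranscendenceBasis A ℂ
  have := IsAlgClosed.isAlgClosure_of_transcendence_basis _ hs
  let e : Algebra.adjoin A (Set.range ((↑) : s → ℂ)) ≃+*
      Algebra.adjoin A (Set.range ((↑) : s → ℂ)) :=
    (hs.1.aevalEquiv.symm.toRingEquiv.trans (MvPolynomial.mapEquiv s σ)).trans
      hs.1.aevalEquiv.toRingEquiv
  refine ⟨(IsAlgClosure.equivOfEquiv ℂ ℂ e).toRingHom, fun a => ?_⟩
  have h1 := IsAlgClosure.equivOfEquiv_algebraMap ℂ ℂ e (algebraMap A _ a)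
  have h2 : e (algebraMap A _ a) = algebraMap A _ (σ a) := by
    simp only [e, RingEquiv.trans_apply, AlgEquiv.coe_ringEquiv, AlgEquiv.commutes]
    rw [MvPolynomial.algebraMap_eq, MvPolynomial.mapEquiv_apply, MvPolynomial.map_C,
      ← MvPolynomial.algebraMap_eq, AlgEquiv.commutes]
    rfl
  rw [h2] at h1
  exact h1

theorem exists_aut_of_root {z w : ℂ} (hz : IsAlgebraic ℚ z)
    (h : Polynomial.aeval w (minpoly ℚ z) = 0) : ∃ u : ℂ →+* ℂ, u z = w := by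
  have hw : IsAlgebraic ℚ w := ⟨_, minpoly.ne_zero hz.isIntegral, h⟩
  let A := algebraicClosure ℚ ℂ
  let z' : A := ⟨z, mem_algebraicClosure_iff.mpr hz⟩
  let w' : A := ⟨w, mem_algebraicClosure_iff.mpr hw⟩
  have h1 : minpoly ℚ z' = minpoly ℚ z := (minpoly.algebraMap_eq (algebraMap A ℂ).injective z').symm
  have : IsAlgClosure ℚ A := algebraicClosure.isAlgClosure ℚ ℂ
  have hn : Normal ℚ A := inferInstance
  obtain ⟨σ, hσ⟩ := minpoly.exists_algEquiv_of_root' (K := ℚ) (L := A) (x := w') (y := z')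
    (Algebra.IsAlgebraic.isAlgebraic _) (by
      rw [h1]
      apply (algebraMap A ℂ).injective
      rw [← Polynomial.aeval_algebraMap_apply, map_zero]
      exact h)
  obtain ⟨u, hu⟩ := exists_extend_aut A σ.toRingEquiv
  exact ⟨u, (hu z').trans (congrArg Subtype.val hσ)⟩

/-- A field endomorphism of `ℂ` raising all `n`-th roots of unity to the power `k`. -/
theorem exists_aut_pow {n k : ℕ} (hn : n ≠ 0) (hk : k.Coprime n) :
    ∃ u : ℂ →+* ℂ, ∀ ζ : ℂ, ζ ^ n = 1 → u ζ = ζ ^ k := by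
  have hζ := Complex.isPrimitiveRoot_exp n hn
  have hpos := Nat.pos_of_ne_zero hn
  have : NeZero n := ⟨hn⟩
  obtain ⟨u, hu⟩ := exists_aut_of_root (w := Complex.exp (2 * Real.pi * Complex.I / n) ^ k)
    ((hζ.isIntegral hpos).tower_top (A := ℚ)).isAlgebraic (by
      rw [← Polynomial.cyclotomic_eq_minpoly_rat hζ hpos, Polynomial.aeval_def,
        Polynomial.eval₂_eq_eval_map, Polynomial.map_cyclotomic]
      exact (hζ.pow_of_coprime k hk).isRoot_cyclotomic hpos)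
  refine ⟨u, fun ζ h => ?_⟩
  obtain ⟨i, -, rfl⟩ := hζ.eq_pow_of_pow_eq_one h
  rw [map_pow, hu, ← pow_mul, ← pow_mul, mul_comm k]

/-- Every field endomorphism of `ℂ` raises `n`-th roots of unity to some power prime to `n`. -/
theorem exists_pow_of_aut {n : ℕ} (hn : n ≠ 0) (u : ℂ →+* ℂ) :
    ∃ k : ℕ, k.Coprime n ∧ ∀ ζ : ℂ, ζ ^ n = 1 → u ζ = ζ ^ k := by
  have hζ := Complex.isPrimitiveRoot_exp n hn
  have : NeZero n := ⟨hn⟩
  obtain ⟨k, -, hk, he⟩ := (hζ.isPrimitiveRoot_iff).mp (hζ.map_of_injective u.injective)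
  refine ⟨k, hk, fun ζ h => ?_⟩
  obtain ⟨i, -, rfl⟩ := hζ.eq_pow_of_pow_eq_one h
  rw [map_pow, ← he, ← pow_mul, ← pow_mul, mul_comm k]

theorem exists_aut_pow_crt {a b k : ℕ} (ha : a ≠ 0) (hb : b ≠ 0) (hab : a.Coprime b)
    (hk : k.Coprime a) :
    ∃ u : ℂ →+* ℂ, (∀ ζ : ℂ, ζ ^ a = 1 → u ζ = ζ ^ k) ∧ ∀ ζ : ℂ, ζ ^ b = 1 → u ζ = ζ := by
  obtain ⟨k', h1, h2⟩ := Nat.chineseRemainder hab k 1
  have hk' : k'.Coprime (a * b) := Nat.Coprime.mul_right
    (by rw [Nat.Coprime, h1.gcd_eq]; exact hk) (by rw [Nat.Coprime, h2.gcd_eq]; simp)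
  obtain ⟨u, hu⟩ := exists_aut_pow (mul_ne_zero ha hb) hk'
  refine ⟨u, fun ζ h => ?_, fun ζ h => ?_⟩
  · rw [hu ζ (by rw [pow_mul, h, one_pow]), pow_eq_pow_mod k' h, h1, ← pow_eq_pow_mod k h]
  · rw [hu ζ (by rw [mul_comm, pow_mul, h, one_pow]), pow_eq_pow_mod k' h, h2,
      ← pow_eq_pow_mod 1 h, pow_one]

theorem mem_of_pow_mem_of_coprime {x : G} {k : ℕ} (hk : k.Coprime (orderOf x)) (h : x ^ k ∈ L) :
    x ∈ L := by
  obtain ⟨m, hm⟩ := exists_pow_eq_self_of_coprime hk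
  rw [← hm]
  exact L.pow_mem h m

theorem IsChar.exists_eigen (h : IsChar L χ) {x : G} (hx : x ∈ L) :
    ∃ (n : ℕ) (ε : Fin n → ℂ), (∀ i, ε i ^ orderOf x = 1) ∧ ∀ k : ℕ, χ (x ^ k) = ∑ i, ε i ^ k := by
  obtain ⟨n, ρ, hρ⟩ := h.1
  obtain ⟨b, ε, h1, -, h3⟩ := exists_eigenbasis_rep ρ ⟨x, hx⟩
  refine ⟨_, ε, fun i => by rw [← h1 i, ← Subgroup.orderOf_coe], fun k => ?_⟩
  have := h3 k
  rw [hρ] at this
  simpa using this

theorem ZIrr_aut_eq_pow (h : φ ∈ ZIrr L) {n k : ℕ} {u : ℂ →+* ℂ}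
    (hu : ∀ ζ : ℂ, ζ ^ n = 1 → u ζ = ζ ^ k) (hk : k.Coprime n) {x : G} (hx : orderOf x ∣ n) :
    u (φ x) = φ (x ^ k) := by
  by_cases hxL : x ∈ L
  · have key : ∀ χ, IsChar L χ → u (χ x) = χ (x ^ k) := fun χ hχ => by
      obtain ⟨m, ε, h1, h2⟩ := hχ.exists_eigen hxL
      have h3 := h2 1
      simp only [pow_one] at h3
      obtain ⟨c, rfl⟩ := hx
      rw [h2, h3, map_sum]
      exact Finset.sum_congr rfl fun i _ => hu _ (by rw [pow_mul, h1, one_pow])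
    obtain ⟨a, b, ha, hb, rfl⟩ := mem_ZIrr_iff_sub.mp h
    simp [key a ha, key b hb]
  · rw [(ZIrr_mem_CF h).1 x hxL, (ZIrr_mem_CF h).1 _ fun h1 =>
      hxL (mem_of_pow_mem_of_coprime (hk.coprime_dvd_right hx) h1), map_zero]

theorem int_of_isIntegral_of_rat {z : ℂ} (hz : IsIntegral ℤ z) (q : ℚ) (h : z = q) :
    ∃ n : ℤ, z = n := by
  rw [h] at hz
  have h1 : IsIntegral ℤ q := (isIntegral_algebraMap_iff (algebraMap ℚ ℂ).injective).mp hz
  obtain ⟨n, hn⟩ := IsIntegrallyClosed.isIntegral_iff.mp h1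
  exact ⟨n, by rw [h, ← hn]; simp⟩

/-- An algebraic integer fixed by all field endomorphisms of `ℂ` is an integer. -/
theorem int_of_isIntegral_of_fixed {z : ℂ} (hz : IsIntegral ℤ z) (h : ∀ u : ℂ →+* ℂ, u z = z) :
    ∃ n : ℤ, z = n := by
  let A := algebraicClosure ℚ ℂ
  let z' : A := ⟨z, mem_algebraicClosure_iff.mpr (hz.tower_top (A := ℚ)).isAlgebraic⟩
  have : IsAlgClosure ℚ A := algebraicClosure.isAlgClosure ℚ ℂ
  have : IsGalois ℚ A := {}
  obtain ⟨q, hq⟩ := (InfiniteGalois.mem_range_algebraMap_iff_fixed (k := ℚ) z').mpr fun σ => by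
    obtain ⟨u, hu⟩ := exists_extend_aut A σ.toRingEquiv
    exact Subtype.ext ((hu z').symm.trans (h u))
  exact int_of_isIntegral_of_rat hz q (congrArg Subtype.val hq).symm

/-- A value `φ x` with `φ (x ^ k) = φ x` for all `k` prime to the order of `x` is an integer. -/
theorem ZIrr_int_of_pow_eq (h : φ ∈ ZIrr L) {x : G}
    (hk : ∀ k : ℕ, k.Coprime (orderOf x) → φ (x ^ k) = φ x) : ∃ n : ℤ, φ x = n := by
  refine int_of_isIntegral_of_fixed (ZIrr_isIntegral h x) fun u => ?_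
  obtain ⟨k, hk1, hk2⟩ := exists_pow_of_aut (orderOf_pos x).ne' u
  rw [ZIrr_aut_eq_pow h hk2 hk1 dvd_rfl, hk k hk1]

/-- The nonprincipal characters of a group of prime order are Galois conjugate. -/
theorem exists_aut_of_prime_card (hp : (Nat.card L).Prime) (h : IsIrr L χ) (h' : IsIrr L ψ)
    (h1 : χ ≠ cf1 L) (h1' : ψ ≠ cf1 L) {m : ℕ} (hm : m.Coprime (Nat.card L)) (hm0 : m ≠ 0) :
    ∃ u : ℂ →+* ℂ, cfAut u χ = ψ ∧ ∀ ζ : ℂ, ζ ^ m = 1 → u ζ = ζ := by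
  obtain ⟨k, hk, rfl⟩ := cfExp_prime_transitive hp h h' h1 h1'
  obtain ⟨u, hu1, hu2⟩ := exists_aut_pow_crt hp.ne_zero hm0 hm.symm hk
  have := Fact.mk hp
  have hl := h.isLin_of_isCyclic (isCyclic_of_prime_card rfl)
  refine ⟨u, funext fun x => ?_, hu2⟩
  by_cases hx : x ∈ L
  · refine hu1 _ ?_
    obtain ⟨c, hc⟩ := orderOf_dvd_natCard (⟨x, hx⟩ : L)
    rw [hc, pow_mul, Subgroup.orderOf_mk, hl.pow_orderOf hx, one_pow]
  · rw [cfAut_apply, h.2 x hx, h'.2 x hx, map_zero]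

theorem zpowers_pow_of_coprime {x : G} {k : ℕ} (hk : k.Coprime (orderOf x)) :
    zpowers (x ^ k) = zpowers x :=
  le_antisymm (zpowers_le.mpr (Subgroup.pow_mem _ (mem_zpowers x) k))
    (zpowers_le.mpr (mem_of_pow_mem_of_coprime hk (mem_zpowers _)))

theorem exists_pow_of_zpowers_eq {x y : G} (h : zpowers y = zpowers x) :
    ∃ k : ℕ, k.Coprime (orderOf x) ∧ y = x ^ k := by
  obtain ⟨k, hk⟩ := mem_powers_iff_mem_zpowers.mpr (h ▸ mem_zpowers y)
  simp only at hk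
  refine ⟨k, ?_, hk.symm⟩
  have h1 : orderOf y = orderOf x := by rw [← Nat.card_zpowers, h, Nat.card_zpowers]
  rw [← hk, orderOf_pow, Nat.div_eq_self] at h1
  exact Nat.Coprime.symm (h1.resolve_left (orderOf_pos x).ne')

/-- If `φ` does not vanish on a set closed under taking generators of cyclic subgroups, the sum of
the squared values is at least the size of the set. -/
theorem card_le_sum_norm2 (h : φ ∈ ZIrr L)
    (hA : ∀ x ∈ A, ∀ y, zpowers y = zpowers x → y ∈ A) (h0 : ∀ y ∈ A, φ y ≠ 0) :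
    (A.ncard : ℝ) ≤ ∑ y ∈ elems A, ‖φ y‖ ^ 2 := by
  have hψ := ZIrr_mul h (ZIrr_cfAut h (starRingEnd ℂ))
  obtain ⟨n, hn⟩ : ∃ n : ℤ, ∏ y ∈ elems A, (φ * cfConjC φ) y = n := by
    refine int_of_isIntegral_of_fixed (IsIntegral.prod _ fun y _ => ZIrr_isIntegral hψ y)
      fun u => ?_
    obtain ⟨k, hk1, hk2⟩ := exists_pow_of_aut (Nat.card_pos (α := G)).ne' u
    have hk3 : ∀ y : G, k.Coprime (orderOf y) := fun y =>
      hk1.coprime_dvd_right (orderOf_dvd_natCard y)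
    rw [map_prod, Finset.prod_congr rfl fun y _ =>
      ZIrr_aut_eq_pow hψ hk2 hk1 (orderOf_dvd_natCard y)]
    have hinj : Function.Injective fun y : G => y ^ k := (powCoprime hk1.symm).injective
    have hmaps : ∀ y ∈ elems A, y ^ k ∈ elems A := fun y hy =>
      mem_elems.mpr (hA y (mem_elems.mp hy) _ (zpowers_pow_of_coprime (hk3 y)))
    exact Finset.prod_bij (fun y _ => y ^ k) hmaps (fun a _ b _ h => hinj h)
      (Finset.surj_on_of_inj_on_of_card_le (fun y _ => y ^ k) hmaps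
        (fun a b _ _ h => hinj h) le_rfl · · |>.imp fun a ha => ha.imp fun _ h => h.symm)
      fun _ _ => rfl
  have h1 : ∏ y ∈ elems A, ‖φ y‖ ^ 2 = n := by
    have : ((∏ y ∈ elems A, ‖φ y‖ ^ 2 : ℝ) : ℂ) = (n : ℝ) := by
      rw [Complex.ofReal_intCast, ← hn]
      simp [Complex.mul_conj, Complex.normSq_eq_norm_sq]
    exact_mod_cast this
  have hpos : ∀ y ∈ elems A, 0 < ‖φ y‖ ^ 2 := fun y hy =>
    pow_pos (norm_pos_iff.mpr (h0 y (mem_elems.mp hy))) 2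
  have h2 : (1 : ℝ) ≤ n := by
    have := Finset.prod_pos hpos
    rw [h1] at this
    exact_mod_cast this
  have h3 : 0 ≤ ∑ y ∈ elems A, Real.log (‖φ y‖ ^ 2) := by
    rw [← Real.log_prod fun y hy => (hpos y hy).ne', h1]
    exact Real.log_nonneg h2
  have h4 := Finset.sum_le_sum fun y hy => Real.log_le_sub_one_of_pos (hpos y hy)
  rw [Finset.sum_sub_distrib, Finset.sum_const, card_elems_set, nsmul_eq_mul, mul_one] at h4
  linarith

/-- Isaacs, Lemma 3.14. -/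
theorem sum_norm2_char_generators {x : G} (h : φ ∈ ZIrr L)
    (h0 : ∀ y, zpowers y = zpowers x → φ y ≠ 0) :
    (({y | zpowers y = zpowers x} : Set G).ncard : ℝ) ≤
      ∑ y ∈ elems {y | zpowers y = zpowers x}, ‖φ y‖ ^ 2 := by
  exact card_le_sum_norm2 h (fun _ hz _ hy => hy.trans hz) h0

theorem ZIrr_eq_zero_of_zpowers_eq (h : φ ∈ ZIrr L) {x y : G} (hxy : zpowers y = zpowers x)
    (h0 : φ x = 0) : φ y = 0 := by
  obtain ⟨k, hk, rfl⟩ := exists_pow_of_zpowers_eq hxy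
  obtain ⟨u, hu⟩ := exists_aut_pow (orderOf_pos x).ne' hk
  rw [← ZIrr_aut_eq_pow h hu hk dvd_rfl, h0, map_zero]

/-! ### Congruences -/

section EqAmod

variable {e x y z x' y' : ℂ}

theorem EqAmod.refl (e x : ℂ) : EqAmod e x x := ⟨0, isIntegral_zero, by simp⟩

theorem EqAmod.of_eq (h : x = y) : EqAmod e x y := h ▸ EqAmod.refl e x

theorem EqAmod.symm (h : EqAmod e x y) : EqAmod e y x := by
  obtain ⟨z, hz, h⟩ := h
  exact ⟨-z, hz.neg, by linear_combination -h⟩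

theorem EqAmod.trans (h : EqAmod e x y) (h' : EqAmod e y z) : EqAmod e x z := by
  obtain ⟨a, ha, h⟩ := h
  obtain ⟨b, hb, h'⟩ := h'
  exact ⟨a + b, ha.add hb, by linear_combination h + h'⟩

theorem EqAmod.add (h : EqAmod e x y) (h' : EqAmod e x' y') : EqAmod e (x + x') (y + y') := by
  obtain ⟨a, ha, h⟩ := h
  obtain ⟨b, hb, h'⟩ := h'
  exact ⟨a + b, ha.add hb, by linear_combination h + h'⟩

theorem EqAmod.neg (h : EqAmod e x y) : EqAmod e (-x) (-y) := by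
  obtain ⟨a, ha, h⟩ := h
  exact ⟨-a, ha.neg, by linear_combination -h⟩

theorem EqAmod.sub (h : EqAmod e x y) (h' : EqAmod e x' y') : EqAmod e (x - x') (y - y') := by
  obtain ⟨a, ha, h⟩ := h
  obtain ⟨b, hb, h'⟩ := h'
  exact ⟨a - b, ha.sub hb, by linear_combination h - h'⟩

theorem EqAmod.mul_left (h : EqAmod e x y) (hz : IsIntegral ℤ z) : EqAmod e (z * x) (z * y) := by
  obtain ⟨a, ha, h⟩ := h
  exact ⟨z * a, hz.mul ha, by linear_combination z * h⟩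

theorem EqAmod.mul_right (h : EqAmod e x y) (hz : IsIntegral ℤ z) : EqAmod e (x * z) (y * z) := by
  rw [mul_comm x, mul_comm y]; exact h.mul_left hz

theorem EqAmod.mul (h : EqAmod e x y) (h' : EqAmod e x' y') (hx : IsIntegral ℤ x)
    (hy' : IsIntegral ℤ y') : EqAmod e (x * x') (y * y') :=
  (h'.mul_left hx).trans (h.mul_right hy')

theorem EqAmod.sum {ι : Type*} (s : Finset ι) {f g : ι → ℂ} (h : ∀ i ∈ s, EqAmod e (f i) (g i)) :
    EqAmod e (∑ i ∈ s, f i) (∑ i ∈ s, g i) := by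
  classical
  induction s using Finset.induction_on with
  | empty => exact EqAmod.refl _ _
  | insert a s ha ih =>
    rw [Finset.sum_insert ha, Finset.sum_insert ha]
    exact (h a (Finset.mem_insert_self _ _)).add
      (ih fun i hi => h i (Finset.mem_insert_of_mem hi))

theorem eqAmod_mul_zero (hz : IsIntegral ℤ z) : EqAmod e (e * z) 0 := ⟨z, hz, by simp⟩

theorem EqAmod.of_dvd {e' : ℂ} (h : EqAmod e x y) {c : ℂ} (hc : IsIntegral ℤ c) (he : e = e' * c) :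
    EqAmod e' x y := by
  obtain ⟨a, ha, h⟩ := h
  exact ⟨c * a, hc.mul ha, by rw [h, he, mul_assoc]⟩

theorem eqAmod_sub_zero : EqAmod e (x - y) 0 ↔ EqAmod e x y := by simp [EqAmod]

theorem eqAmod_int_iff {n a b : ℤ} : EqAmod n a b ↔ n ∣ a - b := by
  refine ⟨fun ⟨z, hz, h⟩ => ?_, fun ⟨c, hc⟩ => ⟨c, isIntegral_algebraMap (x := c), by exact_mod_cast hc⟩⟩
  rcases eq_or_ne n 0 with rfl | hn
  · have : a - b = 0 := by simpa [← Int.cast_sub] using h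
    simp [this]
  have hn' : (n : ℂ) ≠ 0 := by exact_mod_cast hn
  obtain ⟨c, hc⟩ := int_of_isIntegral_of_rat hz ((a - b) / n) (by
    push_cast; rw [h]; field_simp)
  exact ⟨c, by rw [hc] at h; exact_mod_cast h⟩

theorem eqAmod_nat_iff {n : ℕ} {a b : ℤ} : EqAmod n a b ↔ (n : ℤ) ∣ a - b := by
  rw [← eqAmod_int_iff, Int.cast_natCast]

end EqAmod

end CfsgLib.FT
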