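import Cfsg.Agent.Lib.FT.CFGroup
import Cfsg.Agent.Lib.ClassSize

/-!
# Ambient-style class functions: Clifford theory, Frobenius groups, extension theorems
-/

set_option autoImplicit false
set_option linter.unusedSectionVars false

namespace CfsgLib.FT

open Cfsg Subgroup
open scoped ComplexConjugate commutatorElement

variable {G : Type*} [Group G] [Fintype G]
variable {L K H N T E : Subgroup G} {A B : Set G} {φ φ' ψ ψ' χ θ θ' : G → ℂ}

/-! ### Clifford's theorem -/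

theorem IsChar.cfdot_nat' (hHL : H ≤ L) (hφ : IsChar L φ) (hψ : IsChar H ψ) :
    ∃ n : ℕ, cfdot H φ ψ = n := by
  rw [← cfdot_cfRes_left]; exact (hφ.cfRes hHL).cfdot_nat hψ

theorem IsChar.cfdot_ne_zero_of_constt (hHL : H ≤ L) (hφ : IsChar L φ) (hχ : IsIrr L χ)
    (h : cfdot L φ χ ≠ 0) (hψ : IsChar H ψ) (h' : cfdot H χ ψ ≠ 0) : cfdot H φ ψ ≠ 0 := by
  obtain ⟨n, hn⟩ := (hφ.sub_constt hχ h).cfdot_nat' hHL hψ
  obtain ⟨m, hm⟩ := hχ.isChar.cfdot_nat' hHL hψ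
  rw [cfdot_sub_left, hm, sub_eq_iff_eq_add] at hn
  rw [hm] at h'
  rw [hn, ← Nat.cast_add, Nat.cast_ne_zero]
  have : m ≠ 0 := fun h0 => h' (by simp [h0])
  omega

theorem orthonormal'_of_irr {S : Finset (G → ℂ)} (h : ∀ α ∈ S, IsIrr L α) : Orthonormal' L S :=
  fun α hα β hβ => (h α hα).cfdot_eq (h β hβ)

open Classical in
theorem cfdot_sum_irr_finset {S : Finset (G → ℂ)} (h : ∀ α ∈ S, IsIrr L α) (hχ : IsIrr L χ) :
    cfdot L (∑ α ∈ S, α) χ = if χ ∈ S then 1 else 0 := by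
  rw [cfdot_sum_left, Finset.sum_congr rfl fun α hα => (h α hα).cfdot_eq hχ]
  simp

theorem cfInd_apply_normal (hHT : H ≤ T) (hHL : H ≤ L) (hn : L ≤ normalizer (H : Set G)) {g : G}
    (hg : g ∈ H) :
    cfInd T L φ g = (Nat.card T : ℂ)⁻¹ * ∑ x ∈ elems (L : Set G), cfConjg x φ g := by
  rw [cfInd_apply (hHL hg), ← sum_elems_inv]
  congr 1
  refine Finset.sum_congr rfl fun x hx => ?_
  rw [inv_inv, cfRes_apply (hHT ((norm_conj_mem' (hn (mem_elems.mp hx))).mpr hg)), cfConjg_apply]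

theorem cfdot_cfInd_normal (hHT : H ≤ T) (hHL : H ≤ L) (hn : L ≤ normalizer (H : Set G)) :
    cfdot H (cfInd T L φ) θ =
      (Nat.card T : ℂ)⁻¹ * ∑ x ∈ elems (L : Set G), cfdot H φ (cfConjg x θ) := by
  rw [cfdot_congr (φ' := (Nat.card T : ℂ)⁻¹ • ∑ x ∈ elems (L : Set G), cfConjg x φ) (ψ' := θ)
    (fun g hg => by rw [cfInd_apply_normal hHT hHL hn hg]; simp [Finset.sum_apply])
    (fun _ _ => rfl), cfdot_smul_left, cfdot_sum_left, ← sum_elems_inv]
  congr 1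
  refine Finset.sum_congr rfl fun x hx => ?_
  rw [← cfdot_cfConjg (hn (mem_elems.mp hx)), cfConjg_cfConjg_inv]

theorem cfRes_cfInd_normal (hHL : H ≤ L) (hn : L ≤ normalizer (H : Set G)) (hφ : φ ∈ CF H) :
    cfRes H (cfInd H L φ) = (Nat.card H : ℂ)⁻¹ • ∑ x ∈ elems (L : Set G), cfConjg x φ := by
  ext g
  by_cases hg : g ∈ H
  · rw [cfRes_apply hg, cfInd_apply_normal le_rfl hHL hn hg]; simp [Finset.sum_apply]
  · rw [cfRes_apply_of_notMem hg, Pi.smul_apply, Finset.sum_apply, Finset.sum_eq_zero, smul_zero]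
    intro x hx
    exact CF_zero hφ fun h => hg ((norm_conj_mem' (hn (mem_elems.mp hx))).mp h)

theorem cfdot_cfConjg_constt (hn : L ≤ normalizer (H : Set G)) (hχ : χ ∈ CF L) {x : G}
    (hx : x ∈ L) : cfdot H χ (cfConjg x θ) = cfdot H χ θ := by
  rw [← cfdot_cfConjg (φ := χ) (ψ := θ) (hn hx), cfConjg_of_mem hχ hx]

theorem mem_cfclass_of_constt (hHL : H ≤ L) (hn : L ≤ normalizer (H : Set G)) (hχ : IsIrr L χ)
    (hθ : IsIrr H θ) (hθ' : IsIrr H θ') (h : cfdot H χ θ ≠ 0) (h' : cfdot H χ θ' ≠ 0) :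
    θ' ∈ cfclass L θ := by
  have h1 : cfdot L (cfInd H L θ') χ ≠ 0 := by
    rwa [cfdot_cfInd_left hHL hχ.mem_CF, Ne, cfdot_eq_zero_comm]
  have h2 := (hθ'.isChar.cfInd hHL).cfdot_ne_zero_of_constt hHL hχ h1 hθ.isChar h
  rw [cfdot_cfInd_normal le_rfl hHL hn] at h2
  obtain ⟨x, hx, h3⟩ := Finset.exists_ne_zero_of_sum_ne_zero (right_ne_zero_of_mul h2)
  exact mem_cfclass.mpr ⟨x, mem_elems.mp hx,
    (hθ'.eq_of_cfdot_ne (hθ.cfConjg (hn (mem_elems.mp hx))) h3).symm⟩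

/-- Clifford's theorem. -/
theorem clifford_cfRes (hHL : H ≤ L) (hn : L ≤ normalizer (H : Set G)) (hχ : IsIrr L χ)
    (hθ : IsIrr H θ) (h : cfdot H χ θ ≠ 0) :
    cfRes H χ = cfdot H χ θ • ∑ ξ ∈ cfclass L θ, ξ := by
  classical
  have hc : ∀ ξ ∈ cfclass L θ, IsIrr H ξ := fun ξ hξ => hθ.of_mem_cfclass hn hξ
  refine CF_ext (cfRes_mem_CF hHL hχ.mem_CF)
    (Submodule.smul_mem _ _ (Submodule.sum_mem _ fun ξ hξ => (hc ξ hξ).mem_CF)) fun ξ hξ => ?_
  rw [cfdot_cfRes_left, cfdot_smul_left, cfdot_sum_irr_finset hc hξ]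
  split_ifs with h1
  · obtain ⟨x, hx, rfl⟩ := mem_cfclass.mp h1
    rw [cfdot_cfConjg_constt hn hχ.mem_CF hx, mul_one]
  · rw [mul_zero]
    by_contra h2
    exact h1 (mem_cfclass_of_constt hHL hn hχ hθ hξ h h2)

theorem clifford_one (hHL : H ≤ L) (hn : L ≤ normalizer (H : Set G)) (hχ : IsIrr L χ)
    (hθ : IsIrr H θ) (h : cfdot H χ θ ≠ 0) :
    χ 1 = cfdot H χ θ * (inertia θ).relIndex L * θ 1 := by
  have h1 := congrFun (clifford_cfRes hHL hn hχ hθ h) 1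
  rw [cfRes_one, Pi.smul_apply, Finset.sum_apply,
    Finset.sum_congr rfl fun ξ hξ => apply_one_of_mem_cfclass hξ, Finset.sum_const, card_cfclass]
    at h1
  rw [h1]; simp [mul_assoc]

theorem cfclass_of_invariant (hinv : L ≤ inertia θ) : cfclass L θ = {θ} := by
  ext ξ
  rw [Finset.mem_singleton, mem_cfclass]
  exact ⟨fun ⟨x, hx, h⟩ => h ▸ mem_inertia_iff.mp (hinv hx), fun h => ⟨1, L.one_mem, by simp [h]⟩⟩

theorem clifford_invariant (hHL : H ≤ L) (hn : L ≤ normalizer (H : Set G)) (hχ : IsIrr L χ)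
    (hθ : IsIrr H θ) (h : cfdot H χ θ ≠ 0) (hinv : L ≤ inertia θ) :
    cfRes H χ = cfdot H χ θ • θ := by
  rw [clifford_cfRes hHL hn hχ hθ h, cfclass_of_invariant hinv, Finset.sum_singleton]

theorem le_inertia_of_cfRes (hn : L ≤ normalizer (H : Set G)) (hχ : χ ∈ CF L) :
    L ≤ inertia (cfRes H χ) := by
  intro x hx
  rw [mem_inertia_iff, cfConjg_cfRes (hn hx), cfConjg_of_mem hχ hx]

theorem inertia_cfdot_cfInd' (hHT : H ≤ T) (hTL : T ≤ L) (hn : L ≤ normalizer (H : Set G))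
    (hθ : IsIrr H θ) (hI : L ⊓ inertia θ ≤ T) (hψ : IsIrr T ψ) (h : cfdot H ψ θ ≠ 0) :
    cfdot H (cfInd T L ψ) θ = cfdot H ψ θ := by
  rw [cfdot_cfInd_normal hHT (hHT.trans hTL) hn, ← Finset.sum_subset (s₁ := elems (T : Set G))
    (fun x hx => mem_elems.mpr (hTL (mem_elems.mp hx))),
    Finset.sum_congr rfl fun x hx => cfdot_cfConjg_constt (hTL.trans hn) hψ.mem_CF
      (mem_elems.mp hx), sum_elems_const, nsmul_eq_mul, inv_mul_cancel_left₀ (card_ne_zero T)]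
  intro x hx hxT
  by_contra h1
  have hx := mem_elems.mp hx
  obtain ⟨t, ht, h2⟩ := mem_cfclass.mp
    (mem_cfclass_of_constt hHT (hTL.trans hn) hψ hθ (hθ.cfConjg (hn hx)) h h1)
  have h3 : t⁻¹ * x ∈ T := hI ⟨L.mul_mem (L.inv_mem (hTL ht)) hx, mem_inertia_iff.mpr (by
    rw [cfConjg_mul, ← h2, cfConjg_inv_cfConjg])⟩
  exact hxT (mem_elems.mpr (by simpa using T.mul_mem ht h3))

theorem inertia_cfdot_cfInd_cfInd (hHT : H ≤ T) (hTL : T ≤ L) (hn : L ≤ normalizer (H : Set G))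
    (hθ : IsIrr H θ) (hI : L ⊓ inertia θ ≤ T) (hψ : IsIrr T ψ) (h : cfdot H ψ θ ≠ 0)
    (hψ' : IsIrr T ψ') (h' : cfdot H ψ' θ ≠ 0) :
    cfdot L (cfInd T L ψ) (cfInd T L ψ') = cfdot T ψ ψ' := by
  have h1 := (hψ.isChar.cfInd hTL).cfRes hTL
  have h2 : cfdot T (cfRes T (cfInd T L ψ)) ψ ≠ 0 := by
    rw [← cfdot_cfRes_cfInd hTL cfInd_mem_CF, Ne, cfdot_self_eq_zero cfInd_mem_CF]
    exact hψ.cfInd_ne_zero hTL
  have h3 := h1.sub_constt hψ h2
  have h4 : cfdot H (cfRes T (cfInd T L ψ) - ψ) θ = 0 := by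
    rw [cfdot_sub_left, ← cfdot_cfRes_left, cfRes_cfRes hHT, cfdot_cfRes_left,
      inertia_cfdot_cfInd' hHT hTL hn hθ hI hψ h, sub_self]
  have h5 : cfdot T (cfRes T (cfInd T L ψ) - ψ) ψ' = 0 := by
    by_contra h5
    exact h3.cfdot_ne_zero_of_constt hHT hψ' h5 hθ.isChar h' h4
  rwa [cfdot_sub_left, sub_eq_zero, ← cfdot_cfRes_cfInd hTL cfInd_mem_CF] at h5

/-- Clifford correspondence, irreducibility. -/
theorem inertia_cfInd_irr (hHT : H ≤ T) (hTL : T ≤ L) (hn : L ≤ normalizer (H : Set G))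
    (hθ : IsIrr H θ) (hI : L ⊓ inertia θ ≤ T) (hψ : IsIrr T ψ) (h : cfdot H ψ θ ≠ 0) :
    IsIrr L (cfInd T L ψ) := by
  refine (hψ.isChar.cfInd hTL).isIrr_of_cfdot ?_
  rw [inertia_cfdot_cfInd_cfInd hHT hTL hn hθ hI hψ h hψ h, hψ.cfdot_self]

/-- Clifford correspondence, multiplicities. -/
theorem inertia_cfdot_cfInd (hHT : H ≤ T) (hTL : T ≤ L) (hn : L ≤ normalizer (H : Set G))
    (hθ : IsIrr H θ) (hI : L ⊓ inertia θ ≤ T) (hψ : IsIrr T ψ) (h : cfdot H ψ θ ≠ 0) :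
    cfdot H (cfInd T L ψ) θ = cfdot H ψ θ := by
  exact inertia_cfdot_cfInd' hHT hTL hn hθ hI hψ h

/-- Clifford correspondence, injectivity. -/
theorem inertia_cfInd_inj (hHT : H ≤ T) (hTL : T ≤ L) (hn : L ≤ normalizer (H : Set G))
    (hθ : IsIrr H θ) (hI : L ⊓ inertia θ ≤ T) (hψ : IsIrr T ψ) (h : cfdot H ψ θ ≠ 0)
    (hψ' : IsIrr T ψ') (h' : cfdot H ψ' θ ≠ 0) (he : cfInd T L ψ = cfInd T L ψ') : ψ = ψ' := by
  refine hψ.eq_of_cfdot_ne hψ' ?_
  rw [← inertia_cfdot_cfInd_cfInd hHT hTL hn hθ hI hψ h hψ' h', ← he,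
    (inertia_cfInd_irr hHT hTL hn hθ hI hψ h).cfdot_self]
  exact one_ne_zero

theorem exists_irr_between (hHT : H ≤ T) (hTL : T ≤ L) (hχ : χ ∈ CF L) (h : cfdot H χ θ ≠ 0) :
    ∃ ψ, IsIrr T ψ ∧ cfdot T χ ψ ≠ 0 ∧ cfdot H ψ θ ≠ 0 := by
  have h1 : cfdot T (cfRes T χ) (cfInd H T θ) ≠ 0 := by
    rwa [cfdot_cfInd_right hHT (cfRes_mem_CF hTL hχ), ← cfdot_cfRes_left, cfRes_cfRes hHT,
      cfdot_cfRes_left]
  obtain ⟨ψ, hψ, h2, h3⟩ := exists_constt_of_cfdot_ne (cfRes_mem_CF hTL hχ) h1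
  refine ⟨ψ, hψ, by rwa [cfdot_cfRes_left] at h2, ?_⟩
  rwa [cfdot_cfInd_left hHT hψ.mem_CF, Ne, cfdot_eq_zero_comm] at h3

/-- Clifford correspondence, surjectivity. -/
theorem inertia_cfInd_surj (hHT : H ≤ T) (hTL : T ≤ L) (hn : L ≤ normalizer (H : Set G))
    (hθ : IsIrr H θ) (hI : L ⊓ inertia θ ≤ T) (hχ : IsIrr L χ) (h : cfdot H χ θ ≠ 0) :
    ∃ ψ, IsIrr T ψ ∧ cfdot H ψ θ ≠ 0 ∧ cfInd T L ψ = χ := by
  obtain ⟨ψ, hψ, h2, h3⟩ := exists_irr_between hHT hTL hχ.mem_CF h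
  refine ⟨ψ, hψ, h3, (inertia_cfInd_irr hHT hTL hn hθ hI hψ h3).eq_of_cfdot_ne hχ ?_⟩
  rwa [cfdot_cfInd_left hTL hχ.mem_CF, Ne, cfdot_eq_zero_comm]

/-! ### Gallagher's theorem -/

open Classical in
theorem cfInd_cf1_eq_sum (hHL : H ≤ L) (hn : L ≤ normalizer (H : Set G)) :
    cfInd H L (cf1 H) =
      ∑ β ∈ Finset.univ.filter (fun β : Irr L => H ≤ cfker L β), β 1 • (β : G → ℂ) := by
  ext g
  rw [cfInd_cf1_normal hHL hn, Finset.sum_apply]
  simp only [Pi.smul_apply, smul_eq_mul]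
  rw [sum_irr_ker_mul hHL hn]
  split_ifs with hg
  · rw [cf1_apply hg, mul_one]
  · rw [cf1_apply_of_notMem hg, mul_zero]

open Classical in
theorem gallagher_cfInd' (hHL : H ≤ L) (hn : L ≤ normalizer (H : Set G)) (hχ : χ ∈ CF L) :
    cfInd H L (cfRes H χ) =
      ∑ β ∈ Finset.univ.filter (fun β : Irr L => H ≤ cfker L β), β 1 • (β * χ) := by
  rw [← cf1_mul (cfRes_mem_CF hHL hχ), cfInd_mul_cfRes hHL hχ, cfInd_cf1_eq_sum hHL hn,
    Finset.sum_mul]
  simp only [smul_mul_assoc]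

open Classical in
theorem gallagher_cfdot (hHL : H ≤ L) (hχ : IsChar L χ) (hθ : IsIrr H (cfRes H χ))
    (hn : L ≤ normalizer (H : Set G)) {β β' : Irr L} (hk : H ≤ cfker L β) (hk' : H ≤ cfker L β') :
    cfdot L (β * χ) (β' * χ) = if β = β' then 1 else 0 := by
  set S := Finset.univ.filter (fun β : Irr L => H ≤ cfker L β) with hS
  choose n hn' using fun β β' : Irr L => (β.isChar.mul hχ).cfdot_nat (β'.isChar.mul hχ)
  choose d hd hd' using fun β : Irr L => β.irr.exists_nat_one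
  have h0 : χ 1 ≠ 0 := by simpa using hθ.one_ne_zero
  have h1 : ∀ β, 1 ≤ n β β := fun β => by
    rw [Nat.one_le_iff_ne_zero]
    intro h
    have := hn' β β
    rw [h, Nat.cast_zero, cfdot_self_eq_zero (β.isChar.mul hχ).mem_CF] at this
    exact mul_ne_zero β.irr.one_ne_zero h0 (congrFun this 1)
  have h2 : cfdot L (cfInd H L (cfRes H χ)) (cfInd H L (cfRes H χ)) = H.relIndex L := by
    rw [cfdot_cfInd_left hHL cfInd_mem_CF,
      cfInd_of_invariant hHL hn hθ.mem_CF (le_inertia_of_cfRes hn hχ.mem_CF),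
      cfdot_natCast_smul_right, hθ.cfdot_self, mul_one]
  have h3 : ∑ β ∈ S, ∑ β' ∈ S, d β * d β' * (if β = β' then 1 else 0) =
      ∑ β ∈ S, ∑ β' ∈ S, d β * d β' * n β β' := by
    have h4 := sum_irr_ker_sq hHL hn
    rw [← h2, gallagher_cfInd' hHL hn hχ.mem_CF, ← hS, cfdot_sum_left] at h4
    simp only [cfdot_sum_right, cfdot_smul_left, hd', cfdot_natCast_smul_right, hn'] at h4
    have h5 : ∀ β ∈ S, ∑ β' ∈ S, d β * d β' * (if β = β' then 1 else 0) = d β ^ 2 := by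
      intro β hβ
      simp [hβ, pow_two]
    rw [Finset.sum_congr rfl h5]
    simp only [← mul_assoc, mul_comm (d _ : ℂ) (d _ : ℂ)] at h4
    refine Nat.cast_injective (R := ℂ) ?_
    push_cast
    rw [h4]
  have h6 : ∀ β β', d β * d β' * (if β = β' then 1 else 0) ≤ d β * d β' * n β β' := by
    intro β β'
    refine Nat.mul_le_mul_left _ ?_
    split_ifs with h
    · exact h ▸ h1 β
    · exact Nat.zero_le _
  have h7 := (Finset.sum_eq_sum_iff_of_le fun β' _ => h6 β β').mp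
    ((Finset.sum_eq_sum_iff_of_le fun β _ => Finset.sum_le_sum fun β' _ => h6 β β').mp h3 β
      (by simp [hS, hk])) β' (by simp [hS, hk'])
  rw [hn', ← Nat.eq_of_mul_eq_mul_left (Nat.mul_pos (hd β) (hd β')) h7]
  simp

theorem gallagher_irr (hHL : H ≤ L) (hχ : IsChar L χ) (hθ : IsIrr H (cfRes H χ))
    {β : G → ℂ} (hβ : IsIrr L β) (hk : H ≤ cfker L β) (hn : L ≤ normalizer (H : Set G)) :
    IsIrr L (β * χ) := by
  refine (hβ.isChar.mul hχ).isIrr_of_cfdot ?_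
  exact (gallagher_cfdot hHL hχ hθ hn (β := ⟨β, hβ⟩) (β' := ⟨β, hβ⟩) hk hk).trans (if_pos rfl)

theorem gallagher_inj (hHL : H ≤ L) (hχ : IsChar L χ) (hθ : IsIrr H (cfRes H χ))
    {β β' : G → ℂ} (hβ : IsIrr L β) (hk : H ≤ cfker L β) (hβ' : IsIrr L β')
    (hk' : H ≤ cfker L β') (hn : L ≤ normalizer (H : Set G)) (h : β * χ = β' * χ) : β = β' := by
  by_contra h2
  have h1 := (gallagher_cfdot hHL hχ hθ hn (β := ⟨β, hβ⟩) (β' := ⟨β', hβ'⟩) hk hk').trans
    (if_neg fun h3 => h2 (congrArg Subtype.val h3))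
  change cfdot L (β * χ) (β' * χ) = 0 at h1
  rw [← h, (gallagher_irr hHL hχ hθ hβ hk hn).cfdot_self] at h1
  exact one_ne_zero h1

open Classical in
theorem gallagher_cfInd (hHL : H ≤ L) (hn : L ≤ normalizer (H : Set G)) (hχ : χ ∈ CF L) :
    cfInd H L (cfRes H χ) =
      ∑ β ∈ Finset.univ.filter (fun β : Irr L => H ≤ cfker L β), β 1 • (β * χ) := by
  exact gallagher_cfInd' hHL hn hχ

theorem gallagher_surj (hHL : H ≤ L) (hn : L ≤ normalizer (H : Set G)) (hχ : IsChar L χ)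
    (hθ : IsIrr H (cfRes H χ)) (hψ : IsIrr L ψ) (h : cfdot H ψ χ ≠ 0) :
    ∃ β, IsIrr L β ∧ H ≤ cfker L β ∧ ψ = β * χ := by
  classical
  rw [← cfdot_cfRes_right, ← cfdot_cfInd_right hHL hψ.mem_CF, gallagher_cfInd hHL hn hχ.mem_CF,
    cfdot_sum_right] at h
  obtain ⟨β, hβ, h1⟩ := Finset.exists_ne_zero_of_sum_ne_zero h
  have hk := (Finset.mem_filter.mp hβ).2
  rw [cfdot_smul_right] at h1
  exact ⟨β, β.irr, hk, hψ.eq_of_cfdot_ne (gallagher_irr hHL hχ hθ β.irr hk hn)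
    (right_ne_zero_of_mul h1)⟩

/-! ### Extension theorems -/

theorem IsIrr.eq_of_cfRes_eq_smul {c : ℂ} (hθ : IsIrr H θ) (h : cfRes H χ = c • θ) :
    cfdot H χ θ = c := by
  rw [← cfdot_cfRes_left, h, cfdot_smul_left, hθ.cfdot_self, mul_one]

theorem cfRes_mul_of_le_cfker {β : G → ℂ} (hβ : IsLin L β) (hk : H ≤ cfker L β) :
    cfRes H (β * χ) = cfRes H χ :=
  cfRes_congr fun x hx => by rw [Pi.mul_apply, cfker_apply (hk hx), hβ.one, one_mul]

theorem exists_lin_mul_of_invariant (hHL : H ≤ L) (hab : ⁅L, L⁆ ≤ H) (hθ : IsIrr H θ)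
    (hinv : L ≤ inertia θ) (hχ : IsIrr L χ) (h : cfdot H χ θ ≠ 0) (hψ : IsIrr L ψ)
    (h' : cfdot H ψ θ ≠ 0) : ∃ β, IsLin L β ∧ H ≤ cfker L β ∧ ψ = β * χ := by
  classical
  have hn := le_normalizer_of_commutator_le hab hHL
  have h1 : cfdot H ψ (cfRes H χ) ≠ 0 := by
    rw [clifford_invariant hHL hn hχ hθ h hinv, cfdot_smul_right]
    exact mul_ne_zero ((map_ne_zero _).mpr h) h'
  rw [← cfdot_cfInd_right hHL hψ.mem_CF, gallagher_cfInd hHL hn hχ.mem_CF, cfdot_sum_right] at h1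
  obtain ⟨β, hβ, h1⟩ := Finset.exists_ne_zero_of_sum_ne_zero h1
  have hk := (Finset.mem_filter.mp hβ).2
  have hl := β.irr.isLin_of_commutator_le (hab.trans hk)
  rw [cfdot_smul_right] at h1
  exact ⟨β, hl, hk, hψ.eq_of_cfdot_ne (hl.mul_irr hχ) (right_ne_zero_of_mul h1)⟩

theorem cfInd_central_invariant (hHL : H ≤ L) (hab : ⁅L, L⁆ ≤ H) (hθ : IsIrr H θ)
    (hinv : L ≤ inertia θ) :
    ∃ e : ℕ, 0 < e ∧ (∀ χ, IsIrr L χ → cfdot H χ θ ≠ 0 → cfRes H χ = (e : ℂ) • θ) ∧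
      cfInd H L θ = (e : ℂ) • ∑ χ ∈ irrConstt L (cfInd H L θ), (χ : G → ℂ) ∧
      e ^ 2 * (irrConstt L (cfInd H L θ)).card = H.relIndex L := by
  have hn := le_normalizer_of_commutator_le hab hHL
  obtain ⟨χ, hχ, h⟩ := exists_irr_over hHL hθ
  obtain ⟨e, he⟩ := hχ.isChar.cfdot_nat' hHL hθ.isChar
  have h1 : ∀ ψ, IsIrr L ψ → cfdot H ψ θ ≠ 0 → cfRes H ψ = (e : ℂ) • θ := by
    intro ψ hψ h'
    obtain ⟨β, hβ, hk, rfl⟩ := exists_lin_mul_of_invariant hHL hab hθ hinv hχ h hψ h'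
    rw [cfRes_mul_of_le_cfker hβ hk, clifford_invariant hHL hn hχ hθ h hinv, he]
  have h2 : ∀ ψ ∈ irrConstt L (cfInd H L θ), cfdot L (cfInd H L θ) ψ = e := by
    intro ψ hψ
    rw [mem_irrConstt, cfdot_cfInd_left hHL ψ.mem_CF, Ne, cfdot_eq_zero_comm] at hψ
    rw [cfdot_cfInd_left hHL ψ.mem_CF, ← cfdot_conj, hθ.eq_of_cfRes_eq_smul (h1 ψ ψ.irr hψ)]
    simp
  have h3 : cfInd H L θ = (e : ℂ) • ∑ χ ∈ irrConstt L (cfInd H L θ), (χ : G → ℂ) := by
    conv_lhs => rw [cfun_sum_constt (cfInd_mem_CF (H := H) (L := L) (φ := θ))]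
    rw [Finset.smul_sum]
    exact Finset.sum_congr rfl fun ψ hψ => by rw [h2 ψ hψ]
  refine ⟨e, Nat.pos_of_ne_zero fun h0 => h (by simp [he, h0]), h1, h3, ?_⟩
  have h4 : cfdot L (cfInd H L θ) (cfInd H L θ) = H.relIndex L := by
    rw [cfdot_cfInd_left hHL cfInd_mem_CF, cfInd_of_invariant hHL hn hθ.mem_CF hinv,
      cfdot_natCast_smul_right, hθ.cfdot_self, mul_one]
  nth_rewrite 2 [h3] at h4
  rw [cfdot_natCast_smul_right, cfdot_sum_right, Finset.sum_congr rfl h2, Finset.sum_const] at h4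
  refine Nat.cast_injective (R := ℂ) ?_
  rw [← h4]; push_cast; rw [nsmul_eq_mul]; ring

/-- An invariant irreducible character of a normal subgroup of prime index extends. -/
theorem prime_invariant_irr_extendible (hHL : H ≤ L) (hn : L ≤ normalizer (H : Set G))
    (hp : (H.relIndex L).Prime) (hθ : IsIrr H θ) (hinv : L ≤ inertia θ) :
    ∃ χ, IsIrr L χ ∧ cfRes H χ = θ := by
  obtain ⟨e, -, h1, -, h2⟩ :=
    cfInd_central_invariant hHL (commutator_le_of_prime_relIndex hn hp) hθ hinv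
  have h3 : e = 1 := by
    rw [← h2, pow_two, mul_assoc] at hp
    rcases (Nat.prime_mul_iff.mp hp) with h | h
    · exact (Nat.eq_one_of_mul_eq_one_right h.2)
    · exact h.2
  obtain ⟨χ, hχ, h⟩ := exists_irr_over hHL hθ
  exact ⟨χ, hχ, by rw [h1 χ hχ h, h3, Nat.cast_one, one_smul]⟩

theorem cfRes_prime_irr_cases (hHL : H ≤ L) (hn : L ≤ normalizer (H : Set G))
    (hp : (H.relIndex L).Prime) (hχ : IsIrr L χ) :
    IsIrr H (cfRes H χ) ∨ ∃ θ, IsIrr H θ ∧ cfInd H L θ = χ := by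
  obtain ⟨θ, hθ, h⟩ := exists_irr_under hHL hχ
  rcases eq_or_eq_of_prime_relIndex hp (K := L ⊓ inertia θ)
    (le_inf hHL (le_inertia hθ.mem_CF)) inf_le_left with h1 | h1
  · obtain ⟨ψ, hψ, -, h2⟩ := inertia_cfInd_surj le_rfl hHL hn hθ h1.le hχ h
    exact Or.inr ⟨ψ, hψ, h2⟩
  · have hinv : L ≤ inertia θ := h1 ▸ inf_le_right
    obtain ⟨ψ, hψ, h2⟩ := prime_invariant_irr_extendible hHL hn hp hθ hinv
    obtain ⟨β, hβ, hk, rfl⟩ := exists_lin_mul_of_invariant hHL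
      (commutator_le_of_prime_relIndex hn hp) hθ hinv hψ
      (by rw [← cfdot_cfRes_left, h2, hθ.cfdot_self]; exact one_ne_zero) hχ h
    rw [cfRes_mul_of_le_cfker hβ hk, h2]
    exact Or.inl hθ

/-- An invariant linear character of a normal subgroup with a complement extends. -/
theorem extend_lin_sdprod (hc : IsComplIn H E L) (hn : L ≤ normalizer (H : Set G))
    (hθ : IsLin H θ) (hinv : L ≤ inertia θ) :
    ∃ χ, IsLin L χ ∧ E ≤ cfker L χ ∧ cfRes H χ = θ := by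
  have h1 : IsLin L (cfProd H E θ (cf1 E)) := by
    refine isLin_of_mul (fun x hx => cfProd_apply_of_notMem hc hx)
      (by rw [cfProd_one hc.2.2.1, hθ.one, cf1_one, one_mul]) fun x hx y hy => ?_
    obtain ⟨h, hh, e, he, rfl⟩ := hc.2.2.2 x hx
    obtain ⟨h', hh', e', he', rfl⟩ := hc.2.2.2 y hy
    have h2 : e * h' * e⁻¹ ∈ H := (norm_conj_mem (hn (hc.2.1 he))).mpr hh'
    rw [show h * e * (h' * e') = h * (e * h' * e⁻¹) * (e * e') by group,
      cfProd_apply hc.2.2.1 (H.mul_mem hh h2) (E.mul_mem he he'), cfProd_apply hc.2.2.1 hh he,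
      cfProd_apply hc.2.2.1 hh' he', hθ.map_mul hh h2, mem_inertia.mp (hinv (hc.2.1 he)),
      cf1_apply he, cf1_apply he', cf1_apply (E.mul_mem he he')]
    ring
  refine ⟨_, h1, (h1.isChar.le_cfker hc.2.1).mpr fun x hx => ?_, ?_⟩
  · rw [h1.one, ← one_mul x, cfProd_apply hc.2.2.1 H.one_mem hx, hθ.one, cf1_apply hx, one_mul]
  · rw [cfRes_cfProd_left hc.2.2.1 hθ.isChar.2, cf1_one, one_smul]

theorem eqAmod_add_pow {p : ℕ} (hp : p.Prime) {a b : ℂ} (ha : IsIntegral ℤ a)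
    (hb : IsIntegral ℤ b) : EqAmod p ((a + b) ^ p) (a ^ p + b ^ p) := by
  obtain ⟨r, hr⟩ := exists_add_pow_prime_eq hp (⟨a, ha⟩ : integralClosure ℤ ℂ) ⟨b, hb⟩
  have := congrArg Subtype.val hr
  refine ⟨a * b * r, (ha.mul hb).mul r.2, ?_⟩
  push_cast at this
  rw [this]; ring

theorem eqAmod_sum_pow {p : ℕ} (hp : p.Prime) {ι : Type*} (s : Finset ι) {f : ι → ℂ}
    (hf : ∀ i, IsIntegral ℤ (f i)) : EqAmod p ((∑ i ∈ s, f i) ^ p) (∑ i ∈ s, f i ^ p) := by
  classical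
  induction s using Finset.induction_on with
  | empty => simp [hp.ne_zero, EqAmod.refl]
  | insert a s ha ih =>
    rw [Finset.sum_insert ha, Finset.sum_insert ha]
    exact (eqAmod_add_pow hp (hf a) (IsIntegral.sum _ fun i _ => hf i)).trans
      ((EqAmod.refl _ _).add ih)

theorem EqAmod.pow {e a b : ℂ} (h : EqAmod e a b) (ha : IsIntegral ℤ a) (hb : IsIntegral ℤ b)
    (n : ℕ) : EqAmod e (a ^ n) (b ^ n) := by
  induction n with
  | zero => simpa using EqAmod.refl _ _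
  | succ n ih => rw [pow_succ, pow_succ]; exact ih.mul h (ha.pow n) hb

theorem IsChar.pow_prime_mod (h : IsChar L χ) {p : ℕ} (hp : p.Prime) {x : G} (hx : x ∈ L) :
    EqAmod p (χ x ^ p) (χ (x ^ p)) := by
  obtain ⟨n, ε, h1, h2⟩ := h.exists_eigen hx
  have h3 := h2 1
  simp only [pow_one] at h3
  rw [h3, h2 p]
  refine eqAmod_sum_pow hp _ fun i => ?_
  exact IsIntegral.of_pow (orderOf_pos x) (by rw [h1 i]; exact isIntegral_one)

/-- `χ(x)^p ≡ χ(x^p) (mod p)`. -/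
theorem ZIrr_pow_prime_mod (h : φ ∈ ZIrr L) {p : ℕ} (hp : p.Prime) {x : G} (hx : x ∈ L) :
    EqAmod p (φ x ^ p) (φ (x ^ p)) := by
  have h0 := ZIrr_isIntegral h x
  obtain ⟨χ, ψ, hχ, hψ, rfl⟩ := mem_ZIrr_iff_sub.mp h
  have h1 := eqAmod_add_pow hp h0 (hψ.isIntegral x)
  rw [Pi.sub_apply, sub_add_cancel] at h1
  have h2 := (h1.symm.trans (hχ.pow_prime_mod hp hx)).sub (hψ.pow_prime_mod hp hx)
  rwa [add_sub_cancel_right] at h2

theorem ZIrr_ne_zero_of_prime_pow (h : φ ∈ ZIrr L) {p k : ℕ} (hp : p.Prime) {x : G} (hx : x ∈ L)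
    (ho : x ^ p ^ k = 1) {n : ℤ} (hn : φ 1 = n) (hpn : ¬ (p : ℤ) ∣ n) : φ x ≠ 0 := by
  have h1 : ∀ k : ℕ, EqAmod p (φ x ^ p ^ k) (φ (x ^ p ^ k)) := by
    intro k
    induction k with
    | zero => simpa using EqAmod.refl _ _
    | succ k ih =>
      rw [pow_succ, pow_mul, pow_mul]
      exact (ih.pow ((ZIrr_isIntegral h x).pow _) (ZIrr_isIntegral h _) p).trans
        (ZIrr_pow_prime_mod h hp (L.pow_mem hx _))
  intro h0
  have h2 := (h1 k).symm
  rw [h0, ho, hn, zero_pow (pow_ne_zero _ hp.ne_zero), ← Int.cast_zero, eqAmod_nat_iff,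
    sub_zero] at h2
  exact hpn h2

theorem le_inertia_of_extend_coprime (hHK : H ≤ K) (hKL : K ≤ L) (hab : ⁅L, L⁆ ≤ H)
    (hcop : (Nat.card H).Coprime (H.relIndex L)) (hθ : IsIrr H θ) (hinv : L ≤ inertia θ)
    (hψ : IsIrr K ψ) (hres : cfRes H ψ = θ) : L ≤ inertia ψ := by
  have hHL := hHK.trans hKL
  have hn := le_normalizer_of_commutator_le hab hHL
  have hnK := le_normalizer_of_commutator_le (hab.trans hHK) hKL
  obtain ⟨A, hA⟩ := exists_isComplIn_of_coprime hHL hn hcop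
  have hAc : ∀ a ∈ A, ∀ b ∈ A, a * b = b * a := by
    intro a ha b hb
    rw [← commutatorElement_eq_one_iff_mul_comm, ← mem_bot, ← hA.2.2.1]
    exact ⟨hab (commutator_mem_commutator (hA.2.1 ha) (hA.2.1 hb)),
      A.mul_mem (A.mul_mem (A.mul_mem ha hb) (A.inv_mem ha)) (A.inv_mem hb)⟩
  have hA' : A ≤ inertia ψ := by
    intro a ha
    have haL := hA.2.1 ha
    have h1 : cfRes H (cfConjg a ψ) = θ := by
      rw [← cfConjg_cfRes (hn haL), hres, mem_inertia_iff.mp (hinv haL)]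
    obtain ⟨β, hβ, hk, h2⟩ := exists_lin_mul_of_invariant hHK
      ((commutator_mono hKL hKL).trans hab) hθ (hKL.trans hinv) hψ
      (by rw [← cfdot_cfRes_left, hres, hθ.cfdot_self]; exact one_ne_zero)
      (hψ.cfConjg (hnK haL)) (by rw [← cfdot_cfRes_left, h1, hθ.cfdot_self]; exact one_ne_zero)
    have h3 : K ⊓ A ≤ cfker K β := by
      refine le_of_forall_primePow_mem fun b hb p k hp ho => ?_
      rcases Nat.eq_zero_or_pos k with rfl | hk0
      · rw [pow_zero, orderOf_eq_one_iff] at ho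
        rw [ho]; exact one_mem _
      obtain ⟨n, -, hn1⟩ := hθ.exists_nat_one
      have h4 : ψ b ≠ 0 := by
        refine ZIrr_ne_zero_of_prime_pow hψ.mem_ZIrr hp hb.1 (ho ▸ pow_orderOf_eq_one b) (n := n)
          (by rw [← cfRes_one (H := H) (φ := ψ), hres, hn1, Int.cast_natCast]) fun hd => ?_
        have h5 : p ∣ Nat.card H := (Int.natCast_dvd_natCast.mp hd).trans (hθ.degree_dvd_card hn1)
        have h6 : p ∣ H.relIndex L := by
          rw [IsComplIn_relIndex hA]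
          exact (dvd_pow_self p hk0.ne').trans (ho ▸ orderOf_dvd_card_of_mem hb.2)
        exact hp.one_lt.ne' (Nat.eq_one_of_dvd_coprimes hcop h5 h6)
      have h5 := congrFun h2 b
      rw [cfConjg_apply, mul_assoc, ← hAc a ha b hb.2, inv_mul_cancel_left, Pi.mul_apply] at h5
      refine hβ.isChar.mem_cfker.mpr ⟨hb.1, ?_⟩
      rw [hβ.one]
      exact mul_right_cancel₀ h4 (by rw [← h5, one_mul])
    have h4 : β = cf1 K := by
      refine hβ.isIrr.eq_cf1_iff.mpr fun x hx => ?_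
      obtain ⟨h, hh, b, hb, rfl⟩ := hA.2.2.2 x (hKL hx)
      exact mul_mem (hk hh) (h3 ⟨(K.mul_mem_cancel_left (hHK hh)).mp hx, hb⟩)
    rw [mem_inertia_iff, h2, h4, cf1_mul hψ.mem_CF]
  intro x hx
  obtain ⟨h, hh, b, hb, rfl⟩ := hA.2.2.2 x hx
  exact mul_mem (le_inertia hψ.mem_CF (hHK hh)) (hA' hb)

/-- An invariant irreducible character of a normal Hall subgroup with abelian quotient
extends. -/
theorem extend_coprime_abelian_irr (hHL : H ≤ L) (hab : ⁅L, L⁆ ≤ H)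
    (hcop : (Nat.card H).Coprime (H.relIndex L)) (hθ : IsIrr H θ) (hinv : L ≤ inertia θ) :
    ∃ χ, IsIrr L χ ∧ cfRes H χ = θ := by
  have key : ∀ K : Subgroup G, H ≤ K → K ≤ L → ∀ ψ, IsIrr K ψ → cfRes H ψ = θ →
      ∃ χ, IsIrr L χ ∧ cfRes H χ = θ := by
    intro K
    induction K using WellFoundedGT.induction with
    | ind K ih =>
      intro hHK hKL ψ hψ hres
      rcases hKL.eq_or_lt with rfl | hlt
      · exact ⟨ψ, hψ, hres⟩
      have hnK := le_normalizer_of_commutator_le (hab.trans hHK) hKL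
      obtain ⟨K', h1, h2, h3⟩ := exists_prime_relIndex_above hnK hlt
      obtain ⟨ψ', hψ', h4⟩ := prime_invariant_irr_extendible h1 (h2.trans hnK) h3 hψ
        (h2.trans (le_inertia_of_extend_coprime hHK hKL hab hcop hθ hinv hψ hres))
      refine ih K' (lt_of_le_of_ne h1 ?_) (hHK.trans h1) h2 ψ' hψ' ?_
      · rintro rfl
        rw [relIndex_self] at h3
        exact Nat.not_prime_one h3
      · rw [← cfRes_cfRes hHK, h4, hres]
  exact key H le_rfl hHL θ hθ (cfRes_self hθ.mem_CF)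

/-! ### Brauer's permutation lemma -/

open Classical in
theorem card_filter_conj_eq {x z : G} (hz : z ∈ L) :
    ((elems (L : Set G)).filter fun y => y * x * y⁻¹ = z * x * z⁻¹).card =
      Nat.card ↥(L ⊓ centralizer ({x} : Set G)) := by
  rw [← card_elems]
  refine Finset.card_bij' (fun y _ => z⁻¹ * y) (fun y _ => z * y) (fun y hy => ?_)
    (fun y hy => ?_) (fun y _ => by group) (fun y _ => by group)
  · obtain ⟨h1, h2⟩ := Finset.mem_filter.mp hy
    refine mem_elems.mpr ⟨L.mul_mem (L.inv_mem hz) (mem_elems.mp h1),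
      mem_centralizer_singleton_iff.mpr ?_⟩
    calc z⁻¹ * y * x = z⁻¹ * (y * x * y⁻¹) * y := by group
      _ = x * (z⁻¹ * y) := by rw [h2]; group
  · obtain ⟨h1, h2⟩ := mem_elems.mp hy
    refine Finset.mem_filter.mpr ⟨mem_elems.mpr (L.mul_mem hz h1), ?_⟩
    rw [mul_assoc z, mem_centralizer_singleton_iff.mp h2]; group

open Classical in
theorem sum_irr_conj_mul_card {x : G} (hx : x ∈ L) (y : G) :
    ∑ χ : Irr L, conj (χ x) * χ y =
      ((elems (L : Set G)).filter fun z => z * x * z⁻¹ = y).card := by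
  by_cases h : ∃ z ∈ L, z * x * z⁻¹ = y
  · obtain ⟨z, hz, rfl⟩ := h
    rw [card_filter_conj_eq hz, ← sum_irr_conj_mul_self' hx]
    exact Finset.sum_congr rfl fun χ _ => by rw [CF_conj χ.mem_CF hz]
  · push Not at h
    rw [sum_irr_conj_mul_of_not_conj hx h, Finset.filter_eq_empty_iff.mpr
      fun z hz => h z (mem_elems.mp hz)]
    simp

open Classical in
theorem cfdot_cfConjg_irr (hθ : IsIrr H θ) {x : G} (hx : x ∈ normalizer (H : Set G)) :
    cfdot H (cfConjg x θ) θ = if x ∈ inertia θ then 1 else 0 := by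
  rw [(hθ.cfConjg hx).cfdot_eq hθ]
  simp only [mem_inertia_iff]

open Classical in
theorem card_filter_inertia_eq {x : G} (hx : x ∈ normalizer (H : Set G)) (S : Finset (Irr H)) :
    (Nat.card H : ℂ) * (S.filter fun χ : Irr H => x ∈ inertia χ).card =
      ∑ h ∈ elems (H : Set G), ∑ χ ∈ S, conj (χ h) * χ (x⁻¹ * h * x) := by
  rw [Finset.card_filter, Nat.cast_sum, Finset.sum_comm, Finset.mul_sum]
  refine Finset.sum_congr rfl fun χ _ => ?_
  have := cfdot_cfConjg_irr χ.irr hx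
  rw [Nat.cast_ite, Nat.cast_one, Nat.cast_zero, ← this, cfdot,
    mul_inv_cancel_left₀ (card_ne_zero H)]
  exact Finset.sum_congr rfl fun h _ => by rw [cfConjg_apply, mul_comm]

open Classical in
theorem card_mul_card_inertia {x : G} (hx : x ∈ normalizer (H : Set G)) :
    Nat.card H * (Finset.univ.filter fun χ : Irr H => x ∈ inertia χ).card =
      ∑ y ∈ elems (H : Set G), Nat.card ↥(H ⊓ centralizer ({x * y} : Set G)) := by
  refine Nat.cast_injective (R := ℂ) ?_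
  rw [Nat.cast_mul, card_filter_inertia_eq hx,
    Finset.sum_congr rfl fun h hh => sum_irr_conj_mul_card (mem_elems.mp hh) _, ← Nat.cast_sum]
  congr 1
  simp only [Finset.card_filter]
  rw [Finset.sum_comm]
  refine Finset.sum_congr rfl fun y _ => ?_
  rw [← Finset.card_filter, ← card_elems]
  congr 1
  ext h
  simp only [Finset.mem_filter, mem_elems, SetLike.mem_coe, mem_inf, mem_centralizer_singleton_iff]
  refine and_congr_right fun _ => ⟨fun h1 => ?_, fun h1 => ?_⟩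
  · calc h * (x * y) = x * (x⁻¹ * h * x) * y := by group
      _ = x * y * h := by rw [← h1]; group
  · calc y * h * y⁻¹ = x⁻¹ * (x * y * h) * y⁻¹ := by group
      _ = x⁻¹ * h * x := by rw [← h1]; group

theorem card_inf_centralizer_conj {y : G} (hy : y ∈ normalizer (H : Set G)) (x : G) :
    Nat.card ↥(H ⊓ centralizer ({y * x * y⁻¹} : Set G)) =
      Nat.card ↥(H ⊓ centralizer ({x} : Set G)) := by
  rw [Frob.centralizer_conj_singleton]
  conv_lhs => rw [← map_conj_eq_of_mem_normalizer hy]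
  rw [← Subgroup.map_inf _ _ _ (MulAut.conj y).injective,
    card_map_of_injective (MulAut.conj y).injective]

open Classical in
/-- Brauer's permutation lemma. -/
theorem card_inertia_eq_card_classes {x : G} (hx : x ∈ normalizer (H : Set G)) :
    (Finset.univ.filter fun χ : Irr H => x ∈ inertia χ).card =
      Nat.card {C : ConjClasses H // ∀ h : H, ConjClasses.mk h = C →
        ∃ y ∈ H, x * h * x⁻¹ = y * h * y⁻¹} := by
  set P : ConjClasses H → Prop := fun C => ∀ h : H, ConjClasses.mk h = C →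
    ∃ y ∈ H, x * h * x⁻¹ = y * h * y⁻¹ with hP
  have hP' : ∀ h : H, P (ConjClasses.mk h) ↔ ∃ y ∈ H, y * h * y⁻¹ = x⁻¹ * h * x := by
    intro h
    constructor
    · intro h1
      obtain ⟨y, hy, h2⟩ := h1 h rfl
      refine ⟨x⁻¹ * y⁻¹ * x, (norm_conj_mem' hx).mpr (H.inv_mem hy), ?_⟩
      calc x⁻¹ * y⁻¹ * x * h * (x⁻¹ * y⁻¹ * x)⁻¹ = x⁻¹ * y⁻¹ * (x * h * x⁻¹) * y * x := by group
        _ = _ := by rw [h2]; group
    · rintro ⟨y, hy, h1⟩ h' h2
      obtain ⟨z, hz⟩ := isConj_iff.mp (ConjClasses.mk_eq_mk_iff_isConj.mp h2.symm)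
      have h3 : (h' : G) = z * h * (z : G)⁻¹ := by rw [← hz]; rfl
      refine ⟨x * z * y⁻¹ * x⁻¹ * (z : G)⁻¹,
        H.mul_mem (by
          rw [mul_assoc x]
          exact (norm_conj_mem hx).mpr (H.mul_mem z.2 (H.inv_mem hy))) (H.inv_mem z.2), ?_⟩
      have h4 : (h : G) = y⁻¹ * (x⁻¹ * h * x) * y := by rw [← h1]; group
      rw [h3]
      nth_rewrite 1 [h4]
      group
  refine Nat.eq_of_mul_eq_mul_left (Nat.card_pos (α := H)) (Nat.cast_injective (R := ℂ) ?_)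
  rw [Nat.cast_mul, card_filter_inertia_eq hx,
    Finset.sum_congr rfl fun h hh => sum_irr_conj_mul_card (mem_elems.mp hh) _, ← Nat.cast_sum,
    sum_elems_eq_sum_subtype, Nat.cast_inj, ← Finset.sum_fiberwise (g := ConjClasses.mk),
    Nat.card_eq_fintype_card (α := {C // P C}), Fintype.card_subtype, Finset.card_filter,
    Finset.mul_sum]
  refine Finset.sum_congr rfl fun C _ => ?_
  obtain ⟨c, rfl⟩ := ConjClasses.mk_surjective C
  rw [Finset.sum_congr rfl (g := fun _ => if P (ConjClasses.mk c) then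
    Nat.card (centralizer ({c} : Set H)) else 0)]
  · rw [Finset.sum_const, smul_eq_mul]
    split_ifs
    · rw [mul_one, ← index_mul_card (centralizer ({c} : Set H)),
        Frob.index_centralizer_eq_card_carrier,
        Nat.card_eq_fintype_card (α := (ConjClasses.mk c).carrier), Fintype.card_subtype]
      congr 2
      ext i
      simp [ConjClasses.mem_carrier_iff_mk_eq]
    · simp
  · intro h hh
    have h1 := (Finset.mem_filter.mp hh).2
    obtain ⟨z, hz⟩ := isConj_iff.mp (ConjClasses.mk_eq_mk_iff_isConj.mp h1)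
    rw [← h1, ← hz, Frob.card_centralizer_conj]
    split_ifs with h2
    · obtain ⟨y, hy, h3⟩ := (hP' h).mp h2
      rw [← h3, card_filter_conj_eq hy, ← card_centralizer_subgroup h.2]
    · rw [hP'] at h2
      push Not at h2
      rw [Finset.filter_eq_empty_iff.mpr fun z hz => h2 z (mem_elems.mp hz), Finset.card_empty]

/-- A class of `H` fixed by a coprime element contains a fixed element. -/
theorem exists_cent_conj_of_coprime {x : G} (hx : x ∈ normalizer (H : Set G))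
    (hcop : (orderOf x).Coprime (Nat.card H)) {h : G} (hh : h ∈ H)
    (hc : ∃ y ∈ H, x * h * x⁻¹ = y * h * y⁻¹) :
    ∃ y ∈ H, x * (y * h * y⁻¹) = (y * h * y⁻¹) * x := by
  obtain ⟨y, hy, h1⟩ := hc
  obtain ⟨z, hz, c, hc, h2, h3⟩ := exists_conj_cent_rcoset hx hcop (H.inv_mem hy)
  refine ⟨z, hz, (comm_of_comm_mul_of_coprime (y := c) h2.symm
    (hcop.coprime_dvd_right (orderOf_dvd_card_of_mem hc)) ?_).symm⟩
  rw [← h2, ← h3]
  calc z * h * z⁻¹ * (z * (y⁻¹ * x) * z⁻¹) = z * y⁻¹ * (y * h * y⁻¹) * x * z⁻¹ := by group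
    _ = _ := by rw [← h1]; group

open Classical in
theorem card_inertia_le_card_cent {x : G} (hx : x ∈ normalizer (H : Set G))
    (hcop : (orderOf x).Coprime (Nat.card H)) :
    (Finset.univ.filter fun χ : Irr H => x ∈ inertia χ).card ≤
      Nat.card ↥(H ⊓ centralizer ({x} : Set G)) := by
  have h1 := sum_rcoset_eq_sum_cent' hx hcop
    (f := fun g => Nat.card ↥(H ⊓ centralizer ({g} : Set G)))
    fun y hy g => card_inf_centralizer_conj (le_normalizer hy) g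
  rw [← card_mul_card_inertia hx, smul_eq_mul, smul_eq_mul, mul_left_comm] at h1
  have h2 := Nat.eq_of_mul_eq_mul_left Nat.card_pos h1
  refine Nat.le_of_mul_le_mul_left (h2.le.trans ?_) Nat.card_pos
  rw [← smul_eq_mul, ← sum_elems_const]
  refine Finset.sum_le_sum fun c hc => card_le_of_le fun z hz => ⟨hz.1, ?_⟩
  obtain ⟨h3, h4⟩ := mem_elems.mp hc
  exact mem_centralizer_singleton_iff.mpr (comm_of_comm_mul_of_coprime
    (mem_centralizer_singleton_iff.mp h4).symm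
    (hcop.coprime_dvd_right (orderOf_dvd_card_of_mem h3)) (mem_centralizer_singleton_iff.mp hz.2))

theorem mem_inertia_cf1 {x : G} (hx : x ∈ normalizer (H : Set G)) : x ∈ inertia (cf1 H) :=
  mem_inertia_iff.mpr (cfConjg_cf1 hx)

theorem exists_cent_of_inertia {x : G} (hx : x ∈ normalizer (H : Set G))
    (hcop : (orderOf x).Coprime (Nat.card H)) (hθ : IsIrr H θ) (h1 : θ ≠ cf1 H)
    (hI : x ∈ inertia θ) : ∃ h ∈ H, h ≠ 1 ∧ x * h = h * x := by
  classical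
  have h2 := card_inertia_le_card_cent hx hcop
  have h3 : 1 < (Finset.univ.filter fun χ : Irr H => x ∈ inertia χ).card :=
    Finset.one_lt_card.mpr ⟨⟨θ, hθ⟩, Finset.mem_filter.mpr ⟨Finset.mem_univ _, hI⟩, 1,
      Finset.mem_filter.mpr ⟨Finset.mem_univ _, mem_inertia_cf1 hx⟩,
      fun h => h1 (congrArg Subtype.val h)⟩
  obtain ⟨h, hh, h4⟩ := (bot_or_exists_ne_one _).resolve_left
    ((one_lt_card_iff_ne_bot _).mp (h3.trans_le h2))
  exact ⟨h, hh.1, h4, (mem_centralizer_singleton_iff.mp hh.2).symm⟩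

theorem exists_inertia_of_cent {x : G} (hx : x ∈ normalizer (H : Set G)) {h : G} (hh : h ∈ H)
    (h1 : h ≠ 1) (hc : x * h = h * x) : ∃ θ, IsIrr H θ ∧ θ ≠ cf1 H ∧ x ∈ inertia θ := by
  classical
  by_contra h2
  push Not at h2
  have h3 : (Finset.univ.filter fun χ : Irr H => x ∈ inertia χ).card ≤ 1 := by
    refine Finset.card_le_one.mpr fun a ha b hb => ?_
    have h4 : ∀ a : Irr H, x ∈ inertia a → a = 1 := fun a ha => by
      by_contra h5
      exact h2 a a.irr (fun h6 => h5 (Irr.ext h6)) ha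
    rw [h4 a (Finset.mem_filter.mp ha).2, h4 b (Finset.mem_filter.mp hb).2]
  have h4 : ∑ _y ∈ elems (H : Set G), 1 <
      ∑ y ∈ elems (H : Set G), Nat.card ↥(H ⊓ centralizer ({x * y} : Set G)) := by
    refine Finset.sum_lt_sum (fun y _ => Nat.card_pos) ⟨1, mem_elems.mpr H.one_mem, ?_⟩
    rw [one_lt_card_iff_ne_bot, mul_one, Ne, eq_bot_iff_forall]
    exact fun h5 => h1 (h5 h ⟨hh, mem_centralizer_singleton_iff.mpr hc.symm⟩)
  rw [← card_mul_card_inertia hx, sum_elems_const, smul_eq_mul] at h4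
  exact h4.not_ge (Nat.mul_le_mul_left _ h3)

open Classical in
theorem sum_irr_ker_conj_mul_eq_zero (hNH : N ≤ H) (hn : H ≤ normalizer (N : Set G)) {a b : G}
    (ha : a ∈ H) (h : ∀ y ∈ H, b * (y * a * y⁻¹)⁻¹ ∉ N) :
    ∑ χ ∈ Finset.univ.filter (fun χ : Irr H => N ≤ cfker H χ), conj (χ a) * χ b = 0 := by
  have h1 : ∑ n ∈ elems (N : Set G), ∑ χ : Irr H, conj (χ a) * χ (n * b) = 0 := by
    refine Finset.sum_eq_zero fun n hn' => sum_irr_conj_mul_of_not_conj ha fun z hz h2 => ?_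
    refine h z hz ?_
    rw [h2]; simpa using mem_elems.mp hn'
  rw [Finset.sum_comm, ← Finset.sum_filter_add_sum_filter_not _ fun χ : Irr H => N ≤ cfker H χ,
    Finset.sum_eq_zero (s := Finset.filter (fun χ : Irr H => ¬ N ≤ cfker H χ) _), add_zero] at h1
  · refine mul_left_cancel₀ (card_ne_zero N) ?_
    rw [mul_zero, ← h1, Finset.mul_sum]
    refine Finset.sum_congr rfl fun χ hχ => ?_
    rw [Finset.sum_congr rfl fun n hn' => by
      rw [cfker_mul_left ((Finset.mem_filter.mp hχ).2 (mem_elems.mp hn'))], sum_elems_const,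
      nsmul_eq_mul]
  · intro χ hχ
    rw [← Finset.mul_sum, χ.irr.sum_eq_zero_of_not_le hNH hn (Finset.mem_filter.mp hχ).2, mul_zero]

/-- Relative version: `x` acts on `H / N` and fixes a nonprincipal character of `H / N`. -/
theorem exists_fixed_class_of_inertia_ker {x : G} (hx : x ∈ normalizer (H : Set G)) (hNH : N ≤ H)
    (hn : H ≤ normalizer (N : Set G)) (hxN : x ∈ normalizer (N : Set G)) (hθ : IsIrr H θ)
    (h1 : θ ≠ cf1 H) (hk : N ≤ cfker H θ) (hI : x ∈ inertia θ) :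
    ∃ h ∈ H, h ∉ N ∧ ∃ y ∈ H, x * h * x⁻¹ * (y * h * y⁻¹)⁻¹ ∈ N := by
  classical
  by_contra h2
  push Not at h2
  set S := Finset.univ.filter (fun χ : Irr H => N ≤ cfker H χ) with hS
  have h3 := card_filter_inertia_eq (inv_mem hx) S
  rw [← Finset.sum_subset (s₁ := elems (N : Set G))
    (fun y hy => mem_elems.mpr (hNH (mem_elems.mp hy))) (fun y hy hyN =>
      sum_irr_ker_conj_mul_eq_zero hNH hn (mem_elems.mp hy) fun z hz => by
        simpa using h2 y (mem_elems.mp hy) (fun h => hyN (mem_elems.mpr h)) z hz),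
    Finset.sum_congr rfl (g := fun _ => (N.relIndex H : ℂ)), sum_elems_const, nsmul_eq_mul,
    mul_comm (Nat.card N : ℂ), ← card_cast_eq_relIndex_mul hNH,
    mul_right_eq_self₀, or_iff_left (card_ne_zero H), Nat.cast_eq_one] at h3
  · have h4 : 1 < (S.filter fun χ : Irr H => x⁻¹ ∈ inertia χ).card :=
      Finset.one_lt_card.mpr ⟨⟨θ, hθ⟩, Finset.mem_filter.mpr
        ⟨Finset.mem_filter.mpr ⟨Finset.mem_univ _, hk⟩, inv_mem hI⟩, 1,
        Finset.mem_filter.mpr ⟨Finset.mem_filter.mpr ⟨Finset.mem_univ _, by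
          rw [Irr.coe_one, cfker_cf1]; exact hNH⟩, mem_inertia_cf1 (inv_mem hx)⟩,
        fun h => h1 (congrArg Subtype.val h)⟩
    omega
  · intro y hy
    rw [← sum_irr_ker_sq hNH hn]
    refine Finset.sum_congr rfl fun χ hχ => ?_
    have h5 := (Finset.mem_filter.mp hχ).2
    rw [cfker_apply (h5 (mem_elems.mp hy)),
      cfker_apply (h5 ((norm_conj_mem' (inv_mem hxN)).mpr (mem_elems.mp hy))), χ.isChar.conj_one,
      pow_two]

/-! ### Frobenius groups -/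

theorem FrobIn.frobKer (h : FrobIn L K E) : FrobKer L K := ⟨E, h⟩

theorem FrobKer.lt (h : FrobKer L K) : K < L := by
  obtain ⟨E, h⟩ := h
  refine lt_of_le_of_ne h.compl.1 fun h1 => h.compl_ne ?_
  rw [← h.compl.2.2.1, h1, inf_eq_right.mpr h.compl.2.1]

theorem FrobKer.le (h : FrobKer L K) : K ≤ L := h.lt.le

theorem FrobKer.normal (h : FrobKer L K) : L ≤ normalizer (K : Set G) := h.elim fun _ h => h.normal

theorem FrobKer.ker_ne (h : FrobKer L K) : K ≠ ⊥ := h.elim fun _ h => h.ker_ne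

theorem FrobIn.exists_conj_mem' (h : FrobIn L K E) {x : G} (hx : x ∈ L) (hxK : x ∉ K) :
    ∃ k ∈ K, k * x * k⁻¹ ∈ E := by
  obtain ⟨k, hk, e, he, rfl⟩ := h.compl.2.2.2 x hx
  have h1 : e ≠ 1 := by rintro rfl; exact hxK (by simpa using hk)
  obtain ⟨y, hy, h2⟩ := Frob.exists_conj_eq_mul_of_fpf
    (fun k hk => (norm_conj_mem (h.normal (h.compl.2.1 he))).mpr hk) (h.fpf e he h1) hk
  refine ⟨y⁻¹, K.inv_mem hy, ?_⟩
  rw [← h2]; simpa [mul_assoc] using he

theorem FrobKer.cent_le (h : FrobKer L K) {k : G} (hk : k ∈ K) (h1 : k ≠ 1) :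
    L ⊓ centralizer ({k} : Set G) ≤ K := by
  obtain ⟨E, h⟩ := h
  intro x hx
  by_contra hxK
  obtain ⟨y, hy, h2⟩ := h.exists_conj_mem' hx.1 hxK
  have h3 := mem_centralizer_singleton_iff.mp hx.2
  refine h1 (conj_eq_one_iff.mp (h.fpf _ h2 (fun h4 => hxK ?_) (y * k * y⁻¹)
    (K.mul_mem (K.mul_mem hy hk) (K.inv_mem hy)) ?_))
  · rw [conj_eq_one_iff.mp h4]; exact K.one_mem
  · calc y * x * y⁻¹ * (y * k * y⁻¹) = y * (x * k) * y⁻¹ := by group
      _ = _ := by rw [h3]; group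

theorem isFrobeniusKernel_of_cent (hlt : K < L) (hn : L ≤ normalizer (K : Set G)) (hK : K ≠ ⊥)
    (hc : ∀ k ∈ K, k ≠ 1 → L ⊓ centralizer ({k} : Set G) ≤ K) :
    Frob.IsFrobeniusKernel (K.subgroupOf L) := by
  refine ⟨normal_subgroupOf_of_le_norm hn, fun h => hK ?_, fun h => hlt.not_ge (subgroupOf_eq_top.mp h),
    fun k hk h1 g hg => hc k hk (fun h2 => h1 (Subtype.ext h2))
      ⟨g.2, mem_centralizer_singleton_iff.mpr (congrArg Subtype.val hg)⟩⟩
  rw [subgroupOf_eq_bot] at h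
  exact h.eq_bot_of_le hlt.le

theorem frobIn_of_cent (hlt : K < L) (hn : L ≤ normalizer (K : Set G)) (hK : K ≠ ⊥)
    (hc : ∀ k ∈ K, k ≠ 1 → L ⊓ centralizer ({k} : Set G) ≤ K) (hE : IsComplIn K E L) :
    FrobIn L K E := by
  refine ⟨hE, hn, hK, ?_, fun e he h1 k hk h2 => ?_⟩
  · rintro rfl
    exact hlt.ne (by simpa using IsComplIn_sup hE)
  · by_contra h3
    refine h1 ?_
    rw [← mem_bot, ← hE.2.2.1]
    exact ⟨hc k hk h3 ⟨hE.2.1 he, mem_centralizer_singleton_iff.mpr h2⟩, he⟩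

theorem frobKer_of_cent (hlt : K < L) (hn : L ≤ normalizer (K : Set G)) (hK : K ≠ ⊥)
    (hc : ∀ k ∈ K, k ≠ 1 → L ⊓ centralizer ({k} : Set G) ≤ K) : FrobKer L K := by
  have h1 := (isFrobeniusKernel_of_cent hlt hn hK hc).coprime
  rw [card_subgroupOf hlt.le] at h1
  obtain ⟨E, hE⟩ := exists_isComplIn_of_coprime hlt.le hn h1
  exact ⟨E, frobIn_of_cent hlt hn hK hc hE⟩

theorem FrobKer.frobIn (h : FrobKer L K) (hc : IsComplIn K E L) : FrobIn L K E := by
  exact frobIn_of_cent h.lt h.normal h.ker_ne (fun k hk h1 => h.cent_le hk h1) hc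

theorem FrobKer.isFrobeniusKernel (h : FrobKer L K) : Frob.IsFrobeniusKernel (K.subgroupOf L) := by
  exact isFrobeniusKernel_of_cent h.lt h.normal h.ker_ne fun k hk h1 => h.cent_le hk h1

theorem FrobKer.coprime (h : FrobKer L K) : (Nat.card K).Coprime (K.relIndex L) := by
  have h1 := h.isFrobeniusKernel.coprime
  rwa [card_subgroupOf h.le] at h1

theorem FrobKer.index_dvd (h : FrobKer L K) : K.relIndex L ∣ Nat.card K - 1 := by
  have h1 := h.isFrobeniusKernel.index_dvd_card_sub_one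
  rwa [card_subgroupOf h.le] at h1

theorem FrobKer.one_lt_index (h : FrobKer L K) : 1 < K.relIndex L := by
  exact one_lt_relIndex_of_lt h.lt

theorem FrobKer.le_or_ge (h : FrobKer L K) (hNL : N ≤ L) (hn : L ≤ normalizer (N : Set G)) :
    N ≤ K ∨ K ≤ N := by
  have := normal_subgroupOf_of_le_norm hn
  rcases h.isFrobeniusKernel.le_or_ge (N.subgroupOf L) with h1 | h1
  · exact Or.inl fun x hx => h1 (x := ⟨x, hNL hx⟩) hx
  · exact Or.inr fun x hx => h1 (x := ⟨x, h.le hx⟩) hx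

theorem FrobIn.exists_conj_mem (h : FrobIn L K E) {x : G} (hx : x ∈ L) (hxK : x ∉ K) :
    ∃ k ∈ K, k * x * k⁻¹ ∈ E := by
  exact h.exists_conj_mem' hx hxK

theorem FrobIn.normedTI (h : FrobIn L K E) : NormedTI (sharp E) L E := by
  obtain ⟨e, he, h1⟩ := (bot_or_exists_ne_one E).resolve_left h.compl_ne
  refine ⟨⟨e, mem_sharp.mpr ⟨he, h1⟩⟩, h.compl.2.1, sharp_conj le_normalizer, fun g hg a ha h2 => ?_⟩
  obtain ⟨e, he, k, hk, rfl⟩ := (IsComplIn_symm h.compl).2.2.2 g hg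
  obtain ⟨h3, h4⟩ := mem_sharp.mp ha
  have h5 : k * a * k⁻¹ ∈ E := by
    rw [← conj_mem_iff he]
    convert (mem_sharp.mp h2).1 using 1; group
  have h6 : k * (a * k⁻¹ * a⁻¹) ∈ K ⊓ E :=
    mem_inf.mpr ⟨K.mul_mem hk ((norm_conj_mem (h.normal (h.compl.2.1 h3))).mpr (K.inv_mem hk)), by
      convert E.mul_mem h5 (E.inv_mem h3) using 1; group⟩
  rw [h.compl.2.2.1, mem_bot] at h6
  have h7 : k = 1 := h.fpf a h3 h4 k hk (by
    calc a * k = k * (a * k⁻¹ * a⁻¹) * (a * k) := by rw [h6, one_mul]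
      _ = k * a := by group)
  rw [h7, mul_one]; exact he

/-- A numerical fact used in Sections 7, 13 and 14 of Peterfalvi. -/
theorem odd_Frobenius_index_ler (h : FrobKer L K) (hodd : Odd (Nat.card L)) :
    (K.relIndex L : ℝ) ≤ (Nat.card K - 1) / 2 := by
  obtain ⟨m, hm⟩ := h.index_dvd
  have h1 : 1 < Nat.card K := (one_lt_card_iff_ne_bot _).mpr h.ker_ne
  have h2 : Odd (Nat.card K) := odd_card_of_le h.le hodd
  have h3 : Odd (K.relIndex L) := odd_relIndex hodd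
  have h4 : Nat.card K = K.relIndex L * m + 1 := by omega
  have h5 : 2 ≤ m := by
    rcases m with _ | _ | m
    · omega
    · rw [h4] at h2; simp [Nat.odd_add_one, h3] at h2
    · omega
  have h6 : (2 : ℝ) ≤ m := by exact_mod_cast h5
  rw [h4]; push_cast
  nlinarith [relIndex_pos_real K L]

theorem FrobKer.inertia_le (h : FrobKer L K) (hθ : IsIrr K θ) (h1 : θ ≠ cf1 K) :
    L ⊓ inertia θ ≤ K := by
  intro x hx
  by_contra hxK
  have h2 := h.isFrobeniusKernel.coprime_orderOf (g := ⟨x, hx.1⟩) hxK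
  rw [card_subgroupOf h.le, Subgroup.orderOf_mk] at h2
  obtain ⟨k, hk, h3, h4⟩ := exists_cent_of_inertia (h.normal hx.1) h2 hθ h1 hx.2
  exact hxK (h.cent_le hk h3 ⟨hx.1, mem_centralizer_singleton_iff.mpr h4⟩)

theorem IsIrr.cfdot_self_ne_zero (h : IsIrr L χ) : cfdot L χ χ ≠ 0 := by
  rw [h.cfdot_self]; exact _root_.one_ne_zero

theorem FrobKer.cfInd_irr (h : FrobKer L K) (hθ : IsIrr K θ) (h1 : θ ≠ cf1 K) :
    IsIrr L (cfInd K L θ) := by
  exact inertia_cfInd_irr le_rfl h.le h.normal hθ (h.inertia_le hθ h1) hθ hθ.cfdot_self_ne_zero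

theorem le_cfker_of_cfdot_cf1 (hHL : H ≤ L) (hn : L ≤ normalizer (H : Set G)) (hχ : IsIrr L χ)
    (h : cfdot H χ (cf1 H) ≠ 0) : H ≤ cfker L χ := by
  classical
  by_contra h1
  rw [cfdot_cf1_right, hχ.sum_normal hHL hn, if_neg h1, mul_zero] at h
  exact h rfl

theorem FrobKer.exists_cfInd (h : FrobKer L K) (hχ : IsIrr L χ) (hk : ¬ K ≤ cfker L χ) :
    ∃ θ, IsIrr K θ ∧ θ ≠ cf1 K ∧ χ = cfInd K L θ := by
  obtain ⟨θ, hθ, h1⟩ := exists_irr_under h.le hχ
  have h2 : θ ≠ cf1 K := by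
    rintro rfl
    exact hk (le_cfker_of_cfdot_cf1 h.le h.normal hχ h1)
  refine ⟨θ, hθ, h2, hχ.eq_of_cfdot_ne (h.cfInd_irr hθ h2) ?_⟩
  rwa [cfdot_cfInd_right h.le hχ.mem_CF]

/-- `L / N` is a Frobenius group with kernel `K / N`. -/
structure FrobQuo (L K N : Subgroup G) : Prop where
  lt : K < L
  normal : L ≤ normalizer (K : Set G)
  N_lt : N < K
  N_normal : L ≤ normalizer (N : Set G)
  cent_le : ∀ k ∈ K, k ∉ N → ∀ x ∈ L, x * k * x⁻¹ * k⁻¹ ∈ N → x ∈ K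

theorem FrobKer.frobQuo (h : FrobKer L K) (hN : N < K) (hn : L ≤ normalizer (N : Set G)) :
    FrobQuo L K N := by
  refine ⟨h.lt, h.normal, hN, hn, fun k hk hkN x hx h1 => ?_⟩
  by_contra hxK
  have h2 : ∀ k ∈ K, x * k = k * x → k = 1 := fun k hk h3 => by
    by_contra h4
    exact hxK (h.cent_le hk h4 ⟨hx, mem_centralizer_singleton_iff.mpr h3⟩)
  obtain ⟨n, hn', h3⟩ := Frob.exists_commute_of_fpf_of_commutator_mem (N := N) (h := x) (g := k)
    (fun n hn' => (norm_conj_mem (hn hx)).mpr hn') (fun n hn' => h2 n (hN.le hn')) (by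
      rw [← norm_conj_mem (hn (h.le hk))]
      convert h1 using 1; group)
  have h4 := h2 _ (K.mul_mem hk (hN.le hn')) h3
  exact hkN (by rw [eq_inv_of_mul_eq_one_left h4]; exact N.inv_mem hn')

theorem FrobQuo.fpf_quot (h : FrobQuo L K N) [(N.subgroupOf L).Normal] {x : L} (hx : (x : G) ∉ K)
    {k : L} (hk : (k : G) ∈ K)
    (hc : (x : L ⧸ N.subgroupOf L) * (k : L ⧸ N.subgroupOf L) = k * x) : (k : G) ∈ N := by
  by_contra h1
  refine hx (h.cent_le k hk h1 x x.2 ?_)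
  have : x * k * x⁻¹ * k⁻¹ ∈ N.subgroupOf L := by
    rw [← QuotientGroup.eq_one_iff]
    simp [hc]
  exact this

theorem FrobQuo.mono (h : FrobQuo L K N) {N' : Subgroup G} (hNN : N ≤ N') (hN : N' < K)
    (hn : L ≤ normalizer (N' : Set G)) : FrobQuo L K N' := by
  refine ⟨h.lt, h.normal, hN, hn, fun k hk hkN x hx h1 => ?_⟩
  by_contra hxK
  have := normal_subgroupOf_of_le_norm h.N_normal
  have hkL := h.lt.le hk
  let f := QuotientGroup.mk' (N.subgroupOf L)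
  obtain ⟨_, ⟨n, hn', rfl⟩, h3⟩ := Frob.exists_commute_of_fpf_of_commutator_mem
    (N := (N'.subgroupOf L).map f) (h := f ⟨x, hx⟩) (g := f ⟨k, hkL⟩)
    (by
      rintro _ ⟨n, hn', rfl⟩
      exact ⟨⟨x, hx⟩ * n * ⟨x, hx⟩⁻¹, (norm_conj_mem (hn hx)).mpr hn', by simp⟩)
    (by
      rintro _ ⟨n, hn', rfl⟩ h2
      exact (QuotientGroup.eq_one_iff _).mpr (h.fpf_quot (x := ⟨x, hx⟩) hxK (hN.le hn') h2))
    ⟨⟨k, hkL⟩⁻¹ * (⟨x, hx⟩ * ⟨k, hkL⟩ * ⟨x, hx⟩⁻¹), by
      change k⁻¹ * (x * k * x⁻¹) ∈ N'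
      rw [← norm_conj_mem (hn hkL)]
      convert h1 using 1; group, by simp only [map_mul, map_inv]⟩
  have h4 := h.fpf_quot (x := ⟨x, hx⟩) hxK (k := ⟨k, hkL⟩ * n) (K.mul_mem hk (hN.le hn'))
    (by rw [QuotientGroup.mk_mul]; exact h3)
  exact hkN ((N'.mul_mem_cancel_right hn').mp (hNN h4))

theorem frobQuo_bot : FrobQuo L K ⊥ ↔ FrobKer L K := by
  refine ⟨fun h => frobKer_of_cent h.lt h.normal h.N_lt.ne' fun k hk h1 x hx =>
    h.cent_le k hk h1 x hx.1 ?_, fun h => h.frobQuo (bot_lt_iff_ne_bot.mpr h.ker_ne)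
      le_normalizer_bot⟩
  rw [mem_centralizer_singleton_iff.mp hx.2]; simp

theorem FrobQuo.index_dvd (h : FrobQuo L K N) {M : Subgroup G} (hNM : N ≤ M) (hMK : M ≤ K)
    (hn : L ≤ normalizer (M : Set G)) : K.relIndex L ∣ N.relIndex M - 1 := by
  have := normal_subgroupOf_of_le_norm h.N_normal
  have := normal_subgroupOf_of_le_norm hn
  let f := QuotientGroup.mk' (N.subgroupOf L)
  have hf : Function.Surjective f := QuotientGroup.mk'_surjective _
  have h1 : Nat.card ((M.subgroupOf L).map f) = N.relIndex M := by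
    rw [← relIndex_bot_left, ← relIndex_comap, MonoidHom.comap_bot, QuotientGroup.ker_mk',
      relIndex_subgroupOf (hMK.trans h.lt.le)]
  have h2 : ((K.subgroupOf L).map f).index = K.relIndex L := by
    rw [index_map_eq _ hf]
    · rfl
    · rw [QuotientGroup.ker_mk']
      exact fun x hx => h.N_lt.le hx
  rw [← h1, ← h2, ← Frob.ncard_diff_one]
  refine Frob.dvd_ncard_of_dvd_index_centralizer _ (fun g x hx => ⟨
    (Normal.map inferInstance f hf).conj_mem x hx.1 g, fun h3 => hx.2 (conj_eq_one_iff.mp h3)⟩) ?_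
  rintro _ ⟨⟨m, hm, rfl⟩, h3⟩
  refine index_dvd_of_le fun q hq => ?_
  obtain ⟨x, rfl⟩ := hf q
  refine ⟨x, ?_, rfl⟩
  by_contra h4
  exact h3 ((QuotientGroup.eq_one_iff _).mpr
    (h.fpf_quot h4 (hMK hm) (mem_centralizer_singleton_iff.mp hq)))

theorem FrobQuo.inertia_le (h : FrobQuo L K N) (hθ : IsIrr K θ) (h1 : θ ≠ cf1 K)
    (hk : N ≤ cfker K θ) : L ⊓ inertia θ ≤ K := by
  intro x hx
  obtain ⟨k, hk', h2, y, hy, h3⟩ := exists_fixed_class_of_inertia_ker (h.normal hx.1) h.N_lt.le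
    (h.lt.le.trans h.N_normal) (h.N_normal hx.1) hθ h1 hk hx.2
  have h4 := h.cent_le k hk' h2 (y⁻¹ * x) (L.mul_mem (L.inv_mem (h.lt.le hy)) hx.1) (by
    rw [← norm_conj_mem (h.N_normal (h.lt.le hy))]
    convert h3 using 1; group)
  simpa using K.mul_mem hy h4

theorem FrobQuo.cfInd_irr (h : FrobQuo L K N) (hθ : IsIrr K θ) (h1 : θ ≠ cf1 K)
    (hk : N ≤ cfker K θ) : IsIrr L (cfInd K L θ) := by
  exact inertia_cfInd_irr le_rfl h.lt.le h.normal hθ (h.inertia_le hθ h1 hk) hθ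
    hθ.cfdot_self_ne_zero

end CfsgLib.FT
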