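import Cfsg.Agent.Lib.FT.CFClifford

/-!
# Peterfalvi, Section 1: preliminary results from character theory
-/

set_option autoImplicit false
set_option linter.unusedSectionVars false

namespace CfsgLib.FT

open Cfsg Subgroup
open scoped ComplexConjugate commutatorElement

variable {G : Type*} [Group G] [Fintype G]
variable {L K H N T : Subgroup G} {A B : Set G} {φ φ' ψ ψ' χ θ θ' : G → ℂ}

theorem mem_of_sq_mem_of_odd {x : G} (hodd : Odd (orderOf x)) (h : x ^ 2 ∈ K) : x ∈ K :=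
  mem_of_pow_mem_of_coprime (Nat.coprime_two_left.mpr hodd) h

theorem eq_one_of_conj_eq_inv (hodd : Odd (Nat.card L)) {g z : G} (hg : g ∈ L) (hz : z ∈ L)
    (h : z * g⁻¹ * z⁻¹ = g) : g = 1 := by
  have h1 : z ∈ centralizer ({g} : Set G) := by
    refine mem_of_sq_mem_of_odd (hodd.of_dvd_nat (orderOf_dvd_card_of_mem hz))
      (mem_centralizer_singleton_iff.mpr ?_)
    have h2 : z * g * z⁻¹ = g⁻¹ := by
      conv_rhs => rw [← h]
      group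
    calc z ^ 2 * g = z * (z * g * z⁻¹) * z⁻¹ * z ^ 2 := by rw [pow_two]; group
      _ = g * z ^ 2 := by rw [h2, h]
  have h2 : g ^ 2 = 1 := by
    have h3 := mem_centralizer_singleton_iff.mp h1
    rw [pow_two]
    nth_rewrite 2 [← h]
    rw [← mul_assoc, ← mul_assoc, ← h3]; group
  exact mem_bot.mp (mem_of_sq_mem_of_odd (hodd.of_dvd_nat (orderOf_dvd_card_of_mem hg))
    (mem_bot.mpr h2))

/-- Peterfalvi (1.1). -/
theorem odd_eq_conj_irr1 (hodd : Odd (Nat.card L)) (hχ : IsIrr L χ) :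
    cfConjC χ = χ ↔ χ = cf1 L := by
  classical
  refine ⟨fun h => ?_, fun h => by rw [h, cfConjC, cfAut_cf1]⟩
  by_contra h1
  have h2 : ∑ ψ : Irr L, cfdot L ψ (cfConjC ψ) = 1 := by
    simp only [cfdot]
    rw [← Finset.mul_sum, Finset.sum_comm, Finset.sum_eq_single_of_mem 1 (mem_elems.mpr L.one_mem)]
    · simp only [cfAut_apply, Complex.conj_conj, ← pow_two]
      rw [sum_irr_one_sq', inv_mul_cancel₀ (card_ne_zero L)]
    · intro g hg hg1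
      rw [← sum_irr_conj_mul_of_not_conj (L.inv_mem (mem_elems.mp hg)) (y := g)
        fun z hz h3 => hg1 (eq_one_of_conj_eq_inv hodd (mem_elems.mp hg) hz h3)]
      exact Finset.sum_congr rfl fun ψ _ => by simp [ψ.isChar.inv]
  rw [Finset.sum_congr rfl fun (ψ : Irr L) _ => ψ.irr.cfdot_eq (ψ.irr.cfAut _), Finset.sum_boole,
    Nat.cast_eq_one] at h2
  refine absurd h2 (ne_of_gt ?_)
  exact Finset.one_lt_card.mpr ⟨⟨χ, hχ⟩, Finset.mem_filter.mpr ⟨Finset.mem_univ _, h.symm⟩, 1,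
    Finset.mem_filter.mpr ⟨Finset.mem_univ _, by simp⟩, fun h => h1 (congrArg Subtype.val h)⟩

theorem Irr.conj_eq_self (hodd : Odd (Nat.card L)) (χ : Irr L) : χ.conj = χ ↔ χ = 1 := by
  rw [← Irr.coe_inj, ← Irr.coe_inj]; exact odd_eq_conj_irr1 hodd χ.2

/-- Peterfalvi (1.2). -/
theorem irr_reg_off_ker_0 (hχ : IsIrr L χ) (hHL : H ≤ L) (hn : L ≤ normalizer (H : Set G))
    (hk : ¬ H ≤ cfker L χ) {g : G} (hc : H ⊓ centralizer ({g} : Set G) = ⊥) : χ g = 0 := by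
  by_cases hg : g ∈ L
  swap
  · exact CF_zero hχ.mem_CF hg
  have h1 := hχ.sum_eq_zero_of_not_le hHL hn hk g
  rw [Finset.sum_congr rfl (g := fun _ => χ g), sum_elems_const, nsmul_eq_mul] at h1
  · exact (mul_eq_zero.mp h1).resolve_left (card_ne_zero H)
  · intro h hh
    obtain ⟨x, hx, h2⟩ := Frob.exists_conj_eq_mul_of_fpf
      (fun k hk => (norm_conj_mem (hn hg)).mpr hk) (fun k hk h2 => by
        rw [← mem_bot, ← hc]
        exact ⟨hk, mem_centralizer_singleton_iff.mpr h2.symm⟩) (mem_elems.mp hh)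
    rw [← h2, CF_conj hχ.mem_CF (hHL hx)]

theorem sub_mem_zspan {S : Finset (G → ℂ)} (h : φ ∈ S) (h' : ψ ∈ S) : φ - ψ ∈ zspan S :=
  sub_mem (subset_zspan h) (subset_zspan h')

theorem eq_or_eq_of_cfdot_sub_eq_one {a b c d : G → ℂ} (ha : IsIrr L a) (hb : IsIrr L b)
    (hc : IsIrr L c) (hd : IsIrr L d) (h : cfdot L (a - b) (c - d) = 1) : a = c ∨ b = d := by
  classical
  by_contra h1
  push Not at h1
  rw [cfdot_sub_left, cfdot_sub_right, cfdot_sub_right, ha.cfdot_ne hc h1.1, hb.cfdot_ne hd h1.2,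
    ha.cfdot_eq hd, hb.cfdot_eq hc] at h
  split_ifs at h <;> norm_num at h

/-- Peterfalvi (1.4). -/
theorem vchar_isometry_base {G0 : Subgroup G} {S : Finset (G → ℂ)} {τ : CFMap G}
    (hS : ∀ χ ∈ S, IsIrr H χ) (h2 : 1 < S.card) (hdeg : ∀ χ ∈ S, ∀ ψ ∈ S, χ 1 = ψ 1)
    (hτ : ZIsom1 H G0 S τ) :
    ∃ (μ : (G → ℂ) → G → ℂ) (ε : ℤ), (ε = 1 ∨ ε = -1) ∧ (∀ χ ∈ S, IsIrr G0 (μ χ)) ∧
      Set.InjOn μ S ∧ ∀ χ ∈ S, ∀ ψ ∈ S, τ (χ - ψ) = (ε : ℂ) • (μ χ - μ ψ) := by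
  classical
  obtain ⟨χ1, h1, χ2, h2', h12⟩ := Finset.one_lt_card.mp h2
  have hd : ∀ χ ∈ S, ∀ ψ ∈ S, (χ - ψ) 1 = 0 := fun χ hχ ψ hψ => by
    rw [Pi.sub_apply, hdeg χ hχ ψ hψ, sub_self]
  have hn : ∀ χ ∈ S, ∀ ψ ∈ S, χ ≠ ψ → cfnorm G0 (τ (χ - ψ)) = 2 := fun χ hχ ψ hψ hne => by
    rw [cfnorm_eq_of_cfdot (hτ.isom _ (sub_mem_zspan hχ hψ) (hd χ hχ ψ hψ) _
      (sub_mem_zspan hχ hψ) (hd χ hχ ψ hψ)), cfnorm_sub_of_ortho ((hS χ hχ).cfdot_ne (hS ψ hψ) hne),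
      (hS χ hχ).cfnorm, (hS ψ hψ).cfnorm]
    norm_num
  have hex : ∀ χ ∈ S, χ ≠ χ1 → ∃ a b, IsIrr G0 a ∧ IsIrr G0 b ∧ a ≠ b ∧ τ (χ - χ1) = a - b :=
    fun χ hχ hne => vchar_norm2 (hτ.virt _ (sub_mem_zspan hχ h1) (hd χ hχ χ1 h1))
      (hτ.one _ (sub_mem_zspan hχ h1) (hd χ hχ χ1 h1)) (by exact_mod_cast hn χ hχ χ1 h1 hne)
  choose! a b ha hb hab he using hex
  have hor : ∀ χ ∈ S, χ ≠ χ1 → ∀ ψ ∈ S, ψ ≠ χ1 → a χ = a ψ ∨ b χ = b ψ := by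
    intro χ hχ hχ1 ψ hψ hψ1
    by_cases hne : χ = ψ
    · exact Or.inl (by rw [hne])
    refine eq_or_eq_of_cfdot_sub_eq_one (ha χ hχ hχ1) (hb χ hχ hχ1) (ha ψ hψ hψ1) (hb ψ hψ hψ1) ?_
    rw [← he χ hχ hχ1, ← he ψ hψ hψ1, hτ.isom _ (sub_mem_zspan hχ h1) (hd χ hχ χ1 h1) _
      (sub_mem_zspan hψ h1) (hd ψ hψ χ1 h1), cfdot_sub_left, cfdot_sub_right, cfdot_sub_right,
      (hS χ hχ).cfdot_ne (hS ψ hψ) hne, (hS χ hχ).cfdot_ne (hS χ1 h1) hχ1,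
      (hS χ1 h1).cfdot_ne (hS ψ hψ) hψ1.symm, (hS χ1 h1).cfdot_self]
    ring
  have key : ∃ (μ : (G → ℂ) → G → ℂ) (ε : ℤ), (ε = 1 ∨ ε = -1) ∧ (∀ χ ∈ S, IsIrr G0 (μ χ)) ∧
      ∀ χ ∈ S, τ (χ - χ1) = (ε : ℂ) • (μ χ - μ χ1) := by
    by_cases hb' : ∀ χ ∈ S, χ ≠ χ1 → b χ = b χ2
    · refine ⟨fun χ => if χ = χ1 then b χ2 else a χ, 1, Or.inl rfl, fun χ hχ => ?_, fun χ hχ => ?_⟩
      · beta_reduce
        split_ifs with h
        exacts [hb χ2 h2' h12.symm, ha χ hχ h]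
      · by_cases h : χ = χ1
        · simp [h]
        · simp [h, he χ hχ h, hb' χ hχ h]
    · push Not at hb'
      obtain ⟨χ3, h3, h31, h32⟩ := hb'
      have h4 := (hor χ3 h3 h31 χ2 h2' h12.symm).resolve_right h32
      have ha' : ∀ χ ∈ S, χ ≠ χ1 → a χ = a χ2 := by
        intro χ hχ h
        by_contra h5
        exact h32 (((hor χ hχ h χ3 h3 h31).resolve_left (h4 ▸ h5)).symm.trans
          ((hor χ hχ h χ2 h2' h12.symm).resolve_left h5))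
      refine ⟨fun χ => if χ = χ1 then a χ2 else b χ, -1, Or.inr rfl, fun χ hχ => ?_, fun χ hχ => ?_⟩
      · beta_reduce
        split_ifs with h
        exacts [ha χ2 h2' h12.symm, hb χ hχ h]
      · by_cases h : χ = χ1
        · simp [h]
        · simp [h, he χ hχ h, ha' χ hχ h]
  obtain ⟨μ, ε, hε, hμ, hτμ⟩ := key
  have h5 : ∀ χ ∈ S, ∀ ψ ∈ S, τ (χ - ψ) = (ε : ℂ) • (μ χ - μ ψ) := fun χ hχ ψ hψ => by
    rw [← sub_sub_sub_cancel_right χ ψ χ1, map_sub, hτμ χ hχ, hτμ ψ hψ, ← smul_sub,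
      sub_sub_sub_cancel_right]
  refine ⟨μ, ε, hε, hμ, fun χ hχ ψ hψ h => ?_, h5⟩
  by_contra hne
  have h6 := hn χ hχ ψ hψ hne
  rw [h5 χ hχ ψ hψ, h, sub_self, smul_zero, cfnorm_zero] at h6
  norm_num at h6

/-- Peterfalvi (1.5)(a). -/
theorem cfResInd_sum_cfclass (hHL : H ≤ L) (hn : L ≤ normalizer (H : Set G)) (hθ : θ ∈ CF H) :
    cfRes H (cfInd H L θ) = (H.relIndex (L ⊓ inertia θ) : ℂ) • ∑ ξ ∈ cfclass L θ, ξ := by
  rw [cfRes_cfInd_normal hHL hn hθ, sum_cfConjg_eq, smul_smul,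
    card_cast_eq_relIndex_mul (le_inf hHL (le_inertia hθ)), mul_comm,
    mul_inv_cancel_right₀ (card_ne_zero H)]

open Classical in
theorem cfdot_Ind_irr (hHL : H ≤ L) (hn : L ≤ normalizer (H : Set G)) (hθ : IsIrr H θ)
    (hθ' : IsIrr H θ') : cfdot L (cfInd H L θ) (cfInd H L θ') =
      if θ' ∈ cfclass L θ then (H.relIndex (L ⊓ inertia θ) : ℂ) else 0 := by
  rw [cfdot_cfRes_cfInd hHL cfInd_mem_CF, cfResInd_sum_cfclass hHL hn hθ.mem_CF, cfdot_smul_left,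
    cfdot_sum_irr_finset (fun ξ hξ => hθ.of_mem_cfclass hn hξ) hθ']
  simp

/-- Peterfalvi (1.5)(b), main formula. -/
theorem cfnorm_Ind_irr (hHL : H ≤ L) (hn : L ≤ normalizer (H : Set G)) (hθ : IsIrr H θ) :
    cfnorm L (cfInd H L θ) = H.relIndex (L ⊓ inertia θ) := by
  refine cfnorm_eq_of_cfdot_eq ?_
  rw [cfdot_Ind_irr hHL hn hθ hθ, if_pos self_mem_cfclass]; simp

/-- Peterfalvi (1.5)(b), irreducibility remark. -/
theorem inertia_Ind_irr (hHL : H ≤ L) (hn : L ≤ normalizer (H : Set G)) (hθ : IsIrr H θ)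
    (hI : L ⊓ inertia θ ≤ H) : IsIrr L (cfInd H L θ) := by
  exact inertia_cfInd_irr le_rfl hHL hn hθ hI hθ hθ.cfdot_self_ne_zero

theorem inertia_le_of_Ind_irr (hHL : H ≤ L) (hn : L ≤ normalizer (H : Set G)) (hθ : IsIrr H θ)
    (h : IsIrr L (cfInd H L θ)) : L ⊓ inertia θ ≤ H := by
  have h1 := cfnorm_Ind_irr hHL hn hθ
  rw [h.cfnorm] at h1
  exact relIndex_eq_one.mp (by exact_mod_cast h1.symm)

theorem cfInd_eq_of_mem_cfclass (hn : L ≤ normalizer (H : Set G)) (h : θ' ∈ cfclass L θ) :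
    cfInd H L θ' = cfInd H L θ := by
  obtain ⟨x, hx, rfl⟩ := mem_cfclass.mp h
  exact cfInd_cfConjg hx (hn hx)

/-- Peterfalvi (1.5)(c). -/
theorem not_cfclass_Ind_ortho (hHL : H ≤ L) (hn : L ≤ normalizer (H : Set G)) (hθ : IsIrr H θ)
    (hθ' : IsIrr H θ') (h : θ' ∉ cfclass L θ) : cfdot L (cfInd H L θ) (cfInd H L θ') = 0 := by
  classical
  rw [cfdot_Ind_irr hHL hn hθ hθ', if_neg h]

theorem cfclass_Ind_irrP (hHL : H ≤ L) (hn : L ≤ normalizer (H : Set G)) (hθ : IsIrr H θ)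
    (hθ' : IsIrr H θ') : cfInd H L θ' = cfInd H L θ ↔ θ' ∈ cfclass L θ := by
  refine ⟨fun h => ?_, cfInd_eq_of_mem_cfclass hn⟩
  by_contra h1
  have h2 := not_cfclass_Ind_ortho hHL hn hθ hθ' h1
  rw [h, cfdot_self_eq_zero cfInd_mem_CF] at h2
  exact hθ.cfInd_ne_zero hHL h2

theorem cfInd_irr_ortho (hHL : H ≤ L) (hn : L ≤ normalizer (H : Set G)) (hθ : IsIrr H θ)
    (hθ' : IsIrr H θ') (h : cfInd H L θ ≠ cfInd H L θ') :
    cfdot L (cfInd H L θ) (cfInd H L θ') = 0 := by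
  exact not_cfclass_Ind_ortho hHL hn hθ hθ' fun h1 => h (cfInd_eq_of_mem_cfclass hn h1).symm

open Classical in
theorem card_imset_Ind_irr (hHL : H ≤ L) (hn : L ≤ normalizer (H : Set G)) {P : Irr H → Prop}
    (hirr : ∀ θ, P θ → IsIrr L (cfInd H L θ))
    (hP : ∀ θ, P θ → ∀ x (hx : x ∈ L), P (θ.conjg x (hn hx))) :
    (Finset.univ.filter P).card = H.relIndex L * (seqInd H L P).card := by
  rw [Finset.card_eq_sum_card_image (fun θ : Irr H => cfInd H L θ), mul_comm, ← smul_eq_mul,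
    ← Finset.sum_const]
  refine Finset.sum_congr rfl fun ξ hξ => ?_
  obtain ⟨θ, hθ, rfl⟩ := Finset.mem_image.mp hξ
  have hθ := (Finset.mem_filter.mp hθ).2
  have h1 : L ⊓ inertia θ = H :=
    le_antisymm (inertia_le_of_Ind_irr hHL hn θ.irr (hirr θ hθ)) (le_inf hHL (le_inertia θ.mem_CF))
  rw [show H.relIndex L = (cfclass L θ).card by rw [card_cfclass, ← inf_relIndex_left L (inertia _), h1]]
  refine Finset.card_bij (fun a _ => (a : G → ℂ)) (fun a ha => ?_) (fun a _ b _ h => Irr.ext h)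
    fun b hb => ?_
  · exact (cfclass_Ind_irrP hHL hn θ.irr a.irr).mp (Finset.mem_filter.mp ha).2
  · obtain ⟨x, hx, rfl⟩ := mem_cfclass.mp hb
    exact ⟨θ.conjg x (hn hx), Finset.mem_filter.mpr ⟨Finset.mem_filter.mpr
      ⟨Finset.mem_univ _, hP θ hθ x hx⟩, cfInd_cfConjg hx (hn hx)⟩, rfl⟩

/-- Peterfalvi (1.5)(d). -/
theorem scaled_cfResInd_sum_cfclass (hHL : H ≤ L) (hn : L ≤ normalizer (H : Set G))
    (hθ : IsIrr H θ) :
    (cfInd H L θ 1 / cfnorm L (cfInd H L θ)) • cfRes H (cfInd H L θ) =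
      (H.relIndex L : ℂ) • ∑ ξ ∈ cfclass L θ, ξ 1 • ξ := by
  rw [cfResInd_sum_cfclass hHL hn hθ.mem_CF, cfnorm_Ind_irr hHL hn hθ, cfInd_one hHL, smul_smul,
    Finset.sum_congr rfl (f := fun ξ : G → ℂ => ξ 1 • ξ) (g := fun ξ => θ 1 • ξ)
      fun ξ hξ => by rw [apply_one_of_mem_cfclass hξ], ← Finset.smul_sum,
    smul_smul, Complex.ofReal_natCast, div_mul_cancel₀ _ (relIndex_cast_ne_zero _ _)]

/-- Peterfalvi (1.5)(e). -/
theorem odd_induced_orthogonal (hHL : H ≤ L) (hn : L ≤ normalizer (H : Set G))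
    (hodd : Odd (Nat.card L)) (hθ : IsIrr H θ) (h1 : θ ≠ cf1 H) :
    cfdot L (cfInd H L θ) (cfConjC (cfInd H L θ)) = 0 := by
  rw [cfConjC, cfInd_cfAut]
  refine not_cfclass_Ind_ortho hHL hn hθ (hθ.cfAut _) fun h => h1 ?_
  obtain ⟨x, hx, h2⟩ := mem_cfclass.mp h
  have h3 : x ∈ inertia θ := by
    refine mem_of_sq_mem_of_odd (hodd.of_dvd_nat (orderOf_dvd_card_of_mem hx)) ?_
    rw [mem_inertia_iff, pow_two, cfConjg_mul, h2, cfConjg_cfAut, h2]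
    exact cfConjC_cfConjC
  rw [← odd_eq_conj_irr1 (odd_card_of_le hHL hodd) hθ, cfConjC, ← h2, mem_inertia_iff.mp h3]

theorem le_cfker_cfInd' (hHL : H ≤ L) (hn : L ≤ normalizer (N : Set G)) (hk : N ≤ cfker H φ) :
    N ≤ cfker L (cfInd H L φ) := by
  intro n hn'
  have hnL : n ∈ L := hHL (cfker_le (hk hn'))
  refine mem_cfker.mpr ⟨hnL, fun y => ?_⟩
  by_cases hy : y ∈ L
  · rw [cfInd_apply hy, cfInd_apply (L.mul_mem hnL hy)]
    congr 1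
    refine Finset.sum_congr rfl fun x hx => ?_
    have h1 := hk ((norm_conj_mem (hn (mem_elems.mp hx))).mpr hn')
    rw [← cfker_mul_left (cfker_cfRes ⟨cfker_le h1, h1⟩) (x * y * x⁻¹)]
    congr 1; group
  · rw [cfInd_apply_of_notMem hy, cfInd_apply_of_notMem fun h => hy ((L.mul_mem_cancel_left hnL).mp h)]

/-- Peterfalvi (1.6)(a). -/
theorem sub_cfker_Ind (hHL : H ≤ L) (hn : L ≤ normalizer (N : Set G)) (hχ : IsChar H χ)
    (h0 : χ ≠ 0) : N ≤ cfker L (cfInd H L χ) ↔ N ≤ cfker H χ := by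
  refine ⟨fun h n hn' => ?_, le_cfker_cfInd' hHL hn⟩
  have h1 := cfker_apply (h hn')
  rw [cfInd_apply' hχ.2 (cfker_le (h hn')), cfInd_apply' hχ.2 L.one_mem] at h1
  have h2 := congrArg Complex.re (mul_left_cancel₀ (inv_ne_zero (card_ne_zero H)) h1)
  rw [Complex.re_sum, Complex.re_sum] at h2
  have h3 : ‖χ 1‖ = (χ 1).re := by
    conv_lhs => rw [hχ.one_eq_re]
    rw [Complex.norm_real, Real.norm_of_nonneg hχ.one_re_nonneg]
  have h4 := (Finset.sum_eq_sum_iff_of_le fun x _ => by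
    rw [mul_one, mul_inv_cancel, ← h3]
    exact (Complex.re_le_norm _).trans (hχ.norm_le _)).mp h2 1 (mem_elems.mpr L.one_mem)
  simp only [one_mul, inv_one, mul_one] at h4
  have h5 : χ n = χ 1 := by
    have h6 := hχ.norm_le n
    rw [h3, ← h4] at h6
    rw [hχ.one_eq_re, ← h4]
    exact Complex.ext (by simp) (by
      simpa using Complex.abs_re_eq_norm.mp (le_antisymm (Complex.abs_re_le_norm _)
        (h6.trans (le_abs_self _))))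
  refine hχ.mem_cfker.mpr ⟨?_, h5⟩
  by_contra h6
  exact hχ.one_ne_zero h0 (h5 ▸ hχ.2 n h6)

theorem sub_cfker_Ind_irr (hHL : H ≤ L) (hn : L ≤ normalizer (N : Set G)) (hθ : IsIrr H θ) :
    N ≤ cfker L (cfInd H L θ) ↔ N ≤ cfker H θ :=
  sub_cfker_Ind hHL hn hθ.isChar hθ.ne_zero

theorem le_cfker_cfInd (hHL : H ≤ L) (hn : L ≤ normalizer (N : Set G)) (hk : N ≤ cfker H φ) :
    N ≤ cfker L (cfInd H L φ) := by
  exact le_cfker_cfInd' hHL hn hk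

theorem cfInd_irr_eq1 (hHL : H ≤ L) (hn : L ≤ normalizer (H : Set G)) (hθ : IsIrr H θ) :
    cfInd H L θ = cfInd H L (cf1 H) ↔ θ = cf1 H := by
  rw [cfclass_Ind_irrP hHL hn (isIrr_cf1 H) hθ,
    cfclass_of_invariant fun x hx => mem_inertia_cf1 (hn hx), Finset.mem_singleton]

theorem inf_cfker_le_of_constt (hHL : H ≤ L) (hχ : χ ∈ CF L) (hθ : IsIrr H θ)
    (h : cfdot H χ θ ≠ 0) : H ⊓ cfker L χ ≤ cfker H θ :=
  cfker_cfRes.trans (cfker_constt (cfRes_mem_CF hHL hχ) hθ (by rwa [cfdot_cfRes_left]))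

/-- Kernels of characters lying over each other. -/
theorem sub_cfker_constt_irr (hHL : H ≤ L) (hNH : N ≤ H) (hn : L ≤ normalizer (N : Set G))
    (hχ : IsIrr L χ) (hθ : IsIrr H θ) (h : cfdot H χ θ ≠ 0) :
    N ≤ cfker H θ ↔ N ≤ cfker L χ := by
  refine ⟨fun h1 => (le_cfker_cfInd hHL hn h1).trans (cfker_constt cfInd_mem_CF hχ ?_),
    fun h1 => (le_inf hNH h1).trans (inf_cfker_le_of_constt hHL hχ.mem_CF hθ h)⟩
  rwa [cfdot_cfInd_left hHL hχ.mem_CF, Ne, cfdot_eq_zero_comm]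

theorem cfInd_central_Inertia' (hHL : H ≤ L) (hn : L ≤ normalizer (H : Set G)) (hθ : IsIrr H θ)
    (hT : T = L ⊓ inertia θ) (hab : ⁅T, T⁆ ≤ H) :
    ∃ e : ℕ, 0 < e ∧ (∀ χ, IsIrr T χ → cfdot H χ θ ≠ 0 → cfRes H χ = (e : ℂ) • θ) ∧
      cfInd H L θ = (e : ℂ) • ∑ χ ∈ irrConstt L (cfInd H L θ), (χ : G → ℂ) ∧
      e ^ 2 * (irrConstt L (cfInd H L θ)).card = H.relIndex T ∧
      ∀ χ ∈ irrConstt L (cfInd H L θ), χ 1 = T.relIndex L * e * θ 1 := by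
  have hHT : H ≤ T := hT ▸ le_inf hHL (le_inertia hθ.mem_CF)
  have hTL : T ≤ L := hT ▸ inf_le_left
  obtain ⟨e, he, h1, -, -⟩ := cfInd_central_invariant hHT hab hθ (hT ▸ inf_le_right)
  have h2 : ∀ χ ∈ irrConstt L (cfInd H L θ), cfdot L (cfInd H L θ) χ = e ∧
      χ 1 = T.relIndex L * e * θ 1 := by
    intro χ hχ
    rw [mem_irrConstt, cfdot_cfInd_left hHL χ.mem_CF, Ne, cfdot_eq_zero_comm] at hχ
    obtain ⟨ψ, hψ, h3, h4⟩ := inertia_cfInd_surj hHT hTL hn hθ hT.ge χ.irr hχ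
    have h5 := h1 ψ hψ h3
    constructor
    · rw [cfdot_cfInd_left hHL χ.mem_CF, ← cfdot_conj, ← h4,
        inertia_cfdot_cfInd hHT hTL hn hθ hT.ge hψ h3, hθ.eq_of_cfRes_eq_smul h5]
      simp
    · rw [← h4, cfInd_one hTL, ← cfRes_one (H := H) (φ := ψ), h5, mul_assoc]; rfl
  have h3 : cfInd H L θ = (e : ℂ) • ∑ χ ∈ irrConstt L (cfInd H L θ), (χ : G → ℂ) := by
    conv_lhs => rw [cfun_sum_constt (cfInd_mem_CF (H := H) (L := L) (φ := θ))]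
    rw [Finset.smul_sum]
    exact Finset.sum_congr rfl fun ψ hψ => by rw [(h2 ψ hψ).1]
  refine ⟨e, he, h1, h3, ?_, fun χ hχ => (h2 χ hχ).2⟩
  have h4 : cfdot L (cfInd H L θ) (cfInd H L θ) = H.relIndex T := by
    rw [cfdot_self, cfnorm_Ind_irr hHL hn hθ, hT]; simp
  nth_rewrite 2 [h3] at h4
  rw [cfdot_natCast_smul_right, cfdot_sum_right, Finset.sum_congr rfl fun χ hχ => (h2 χ hχ).1,
    Finset.sum_const] at h4
  refine Nat.cast_injective (R := ℂ) ?_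
  rw [← h4]; push_cast; rw [nsmul_eq_mul]; ring

/-- Peterfalvi (1.7)(b). -/
theorem cfInd_central_Inertia (hHL : H ≤ L) (hn : L ≤ normalizer (H : Set G)) (hθ : IsIrr H θ)
    (hT : T = L ⊓ inertia θ) (hab : ⁅T, T⁆ ≤ H) :
    ∃ e : ℕ, 0 < e ∧
      cfInd H L θ = (e : ℂ) • ∑ χ ∈ irrConstt L (cfInd H L θ), (χ : G → ℂ) ∧
      e ^ 2 * (irrConstt L (cfInd H L θ)).card = H.relIndex T ∧
      ∀ χ ∈ irrConstt L (cfInd H L θ), χ 1 = T.relIndex L * e * θ 1 := by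
  obtain ⟨e, h1, -, h2⟩ := cfInd_central_Inertia' hHL hn hθ hT hab
  exact ⟨e, h1, h2⟩

/-- Peterfalvi (1.7)(c). -/
theorem cfInd_Hall_central_Inertia (hHL : H ≤ L) (hn : L ≤ normalizer (H : Set G))
    (hθ : IsIrr H θ) (hT : T = L ⊓ inertia θ) (hab : ⁅T, T⁆ ≤ H)
    (hcop : (Nat.card H).Coprime (H.relIndex T)) :
    cfInd H L θ = ∑ χ ∈ irrConstt L (cfInd H L θ), (χ : G → ℂ) ∧
      (irrConstt L (cfInd H L θ)).card = H.relIndex T ∧
      ∀ χ ∈ irrConstt L (cfInd H L θ), χ 1 = T.relIndex L * θ 1 := by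
  obtain ⟨e, -, h1, h2⟩ := cfInd_central_Inertia' hHL hn hθ hT hab
  obtain ⟨χ, hχ, h3⟩ := extend_coprime_abelian_irr (hT ▸ le_inf hHL (le_inertia hθ.mem_CF)) hab
    hcop hθ (hT ▸ inf_le_right)
  have h4 : cfdot H χ θ = 1 := by rw [← cfdot_cfRes_left, h3, hθ.cfdot_self]
  have h5 := hθ.eq_of_cfRes_eq_smul (h1 χ hχ (by rw [h4]; exact one_ne_zero))
  rw [h4, eq_comm, Nat.cast_eq_one] at h5
  simpa [h5] using h2

/-- Peterfalvi (1.8), in squared form. -/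
theorem irr1_bound_quo {B C D : Subgroup G} (hχ : IsIrr L χ) (hk : B ≤ cfker L χ) (hDC : D ≤ C)
    (hCL : C ≤ L) (hc : ⁅D, C⁆ ≤ B) :
    (χ 1).re ^ 2 ≤ (C.relIndex L : ℝ) ^ 2 * D.relIndex C := by
  obtain ⟨θ, hθ, h1⟩ := exists_irr_under hCL hχ
  have h2 := (hθ.isChar.cfInd hCL).constt_one_le hχ (by
    rwa [cfdot_cfInd_left hCL hχ.mem_CF, Ne, cfdot_eq_zero_comm])
  rw [cfInd_one hCL] at h2
  have h3 := hθ.one_sq_le_index hDC fun z hz y hy => inf_cfker_le_of_constt hCL hχ.mem_CF hθ h1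
    ⟨C.mul_mem (C.mul_mem (C.mul_mem hy (hDC hz)) (C.inv_mem hy)) (C.inv_mem (hDC hz)),
      hk (hc (commutator_comm_le _ _ (commutator_mem_commutator hy hz)))⟩
  simp only [Complex.mul_re, Complex.natCast_re, Complex.natCast_im, zero_mul, sub_zero] at h2
  calc (χ 1).re ^ 2 ≤ (C.relIndex L * (θ 1).re) ^ 2 := pow_le_pow_left₀ hχ.one_re_pos.le h2 2
    _ = (C.relIndex L : ℝ) ^ 2 * (θ 1).re ^ 2 := mul_pow _ _ _
    _ ≤ _ := mul_le_mul_of_nonneg_left h3 (sq_nonneg _)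

/-- Peterfalvi (1.9), for roots of unity. -/
theorem exists_aut_pow_fix {a k : ℕ} (n : ℕ) (hn : n ≠ 0) (ha : a ≠ 0) (hk : k.Coprime a) :
    ∃ u : ℂ →+* ℂ, (∀ ζ : ℂ, ζ ^ a = 1 → u ζ = ζ ^ k) ∧
      ∀ m, m ∣ n → m.Coprime a → ∀ ζ : ℂ, ζ ^ m = 1 → u ζ = ζ := by
  obtain ⟨c, b, h1, hc, hb⟩ := exists_piNum_mul {p | p ∣ a} hn
  have hab : a.Coprime b := IsPiNum.coprime_compl (fun p _ hp => hp) hb
  obtain ⟨u, h2, h3⟩ := exists_aut_pow_crt ha (right_ne_zero_of_mul (h1 ▸ hn)) hab hk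
  refine ⟨u, h2, fun m hm hma ζ hζ => h3 ζ ?_⟩
  have h4 : c.Coprime m := IsPiNum.coprime_compl hc fun p hp hpm hpa =>
    hp.one_lt.ne' (Nat.eq_one_of_dvd_coprimes hma hpm hpa)
  obtain ⟨d, rfl⟩ := h4.symm.dvd_of_dvd_mul_left (h1 ▸ hm)
  rw [pow_mul, hζ, one_pow]

/-- Peterfalvi (1.9)(b), strengthened. -/
theorem make_pi_cfAut (G : Type*) [Group G] [Fintype G] {a k : ℕ} (ha : a ≠ 0)
    (hk : k.Coprime a) :
    ∃ u : ℂ →+* ℂ, (∀ ζ : ℂ, ζ ^ a = 1 → u ζ = ζ ^ k) ∧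
      (∀ (L : Subgroup G) (φ : G → ℂ), φ ∈ ZIrr L → ∀ x, orderOf x ∣ a → u (φ x) = φ (x ^ k)) ∧
      ∀ (L : Subgroup G) (φ : G → ℂ), φ ∈ ZIrr L → ∀ x, (orderOf x).Coprime a →
        u (φ x) = φ x := by
  obtain ⟨u, h1, h2⟩ := exists_aut_pow_fix (Nat.card G) Nat.card_pos.ne' ha hk
  refine ⟨u, h1, fun L φ hφ x hx => ZIrr_aut_eq_pow hφ h1 hk hx, fun L φ hφ x hx => ?_⟩
  rw [ZIrr_aut_eq_pow hφ (n := orderOf x) (k := 1)
    (fun ζ hζ => by rw [h2 _ (orderOf_dvd_natCard x) hx ζ hζ, pow_one]) (Nat.coprime_one_left _)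
    dvd_rfl, pow_one]

theorem exists_comm_subgroup {x y : G} (hx : x ∈ L) (hy : y ∈ L) (hc : x * y = y * x) :
    ∃ A ≤ L, x ∈ A ∧ y ∈ A ∧ ∀ a ∈ A, ∀ b ∈ A, a * b = b * a := by
  refine ⟨L ⊓ (centralizer {x, y} ⊓ centralizer (centralizer ({x, y} : Set G))), inf_le_left,
    ⟨hx, ?_, fun g hg => (hg x (by simp)).symm⟩, ⟨hy, ?_, fun g hg => (hg y (by simp)).symm⟩,
    fun a ha b hb => hb.2.2 a ha.2.1⟩
  · rintro g (rfl | rfl)
    exacts [rfl, hc.symm]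
  · rintro g (rfl | rfl)
    exacts [hc, rfl]

theorem eqAmod_pow_one {ε : ℂ} (hε : IsIntegral ℤ ε) (i : ℕ) : EqAmod (1 - ε) (ε ^ i) 1 :=
  ⟨-∑ j ∈ Finset.range i, ε ^ j, (IsIntegral.sum _ fun j _ => hε.pow j).neg, by
    rw [← mul_geom_sum]; ring⟩

/-- Peterfalvi (1.10)(a). -/
theorem vchar_ker_mod_prim {p : ℕ} {ε : ℂ} (hε : IsPrimitiveRoot ε p) (hφ : φ ∈ ZIrr L) {x y : G}
    (hx : x ∈ L) (ho : orderOf x = p) (hc : x * y = y * x) :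
    EqAmod (1 - ε) (φ (x * y)) (φ y) := by
  by_cases hy : y ∈ L
  swap
  · rw [CF_zero (ZIrr_mem_CF hφ) hy,
      CF_zero (ZIrr_mem_CF hφ) fun h => hy ((L.mul_mem_cancel_left hx).mp h)]
    exact EqAmod.refl _ _
  obtain ⟨A, hA, hxA, hyA, hcA⟩ := exists_comm_subgroup hx hy hc
  have hp : p ≠ 0 := ho ▸ (orderOf_pos x).ne'
  have := NeZero.mk hp
  have key : ∀ ψ ∈ ZIrr A, EqAmod (1 - ε) (ψ (x * y)) (ψ y) := by
    intro ψ hψ
    induction hψ using Submodule.span_induction with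
    | mem ψ hψ =>
      have h1 := IsIrr.isLin_of_comm hψ hcA
      obtain ⟨i, -, hi⟩ := hε.eq_pow_of_pow_eq_one (ho ▸ h1.pow_orderOf hxA)
      have h2 := (eqAmod_pow_one (hε.isIntegral (Nat.pos_of_ne_zero hp)) i).mul_right
        (h1.isChar.isIntegral y)
      rwa [one_mul, hi, ← h1.map_mul hxA hyA] at h2
    | zero => exact EqAmod.refl _ _
    | add ψ ψ' _ _ h1 h2 => exact h1.add h2
    | smul n ψ _ h1 =>
      simpa using h1.mul_left (z := n) (isIntegral_algebraMap (x := n))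
  have := key _ (ZIrr_cfRes hA hφ)
  rwa [cfRes_apply hyA, cfRes_apply (A.mul_mem hxA hyA)] at this

/-- Peterfalvi (1.10)(b). -/
theorem int_eqAmod_prime_prim {p : ℕ} {ε : ℂ} (hε : IsPrimitiveRoot ε p) (hp : p.Prime) {n : ℤ}
    (h : EqAmod (1 - ε) n 0) : (p : ℤ) ∣ n := by
  obtain ⟨z, hz, h1⟩ := h
  rw [sub_zero] at h1
  obtain ⟨m, rfl⟩ : ∃ m, p = m + 1 := ⟨p - 1, by have := hp.pos; omega⟩
  have h2 : ∀ k ∈ Finset.range m, ∃ w : ℂ, IsIntegral ℤ w ∧ (n : ℂ) = (1 - ε ^ (k + 1)) * w := by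
    intro k hk
    obtain ⟨u, hu⟩ := exists_aut_pow (n := m + 1) (k := k + 1) hp.ne_zero
      (Nat.coprime_of_lt_prime (by omega) (by simpa using hk) hp).symm
    refine ⟨u z, hz.map u.toIntAlgHom, ?_⟩
    have := congrArg u h1
    rwa [map_intCast, map_mul, map_sub, map_one, hu ε hε.pow_eq_one] at this
  choose! w hw hw' using h2
  have h3 : EqAmod (m + 1 : ℕ) ((n ^ m : ℤ) : ℂ) (0 : ℤ) := by
    refine ⟨∏ k ∈ Finset.range m, w k, IsIntegral.prod _ hw, ?_⟩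
    rw [Nat.cast_add, Nat.cast_one, ← hε.prod_one_sub_pow_eq_order, ← Finset.prod_mul_distrib,
      ← Finset.prod_congr rfl hw']
    simp
  rw [eqAmod_nat_iff, sub_zero] at h3
  exact (Nat.prime_iff_prime_int.mp hp).dvd_of_dvd_pow h3

end CfsgLib.FT
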