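import Cfsg.Agent.Lib.FT.CFDefs

/-!
# Ambient-style class functions: inner products, irreducible and virtual characters
-/

set_option autoImplicit false
set_option linter.unusedSectionVars false

namespace CfsgLib.FT

open Cfsg Subgroup
open scoped ComplexConjugate

variable {G : Type*} [Group G]

/-! ### Membership lemmas -/

section Mem

variable {L K H : Subgroup G} {A B : Set G} {φ ψ χ : G → ℂ}

theorem mem_suppOn : φ ∈ suppOn A ↔ ∀ x, x ∉ A → φ x = 0 := Iff.rfl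

theorem mem_CF : φ ∈ CF L ↔ (∀ x, x ∉ L → φ x = 0) ∧ ∀ y ∈ L, ∀ x, φ (y * x * y⁻¹) = φ x :=
  Iff.rfl

theorem mem_CFon : φ ∈ CFon L A ↔ φ ∈ CF L ∧ ∀ x, x ∉ A → φ x = 0 := Iff.rfl

theorem CF_zero (h : φ ∈ CF L) {x : G} (hx : x ∉ L) : φ x = 0 := h.1 x hx

theorem CF_conj (h : φ ∈ CF L) {y : G} (hy : y ∈ L) (x : G) : φ (y * x * y⁻¹) = φ x := h.2 y hy x

theorem CF_conj' (h : φ ∈ CF L) {y : G} (hy : y ∈ L) (x : G) : φ (y⁻¹ * x * y) = φ x := by
  have := h.2 y⁻¹ (L.inv_mem hy) x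
  rwa [inv_inv] at this

theorem CF_mul_comm (h : φ ∈ CF L) {y : G} (hy : y ∈ L) (x : G) : φ (y * x) = φ (x * y) := by
  rw [← CF_conj h hy (x * y)]; congr 1; group

theorem CFon_CF (h : φ ∈ CFon L A) : φ ∈ CF L := h.1

theorem CFon_zero (h : φ ∈ CFon L A) {x : G} (hx : x ∉ A) : φ x = 0 := h.2 x hx

theorem CFon_mono (hAB : A ⊆ B) (h : φ ∈ CFon L A) : φ ∈ CFon L B :=
  ⟨h.1, fun x hx => h.2 x fun hA => hx (hAB hA)⟩

theorem CFon_self (h : φ ∈ CF L) : φ ∈ CFon L (L : Set G) := ⟨h, h.1⟩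

theorem mem_sharp {x : G} : x ∈ sharp H ↔ x ∈ H ∧ x ≠ 1 := Iff.rfl

theorem one_notMem_sharp : (1 : G) ∉ sharp H := fun h => h.2 rfl

theorem sharp_subset : sharp H ⊆ (H : Set G) := fun _ h => h.1

theorem sharp_mono (h : H ≤ K) : sharp H ⊆ sharp K := fun _ hx => ⟨h hx.1, hx.2⟩

theorem sharp_conj (hn : L ≤ normalizer (H : Set G)) :
    ∀ x ∈ L, ∀ a ∈ sharp H, x * a * x⁻¹ ∈ sharp H := fun x hx a ha =>
  ⟨(mem_normalizer_iff.mp (hn hx) a).mp ha.1, fun h => ha.2 (by simpa using h)⟩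

theorem mem_CFon_sharp : φ ∈ CFon L (sharp K) ↔ φ ∈ CFon L (K : Set G) ∧ φ 1 = 0 := by
  refine ⟨fun h => ⟨CFon_mono sharp_subset h, h.2 1 one_notMem_sharp⟩, fun h => ⟨h.1.1, ?_⟩⟩
  intro x hx
  by_cases h1 : x = 1
  · rw [h1, h.2]
  · exact h.1.2 x fun hK => hx ⟨hK, h1⟩

theorem mem_CFon_sharp_self : φ ∈ CFon L (sharp L) ↔ φ ∈ CF L ∧ φ 1 = 0 := by
  rw [mem_CFon_sharp]
  exact ⟨fun h => ⟨h.1.1, h.2⟩, fun h => ⟨CFon_self h.1, h.2⟩⟩

theorem CFon_of_insert_one (h : φ ∈ CFon L (insert 1 A)) (h1 : φ 1 = 0) : φ ∈ CFon L A := by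
  refine ⟨h.1, fun x hx => ?_⟩
  by_cases hx1 : x = 1
  · rw [hx1, h1]
  · exact h.2 x (by simp [hx1, hx])

theorem CF_mul (h : φ ∈ CF L) (h' : ψ ∈ CF L) : φ * ψ ∈ CF L :=
  ⟨fun x hx => by simp [h.1 x hx], fun y hy x => by simp [h.2 y hy x, h'.2 y hy x]⟩

theorem CFon_mul (h : φ ∈ CFon L A) (h' : ψ ∈ CF L) : φ * ψ ∈ CFon L A :=
  ⟨CF_mul h.1 h', fun x hx => by simp [h.2 x hx]⟩

theorem cf1_apply {x : G} (hx : x ∈ L) : cf1 L x = 1 := Set.indicator_of_mem hx _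

theorem cf1_apply_of_notMem {x : G} (hx : x ∉ L) : cf1 L x = 0 := Set.indicator_of_notMem hx _

@[simp] theorem cf1_one : cf1 L 1 = 1 := cf1_apply L.one_mem

theorem cf1_top : cf1 (⊤ : Subgroup G) = 1 := by
  funext x; exact cf1_apply (mem_top x)

theorem cf1_eq_cfInd1 : cf1 L = cfInd1 (L : Set G) := rfl

theorem cfInd1_apply {x : G} (hx : x ∈ A) : cfInd1 A x = 1 := Set.indicator_of_mem hx _

theorem cfInd1_apply_of_notMem {x : G} (hx : x ∉ A) : cfInd1 A x = 0 :=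
  Set.indicator_of_notMem hx _

theorem cfInd1_mem_CFon (hA : A ⊆ L) (hn : ∀ x ∈ L, ∀ a ∈ A, x * a * x⁻¹ ∈ A) :
    cfInd1 A ∈ CFon L A := by
  refine ⟨⟨fun x hx => cfInd1_apply_of_notMem fun h => hx (hA h), fun y hy x => ?_⟩,
    fun x hx => cfInd1_apply_of_notMem hx⟩
  by_cases hx : x ∈ A
  · rw [cfInd1_apply hx, cfInd1_apply (hn y hy x hx)]
  · rw [cfInd1_apply_of_notMem hx, cfInd1_apply_of_notMem]
    intro h
    have := hn y⁻¹ (L.inv_mem hy) _ h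
    apply hx
    simpa [mul_assoc] using this

theorem cf1_mem_CF : cf1 L ∈ CF L :=
  (cfInd1_mem_CFon (A := (L : Set G)) subset_rfl fun _ hx _ ha =>
    L.mul_mem (L.mul_mem hx ha) (L.inv_mem hx)).1

theorem cf1_mul (h : φ ∈ CF L) : cf1 L * φ = φ := by
  funext x
  by_cases hx : x ∈ L
  · simp [cf1_apply hx]
  · simp [h.1 x hx]

theorem mul_cf1 (h : φ ∈ CF L) : φ * cf1 L = φ := by rw [mul_comm, cf1_mul h]

@[simp] theorem Irr.coe_one [Fintype G] : ((1 : Irr L) : G → ℂ) = cf1 L := rfl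

theorem Irr.irr (χ : Irr L) : IsIrr L χ := χ.2

theorem Irr.ext {χ ψ : Irr L} (h : (χ : G → ℂ) = ψ) : χ = ψ := Subtype.ext h

theorem Irr.coe_inj {χ ψ : Irr L} : (χ : G → ℂ) = ψ ↔ χ = ψ := Subtype.val_inj

theorem cfRes_apply {x : G} (hx : x ∈ H) : cfRes H φ x = φ x := Set.indicator_of_mem hx _

theorem cfRes_apply_of_notMem {x : G} (hx : x ∉ H) : cfRes H φ x = 0 :=
  Set.indicator_of_notMem hx _

@[simp] theorem cfRes_one : cfRes H φ 1 = φ 1 := cfRes_apply H.one_mem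

theorem cfRes_mem_CF (hHL : H ≤ L) (h : φ ∈ CF L) : cfRes H φ ∈ CF H := by
  refine ⟨fun x hx => cfRes_apply_of_notMem hx, fun y hy x => ?_⟩
  by_cases hx : x ∈ H
  · rw [cfRes_apply hx, cfRes_apply (H.mul_mem (H.mul_mem hy hx) (H.inv_mem hy)),
      h.2 y (hHL hy)]
  · rw [cfRes_apply_of_notMem hx, cfRes_apply_of_notMem]
    intro h'
    apply hx
    have := H.mul_mem (H.mul_mem (H.inv_mem hy) h') hy
    simpa [mul_assoc] using this

theorem cfRes_of_supp (h : ∀ x, x ∉ H → φ x = 0) : cfRes H φ = φ := by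
  funext x
  by_cases hx : x ∈ H
  · exact cfRes_apply hx
  · rw [cfRes_apply_of_notMem hx, h x hx]

theorem cfRes_self (h : φ ∈ CF L) : cfRes L φ = φ := cfRes_of_supp h.1

theorem cfRes_top : cfRes ⊤ φ = φ := cfRes_of_supp fun x hx => (hx (mem_top x)).elim

theorem cfRes_cfRes (hHK : H ≤ K) : cfRes H (cfRes K φ) = cfRes H φ := by
  funext x
  by_cases hx : x ∈ H
  · rw [cfRes_apply hx, cfRes_apply hx, cfRes_apply (hHK hx)]
  · rw [cfRes_apply_of_notMem hx, cfRes_apply_of_notMem hx]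

theorem cfRes_mul : cfRes H (φ * ψ) = cfRes H φ * cfRes H ψ := by
  funext x
  by_cases hx : x ∈ H
  · simp [cfRes_apply hx]
  · simp [cfRes_apply_of_notMem hx]

theorem cfRes_cf1 (hHL : H ≤ L) : cfRes H (cf1 L) = cf1 H := by
  funext x
  by_cases hx : x ∈ H
  · rw [cfRes_apply hx, cf1_apply hx, cf1_apply (hHL hx)]
  · rw [cfRes_apply_of_notMem hx, cf1_apply_of_notMem hx]

theorem cfRes_congr (h : ∀ x ∈ H, φ x = ψ x) : cfRes H φ = cfRes H ψ := by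
  funext x
  by_cases hx : x ∈ H
  · rw [cfRes_apply hx, cfRes_apply hx, h x hx]
  · rw [cfRes_apply_of_notMem hx, cfRes_apply_of_notMem hx]

/-! ### `cfAut`, `cfConjC`, `cfConjg` -/

@[simp] theorem cfAut_apply (u : ℂ →+* ℂ) (x : G) : cfAut u φ x = u (φ x) := rfl

theorem cfAut_add (u : ℂ →+* ℂ) : cfAut u (φ + ψ) = cfAut u φ + cfAut u ψ := by
  funext x; simp

theorem cfAut_sub (u : ℂ →+* ℂ) : cfAut u (φ - ψ) = cfAut u φ - cfAut u ψ := by
  funext x; simp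

theorem cfAut_neg (u : ℂ →+* ℂ) : cfAut u (-φ) = -cfAut u φ := by
  funext x; simp

theorem cfAut_mul (u : ℂ →+* ℂ) : cfAut u (φ * ψ) = cfAut u φ * cfAut u ψ := by
  funext x; simp

@[simp] theorem cfAut_zero (u : ℂ →+* ℂ) : cfAut u (0 : G → ℂ) = 0 := by
  funext x; simp

theorem cfAut_smul (u : ℂ →+* ℂ) (c : ℂ) : cfAut u (c • φ) = u c • cfAut u φ := by
  funext x; simp

theorem cfAut_zsmul (u : ℂ →+* ℂ) (c : ℤ) : cfAut u (c • φ) = c • cfAut u φ := by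
  funext x; simp

theorem cfAut_sum (u : ℂ →+* ℂ) {ι : Type*} (s : Finset ι) (f : ι → G → ℂ) :
    cfAut u (∑ i ∈ s, f i) = ∑ i ∈ s, cfAut u (f i) := by
  funext x; simp

theorem cfAut_injective (u : ℂ →+* ℂ) : Function.Injective (cfAut u : (G → ℂ) → G → ℂ) :=
  fun _ _ h => funext fun x => u.injective (congrFun h x)

theorem cfAut_cfAut (u v : ℂ →+* ℂ) : cfAut u (cfAut v φ) = cfAut (u.comp v) φ := rfl

@[simp] theorem cfConjC_cfConjC : cfConjC (cfConjC φ) = φ := by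
  funext x; simp

theorem cfAut_cfInd1 (u : ℂ →+* ℂ) : cfAut u (cfInd1 A) = cfInd1 A := by
  funext x
  by_cases hx : x ∈ A
  · simp [cfInd1_apply hx]
  · simp [cfInd1_apply_of_notMem hx]

@[simp] theorem cfAut_cf1 (u : ℂ →+* ℂ) : cfAut u (cf1 L) = cf1 L := cfAut_cfInd1 u

theorem cfAut_mem_CF (u : ℂ →+* ℂ) (h : φ ∈ CF L) : cfAut u φ ∈ CF L :=
  ⟨fun x hx => by simp [h.1 x hx], fun y hy x => by simp [h.2 y hy x]⟩

theorem cfAut_mem_CFon (u : ℂ →+* ℂ) (h : φ ∈ CFon L A) : cfAut u φ ∈ CFon L A :=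
  ⟨cfAut_mem_CF u h.1, fun x hx => by simp [h.2 x hx]⟩

theorem cfAut_cfRes (u : ℂ →+* ℂ) : cfAut u (cfRes H φ) = cfRes H (cfAut u φ) := by
  funext x
  by_cases hx : x ∈ H
  · simp [cfRes_apply hx]
  · simp [cfRes_apply_of_notMem hx]

@[simp] theorem cfConjg_apply (x g : G) : cfConjg x φ g = φ (x⁻¹ * g * x) := rfl

theorem cfConjg_mul (x y : G) : cfConjg (x * y) φ = cfConjg x (cfConjg y φ) := by
  funext g; simp [mul_assoc]

@[simp] theorem cfConjg_one : cfConjg 1 φ = φ := by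
  funext g; simp

theorem cfConjg_inv_cfConjg (x : G) : cfConjg x⁻¹ (cfConjg x φ) = φ := by
  rw [← cfConjg_mul]; simp

theorem cfConjg_cfConjg_inv (x : G) : cfConjg x (cfConjg x⁻¹ φ) = φ := by
  rw [← cfConjg_mul]; simp

theorem cfConjg_injective (x : G) : Function.Injective (cfConjg x : (G → ℂ) → G → ℂ) :=
  fun a b h => by rw [← cfConjg_inv_cfConjg (φ := a) x, h, cfConjg_inv_cfConjg]

theorem cfConjg_apply_one (x : G) : cfConjg x φ 1 = φ 1 := by simp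

theorem cfConjg_cfAut (u : ℂ →+* ℂ) (x : G) : cfConjg x (cfAut u φ) = cfAut u (cfConjg x φ) := rfl

theorem cfConjg_mul_fun (x : G) : cfConjg x (φ * ψ) = cfConjg x φ * cfConjg x ψ := rfl

theorem mem_inertia {x : G} : x ∈ inertia φ ↔ ∀ g, φ (x * g * x⁻¹) = φ g := Iff.rfl

theorem mem_inertia_iff {x : G} : x ∈ inertia φ ↔ cfConjg x φ = φ := by
  constructor
  · intro h; funext g
    have := (inertia φ).inv_mem h g
    rwa [inv_inv] at this
  · intro h g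
    have := congrFun h (x * g * x⁻¹)
    simp only [cfConjg_apply] at this
    rw [← this]; congr 1; group

theorem le_inertia (h : φ ∈ CF L) : L ≤ inertia φ := fun y hy x => h.2 y hy x

theorem cfConjg_of_mem (h : φ ∈ CF L) {y : G} (hy : y ∈ L) : cfConjg y φ = φ :=
  mem_inertia_iff.mp (le_inertia h hy)

theorem cfConjg_mem_CF {x : G} (hx : x ∈ normalizer (H : Set G)) (h : φ ∈ CF H) :
    cfConjg x φ ∈ CF H := by
  have hx' : ∀ g, g ∈ H ↔ x⁻¹ * g * x ∈ H := mem_normalizer_iff''.mp hx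
  refine ⟨fun g hg => h.1 _ fun h' => hg ((hx' g).mpr h'), fun y hy g => ?_⟩
  simp only [cfConjg_apply]
  rw [← h.2 _ ((hx' y).mp hy) (x⁻¹ * g * x)]
  congr 1; group

theorem cfConjg_cf1 {x : G} (hx : x ∈ normalizer (H : Set G)) : cfConjg x (cf1 H) = cf1 H := by
  have hx' : ∀ g, g ∈ H ↔ x⁻¹ * g * x ∈ H := mem_normalizer_iff''.mp hx
  funext g
  by_cases hg : g ∈ H
  · rw [cfConjg_apply, cf1_apply hg, cf1_apply ((hx' g).mp hg)]
  · rw [cfConjg_apply, cf1_apply_of_notMem hg, cf1_apply_of_notMem fun h => hg ((hx' g).mpr h)]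

theorem cfConjg_cfRes {x : G} (hx : x ∈ normalizer (H : Set G)) :
    cfConjg x (cfRes H φ) = cfRes H (cfConjg x φ) := by
  have hx' : ∀ g, g ∈ H ↔ x⁻¹ * g * x ∈ H := mem_normalizer_iff''.mp hx
  funext g
  by_cases hg : g ∈ H
  · rw [cfConjg_apply, cfRes_apply hg, cfRes_apply ((hx' g).mp hg), cfConjg_apply]
  · rw [cfConjg_apply, cfRes_apply_of_notMem hg,
      cfRes_apply_of_notMem fun h => hg ((hx' g).mpr h)]

theorem mem_cfker {x : G} : x ∈ cfker L φ ↔ x ∈ L ∧ ∀ y, φ (x * y) = φ y := Iff.rfl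

theorem cfker_le : cfker L φ ≤ L := fun _ h => h.1

theorem cfker_apply {x : G} (h : x ∈ cfker L φ) : φ x = φ 1 := by
  have := h.2 1
  rwa [mul_one] at this

theorem cfker_mul_left {x : G} (h : x ∈ cfker L φ) (y : G) : φ (x * y) = φ y := h.2 y

theorem cfker_mul_right (hφ : φ ∈ CF L) {x : G} (h : x ∈ cfker L φ) (y : G) : φ (y * x) = φ y := by
  rw [← CF_mul_comm hφ h.1, h.2]

theorem cfker_normal (hφ : φ ∈ CF L) : L ≤ normalizer (cfker L φ : Set G) := by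
  have key : ∀ y ∈ L, ∀ x ∈ cfker L φ, y * x * y⁻¹ ∈ cfker L φ := fun y hy x hx =>
    ⟨L.mul_mem (L.mul_mem hy hx.1) (L.inv_mem hy), fun z => by
      have h1 : y * x * y⁻¹ * z = y * (x * (y⁻¹ * z * y)) * y⁻¹ := by group
      rw [h1, hφ.2 y hy, hx.2, CF_conj' hφ hy]⟩
  intro y hy
  rw [mem_normalizer_iff]
  refine fun x => ⟨key y hy x, fun h => ?_⟩
  have := key y⁻¹ (L.inv_mem hy) _ h
  simpa [mul_assoc] using this

theorem cfker_cf1 : cfker L (cf1 L) = L := by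
  refine le_antisymm cfker_le fun x hx => ⟨hx, fun y => ?_⟩
  by_cases hy : y ∈ L
  · rw [cf1_apply hy, cf1_apply (L.mul_mem hx hy)]
  · rw [cf1_apply_of_notMem hy, cf1_apply_of_notMem]
    exact fun h => hy ((L.mul_mem_cancel_left hx).mp h)

theorem cfker_cfAut (u : ℂ →+* ℂ) : cfker L (cfAut u φ) = cfker L φ := by
  ext x
  simp only [mem_cfker, cfAut_apply, u.injective.eq_iff]

theorem cfker_cfRes : H ⊓ cfker L φ ≤ cfker H (cfRes H φ) := by
  rintro x ⟨hxH, hx⟩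
  refine ⟨hxH, fun y => ?_⟩
  by_cases hy : y ∈ H
  · rw [cfRes_apply hy, cfRes_apply (H.mul_mem hxH hy), hx.2]
  · rw [cfRes_apply_of_notMem hy, cfRes_apply_of_notMem]
    exact fun h => hy ((H.mul_mem_cancel_left hxH).mp h)

theorem mem_cfker_cfConjg {x g : G} (hx : x ∈ normalizer (H : Set G)) :
    g ∈ cfker H (cfConjg x φ) ↔ x⁻¹ * g * x ∈ cfker H φ := by
  have hx' : ∀ g, g ∈ H ↔ x⁻¹ * g * x ∈ H := mem_normalizer_iff''.mp hx
  simp only [mem_cfker, cfConjg_apply, ← hx' g]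
  refine and_congr_right fun _ => ⟨fun h y => ?_, fun h y => ?_⟩
  · have := h (x * y * x⁻¹)
    simpa [mul_assoc] using this
  · rw [← h (x⁻¹ * y * x)]; congr 1; group

theorem le_cfker_cfConjg {N : Subgroup G} {x : G} (hx : x ∈ normalizer (H : Set G))
    (hxN : x ∈ normalizer (N : Set G)) : N ≤ cfker H (cfConjg x φ) ↔ N ≤ cfker H φ := by
  have hx' : ∀ g, g ∈ N ↔ x⁻¹ * g * x ∈ N := mem_normalizer_iff''.mp hxN
  refine ⟨fun h g hg => ?_, fun h g hg => (mem_cfker_cfConjg hx).mpr (h ((hx' g).mp hg))⟩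
  have := (mem_cfker_cfConjg hx).mp (h ((mem_normalizer_iff.mp hxN g).mp hg))
  simpa [mul_assoc] using this

theorem cfker_inf_le_add : cfker L φ ⊓ cfker L ψ ≤ cfker L (φ + ψ) :=
  fun _ h => ⟨h.1.1, fun y => by simp [h.1.2 y, h.2.2 y]⟩

theorem cfker_inf_le_mul : cfker L φ ⊓ cfker L ψ ≤ cfker L (φ * ψ) :=
  fun _ h => ⟨h.1.1, fun y => by simp [h.1.2 y, h.2.2 y]⟩

theorem cfker_le_smul (c : ℂ) : cfker L φ ≤ cfker L (c • φ) :=
  fun _ h => ⟨h.1, fun y => by simp [h.2 y]⟩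

theorem cfker_smul {c : ℂ} (hc : c ≠ 0) : cfker L (c • φ) = cfker L φ := by
  ext x; simp [mem_cfker, hc]

theorem le_cfker_sum {ι : Type*} (s : Finset ι) (f : ι → G → ℂ) {N : Subgroup G} (hN : N ≤ L)
    (h : ∀ i ∈ s, N ≤ cfker L (f i)) : N ≤ cfker L (∑ i ∈ s, f i) := fun x hx =>
  ⟨hN hx, fun y => by
    simp only [Finset.sum_apply]
    exact Finset.sum_congr rfl fun i hi => (h i hi hx).2 y⟩

/-! ### `zspan` -/

theorem subset_zspan {S : Finset (G → ℂ)} (h : φ ∈ S) : φ ∈ zspan S := Submodule.subset_span h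

theorem zspan_mono {S T : Finset (G → ℂ)} (h : S ⊆ T) : zspan S ≤ zspan T :=
  Submodule.span_mono h

theorem zspan_le {S : Finset (G → ℂ)} {M : Submodule ℤ (G → ℂ)} (h : ∀ φ ∈ S, φ ∈ M) :
    zspan S ≤ M := Submodule.span_le.mpr h

theorem mem_zspan_iff {S : Finset (G → ℂ)} :
    φ ∈ zspan S ↔ ∃ c : (G → ℂ) → ℤ, φ = ∑ ξ ∈ S, (c ξ : ℂ) • ξ := by
  unfold zspan
  rw [Submodule.mem_span_finset]
  refine ⟨fun ⟨c, _, hc⟩ => ⟨c, ?_⟩, fun ⟨c, hc⟩ => ?_⟩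
  · rw [← hc]; simp only [Int.cast_smul_eq_zsmul]
  · classical
    refine ⟨fun ξ => if ξ ∈ S then c ξ else 0, fun ξ hξ => ?_, ?_⟩
    · by_contra h
      exact hξ (by simp [show ξ ∉ S from h])
    · rw [hc]
      exact Finset.sum_congr rfl fun ξ hξ => by simp [hξ, Int.cast_smul_eq_zsmul]

theorem intCast_smul_mem {M : Submodule ℤ (G → ℂ)} (h : φ ∈ M) (n : ℤ) : (n : ℂ) • φ ∈ M := by
  rw [Int.cast_smul_eq_zsmul]; exact M.smul_mem n h

theorem natCast_smul_mem {M : Submodule ℤ (G → ℂ)} (h : φ ∈ M) (n : ℕ) : (n : ℂ) • φ ∈ M := by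
  have := intCast_smul_mem h n
  rwa [Int.cast_natCast] at this

theorem zspan_mem_submodule {S : Finset (G → ℂ)} {M : Submodule ℂ (G → ℂ)} (h : ∀ ξ ∈ S, ξ ∈ M)
    (hφ : φ ∈ zspan S) : φ ∈ M :=
  zspan_le (M := M.restrictScalars ℤ) h hφ

theorem cfAut_mem_zspan (u : ℂ →+* ℂ) {S : Finset (G → ℂ)} (hS : ∀ ξ ∈ S, cfAut u ξ ∈ S)
    (h : φ ∈ zspan S) : cfAut u φ ∈ zspan S := by
  obtain ⟨c, rfl⟩ := mem_zspan_iff.mp h
  rw [cfAut_sum]
  refine Submodule.sum_mem _ fun ξ hξ => ?_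
  rw [cfAut_smul, map_intCast]
  exact intCast_smul_mem (subset_zspan (hS ξ hξ)) _

theorem map_mem_of_zspan {S : Finset (G → ℂ)} {M : Submodule ℤ (G → ℂ)} (τ : CFMap G)
    (h : ∀ ξ ∈ S, τ ξ ∈ M) (hφ : φ ∈ zspan S) : τ φ ∈ M := by
  obtain ⟨c, rfl⟩ := mem_zspan_iff.mp hφ
  rw [map_sum]
  refine Submodule.sum_mem _ fun ξ hξ => ?_
  rw [map_smul]
  exact intCast_smul_mem (h ξ hξ) _

theorem map_congr_of_zspan {S : Finset (G → ℂ)} {τ τ' : CFMap G}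
    (h : ∀ ξ ∈ S, τ ξ = τ' ξ) (hφ : φ ∈ zspan S) : τ φ = τ' φ := by
  obtain ⟨c, rfl⟩ := mem_zspan_iff.mp hφ
  rw [map_sum, map_sum]
  exact Finset.sum_congr rfl fun ξ hξ => by rw [map_smul, map_smul, h ξ hξ]

end Mem

variable [Fintype G]

/-! ### `elems` -/

@[simp] theorem mem_elems {A : Set G} {x : G} : x ∈ elems A ↔ x ∈ A := by
  simp [elems]

theorem card_elems_set (A : Set G) : (elems A).card = A.ncard := by
  rw [← Set.ncard_coe_finset]; congr 1; ext x; simp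

theorem card_elems (H : Subgroup G) : (elems (H : Set G)).card = Nat.card H := by
  rw [card_elems_set]; rfl

theorem elems_top : elems ((⊤ : Subgroup G) : Set G) = Finset.univ := by
  ext x; simp

theorem sum_elems_eq_sum_subtype {M : Type*} [AddCommMonoid M] (H : Subgroup G) [Fintype H]
    (f : G → M) : ∑ x ∈ elems (H : Set G), f x = ∑ x : H, f x :=
  Finset.sum_subtype _ (fun _ => mem_elems) f

end CfsgLib.FT
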