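import Cfsg.Agent.Lib.FT.CFBasic

/-!
# Ambient-style class functions: inner product, characters, virtual characters
-/

set_option autoImplicit false
set_option linter.unusedSectionVars false

namespace CfsgLib.FT

open Cfsg Subgroup
open scoped ComplexConjugate

variable {G : Type*} [Group G] [Fintype G]
variable {L K H : Subgroup G} {A B : Set G} {φ φ' ψ ψ' χ : G → ℂ}

theorem card_ne_zero (L : Subgroup G) : (Nat.card L : ℂ) ≠ 0 := by
  exact_mod_cast Nat.card_pos.ne'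

theorem card_pos_real (L : Subgroup G) : (0 : ℝ) < Nat.card L := by
  exact_mod_cast Nat.card_pos

/-! ### Sesquilinearity -/

theorem cfdot_eq_classInner [Fintype L] (φ ψ : G → ℂ) :
    cfdot L φ ψ = classInner (fun x : L => φ x) (fun x : L => ψ x) := by
  unfold cfdot classInner
  rw [sum_elems_eq_sum_subtype]

theorem cfdot_top (φ ψ : G → ℂ) : cfdot ⊤ φ ψ = classInner φ ψ := by
  unfold cfdot classInner
  rw [elems_top, Subgroup.card_top]

theorem cfdot_add_left : cfdot L (φ + φ') ψ = cfdot L φ ψ + cfdot L φ' ψ := by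
  simp [cfdot, add_mul, Finset.sum_add_distrib, mul_add]

theorem cfdot_add_right : cfdot L φ (ψ + ψ') = cfdot L φ ψ + cfdot L φ ψ' := by
  simp [cfdot, Finset.sum_add_distrib, mul_add]

theorem cfdot_sub_left : cfdot L (φ - φ') ψ = cfdot L φ ψ - cfdot L φ' ψ := by
  simp [cfdot, sub_mul, Finset.sum_sub_distrib, mul_sub]

theorem cfdot_sub_right : cfdot L φ (ψ - ψ') = cfdot L φ ψ - cfdot L φ ψ' := by
  simp [cfdot, Finset.sum_sub_distrib, mul_sub]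

theorem cfdot_neg_left : cfdot L (-φ) ψ = -cfdot L φ ψ := by
  simp [cfdot, Finset.sum_neg_distrib]

theorem cfdot_neg_right : cfdot L φ (-ψ) = -cfdot L φ ψ := by
  simp [cfdot, Finset.sum_neg_distrib]

theorem cfdot_smul_left (c : ℂ) : cfdot L (c • φ) ψ = c * cfdot L φ ψ := by
  simp only [cfdot, Pi.smul_apply, smul_eq_mul, mul_assoc, ← Finset.mul_sum]
  ring

theorem cfdot_smul_right (c : ℂ) : cfdot L φ (c • ψ) = conj c * cfdot L φ ψ := by
  simp only [cfdot, Pi.smul_apply, smul_eq_mul, map_mul, mul_left_comm _ (conj c),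
    ← Finset.mul_sum]

theorem cfdot_zsmul_left (c : ℤ) : cfdot L (c • φ) ψ = c * cfdot L φ ψ := by
  rw [← Int.cast_smul_eq_zsmul ℂ, cfdot_smul_left]

theorem cfdot_zsmul_right (c : ℤ) : cfdot L φ (c • ψ) = c * cfdot L φ ψ := by
  rw [← Int.cast_smul_eq_zsmul ℂ, cfdot_smul_right, map_intCast]

theorem cfdot_intCast_smul_right (c : ℤ) : cfdot L φ ((c : ℂ) • ψ) = c * cfdot L φ ψ := by
  rw [cfdot_smul_right, map_intCast]

theorem cfdot_natCast_smul_right (c : ℕ) : cfdot L φ ((c : ℂ) • ψ) = c * cfdot L φ ψ := by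
  rw [cfdot_smul_right, map_natCast]

@[simp] theorem cfdot_zero_left : cfdot L 0 ψ = 0 := by simp [cfdot]

@[simp] theorem cfdot_zero_right : cfdot L φ 0 = 0 := by simp [cfdot]

theorem cfdot_sum_left {ι : Type*} (s : Finset ι) (f : ι → G → ℂ) :
    cfdot L (∑ i ∈ s, f i) ψ = ∑ i ∈ s, cfdot L (f i) ψ := by
  classical
  induction s using Finset.induction_on with
  | empty => simp
  | insert a s ha ih => rw [Finset.sum_insert ha, Finset.sum_insert ha, cfdot_add_left, ih]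

theorem cfdot_sum_right {ι : Type*} (s : Finset ι) (f : ι → G → ℂ) :
    cfdot L φ (∑ i ∈ s, f i) = ∑ i ∈ s, cfdot L φ (f i) := by
  classical
  induction s using Finset.induction_on with
  | empty => simp
  | insert a s ha ih => rw [Finset.sum_insert ha, Finset.sum_insert ha, cfdot_add_right, ih]

theorem cfdot_conj : conj (cfdot L φ ψ) = cfdot L ψ φ := by
  simp [cfdot, mul_comm]

theorem cfdot_eq_zero_comm : cfdot L φ ψ = 0 ↔ cfdot L ψ φ = 0 := by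
  rw [← cfdot_conj (φ := φ), map_eq_zero]

theorem cfdot_symm_zero (h : cfdot L φ ψ = 0) : cfdot L ψ φ = 0 := cfdot_eq_zero_comm.mp h

theorem cfdot_cfConjC : cfdot L (cfConjC φ) (cfConjC ψ) = conj (cfdot L φ ψ) := by
  simp [cfdot]

theorem cfdot_cfConjC_left : cfdot L (cfConjC φ) ψ = conj (cfdot L φ (cfConjC ψ)) := by
  simp [cfdot]

theorem cfdot_cfConjC_right : cfdot L φ (cfConjC ψ) = conj (cfdot L (cfConjC φ) ψ) := by
  simp [cfdot]

theorem cfdot_mul_left (ξ : G → ℂ) : cfdot L (φ * ξ) ψ = cfdot L φ (ψ * cfConjC ξ) := by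
  simp only [cfdot, Pi.mul_apply, cfAut_apply, map_mul, Complex.conj_conj]
  congr 1
  exact Finset.sum_congr rfl fun x _ => by ring

theorem cfdot_congr (h1 : ∀ x ∈ L, φ x = φ' x) (h2 : ∀ x ∈ L, ψ x = ψ' x) :
    cfdot L φ ψ = cfdot L φ' ψ' := by
  unfold cfdot
  congr 1
  exact Finset.sum_congr rfl fun x hx => by rw [h1 x (mem_elems.mp hx), h2 x (mem_elems.mp hx)]

theorem cfdot_cfRes_left : cfdot H (cfRes H φ) ψ = cfdot H φ ψ :=
  cfdot_congr (fun _ hx => cfRes_apply hx) fun _ _ => rfl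

theorem cfdot_cfRes_right : cfdot H φ (cfRes H ψ) = cfdot H φ ψ :=
  cfdot_congr (fun _ _ => rfl) fun _ hx => cfRes_apply hx

/-- The inner product as a sum over a set containing the support. -/
theorem cfdot_eq_sum_of_supp (hA : A ⊆ L) (h : ∀ x ∈ L, x ∉ A → φ x * conj (ψ x) = 0) :
    cfdot L φ ψ = (Nat.card L : ℂ)⁻¹ * ∑ x ∈ elems A, φ x * conj (ψ x) := by
  unfold cfdot
  congr 1
  symm
  refine Finset.sum_subset (fun x hx => mem_elems.mpr (hA (mem_elems.mp hx))) fun x hx hx' => ?_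
  exact h x (mem_elems.mp hx) fun hA => hx' (mem_elems.mpr hA)

theorem cfdot_eq_zero_of_supp (h : ∀ x ∈ L, φ x = 0 ∨ ψ x = 0) : cfdot L φ ψ = 0 := by
  unfold cfdot
  rw [Finset.sum_eq_zero, mul_zero]
  intro x hx
  rcases h x (mem_elems.mp hx) with h | h <;> simp [h]

theorem cfdot_congr_of_supp (hφ : ∀ x, x ∉ A → φ x = 0) (h : ∀ x ∈ A, ψ x = ψ' x) :
    cfdot L φ ψ = cfdot L φ ψ' := by
  unfold cfdot
  congr 1
  refine Finset.sum_congr rfl fun x _ => ?_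
  by_cases hx : x ∈ A
  · rw [h x hx]
  · simp [hφ x hx]

theorem cfdot_cfConjg {x : G} (hx : x ∈ normalizer (H : Set G)) :
    cfdot H (cfConjg x φ) (cfConjg x ψ) = cfdot H φ ψ := by
  have hx' : ∀ g, g ∈ H ↔ x⁻¹ * g * x ∈ H := mem_normalizer_iff''.mp hx
  unfold cfdot
  congr 1
  refine Finset.sum_bij' (fun g _ => x⁻¹ * g * x) (fun g _ => x * g * x⁻¹) ?_ ?_ ?_ ?_ ?_
  · intro g hg; exact mem_elems.mpr ((hx' g).mp (mem_elems.mp hg))
  · intro g hg; exact mem_elems.mpr ((mem_normalizer_iff.mp hx g).mp (mem_elems.mp hg))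
  · intro g _; group
  · intro g _; group
  · intro g _; rfl

/-! ### Norms -/

theorem cfnorm_eq : cfnorm L φ = (Nat.card L : ℝ)⁻¹ * ∑ x ∈ elems (L : Set G), ‖φ x‖ ^ 2 := by
  have : cfdot L φ φ = (((Nat.card L : ℝ)⁻¹ * ∑ x ∈ elems (L : Set G), ‖φ x‖ ^ 2 : ℝ) : ℂ) := by
    simp [cfdot, Complex.mul_conj, Complex.normSq_eq_norm_sq]
  rw [cfnorm, this, Complex.ofReal_re]

theorem cfdot_self : cfdot L φ φ = (cfnorm L φ : ℂ) := by
  rw [cfnorm_eq]
  simp [cfdot, Complex.mul_conj, Complex.normSq_eq_norm_sq]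

theorem cfnorm_nonneg : 0 ≤ cfnorm L φ := by
  rw [cfnorm_eq]; positivity

theorem cfnorm_eq_sum_of_supp (hA : A ⊆ L) (h : ∀ x ∈ L, x ∉ A → φ x = 0) :
    cfnorm L φ = (Nat.card L : ℝ)⁻¹ * ∑ x ∈ elems A, ‖φ x‖ ^ 2 := by
  rw [cfnorm_eq]
  congr 1
  symm
  refine Finset.sum_subset (fun x hx => mem_elems.mpr (hA (mem_elems.mp hx))) fun x hx hx' => ?_
  simp [h x (mem_elems.mp hx) fun hA => hx' (mem_elems.mpr hA)]

theorem apply_eq_zero_of_cfnorm (h : cfnorm L φ = 0) {x : G} (hx : x ∈ L) : φ x = 0 := by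
  rw [cfnorm_eq, mul_eq_zero] at h
  rcases h with h | h
  · exact absurd h (inv_ne_zero (card_pos_real L).ne')
  · have := (Finset.sum_eq_zero_iff_of_nonneg fun _ _ => by positivity).mp h x (mem_elems.mpr hx)
    simpa using this

theorem cfnorm_eq_zero (hφ : φ ∈ CF L) : cfnorm L φ = 0 ↔ φ = 0 := by
  refine ⟨fun h => funext fun x => ?_, fun h => by simp [h, cfnorm]⟩
  by_cases hx : x ∈ L
  · exact apply_eq_zero_of_cfnorm h hx
  · exact hφ.1 x hx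

theorem eq_zero_of_cfnorm_top (h : cfnorm ⊤ φ = 0) : φ = 0 :=
  funext fun x => apply_eq_zero_of_cfnorm h (mem_top x)

theorem cfnorm_pos (hφ : φ ∈ CF L) (h : φ ≠ 0) : 0 < cfnorm L φ :=
  lt_of_le_of_ne cfnorm_nonneg fun h' => h ((cfnorm_eq_zero hφ).mp h'.symm)

theorem cfnorm_pos_of_apply {x : G} (hx : x ∈ L) (h : φ x ≠ 0) : 0 < cfnorm L φ :=
  lt_of_le_of_ne cfnorm_nonneg fun h' => h (apply_eq_zero_of_cfnorm h'.symm hx)

theorem cfdot_self_eq_zero (hφ : φ ∈ CF L) : cfdot L φ φ = 0 ↔ φ = 0 := by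
  rw [cfdot_self, Complex.ofReal_eq_zero, cfnorm_eq_zero hφ]

@[simp] theorem cfnorm_zero : cfnorm L 0 = 0 := by simp [cfnorm]

theorem cfnorm_neg : cfnorm L (-φ) = cfnorm L φ := by simp [cfnorm_eq]

theorem cfnorm_smul (c : ℂ) : cfnorm L (c • φ) = ‖c‖ ^ 2 * cfnorm L φ := by
  simp only [cfnorm_eq, Pi.smul_apply, smul_eq_mul, norm_mul, mul_pow, ← Finset.mul_sum]
  ring

theorem cfnorm_intCast_smul (c : ℤ) : cfnorm L ((c : ℂ) • φ) = (c : ℝ) ^ 2 * cfnorm L φ := by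
  rw [cfnorm_smul, Complex.norm_intCast, sq_abs]

theorem cfnorm_cfConjC : cfnorm L (cfConjC φ) = cfnorm L φ := by simp [cfnorm_eq]

theorem cfnorm_add : cfnorm L (φ + ψ) = cfnorm L φ + cfnorm L ψ + 2 * (cfdot L φ ψ).re := by
  have : (cfdot L ψ φ).re = (cfdot L φ ψ).re := by rw [← cfdot_conj, Complex.conj_re]
  simp only [cfnorm, cfdot_add_left, cfdot_add_right, Complex.add_re, this]
  ring

theorem cfnorm_sub : cfnorm L (φ - ψ) = cfnorm L φ + cfnorm L ψ - 2 * (cfdot L φ ψ).re := by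
  rw [sub_eq_add_neg, cfnorm_add, cfnorm_neg, cfdot_neg_right, Complex.neg_re]; ring

theorem cfnorm_add_of_ortho (h : cfdot L φ ψ = 0) :
    cfnorm L (φ + ψ) = cfnorm L φ + cfnorm L ψ := by
  rw [cfnorm_add, h]; simp

theorem cfnorm_sub_of_ortho (h : cfdot L φ ψ = 0) :
    cfnorm L (φ - ψ) = cfnorm L φ + cfnorm L ψ := by
  rw [cfnorm_sub, h]; simp

theorem cfnorm_sub_comm : cfnorm L (φ - ψ) = cfnorm L (ψ - φ) := by
  rw [← cfnorm_neg, neg_sub]

theorem cfnorm_congr (h : ∀ x ∈ L, φ x = ψ x) : cfnorm L φ = cfnorm L ψ := by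
  unfold cfnorm; rw [cfdot_congr h h]

theorem cfnorm_eq_of_cfdot {L' : Subgroup G} (h : cfdot L φ φ = cfdot L' ψ ψ) :
    cfnorm L φ = cfnorm L' ψ := by
  unfold cfnorm; rw [h]

theorem cfnorm_eq_of_cfdot_eq {r : ℝ} (h : cfdot L φ φ = r) : cfnorm L φ = r := by
  rw [cfnorm, h, Complex.ofReal_re]

theorem cfnorm_eq_one_iff : cfnorm L φ = 1 ↔ cfdot L φ φ = 1 := by
  rw [cfdot_self]; exact_mod_cast Iff.rfl

/-- Norm of an orthogonal sum. -/
theorem cfnorm_sum_of_ortho {ι : Type*} (s : Finset ι) (f : ι → G → ℂ)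
    (h : ∀ i ∈ s, ∀ j ∈ s, i ≠ j → cfdot L (f i) (f j) = 0) :
    cfnorm L (∑ i ∈ s, f i) = ∑ i ∈ s, cfnorm L (f i) := by
  unfold cfnorm
  rw [cfdot_sum_left, Complex.re_sum]
  refine Finset.sum_congr rfl fun i hi => ?_
  rw [cfdot_sum_right, Finset.sum_eq_single_of_mem i hi fun j hj hne => h i hi j hj hne.symm]

theorem cfdot_sum_smul_ortho {ι : Type*} (s : Finset ι) (f : ι → G → ℂ) (c : ι → ℂ)
    (h : ∀ i ∈ s, ∀ j ∈ s, i ≠ j → cfdot L (f i) (f j) = 0) {j : ι} (hj : j ∈ s) :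
    cfdot L (∑ i ∈ s, c i • f i) (f j) = c j * cfdot L (f j) (f j) := by
  rw [cfdot_sum_left, Finset.sum_eq_single_of_mem j hj, cfdot_smul_left]
  intro i hi hne
  rw [cfdot_smul_left, h i hi j hj hne, mul_zero]

/-- Cauchy-Schwarz. -/
theorem norm_cfdot_sq_le : ‖cfdot L φ ψ‖ ^ 2 ≤ cfnorm L φ * cfnorm L ψ := by
  rcases eq_or_lt_of_le (cfnorm_nonneg (L := L) (φ := ψ)) with h | h
  · have : cfdot L φ ψ = 0 :=
      cfdot_eq_zero_of_supp fun x hx => Or.inr (apply_eq_zero_of_cfnorm h.symm hx)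
    rw [this, ← h]; simp
  · set c := cfdot L φ ψ / (cfnorm L ψ : ℂ) with hc
    have h0 := cfnorm_nonneg (L := L) (φ := φ - c • ψ)
    have hre : (cfdot L φ (c • ψ)).re = ‖cfdot L φ ψ‖ ^ 2 / cfnorm L ψ := by
      rw [cfdot_smul_right, hc, map_div₀, Complex.conj_ofReal, div_mul_eq_mul_div,
        Complex.conj_mul', Complex.div_ofReal_re]
      norm_cast
    have hn : ‖c‖ ^ 2 = ‖cfdot L φ ψ‖ ^ 2 / cfnorm L ψ ^ 2 := by
      rw [hc, norm_div, div_pow, Complex.norm_real, Real.norm_eq_abs, sq_abs]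
    rw [cfnorm_sub, cfnorm_smul, hre, hn] at h0
    have h1 : ‖cfdot L φ ψ‖ ^ 2 / cfnorm L ψ ≤ cfnorm L φ := by
      have : ‖cfdot L φ ψ‖ ^ 2 / cfnorm L ψ ^ 2 * cfnorm L ψ = ‖cfdot L φ ψ‖ ^ 2 / cfnorm L ψ := by
        field_simp
      linarith
    rwa [div_le_iff₀ h] at h1

theorem cfdot_cf1_right : cfdot L φ (cf1 L) = (Nat.card L : ℂ)⁻¹ * ∑ x ∈ elems (L : Set G), φ x := by
  unfold cfdot
  congr 1
  exact Finset.sum_congr rfl fun x hx => by simp [cf1_apply (mem_elems.mp hx)]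

theorem cfdot_cfInd1 (hA : A ⊆ L) : cfdot L (cfInd1 A) (cfInd1 A) = (A.ncard : ℂ) / Nat.card L := by
  rw [cfdot_eq_sum_of_supp hA fun x _ hx => by simp [cfInd1_apply_of_notMem hx],
    Finset.sum_congr rfl (g := fun _ => 1) fun x hx => by simp [cfInd1_apply (mem_elems.mp hx)]]
  simp [card_elems_set, div_eq_inv_mul]

theorem cfnorm_cfInd1 (hA : A ⊆ L) : cfnorm L (cfInd1 A) = (A.ncard : ℝ) / Nat.card L :=
  cfnorm_eq_of_cfdot_eq (by rw [cfdot_cfInd1 hA]; push_cast; rfl)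

/-- A class function orthogonal to `CF(L, A)` vanishes on `A`. -/
theorem eq_zero_on_of_ortho_CFon (hA : A ⊆ L) (hn : ∀ x ∈ L, ∀ a ∈ A, x * a * x⁻¹ ∈ A)
    (hψ : ψ ∈ CF L) (h : ∀ φ ∈ CFon L A, cfdot L φ ψ = 0) : ∀ x ∈ A, ψ x = 0 := by
  have h1 : cfInd1 A * ψ ∈ CFon L A := CFon_mul (cfInd1_mem_CFon hA hn) hψ
  have h2 : cfdot L (cfInd1 A * ψ) (cfInd1 A * ψ) = 0 := by
    rw [← h _ h1]
    exact cfdot_congr_of_supp h1.2 fun x hx => by simp [cfInd1_apply hx]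
  intro x hx
  have := congrFun ((cfdot_self_eq_zero h1.1).mp h2) x
  simpa [cfInd1_apply hx] using this

theorem eq_on_of_cfdot_CFon (hA : A ⊆ L) (hn : ∀ x ∈ L, ∀ a ∈ A, x * a * x⁻¹ ∈ A)
    (hψ : ψ ∈ CF L) (hψ' : ψ' ∈ CF L) (h : ∀ φ ∈ CFon L A, cfdot L φ ψ = cfdot L φ ψ') :
    ∀ x ∈ A, ψ x = ψ' x := fun x hx =>
  sub_eq_zero.mp (eq_zero_on_of_ortho_CFon hA hn ((CF L).sub_mem hψ hψ')
    (fun φ hφ => by rw [cfdot_sub_right, h φ hφ, sub_self]) x hx)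

/-! ### Characters and irreducible characters -/

theorem IsIrr.isChar (h : IsIrr L χ) : IsChar L χ := ⟨h.1.isCharacter, h.2⟩

theorem IsChar.mem_CF (h : IsChar L χ) : χ ∈ CF L := by
  refine ⟨h.2, fun y hy x => ?_⟩
  by_cases hx : x ∈ L
  · exact h.1.isClassFunction ⟨x, hx⟩ ⟨y, hy⟩
  · rw [h.2 x hx, h.2]
    intro h'
    apply hx
    have := L.mul_mem (L.mul_mem (L.inv_mem hy) h') hy
    simpa [mul_assoc] using this

theorem IsIrr.mem_CF (h : IsIrr L χ) : χ ∈ CF L := h.isChar.mem_CF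

theorem Irr.isChar (χ : Irr L) : IsChar L χ := χ.2.isChar

theorem Irr.mem_CF (χ : Irr L) : (χ : G → ℂ) ∈ CF L := χ.2.mem_CF

theorem isClassFunction_of_mem_CF (h : φ ∈ CF L) : IsClassFunction L (fun x : L => φ x) :=
  fun x y => h.2 y y.2 x

theorem extendByZero_mem_CF {θ : L → ℂ} (h : IsClassFunction L θ) : extendByZero L θ ∈ CF L := by
  refine ⟨fun x hx => extendByZero_of_not_mem L θ hx, fun y hy x => ?_⟩
  by_cases hx : x ∈ L
  · rw [extendByZero_of_mem L θ hx,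
      extendByZero_of_mem L θ (L.mul_mem (L.mul_mem hy hx) (L.inv_mem hy))]
    exact h ⟨x, hx⟩ ⟨y, hy⟩
  · rw [extendByZero_of_not_mem L θ hx, extendByZero_of_not_mem L θ]
    intro h'
    apply hx
    have := L.mul_mem (L.mul_mem (L.inv_mem hy) h') hy
    simpa [mul_assoc] using this

theorem restrict_extendByZero (θ : L → ℂ) : (fun x : L => extendByZero L θ x) = θ :=
  funext fun x => extendByZero_coe L θ x

theorem extendByZero_restrict (h : ∀ x, x ∉ L → φ x = 0) :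
    extendByZero L (fun x : L => φ x) = φ := by
  funext x
  by_cases hx : x ∈ L
  · exact extendByZero_of_mem L _ hx
  · rw [extendByZero_of_not_mem L _ hx, h x hx]

theorem isChar_extendByZero {θ : L → ℂ} (h : IsCharacter L θ) : IsChar L (extendByZero L θ) :=
  ⟨by rwa [restrict_extendByZero], fun _ hx => extendByZero_of_not_mem L θ hx⟩

theorem isIrr_extendByZero {θ : L → ℂ} (h : IsIrrCharacter L θ) : IsIrr L (extendByZero L θ) :=
  ⟨by rwa [restrict_extendByZero], fun _ hx => extendByZero_of_not_mem L θ hx⟩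

theorem isChar_top : IsChar ⊤ χ ↔ IsCharacter G χ :=
  ⟨fun h => h.1.comp (Subgroup.topEquiv (G := G)).symm.toMonoidHom,
    fun h => ⟨h.comp (⊤ : Subgroup G).subtype, fun x hx => (hx (mem_top x)).elim⟩⟩

theorem isIrr_top : IsIrr ⊤ χ ↔ IsIrrCharacter G χ :=
  ⟨fun h => h.1.comp (Subgroup.topEquiv (G := G)).symm.toMonoidHom
      (Subgroup.topEquiv (G := G)).symm.surjective,
    fun h => ⟨h.comp (⊤ : Subgroup G).subtype (Subgroup.topEquiv (G := G)).surjective,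
      fun x hx => (hx (mem_top x)).elim⟩⟩

theorem mem_CF_top : φ ∈ CF ⊤ ↔ IsClassFunction G φ :=
  ⟨fun h x y => h.2 y (mem_top y) x, fun h => ⟨fun x hx => (hx (mem_top x)).elim,
    fun y _ x => h x y⟩⟩

/-- The irreducible characters of `L` in ambient form and in subtype form. -/
noncomputable def irrEquiv (L : Subgroup G) : Irr L ≃ IrrCharacter L where
  toFun χ := ⟨fun x : L => χ.1 x, χ.2.1⟩
  invFun θ := ⟨extendByZero L θ.1, isIrr_extendByZero θ.2⟩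
  left_inv χ := Subtype.ext (extendByZero_restrict χ.2.2)
  right_inv θ := Subtype.ext (restrict_extendByZero θ.1)

theorem isChar_zero : IsChar L 0 := ⟨isCharacter_zero, fun _ _ => rfl⟩

theorem IsChar.add (h : IsChar L χ) (h' : IsChar L ψ) : IsChar L (χ + ψ) :=
  ⟨h.1.add h'.1, fun x hx => by simp [h.2 x hx, h'.2 x hx]⟩

theorem IsChar.mul (h : IsChar L χ) (h' : IsChar L ψ) : IsChar L (χ * ψ) :=
  ⟨h.1.mul h'.1, fun x hx => by simp [h.2 x hx]⟩

theorem isChar_sum {ι : Type*} (s : Finset ι) (f : ι → G → ℂ) (h : ∀ i ∈ s, IsChar L (f i)) :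
    IsChar L (∑ i ∈ s, f i) :=
  Finset.sum_induction _ _ (fun _ _ => IsChar.add) isChar_zero h

theorem IsChar.natCast_smul (h : IsChar L χ) (n : ℕ) : IsChar L ((n : ℂ) • χ) := by
  rw [Nat.cast_smul_eq_nsmul]
  exact ⟨h.1.nsmul n, fun x hx => by simp [h.2 x hx]⟩

theorem isChar_cf1 : IsChar L (cf1 L) := (isIrr_cf1 L).isChar

theorem IsChar.cfRes (hHL : H ≤ L) (h : IsChar L χ) : IsChar H (cfRes H χ) := by
  refine ⟨?_, fun x hx => cfRes_apply_of_notMem hx⟩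
  have : (fun x : H => FT.cfRes H χ x) = (fun x : L => χ x) ∘ Subgroup.inclusion hHL :=
    funext fun x => cfRes_apply x.2
  rw [this]
  exact h.1.comp _

theorem IsChar.exists_nat_one (h : IsChar L χ) : ∃ n : ℕ, χ 1 = n := h.1.exists_nat_one

theorem IsIrr.exists_nat_one (h : IsIrr L χ) : ∃ n : ℕ, 0 < n ∧ χ 1 = n := h.1.exists_nat_one

theorem IsIrr.one_ne_zero (h : IsIrr L χ) : χ 1 ≠ 0 := h.1.one_ne_zero

theorem IsIrr.ne_zero (h : IsIrr L χ) : χ ≠ 0 := fun h0 => h.one_ne_zero (by simp [h0])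

theorem IsIrr.one_re_pos (h : IsIrr L χ) : 0 < (χ 1).re := by
  obtain ⟨n, hn, h1⟩ := h.exists_nat_one
  rw [h1]; exact_mod_cast hn

theorem IsIrr.one_le_one_re (h : IsIrr L χ) : 1 ≤ (χ 1).re := by
  obtain ⟨n, hn, h1⟩ := h.exists_nat_one
  rw [h1]; exact_mod_cast hn

theorem IsChar.one_re_nonneg (h : IsChar L χ) : 0 ≤ (χ 1).re := by
  obtain ⟨n, h1⟩ := h.exists_nat_one
  rw [h1]; exact_mod_cast n.zero_le

theorem IsChar.one_eq_re (h : IsChar L χ) : χ 1 = ((χ 1).re : ℂ) := by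
  obtain ⟨n, h1⟩ := h.exists_nat_one
  rw [h1]; simp

theorem IsChar.conj_one (h : IsChar L χ) : conj (χ 1) = χ 1 := by
  obtain ⟨n, h1⟩ := h.exists_nat_one
  rw [h1]; simp

theorem IsChar.cfAut_one (h : IsChar L χ) (u : ℂ →+* ℂ) : u (χ 1) = χ 1 := by
  obtain ⟨n, h1⟩ := h.exists_nat_one
  rw [h1]; simp

theorem IsChar.inv (h : IsChar L χ) (x : G) : χ x⁻¹ = conj (χ x) := by
  by_cases hx : x ∈ L
  · exact h.1.inv ⟨x, hx⟩
  · rw [h.2 x hx, h.2 x⁻¹ (by simpa using hx), map_zero]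

theorem IsChar.isIntegral (h : IsChar L χ) (x : G) : IsIntegral ℤ (χ x) := by
  by_cases hx : x ∈ L
  · exact h.1.isIntegral ⟨x, hx⟩
  · rw [h.2 x hx]; exact isIntegral_zero

theorem IsChar.norm_le (h : IsChar L χ) (x : G) : ‖χ x‖ ≤ ‖χ 1‖ := by
  by_cases hx : x ∈ L
  · exact h.1.norm_le ⟨x, hx⟩
  · rw [h.2 x hx, norm_zero]; exact norm_nonneg _

theorem IsChar.eq_zero_of_one (h : IsChar L χ) (h1 : χ 1 = 0) : χ = 0 := by
  funext x
  have := h.norm_le x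
  rw [h1, norm_zero] at this
  exact norm_le_zero_iff.mp this

theorem IsChar.one_ne_zero (h : IsChar L χ) (h0 : χ ≠ 0) : χ 1 ≠ 0 :=
  fun h1 => h0 (h.eq_zero_of_one h1)

theorem IsChar.one_re_pos (h : IsChar L χ) (h0 : χ ≠ 0) : 0 < (χ 1).re := by
  obtain ⟨n, h1⟩ := h.exists_nat_one
  have : n ≠ 0 := by rintro rfl; exact h.one_ne_zero h0 (by simpa using h1)
  rw [h1]; exact_mod_cast Nat.pos_of_ne_zero this

theorem IsChar.cfdot_nat (h : IsChar L χ) (h' : IsChar L ψ) : ∃ n : ℕ, cfdot L χ ψ = n := by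
  classical
  rw [cfdot_eq_classInner]
  exact h.1.classInner_nat h'.1

theorem IsChar.cfdot_re_nonneg (h : IsChar L χ) (h' : IsChar L ψ) : 0 ≤ (cfdot L χ ψ).re := by
  obtain ⟨n, hn⟩ := h.cfdot_nat h'
  rw [hn]; exact_mod_cast n.zero_le

open Classical in
theorem IsIrr.cfdot_eq (h : IsIrr L χ) (h' : IsIrr L ψ) :
    cfdot L χ ψ = if χ = ψ then 1 else 0 := by
  rw [cfdot_eq_classInner, h.1.classInner_eq h'.1]
  refine if_congr ⟨fun h2 => ?_, fun h2 => by rw [h2]⟩ rfl rfl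
  rw [← extendByZero_restrict h.2, h2, extendByZero_restrict h'.2]

theorem IsIrr.cfdot_self (h : IsIrr L χ) : cfdot L χ χ = 1 := by rw [h.cfdot_eq h, if_pos rfl]

theorem IsIrr.cfdot_ne (h : IsIrr L χ) (h' : IsIrr L ψ) (hne : χ ≠ ψ) : cfdot L χ ψ = 0 := by
  rw [h.cfdot_eq h', if_neg hne]

theorem IsIrr.cfnorm (h : IsIrr L χ) : cfnorm L χ = 1 := cfnorm_eq_one_iff.mpr h.cfdot_self

theorem IsIrr.eq_of_cfdot_ne (h : IsIrr L χ) (h' : IsIrr L ψ) (hne : cfdot L χ ψ ≠ 0) : χ = ψ := by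
  by_contra h2; exact hne (h.cfdot_ne h' h2)

theorem Irr.cfdot_eq (χ ψ : Irr L) : cfdot L χ ψ = if χ = ψ then 1 else 0 := by
  rw [χ.2.cfdot_eq ψ.2]
  exact if_congr Irr.coe_inj rfl rfl

theorem cfdot_cf1 : cfdot L (cf1 L) (cf1 L) = 1 := (isIrr_cf1 L).cfdot_self

theorem IsIrr.ne_neg (h : IsIrr L χ) (h' : IsIrr L ψ) : χ ≠ -ψ := fun h2 => by
  have h3 := h.one_re_pos
  have h4 := h'.one_re_pos
  rw [h2] at h3
  simp at h3
  linarith

theorem cfdot_sum_irr (c : Irr L → ℂ) (ψ : Irr L) :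
    cfdot L (∑ χ : Irr L, c χ • (χ : G → ℂ)) ψ = c ψ := by
  rw [cfdot_sum_smul_ortho (L := L) Finset.univ (fun χ : Irr L => (χ : G → ℂ)) c
    (fun i _ j _ hne => i.2.cfdot_ne j.2 (Irr.coe_inj.ne.mpr hne)) (Finset.mem_univ ψ),
    ψ.2.cfdot_self, mul_one]

theorem CF_eq_zero_of_ortho (hφ : φ ∈ CF L) (h : ∀ χ, IsIrr L χ → cfdot L φ χ = 0) : φ = 0 := by
  classical
  rw [← extendByZero_restrict hφ.1, classFun_eq_zero_of_orthogonal (isClassFunction_of_mem_CF hφ)]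
  · funext x
    by_cases hx : x ∈ L
    · exact extendByZero_of_mem L _ hx
    · exact extendByZero_of_not_mem L _ hx
  · intro χ hχ
    rw [← h _ (isIrr_extendByZero hχ), cfdot_eq_classInner, restrict_extendByZero]

theorem CF_ext (hφ : φ ∈ CF L) (hψ : ψ ∈ CF L)
    (h : ∀ χ, IsIrr L χ → cfdot L φ χ = cfdot L ψ χ) : φ = ψ :=
  sub_eq_zero.mp (CF_eq_zero_of_ortho ((CF L).sub_mem hφ hψ) fun χ hχ => by
    rw [cfdot_sub_left, h χ hχ, sub_self])

theorem sum_smul_irr_mem_CF (s : Finset (Irr L)) (c : Irr L → ℂ) :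
    ∑ χ ∈ s, c χ • (χ : G → ℂ) ∈ CF L :=
  Submodule.sum_mem _ fun χ _ => (CF L).smul_mem _ χ.mem_CF

/-- Expansion of a class function in the basis of irreducible characters. -/
theorem cfun_sum_cfdot (hφ : φ ∈ CF L) : φ = ∑ χ : Irr L, cfdot L φ χ • (χ : G → ℂ) :=
  CF_ext hφ (sum_smul_irr_mem_CF _ _) fun χ hχ =>
    (cfdot_sum_irr (fun χ : Irr L => cfdot L φ χ) ⟨χ, hχ⟩).symm

theorem mem_irrConstt {χ : Irr L} : χ ∈ irrConstt L φ ↔ cfdot L φ χ ≠ 0 := by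
  simp [irrConstt]

theorem cfun_sum_constt (hφ : φ ∈ CF L) :
    φ = ∑ χ ∈ irrConstt L φ, cfdot L φ χ • (χ : G → ℂ) := by
  conv_lhs => rw [cfun_sum_cfdot hφ]
  symm
  refine Finset.sum_subset (Finset.subset_univ _) fun χ _ hχ => ?_
  rw [mem_irrConstt, not_not] at hχ
  rw [hχ, zero_smul]

theorem cfdot_eq_sum_irr (hφ : φ ∈ CF L) (ψ : G → ℂ) :
    cfdot L φ ψ = ∑ χ : Irr L, cfdot L φ χ * conj (cfdot L ψ χ) := by
  conv_lhs => rw [cfun_sum_cfdot hφ, cfdot_sum_left]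
  exact Finset.sum_congr rfl fun χ _ => by rw [cfdot_smul_left, cfdot_conj]

theorem cfnorm_eq_sum_irr (hφ : φ ∈ CF L) : cfnorm L φ = ∑ χ : Irr L, ‖cfdot L φ χ‖ ^ 2 := by
  refine cfnorm_eq_of_cfdot_eq ?_
  rw [cfdot_eq_sum_irr hφ]
  simp [Complex.mul_conj, Complex.normSq_eq_norm_sq]

theorem exists_constt (hφ : φ ∈ CF L) (h0 : φ ≠ 0) : ∃ χ, IsIrr L χ ∧ cfdot L φ χ ≠ 0 := by
  by_contra h
  push Not at h
  exact h0 (CF_eq_zero_of_ortho hφ h)

theorem exists_constt_of_cfdot_ne (hφ : φ ∈ CF L) (h : cfdot L φ ψ ≠ 0) :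
    ∃ χ, IsIrr L χ ∧ cfdot L φ χ ≠ 0 ∧ cfdot L ψ χ ≠ 0 := by
  rw [cfdot_eq_sum_irr hφ] at h
  obtain ⟨χ, -, h⟩ := Finset.exists_ne_zero_of_sum_ne_zero h
  exact ⟨χ, χ.2, left_ne_zero_of_mul h, fun h' => right_ne_zero_of_mul h (by simp [h'])⟩

theorem isChar_of_cfdot_nat (hφ : φ ∈ CF L) (h : ∀ χ, IsIrr L χ → ∃ n : ℕ, cfdot L φ χ = n) :
    IsChar L φ := by
  rw [cfun_sum_cfdot hφ]
  refine isChar_sum _ _ fun χ _ => ?_
  obtain ⟨n, hn⟩ := h χ χ.2
  rw [hn]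
  exact χ.isChar.natCast_smul n

/-- A character minus one of its irreducible constituents is a character. -/
theorem IsChar.sub_constt (h : IsChar L φ) (hχ : IsIrr L χ) (hne : cfdot L φ χ ≠ 0) :
    IsChar L (φ - χ) := by
  refine isChar_of_cfdot_nat ((CF L).sub_mem h.mem_CF hχ.mem_CF) fun ψ hψ => ?_
  obtain ⟨n, hn⟩ := h.cfdot_nat hψ.isChar
  rw [cfdot_sub_left, hχ.cfdot_eq hψ]
  split_ifs with h1
  · subst h1
    have : n ≠ 0 := by rintro rfl; exact hne (by simpa using hn)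
    exact ⟨n - 1, by rw [hn, Nat.cast_sub (Nat.pos_of_ne_zero this), Nat.cast_one]⟩
  · exact ⟨n, by rw [hn, sub_zero]⟩

theorem IsChar.sub_cfdot_smul (h : IsChar L φ) (hχ : IsIrr L χ) :
    IsChar L (φ - cfdot L φ χ • χ) := by
  refine isChar_of_cfdot_nat ((CF L).sub_mem h.mem_CF ((CF L).smul_mem _ hχ.mem_CF))
    fun ψ hψ => ?_
  rw [cfdot_sub_left, cfdot_smul_left, hχ.cfdot_eq hψ]
  split_ifs with h1
  · subst h1; exact ⟨0, by simp⟩
  · simpa using h.cfdot_nat hψ.isChar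

theorem IsChar.constt_one_le (h : IsChar L φ) (hχ : IsIrr L χ) (hne : cfdot L φ χ ≠ 0) :
    (χ 1).re ≤ (φ 1).re := by
  have := (h.sub_constt hχ hne).one_re_nonneg
  simpa using this

theorem IsChar.eq_of_constt_of_one (h : IsChar L φ) (hχ : IsIrr L χ) (hne : cfdot L φ χ ≠ 0)
    (h1 : φ 1 = χ 1) : φ = χ :=
  sub_eq_zero.mp ((h.sub_constt hχ hne).eq_zero_of_one (by simp [h1]))

theorem IsChar.induction {P : (G → ℂ) → Prop} (h0 : P 0)
    (hadd : ∀ χ ψ, IsIrr L χ → IsChar L ψ → P ψ → P (χ + ψ)) (h : IsChar L χ) : P χ := by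
  have key : ∀ θ : L → ℂ, IsCharacter L θ → P (extendByZero L θ) := by
    intro θ hθ
    refine IsCharacter.induction (P := fun θ => P (extendByZero L θ)) ?_ ?_ hθ
    · have : extendByZero L (0 : L → ℂ) = 0 := extendByZero_restrict (φ := 0) fun _ _ => rfl
      simpa only [this] using h0
    · intro χ ψ h1 h2 h3
      simp only [extendByZero_add]
      exact hadd _ _ (isIrr_extendByZero h1) (isChar_extendByZero h2) h3
  have := key _ h.1
  rwa [extendByZero_restrict h.2] at this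

/-! ### Virtual characters -/

theorem IsIrr.mem_ZIrr (h : IsIrr L χ) : χ ∈ ZIrr L := Submodule.subset_span h

theorem Irr.mem_ZIrr (χ : Irr L) : (χ : G → ℂ) ∈ ZIrr L := χ.2.mem_ZIrr

theorem cf1_mem_ZIrr : cf1 L ∈ ZIrr L := (isIrr_cf1 L).mem_ZIrr

theorem IsChar.mem_ZIrr (h : IsChar L χ) : χ ∈ ZIrr L :=
  h.induction (P := fun χ => χ ∈ ZIrr L) (ZIrr L).zero_mem fun _ _ h1 _ h3 =>
    (ZIrr L).add_mem h1.mem_ZIrr h3

theorem IsDirr.mem_ZIrr (h : IsDirr L χ) : χ ∈ ZIrr L :=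
  h.elim IsIrr.mem_ZIrr fun h => by simpa using (ZIrr L).neg_mem h.mem_ZIrr

theorem mem_ZIrr_iff_sub : φ ∈ ZIrr L ↔ ∃ χ ψ, IsChar L χ ∧ IsChar L ψ ∧ φ = χ - ψ := by
  refine ⟨fun h => ?_, fun ⟨χ, ψ, h1, h2, h3⟩ => h3 ▸ (ZIrr L).sub_mem h1.mem_ZIrr h2.mem_ZIrr⟩
  induction h using Submodule.span_induction with
  | mem x hx => exact ⟨x, 0, IsIrr.isChar hx, isChar_zero, by simp⟩
  | zero => exact ⟨0, 0, isChar_zero, isChar_zero, by simp⟩
  | add x y _ _ hx hy =>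
    obtain ⟨a, b, ha, hb, rfl⟩ := hx
    obtain ⟨c, d, hc, hd, rfl⟩ := hy
    exact ⟨a + c, b + d, ha.add hc, hb.add hd, by abel⟩
  | smul n x _ hx =>
    obtain ⟨a, b, ha, hb, rfl⟩ := hx
    obtain ⟨m, rfl | rfl⟩ := n.eq_nat_or_neg
    · exact ⟨(m : ℂ) • a, (m : ℂ) • b, ha.natCast_smul m, hb.natCast_smul m, by
        ext; simp [mul_sub]⟩
    · exact ⟨(m : ℂ) • b, (m : ℂ) • a, hb.natCast_smul m, ha.natCast_smul m, by
        ext; simp [mul_sub]⟩

theorem ZIrr_mem_CF (h : φ ∈ ZIrr L) : φ ∈ CF L := by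
  obtain ⟨a, b, ha, hb, rfl⟩ := mem_ZIrr_iff_sub.mp h
  exact (CF L).sub_mem ha.mem_CF hb.mem_CF

theorem IsDirr.mem_CF (h : IsDirr L χ) : χ ∈ CF L := ZIrr_mem_CF h.mem_ZIrr

theorem mem_ZIrr_iff :
    φ ∈ ZIrr L ↔ IsGeneralizedCharacter L (fun x : L => φ x) ∧ ∀ x, x ∉ L → φ x = 0 := by
  refine ⟨fun h => ⟨?_, (ZIrr_mem_CF h).1⟩, fun ⟨⟨a, b, ha, hb, h1⟩, h2⟩ => ?_⟩
  · obtain ⟨a, b, ha, hb, rfl⟩ := mem_ZIrr_iff_sub.mp h
    exact ⟨_, _, ha.1, hb.1, rfl⟩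
  · refine mem_ZIrr_iff_sub.mpr ⟨_, _, isChar_extendByZero ha, isChar_extendByZero hb, ?_⟩
    funext x
    by_cases hx : x ∈ L
    · simp only [Pi.sub_apply, extendByZero_of_mem L _ hx]
      exact congrFun h1 ⟨x, hx⟩
    · simp [extendByZero_of_not_mem L _ hx, h2 x hx]

theorem mem_ZIrr_top : φ ∈ ZIrr ⊤ ↔ IsGeneralizedCharacter G φ := by
  simp only [mem_ZIrr_iff_sub, isChar_top]; rfl

theorem ZIrr_mul (h : φ ∈ ZIrr L) (h' : ψ ∈ ZIrr L) : φ * ψ ∈ ZIrr L := by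
  obtain ⟨a, b, ha, hb, rfl⟩ := mem_ZIrr_iff_sub.mp h
  obtain ⟨c, d, hc, hd, rfl⟩ := mem_ZIrr_iff_sub.mp h'
  exact mem_ZIrr_iff_sub.mpr ⟨a * c + b * d, a * d + b * c, (ha.mul hc).add (hb.mul hd),
    (ha.mul hd).add (hb.mul hc), by ring⟩

theorem ZIrr_cfRes (hHL : H ≤ L) (h : φ ∈ ZIrr L) : cfRes H φ ∈ ZIrr H := by
  obtain ⟨a, b, ha, hb, rfl⟩ := mem_ZIrr_iff_sub.mp h
  rw [map_sub]
  exact (ZIrr H).sub_mem (ha.cfRes hHL).mem_ZIrr (hb.cfRes hHL).mem_ZIrr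

theorem ZIrr_cfdot_int (h : φ ∈ ZIrr L) (h' : ψ ∈ ZIrr L) : ∃ n : ℤ, cfdot L φ ψ = n := by
  classical
  rw [cfdot_eq_classInner]
  exact (mem_ZIrr_iff.mp h).1.classInner_int (mem_ZIrr_iff.mp h').1

theorem ZIrr_cfdot_comm (h : φ ∈ ZIrr L) (h' : ψ ∈ ZIrr L) : cfdot L φ ψ = cfdot L ψ φ := by
  obtain ⟨n, hn⟩ := ZIrr_cfdot_int h h'
  rw [← cfdot_conj (φ := φ), hn, map_intCast]

theorem ZIrr_cfnorm_nat (h : φ ∈ ZIrr L) : ∃ n : ℕ, cfnorm L φ = n := by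
  obtain ⟨n, hn⟩ := ZIrr_cfdot_int h h
  have h1 : cfnorm L φ = n := cfnorm_eq_of_cfdot_eq (by rw [hn]; simp)
  have h2 : (0 : ℝ) ≤ n := h1 ▸ cfnorm_nonneg
  lift n to ℕ using (by exact_mod_cast h2)
  exact ⟨n, by simpa using h1⟩

theorem ZIrr_one_le_cfnorm (h : φ ∈ ZIrr L) (h0 : φ ≠ 0) : 1 ≤ cfnorm L φ := by
  obtain ⟨n, hn⟩ := ZIrr_cfnorm_nat h
  have := cfnorm_pos (ZIrr_mem_CF h) h0
  rw [hn] at this ⊢
  exact_mod_cast this

theorem ZIrr_one_int (h : φ ∈ ZIrr L) : ∃ n : ℤ, φ 1 = n := (mem_ZIrr_iff.mp h).1.exists_int_one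

theorem ZIrr_isIntegral (h : φ ∈ ZIrr L) (x : G) : IsIntegral ℤ (φ x) := by
  obtain ⟨a, b, ha, hb, rfl⟩ := mem_ZIrr_iff_sub.mp h
  exact (ha.isIntegral x).sub (hb.isIntegral x)

theorem ZIrr_inv (h : φ ∈ ZIrr L) (x : G) : φ x⁻¹ = conj (φ x) := by
  obtain ⟨a, b, ha, hb, rfl⟩ := mem_ZIrr_iff_sub.mp h
  simp [ha.inv, hb.inv]

theorem ZIrr_conj_one (h : φ ∈ ZIrr L) : conj (φ 1) = φ 1 := by
  obtain ⟨n, hn⟩ := ZIrr_one_int h
  rw [hn, map_intCast]

theorem mem_ZIrr_of_cfdot_int (hφ : φ ∈ CF L) (h : ∀ χ, IsIrr L χ → ∃ n : ℤ, cfdot L φ χ = n) :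
    φ ∈ ZIrr L := by
  rw [cfun_sum_cfdot hφ]
  refine Submodule.sum_mem _ fun χ _ => ?_
  obtain ⟨n, hn⟩ := h χ χ.2
  rw [hn]
  exact intCast_smul_mem χ.mem_ZIrr n

theorem zspan_le_ZIrr {S : Finset (G → ℂ)} (h : ∀ ξ ∈ S, ξ ∈ ZIrr L) : zspan S ≤ ZIrr L :=
  zspan_le h

theorem ZIrr_exists_coeff (h : φ ∈ ZIrr L) :
    ∃ c : Irr L → ℤ, (∀ χ : Irr L, cfdot L φ χ = c χ) ∧
      φ = ∑ χ : Irr L, (c χ : ℂ) • (χ : G → ℂ) ∧ cfnorm L φ = ((∑ χ : Irr L, c χ ^ 2 : ℤ) : ℝ) := by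
  choose c hc using fun χ : Irr L => ZIrr_cfdot_int h χ.mem_ZIrr
  refine ⟨c, hc, ?_, ?_⟩
  · simpa only [hc] using cfun_sum_cfdot (ZIrr_mem_CF h)
  · rw [cfnorm_eq_sum_irr (ZIrr_mem_CF h)]
    simp [hc]

theorem isDirr_of_cfnorm (h : φ ∈ ZIrr L) (h1 : cfnorm L φ = 1) : IsDirr L φ := by
  classical
  have h2 := (mem_ZIrr_iff.mp h).1.irr_or_neg_irr
    (by rw [← cfdot_eq_classInner]; exact cfnorm_eq_one_iff.mp h1)
  have h3 := (ZIrr_mem_CF h).1
  exact h2.imp (fun h2 => ⟨h2, h3⟩) fun h2 => ⟨h2, fun x hx => by simp [h3 x hx]⟩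

theorem isDirr_of_cfdot (h : φ ∈ ZIrr L) (h1 : cfdot L φ φ = 1) : IsDirr L φ :=
  isDirr_of_cfnorm h (cfnorm_eq_one_iff.mpr h1)

theorem isIrr_of_cfnorm (h : φ ∈ ZIrr L) (h1 : cfnorm L φ = 1) (hpos : 0 ≤ (φ 1).re) :
    IsIrr L φ := by
  refine (isDirr_of_cfnorm h h1).resolve_right fun h2 => ?_
  have := h2.one_re_pos
  simp at this
  linarith

theorem IsChar.isIrr_of_cfnorm (h : IsChar L χ) (h1 : cfnorm L χ = 1) : IsIrr L χ :=
  FT.isIrr_of_cfnorm h.mem_ZIrr h1 h.one_re_nonneg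

theorem IsChar.isIrr_of_cfdot (h : IsChar L χ) (h1 : cfdot L χ χ = 1) : IsIrr L χ :=
  h.isIrr_of_cfnorm (cfnorm_eq_one_iff.mpr h1)

theorem IsIrr.isDirr (h : IsIrr L χ) : IsDirr L χ := Or.inl h

theorem IsDirr.neg (h : IsDirr L χ) : IsDirr L (-χ) := by
  rcases h with h | h
  · right; simpa using h
  · left; exact h

theorem IsDirr.cfnorm (h : IsDirr L χ) : cfnorm L χ = 1 := by
  rcases h with h | h
  · exact h.cfnorm
  · rw [← cfnorm_neg, h.cfnorm]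

theorem IsDirr.cfdot_self (h : IsDirr L χ) : cfdot L χ χ = 1 := cfnorm_eq_one_iff.mp h.cfnorm

theorem IsDirr.one_ne_zero (h : IsDirr L χ) : χ 1 ≠ 0 := by
  rcases h with h | h
  · exact h.one_ne_zero
  · simpa using h.one_ne_zero

theorem IsDirr.exists_sign (h : IsDirr L χ) :
    ∃ (ε : ℤ) (ψ : G → ℂ), (ε = 1 ∨ ε = -1) ∧ IsIrr L ψ ∧ χ = (ε : ℂ) • ψ := by
  rcases h with h | h
  · exact ⟨1, χ, Or.inl rfl, h, by simp⟩
  · exact ⟨-1, -χ, Or.inr rfl, h, by simp⟩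

theorem isDirr_sign_smul (h : IsDirr L χ) {ε : ℤ} (hε : ε = 1 ∨ ε = -1) :
    IsDirr L ((ε : ℂ) • χ) := by
  rcases hε with rfl | rfl
  · simpa using h
  · simpa using h.neg

theorem IsDirr.cfdot_cases (h : IsDirr L χ) (h' : IsDirr L ψ) :
    (χ = ψ ∧ cfdot L χ ψ = 1) ∨ (χ = -ψ ∧ cfdot L χ ψ = -1) ∨
      (χ ≠ ψ ∧ χ ≠ -ψ ∧ cfdot L χ ψ = 0) := by
  by_cases h1 : χ = ψ
  · exact Or.inl ⟨h1, by rw [h1, h'.cfdot_self]⟩
  by_cases h2 : χ = -ψ
  · exact Or.inr (Or.inl ⟨h2, by rw [h2, cfdot_neg_left, h'.cfdot_self]⟩)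
  refine Or.inr (Or.inr ⟨h1, h2, ?_⟩)
  rcases h with h | h <;> rcases h' with h' | h'
  · exact h.cfdot_ne h' h1
  · have := h.cfdot_ne h' h2
    rwa [cfdot_neg_right, neg_eq_zero] at this
  · have := h.cfdot_ne h' fun h3 => h2 (by rw [← h3, neg_neg])
    rwa [cfdot_neg_left, neg_eq_zero] at this
  · have := h.cfdot_ne h' fun h3 => h1 (neg_injective h3)
    rwa [cfdot_neg_left, cfdot_neg_right, neg_neg] at this

theorem IsDirr.eq_or_neg_of_cfdot_ne (h : IsDirr L χ) (h' : IsDirr L ψ) (hne : cfdot L χ ψ ≠ 0) :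
    χ = ψ ∨ χ = -ψ := by
  rcases h.cfdot_cases h' with h1 | h1 | h1
  · exact Or.inl h1.1
  · exact Or.inr h1.1
  · exact absurd h1.2.2 hne

theorem IsDirr.eq_of_cfdot_eq_one (h : IsDirr L χ) (h' : IsDirr L ψ) (h1 : cfdot L χ ψ = 1) :
    χ = ψ := by
  rcases h.cfdot_cases h' with h2 | h2 | h2
  · exact h2.1
  · rw [h1] at h2; norm_num at h2
  · rw [h1] at h2; norm_num at h2

theorem IsDirr.ne_neg_self (h : IsDirr L χ) : χ ≠ -χ := fun h1 => by
  have := congrFun h1 1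
  simp only [Pi.neg_apply] at this
  exact h.one_ne_zero (by linear_combination this / 2)

/-! ### Orthonormal families -/

section Orthonormal

variable {E : Finset (G → ℂ)}

theorem Orthonormal'.self (h : Orthonormal' L E) {α : G → ℂ} (hα : α ∈ E) : cfdot L α α = 1 := by
  rw [h α hα α hα, if_pos rfl]

theorem Orthonormal'.ne (h : Orthonormal' L E) {α β : G → ℂ} (hα : α ∈ E) (hβ : β ∈ E)
    (hne : α ≠ β) : cfdot L α β = 0 := by
  rw [h α hα β hβ, if_neg hne]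

theorem orthonormal'_iff : Orthonormal' L E ↔
    (∀ α ∈ E, cfdot L α α = 1) ∧ ∀ α ∈ E, ∀ β ∈ E, α ≠ β → cfdot L α β = 0 := by
  refine ⟨fun h => ⟨fun α => h.self, fun α hα β hβ => h.ne hα hβ⟩, fun h α hα β hβ => ?_⟩
  split_ifs with h1
  · rw [← h1, h.1 α hα]
  · exact h.2 α hα β hβ h1

theorem Orthonormal'.mono (h : Orthonormal' L E) {E' : Finset (G → ℂ)} (hE : E' ⊆ E) :
    Orthonormal' L E' := fun α hα β hβ => h α (hE hα) β (hE hβ)

theorem Orthonormal'.cfdot_sum_smul (h : Orthonormal' L E) (c : (G → ℂ) → ℂ) {β : G → ℂ}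
    (hβ : β ∈ E) : cfdot L (∑ α ∈ E, c α • α) β = c β := by
  rw [cfdot_sum_smul_ortho (L := L) E (fun α => α) c (fun _ hi _ hj => h.ne hi hj) hβ, h.self hβ,
    mul_one]

theorem Orthonormal'.cfnorm_sum_smul (h : Orthonormal' L E) (c : (G → ℂ) → ℂ) :
    cfnorm L (∑ α ∈ E, c α • α) = ∑ α ∈ E, ‖c α‖ ^ 2 := by
  rw [cfnorm_sum_of_ortho]
  · exact Finset.sum_congr rfl fun α hα => by
      rw [cfnorm_smul, cfnorm_eq_one_iff.mpr (h.self hα), mul_one]
  · intro i hi j hj hne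
    rw [cfdot_smul_left, cfdot_smul_right, h.ne hi hj hne, mul_zero, mul_zero]

theorem Orthonormal'.cfnorm_sum (h : Orthonormal' L E) : cfnorm L (∑ α ∈ E, α) = E.card := by
  have := h.cfnorm_sum_smul fun _ => 1
  simpa using this

open Classical in
theorem Orthonormal'.cfdot_sum_subset (h : Orthonormal' L E) {E' : Finset (G → ℂ)} (hE : E' ⊆ E)
    {β : G → ℂ} (hβ : β ∈ E) : cfdot L (∑ α ∈ E', α) β = if β ∈ E' then 1 else 0 := by
  rw [cfdot_sum_left]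
  split_ifs with h1
  · rw [Finset.sum_eq_single_of_mem β h1 fun α hα hne => h.ne (hE hα) hβ hne, h.self hβ]
  · exact Finset.sum_eq_zero fun α hα => h.ne (hE hα) hβ fun h2 => h1 (h2 ▸ hα)

/-- The component of `β` orthogonal to an orthonormal family. -/
theorem Orthonormal'.cfdot_sub_proj (h : Orthonormal' L E) (β : G → ℂ) {α : G → ℂ} (hα : α ∈ E) :
    cfdot L (β - ∑ γ ∈ E, cfdot L β γ • γ) α = 0 := by
  rw [cfdot_sub_left, h.cfdot_sum_smul _ hα, sub_self]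

/-- Bessel's inequality. -/
theorem Orthonormal'.sum_norm_sq_le (h : Orthonormal' L E) (β : G → ℂ) :
    ∑ α ∈ E, ‖cfdot L β α‖ ^ 2 ≤ cfnorm L β := by
  have h1 : β = (β - ∑ γ ∈ E, cfdot L β γ • γ) + ∑ γ ∈ E, cfdot L β γ • γ := by abel
  have h2 : cfdot L (β - ∑ γ ∈ E, cfdot L β γ • γ) (∑ γ ∈ E, cfdot L β γ • γ) = 0 := by
    rw [cfdot_sum_right]
    exact Finset.sum_eq_zero fun γ hγ => by rw [cfdot_smul_right, h.cfdot_sub_proj β hγ, mul_zero]
  conv_rhs => rw [h1, cfnorm_add_of_ortho h2, h.cfnorm_sum_smul]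
  linarith [cfnorm_nonneg (L := L) (φ := β - ∑ γ ∈ E, cfdot L β γ • γ)]

theorem Orthonormal'.eq_sum_of_mem_zspan (h : Orthonormal' L E) (hφ : φ ∈ zspan E) :
    φ = ∑ α ∈ E, cfdot L φ α • α := by
  obtain ⟨c, rfl⟩ := mem_zspan_iff.mp hφ
  exact Finset.sum_congr rfl fun α hα => by rw [h.cfdot_sum_smul _ hα]

/-- Splitting a virtual character along an orthonormal family of virtual characters. -/
theorem Orthonormal'.exists_split (h : Orthonormal' L E) (hE : ∀ α ∈ E, α ∈ ZIrr L) {β : G → ℂ}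
    (hβ : β ∈ ZIrr L) :
    ∃ X ∈ zspan E, ∃ Y ∈ ZIrr L, β = X + Y ∧ (∀ α ∈ E, cfdot L Y α = 0) ∧ cfdot L X Y = 0 := by
  have hX : ∑ γ ∈ E, cfdot L β γ • γ ∈ zspan E := by
    refine Submodule.sum_mem _ fun γ hγ => ?_
    obtain ⟨n, hn⟩ := ZIrr_cfdot_int hβ (hE γ hγ)
    rw [hn]
    exact intCast_smul_mem (subset_zspan hγ) n
  refine ⟨_, hX, β - ∑ γ ∈ E, cfdot L β γ • γ, (ZIrr L).sub_mem hβ (zspan_le_ZIrr hE hX), by abel,
    fun α => h.cfdot_sub_proj β, ?_⟩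
  rw [cfdot_sum_left]
  exact Finset.sum_eq_zero fun γ hγ => by
    rw [cfdot_smul_left, cfdot_symm_zero (h.cfdot_sub_proj β hγ), mul_zero]

end Orthonormal

theorem cfdot_zspan_left {S : Finset (G → ℂ)} (h : ∀ ξ ∈ S, cfdot L ξ ψ = 0) (hφ : φ ∈ zspan S) :
    cfdot L φ ψ = 0 := by
  obtain ⟨c, rfl⟩ := mem_zspan_iff.mp hφ
  rw [cfdot_sum_left]
  exact Finset.sum_eq_zero fun ξ hξ => by rw [cfdot_smul_left, h ξ hξ, mul_zero]

theorem cfdot_zspan_right {S : Finset (G → ℂ)} (h : ∀ ξ ∈ S, cfdot L φ ξ = 0) (hψ : ψ ∈ zspan S) :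
    cfdot L φ ψ = 0 :=
  cfdot_symm_zero (cfdot_zspan_left (fun ξ hξ => cfdot_symm_zero (h ξ hξ)) hψ)

theorem cfdot_zspan_zspan {S T : Finset (G → ℂ)} (h : ∀ ξ ∈ S, ∀ ζ ∈ T, cfdot L ξ ζ = 0)
    (hφ : φ ∈ zspan S) (hψ : ψ ∈ zspan T) : cfdot L φ ψ = 0 :=
  cfdot_zspan_left (fun ξ hξ => cfdot_zspan_right (h ξ hξ) hψ) hφ

/-- An isometry on generators is an isometry on the integer span. -/
theorem cfdot_map_zspan {L' : Subgroup G} {S T : Finset (G → ℂ)} {τ τ' : CFMap G}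
    (h : ∀ ξ ∈ S, ∀ ζ ∈ T, cfdot L' (τ ξ) (τ' ζ) = cfdot L ξ ζ) (hφ : φ ∈ zspan S)
    (hψ : ψ ∈ zspan T) : cfdot L' (τ φ) (τ' ψ) = cfdot L φ ψ := by
  obtain ⟨c, rfl⟩ := mem_zspan_iff.mp hφ
  obtain ⟨d, rfl⟩ := mem_zspan_iff.mp hψ
  simp only [map_sum, map_smul, cfdot_sum_left, cfdot_sum_right, cfdot_smul_left,
    cfdot_smul_right]
  exact Finset.sum_congr rfl fun ξ hξ => by
    rw [Finset.sum_congr rfl fun ζ hζ => by rw [h ζ hζ ξ hξ]]

/-- Coefficients along a pairwise orthogonal family. -/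
theorem zspan_eq_sum_of_ortho {S : Finset (G → ℂ)}
    (ho : ∀ ξ ∈ S, ∀ ζ ∈ S, ξ ≠ ζ → cfdot L ξ ζ = 0) (hφ : φ ∈ zspan S) :
    ∃ c : (G → ℂ) → ℤ, φ = ∑ ξ ∈ S, (c ξ : ℂ) • ξ ∧
      ∀ ξ ∈ S, cfdot L φ ξ = c ξ * cfdot L ξ ξ := by
  obtain ⟨c, rfl⟩ := mem_zspan_iff.mp hφ
  exact ⟨c, rfl, fun ξ hξ => cfdot_sum_smul_ortho (L := L) S (fun α => α) _ ho hξ⟩

/-- A linear map with prescribed values on a pairwise orthogonal family of nonzero functions. -/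
theorem exists_linear_of_ortho {S : Finset (G → ℂ)}
    (ho : ∀ ξ ∈ S, ∀ ζ ∈ S, ξ ≠ ζ → cfdot L ξ ζ = 0) (h0 : ∀ ξ ∈ S, cfdot L ξ ξ ≠ 0)
    (f : (G → ℂ) → G → ℂ) : ∃ τ : CFMap G, ∀ ξ ∈ S, τ ξ = f ξ := by
  let τ : CFMap G :=
    { toFun := fun φ => ∑ ζ ∈ S, (cfdot L φ ζ / cfdot L ζ ζ) • f ζ
      map_add' := fun a b => by
        simp only [cfdot_add_left, add_div, add_smul, Finset.sum_add_distrib]
      map_smul' := fun c a => by
        simp only [cfdot_smul_left, RingHom.id_apply, Finset.smul_sum, smul_smul, mul_div_assoc] }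
  refine ⟨τ, fun ξ hξ => ?_⟩
  change ∑ ζ ∈ S, (cfdot L ξ ζ / cfdot L ζ ζ) • f ζ = f ξ
  rw [Finset.sum_eq_single_of_mem ξ hξ, div_self (h0 ξ hξ), one_smul]
  intro ζ hζ hne
  rw [ho ξ hξ ζ hζ hne.symm, zero_div, zero_smul]

/-- A virtual character all of whose coefficients are `0, 1, -1`. -/
theorem zchar_eq_sum_dirr (h : φ ∈ ZIrr L)
    (hc : ∀ χ, IsIrr L χ → ‖cfdot L φ χ‖ ≤ 1) :
    ∃ E : Finset (G → ℂ), (E.card : ℝ) = cfnorm L φ ∧ (∀ α ∈ E, IsDirr L α) ∧ Orthonormal' L E ∧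
      φ = ∑ α ∈ E, α := by
  classical
  obtain ⟨c, hc1, hφ, -⟩ := ZIrr_exists_coeff h
  have hs : ∀ χ : Irr L, c χ ≠ 0 → c χ = 1 ∨ c χ = -1 := fun χ h0 => by
    have := hc χ χ.2
    rw [hc1, Complex.norm_intCast] at this
    have h2 : |c χ| ≤ 1 := by exact_mod_cast this
    rw [abs_le] at h2
    omega
  let s := Finset.univ.filter fun χ : Irr L => c χ ≠ 0
  let f : Irr L → G → ℂ := fun χ => (c χ : ℂ) • (χ : G → ℂ)
  have hf : ∀ χ ∈ s, IsDirr L (f χ) := fun χ hχ =>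
    isDirr_sign_smul χ.2.isDirr (hs χ (Finset.mem_filter.mp hχ).2)
  have ho : ∀ χ ψ : Irr L, χ ≠ ψ → cfdot L (f χ) (f ψ) = 0 := fun χ ψ hne => by
    simp only [f, cfdot_smul_left, cfdot_smul_right, Irr.cfdot_eq, if_neg hne, mul_zero]
  have hinj : Set.InjOn f s := fun χ hχ ψ _ he => by
    by_contra hne
    have h1 := ho χ ψ hne
    rw [← he, (hf χ hχ).cfdot_self] at h1
    exact one_ne_zero h1
  have hon : Orthonormal' L (s.image f) := by
    refine orthonormal'_iff.mpr ⟨fun α hα => ?_, fun α hα β hβ hne => ?_⟩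
    · obtain ⟨χ, hχ, rfl⟩ := Finset.mem_image.mp hα
      exact (hf χ hχ).cfdot_self
    · obtain ⟨χ, -, rfl⟩ := Finset.mem_image.mp hα
      obtain ⟨ψ, -, rfl⟩ := Finset.mem_image.mp hβ
      exact ho χ ψ fun he => hne (he ▸ rfl)
  have hsum : φ = ∑ α ∈ s.image f, α := by
    rw [Finset.sum_image hinj]
    conv_lhs => rw [hφ]
    symm
    refine Finset.sum_subset (Finset.subset_univ _) fun χ _ hχ => ?_
    have : c χ = 0 := by simpa [s] using hχ
    simp [f, this]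
  refine ⟨s.image f, ?_, fun α hα => ?_, hon, hsum⟩
  · conv_rhs => rw [hsum]
    rw [hon.cfnorm_sum]
  · obtain ⟨χ, hχ, rfl⟩ := Finset.mem_image.mp hα
    exact hf χ hχ

/-- A virtual character of norm `n < 4` is a sum of `n` signed irreducible characters. -/
theorem zchar_small_norm (h : φ ∈ ZIrr L) {n : ℕ} (hn : cfnorm L φ = n) (h4 : n < 4) :
    ∃ E : Finset (G → ℂ), E.card = n ∧ (∀ α ∈ E, IsDirr L α) ∧ Orthonormal' L E ∧
      φ = ∑ α ∈ E, α := by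
  obtain ⟨E, h1, h2⟩ := zchar_eq_sum_dirr h fun χ hχ => by
    obtain ⟨m, hm⟩ := ZIrr_cfdot_int h hχ.mem_ZIrr
    have h3 : ‖cfdot L φ χ‖ ^ 2 ≤ cfnorm L φ := by
      have := norm_cfdot_sq_le (L := L) (φ := φ) (ψ := χ)
      rwa [hχ.cfnorm, mul_one] at this
    rw [hn, hm, Complex.norm_intCast] at h3
    rw [hm, Complex.norm_intCast]
    have h5 : |m| ^ 2 ≤ n := by exact_mod_cast h3
    have h6 : |m| ≤ 1 := by nlinarith [abs_nonneg m]
    exact_mod_cast h6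
  exact ⟨E, by rw [hn] at h1; exact_mod_cast h1, h2⟩

theorem vchar_norm2 (h : φ ∈ ZIrr L) (h1 : φ 1 = 0) (hn : cfnorm L φ = 2) :
    ∃ χ ψ, IsIrr L χ ∧ IsIrr L ψ ∧ χ ≠ ψ ∧ φ = χ - ψ := by
  classical
  obtain ⟨E, hE, hd, hon, hφ⟩ := zchar_small_norm (n := 2) h (by simpa using hn) (by norm_num)
  obtain ⟨α, β, hne, rfl⟩ := Finset.card_eq_two.mp hE
  rw [Finset.sum_pair hne] at hφ
  have hα := hd α (by simp)
  have hβ := hd β (by simp)
  have ho : cfdot L α β = 0 := hon.ne (by simp) (by simp) hne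
  have h1' : (α 1).re + (β 1).re = 0 := by
    have := congrArg Complex.re h1
    simpa [hφ] using this
  rcases hα with hα | hα <;> rcases hβ with hβ | hβ
  · linarith [hα.one_re_pos, hβ.one_re_pos]
  · refine ⟨α, -β, hα, hβ, fun he => ?_, by rw [hφ, sub_neg_eq_add]⟩
    have := hα.cfdot_self
    rw [← neg_neg α, ← neg_neg β, cfdot_neg_left, cfdot_neg_right, neg_neg, ← he] at ho
    rw [cfdot_neg_left, this] at ho
    simp at ho
  · refine ⟨β, -α, hβ, hα, fun he => ?_, by rw [hφ, sub_neg_eq_add, add_comm]⟩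
    rw [he, cfdot_neg_right, (IsDirr.cfdot_self (Or.inr hα))] at ho
    simp at ho
  · have h3 := hα.one_re_pos
    have h4 := hβ.one_re_pos
    simp only [Pi.neg_apply, Complex.neg_re] at h3 h4
    linarith

/-! ### Orthogonality relations, degrees -/

theorem sum_irr_eq {M : Type*} [AddCommMonoid M] [Fintype (IrrCharacter L)] (f : (L → ℂ) → M) :
    ∑ χ : Irr L, f (fun x : L => χ x) = ∑ χ : IrrCharacter L, f χ.1 :=
  Fintype.sum_equiv (irrEquiv L) (fun χ => f (fun x : L => χ x)) (fun χ => f χ.1) fun _ => rfl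

theorem card_centralizer_subgroup {x : G} (hx : x ∈ L) :
    Nat.card (centralizer ({⟨x, hx⟩} : Set L)) = Nat.card ↥(L ⊓ centralizer ({x} : Set G)) := by
  refine Nat.card_congr ⟨fun y => ⟨y.1.1, y.1.2, ?_⟩, fun y => ⟨⟨y.1, y.2.1⟩, ?_⟩,
    fun _ => rfl, fun _ => rfl⟩
  · exact mem_centralizer_singleton_iff.mpr
      (congrArg Subtype.val (mem_centralizer_singleton_iff.mp y.2))
  · exact mem_centralizer_singleton_iff.mpr
      (Subtype.ext (mem_centralizer_singleton_iff.mp y.2.2))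

theorem sum_irr_conj_mul_of_not_conj {x y : G} (hx : x ∈ L)
    (h : ∀ z ∈ L, z * x * z⁻¹ ≠ y) : ∑ χ : Irr L, conj (χ x) * χ y = 0 := by
  by_cases hy : y ∈ L
  · rw [sum_irr_eq (L := L) fun θ => conj (θ ⟨x, hx⟩) * θ ⟨y, hy⟩]
    convert sum_irr_conj_mul_of_not_isConj (G := L) (g := ⟨x, hx⟩) (h := ⟨y, hy⟩) ?_
    intro hc
    obtain ⟨z, hz⟩ := isConj_iff.mp hc
    exact h z z.2 (congrArg Subtype.val hz)
  · exact Finset.sum_eq_zero fun χ _ => by rw [χ.2.2 y hy, mul_zero]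

theorem sum_irr_conj_mul_self' {x : G} (hx : x ∈ L) :
    ∑ χ : Irr L, conj (χ x) * χ x = Nat.card ↥(L ⊓ centralizer ({x} : Set G)) := by
  rw [sum_irr_eq (L := L) fun θ => conj (θ ⟨x, hx⟩) * θ ⟨x, hx⟩, ← card_centralizer_subgroup hx]
  convert sum_irr_conj_mul_self (G := L) ⟨x, hx⟩

theorem sum_irr_norm_sq {x : G} (hx : x ∈ L) :
    ∑ χ : Irr L, ‖χ x‖ ^ 2 = Nat.card ↥(L ⊓ centralizer ({x} : Set G)) := by
  have := sum_irr_conj_mul_self' hx
  simp only [Complex.conj_mul'] at this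
  exact_mod_cast this

theorem sum_irr_one_mul {x : G} (hx : x ≠ 1) : ∑ χ : Irr L, χ 1 * χ x = 0 := by
  rw [← sum_irr_conj_mul_of_not_conj (L := L) (x := 1) (y := x) L.one_mem
    fun z _ h => hx (by simpa using h.symm)]
  exact Finset.sum_congr rfl fun χ _ => by rw [χ.isChar.conj_one]

theorem sum_irr_one_sq' : ∑ χ : Irr L, χ 1 ^ 2 = Nat.card L := by
  have := sum_irr_conj_mul_self' L.one_mem
  have h2 : L ⊓ centralizer ({1} : Set G) = L :=
    inf_eq_left.mpr fun x _ => mem_centralizer_singleton_iff.mpr (by simp)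
  rw [h2] at this
  rw [← this]
  exact Finset.sum_congr rfl fun χ _ => by rw [χ.isChar.conj_one, sq]

theorem card_irr_eq : Fintype.card (Irr L) = Nat.card (ConjClasses L) := by
  rw [← card_irr_eq_card_conjClasses, ← Nat.card_eq_fintype_card, Nat.card_congr (irrEquiv L)]

theorem IsIrr.degree_dvd_card (h : IsIrr L χ) {n : ℕ} (hn : χ 1 = n) : n ∣ Nat.card L :=
  h.1.degree_dvd_card hn

theorem IsIrr.isIntegral_central (h : IsIrr L χ) {f : G → ℂ} (hf : f ∈ CF L)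
    (hint : ∀ x, IsIntegral ℤ (f x)) :
    IsIntegral ℤ ((∑ x ∈ elems (L : Set G), f x * χ x) / χ 1) := by
  classical
  rw [sum_elems_eq_sum_subtype]
  exact h.1.isIntegral_central (isClassFunction_of_mem_CF hf) fun x => hint x

theorem IsIrr.sum_CF_mul (h : IsIrr L χ) {f : G → ℂ} (hf : f ∈ CF L) (y : G) :
    ∑ x ∈ elems (L : Set G), f x * χ (x * y) =
      (∑ x ∈ elems (L : Set G), f x * χ x) / χ 1 * χ y := by
  classical
  by_cases hy : y ∈ L
  · rw [sum_elems_eq_sum_subtype, sum_elems_eq_sum_subtype]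
    exact h.1.sum_classFun_mul (isClassFunction_of_mem_CF hf) ⟨y, hy⟩
  · rw [h.2 y hy, mul_zero]
    refine Finset.sum_eq_zero fun x hx => ?_
    rw [h.2 (x * y) fun h' => hy ((L.mul_mem_cancel_left (mem_elems.mp hx)).mp h'), mul_zero]

/-! ### Kernels of characters -/

theorem IsChar.mem_cfker (h : IsChar L χ) {x : G} : x ∈ cfker L χ ↔ x ∈ L ∧ χ x = χ 1 := by
  refine ⟨fun h1 => ⟨h1.1, cfker_apply h1⟩, fun ⟨hx, h1⟩ => ⟨hx, fun y => ?_⟩⟩
  by_cases hy : y ∈ L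
  · rw [CF_mul_comm h.mem_CF hx]
    exact h.1.mul_of_eq_one (n := ⟨x, hx⟩) h1 ⟨y, hy⟩
  · rw [h.2 y hy, h.2 (x * y) fun h' => hy ((L.mul_mem_cancel_left hx).mp h')]

theorem IsChar.le_cfker (h : IsChar L χ) {N : Subgroup G} (hN : N ≤ L) :
    N ≤ cfker L χ ↔ ∀ x ∈ N, χ x = χ 1 :=
  ⟨fun h1 _ hx => cfker_apply (h1 hx), fun h1 x hx => h.mem_cfker.mpr ⟨hN hx, h1 x hx⟩⟩

theorem IsChar.cfker_cfRes (h : IsChar L χ) (hHL : H ≤ L) :
    cfker H (FT.cfRes H χ) = H ⊓ cfker L χ := by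
  ext x
  rw [(h.cfRes hHL).mem_cfker, mem_inf, h.mem_cfker, cfRes_one]
  refine and_congr_right fun hx => ?_
  rw [cfRes_apply hx]
  exact ⟨fun h1 => ⟨hHL hx, h1⟩, fun h1 => h1.2⟩

theorem IsIrr.eq_cf1_iff (h : IsIrr L χ) : χ = cf1 L ↔ L ≤ cfker L χ := by
  refine ⟨fun h1 => by rw [h1, cfker_cf1], fun h1 => ?_⟩
  refine h.eq_of_cfdot_ne (isIrr_cf1 L) ?_
  rw [cfdot_cf1_right, Finset.sum_congr rfl fun x hx => cfker_apply (h1 (mem_elems.mp hx)),
    Finset.sum_const, card_elems, nsmul_eq_mul, ← mul_assoc, inv_mul_cancel₀ (card_ne_zero L),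
    one_mul]
  exact h.one_ne_zero

theorem Irr.eq_one_iff (χ : Irr L) : χ = 1 ↔ L ≤ cfker L χ := by
  rw [← Irr.coe_inj, Irr.coe_one, χ.2.eq_cf1_iff]

theorem sum_elems_mul_CF {N : Subgroup G} (hNL : N ≤ L) (f : G → ℂ) :
    ∑ x ∈ elems (L : Set G), cf1 N x * f x = ∑ x ∈ elems (N : Set G), f x := by
  rw [← Finset.sum_subset (s₁ := elems (N : Set G))
    (fun x hx => mem_elems.mpr (hNL (mem_elems.mp hx)))
    fun x _ hx => by rw [cf1_apply_of_notMem fun h => hx (mem_elems.mpr h), zero_mul]]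
  exact Finset.sum_congr rfl fun x hx => by rw [cf1_apply (mem_elems.mp hx), one_mul]

theorem cf1_mem_CF_of_normal {N : Subgroup G} (hNL : N ≤ L) (hN : L ≤ normalizer (N : Set G)) :
    cf1 N ∈ CF L :=
  (cfInd1_mem_CFon (A := (N : Set G)) hNL
    fun _ hx a ha => (mem_normalizer_iff.mp (hN hx) a).mp ha).1

theorem IsIrr.sum_normal_mul (h : IsIrr L χ) {N : Subgroup G} (hNL : N ≤ L)
    (hN : L ≤ normalizer (N : Set G)) (y : G) :
    ∑ x ∈ elems (N : Set G), χ (x * y) = (∑ x ∈ elems (N : Set G), χ x) / χ 1 * χ y := by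
  have := h.sum_CF_mul (cf1_mem_CF_of_normal hNL hN) y
  rwa [sum_elems_mul_CF hNL, sum_elems_mul_CF hNL] at this

theorem sum_elems_mul_left {M : Type*} [AddCommMonoid M] {n : G} (hn : n ∈ L) (f : G → M) :
    ∑ x ∈ elems (L : Set G), f (n * x) = ∑ x ∈ elems (L : Set G), f x := by
  refine Finset.sum_bij' (fun g _ => n * g) (fun g _ => n⁻¹ * g) ?_ ?_ ?_ ?_ ?_
  · intro g hg; exact mem_elems.mpr (L.mul_mem hn (mem_elems.mp hg))
  · intro g hg; exact mem_elems.mpr (L.mul_mem (L.inv_mem hn) (mem_elems.mp hg))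
  · intro g _; group
  · intro g _; group
  · intro g _; rfl

theorem sum_elems_mul_right {M : Type*} [AddCommMonoid M] {n : G} (hn : n ∈ L) (f : G → M) :
    ∑ x ∈ elems (L : Set G), f (x * n) = ∑ x ∈ elems (L : Set G), f x := by
  refine Finset.sum_bij' (fun g _ => g * n) (fun g _ => g * n⁻¹) ?_ ?_ ?_ ?_ ?_
  · intro g hg; exact mem_elems.mpr (L.mul_mem (mem_elems.mp hg) hn)
  · intro g hg; exact mem_elems.mpr (L.mul_mem (mem_elems.mp hg) (L.inv_mem hn))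
  · intro g _; group
  · intro g _; group
  · intro g _; rfl

theorem sum_elems_inv {M : Type*} [AddCommMonoid M] (f : G → M) :
    ∑ x ∈ elems (L : Set G), f x⁻¹ = ∑ x ∈ elems (L : Set G), f x := by
  refine Finset.sum_bij' (fun g _ => g⁻¹) (fun g _ => g⁻¹) ?_ ?_ ?_ ?_ ?_
  · intro g hg; exact mem_elems.mpr (L.inv_mem (mem_elems.mp hg))
  · intro g hg; exact mem_elems.mpr (L.inv_mem (mem_elems.mp hg))
  · intro g _; group
  · intro g _; group
  · intro g _; rfl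

theorem sum_elems_conj {M : Type*} [AddCommMonoid M] {y : G} (hy : y ∈ normalizer (H : Set G))
    (f : G → M) : ∑ x ∈ elems (H : Set G), f (y * x * y⁻¹) = ∑ x ∈ elems (H : Set G), f x := by
  refine Finset.sum_bij' (fun g _ => y * g * y⁻¹) (fun g _ => y⁻¹ * g * y) ?_ ?_ ?_ ?_ ?_
  · intro g hg; exact mem_elems.mpr ((mem_normalizer_iff.mp hy g).mp (mem_elems.mp hg))
  · intro g hg; exact mem_elems.mpr ((mem_normalizer_iff''.mp hy g).mp (mem_elems.mp hg))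
  · intro g _; group
  · intro g _; group
  · intro g _; rfl

theorem sum_elems_const {M : Type*} [AddCommMonoid M] (c : M) :
    ∑ _x ∈ elems (L : Set G), c = Nat.card L • c := by
  rw [Finset.sum_const, card_elems]

theorem IsIrr.sum_eq_zero_of_not_le (h : IsIrr L χ) {N : Subgroup G} (hNL : N ≤ L)
    (hN : L ≤ normalizer (N : Set G)) (hk : ¬ N ≤ cfker L χ) (y : G) :
    ∑ x ∈ elems (N : Set G), χ (x * y) = 0 := by
  rw [h.sum_normal_mul hNL hN]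
  refine mul_eq_zero_of_left ?_ _
  by_contra hc
  refine hk fun n hn => ⟨hNL hn, fun z => mul_left_cancel₀ hc ?_⟩
  rw [← h.sum_normal_mul hNL hN, ← h.sum_normal_mul hNL hN,
    ← sum_elems_mul_right hn fun x => χ (x * z)]
  simp only [mul_assoc]

/-- The kernel of a class function lies in the kernel of each constituent. -/
theorem cfker_constt (hφ : φ ∈ CF L) (hχ : IsIrr L χ) (h : cfdot L φ χ ≠ 0) :
    cfker L φ ≤ cfker L χ := by
  by_contra hk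
  apply h
  have hN := cfker_normal hφ
  have key : ∀ n ∈ cfker L φ, cfdot L φ χ = cfdot L φ fun x => χ (n * x) := fun n hn => by
    unfold cfdot
    rw [← sum_elems_mul_left hn.1 fun x => φ x * conj (χ x)]
    simp only [hn.2]
  have h2 : ∑ n ∈ elems (cfker L φ : Set G), cfdot L φ χ =
      ∑ n ∈ elems (cfker L φ : Set G), cfdot L φ fun x => χ (n * x) :=
    Finset.sum_congr rfl fun n hn => key n (mem_elems.mp hn)
  rw [sum_elems_const, nsmul_eq_mul, ← cfdot_sum_right] at h2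
  have h3 : (∑ n ∈ elems (cfker L φ : Set G), fun x => χ (n * x)) = 0 := by
    funext x
    simpa using hχ.sum_eq_zero_of_not_le cfker_le hN hk x
  rw [h3, cfdot_zero_right] at h2
  exact (mul_eq_zero.mp h2).resolve_left (card_ne_zero _)

open Classical in
theorem IsIrr.sum_normal (h : IsIrr L χ) {N : Subgroup G} (hNL : N ≤ L)
    (hN : L ≤ normalizer (N : Set G)) :
    ∑ x ∈ elems (N : Set G), χ x = if N ≤ cfker L χ then Nat.card N * χ 1 else 0 := by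
  split_ifs with hk
  · rw [Finset.sum_congr rfl fun x hx => cfker_apply (hk (mem_elems.mp hx)), sum_elems_const,
      nsmul_eq_mul]
  · simpa using h.sum_eq_zero_of_not_le hNL hN hk 1

theorem card_eq_relIndex_mul (hHL : H ≤ L) : Nat.card L = H.relIndex L * Nat.card H := by
  rw [← (H.subgroupOf L).index_mul_card, relIndex,
    Nat.card_congr (subgroupOfEquivOfLe hHL).toEquiv]

theorem card_cast_eq_relIndex_mul (hHL : H ≤ L) :
    (Nat.card L : ℂ) = H.relIndex L * Nat.card H := by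
  exact_mod_cast card_eq_relIndex_mul hHL

theorem card_real_eq_relIndex_mul (hHL : H ≤ L) :
    (Nat.card L : ℝ) = H.relIndex L * Nat.card H := by
  exact_mod_cast card_eq_relIndex_mul hHL

open Classical in
theorem sum_irr_one_mul' (x : G) :
    ∑ χ : Irr L, χ 1 * χ x = if x = 1 then (Nat.card L : ℂ) else 0 := by
  split_ifs with h
  · rw [h, ← sum_irr_one_sq']
    simp only [sq]
  · exact sum_irr_one_mul h

open Classical in
theorem sum_irr_ker_mul {N : Subgroup G} (hNL : N ≤ L) (hN : L ≤ normalizer (N : Set G)) (x : G) :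
    ∑ χ ∈ Finset.univ.filter (fun χ : Irr L => N ≤ cfker L χ), χ 1 * χ x =
      if x ∈ N then (N.relIndex L : ℂ) else 0 := by
  apply mul_left_cancel₀ (card_ne_zero N)
  have h1 : ∑ n ∈ elems (N : Set G), ∑ χ : Irr L, χ 1 * χ (n * x) =
      Nat.card N * ∑ χ ∈ Finset.univ.filter (fun χ : Irr L => N ≤ cfker L χ), χ 1 * χ x := by
    rw [Finset.sum_comm, Finset.sum_filter, Finset.mul_sum]
    refine Finset.sum_congr rfl fun χ _ => ?_
    rw [← Finset.mul_sum]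
    split_ifs with hk
    · rw [Finset.sum_congr rfl fun n hn => (hk (mem_elems.mp hn)).2 x, sum_elems_const,
        nsmul_eq_mul]
      ring
    · rw [χ.2.sum_eq_zero_of_not_le hNL hN hk, mul_zero, mul_zero]
  rw [← h1]
  simp only [sum_irr_one_mul']
  split_ifs with hx
  · rw [Finset.sum_eq_single_of_mem x⁻¹ (mem_elems.mpr (N.inv_mem hx)), if_pos (inv_mul_cancel x),
      card_cast_eq_relIndex_mul hNL, mul_comm]
    intro n _ hne
    exact if_neg fun h => hne (eq_inv_of_mul_eq_one_left h)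
  · rw [mul_zero]
    refine Finset.sum_eq_zero fun n hn => if_neg fun h => hx ?_
    rw [← eq_inv_of_mul_eq_one_right h.symm.symm |>.symm]
    exact N.inv_mem (mem_elems.mp hn)

/-- Every nontrivial element is outside the kernel of some irreducible character that is trivial
on a given normal subgroup. -/
theorem exists_irr_ker_not_mem {N : Subgroup G} (hNL : N ≤ L) (hN : L ≤ normalizer (N : Set G))
    {x : G} (hx : x ∈ L) (hxN : x ∉ N) : ∃ χ, IsIrr L χ ∧ N ≤ cfker L χ ∧ x ∉ cfker L χ := by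
  classical
  by_contra hc
  push Not at hc
  have h1 := sum_irr_ker_mul hNL hN x
  have h2 := sum_irr_ker_mul hNL hN 1
  rw [if_neg hxN] at h1
  rw [Finset.sum_congr rfl fun χ hχ => by
    rw [cfker_apply (hc χ.1 χ.2 (Finset.mem_filter.mp hχ).2)]] at h1
  rw [if_pos N.one_mem, h1] at h2
  exact Subgroup.FiniteIndex.index_ne_zero (H := N.subgroupOf L) (by exact_mod_cast h2.symm)

open Classical in
theorem sum_irr_ker_sq {N : Subgroup G} (hNL : N ≤ L) (hN : L ≤ normalizer (N : Set G)) :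
    ∑ χ ∈ Finset.univ.filter (fun χ : Irr L => N ≤ cfker L χ), χ 1 ^ 2 = N.relIndex L := by
  have := sum_irr_ker_mul hNL hN 1
  simpa only [sq, if_pos N.one_mem] using this

theorem IsChar.mul_of_norm_eq (h : IsChar L χ) {z : G} (hz : z ∈ L) (hn : ‖χ z‖ = ‖χ 1‖)
    (g : G) : χ (g * z) = χ z / χ 1 * χ g := by
  by_cases hg : g ∈ L
  · exact h.1.mul_of_norm_eq (z := ⟨z, hz⟩) hn ⟨g, hg⟩
  · rw [h.2 g hg, h.2 (g * z) fun h' => hg ((L.mul_mem_cancel_right hz).mp h'), mul_zero]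

/-- An element central modulo the kernel acts as a scalar. -/
theorem IsIrr.norm_eq_of_center (h : IsIrr L χ) {z : G} (hz : z ∈ L)
    (hc : ∀ y ∈ L, y * z * y⁻¹ * z⁻¹ ∈ cfker L χ) : ‖χ z‖ = ‖χ 1‖ := by
  classical
  let f : G → ℂ := fun x => ∑ y ∈ elems (L : Set G), if y * z * y⁻¹ = x then 1 else 0
  have hf : f ∈ CF L := by
    refine ⟨fun x hx => Finset.sum_eq_zero fun y hy => if_neg fun h' => hx ?_, fun w hw x => ?_⟩
    · rw [← h']
      exact L.mul_mem (L.mul_mem (mem_elems.mp hy) hz) (L.inv_mem (mem_elems.mp hy))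
    · simp only [f]
      rw [← sum_elems_mul_left hw]
      refine Finset.sum_congr rfl fun y _ => if_congr ?_ rfl rfl
      rw [show w * y * z * (w * y)⁻¹ = w * (y * z * y⁻¹) * w⁻¹ by group]
      simp
  have key : ∀ g, ∑ x ∈ elems (L : Set G), f x * χ (x * g) = Nat.card L * χ (z * g) := by
    intro g
    simp only [f, Finset.sum_mul]
    rw [Finset.sum_comm, ← nsmul_eq_mul, ← sum_elems_const]
    refine Finset.sum_congr rfl fun y hy => ?_
    have hy' := mem_elems.mp hy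
    rw [Finset.sum_eq_single_of_mem (y * z * y⁻¹)
      (mem_elems.mpr (L.mul_mem (L.mul_mem hy' hz) (L.inv_mem hy'))), if_pos rfl, one_mul,
      ← (hc y hy').2 (z * g)]
    · congr 1; group
    · intro x _ hne
      rw [if_neg hne.symm, zero_mul]
  have h1 := h.sum_CF_mul hf z⁻¹
  have h2 := key 1
  simp only [mul_one] at h2
  rw [key, h2, mul_inv_cancel, h.isChar.inv, div_mul_eq_mul_div, eq_div_iff h.one_ne_zero,
    mul_assoc, mul_assoc] at h1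
  have h3 := congrArg norm (mul_left_cancel₀ (card_ne_zero L) h1)
  rw [norm_mul, norm_mul, RCLike.norm_conj] at h3
  exact (mul_self_inj_of_nonneg (norm_nonneg _) (norm_nonneg _)).mp h3.symm

theorem IsChar.commutator_mem_cfker (h : IsChar L χ) {z : G} (hz : z ∈ L) (hn : ‖χ z‖ = ‖χ 1‖)
    {y : G} (hy : y ∈ L) : y * z * y⁻¹ * z⁻¹ ∈ cfker L χ := by
  by_cases h0 : χ = 0
  · exact ⟨L.mul_mem (L.mul_mem (L.mul_mem hy hz) (L.inv_mem hy)) (L.inv_mem hz),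
      fun _ => by simp [h0]⟩
  have h1 := h.one_ne_zero h0
  have hz0 : χ z ≠ 0 := fun h2 => h1 (by rwa [h2, norm_zero, eq_comm, norm_eq_zero] at hn)
  refine h.mem_cfker.mpr ⟨L.mul_mem (L.mul_mem (L.mul_mem hy hz) (L.inv_mem hy)) (L.inv_mem hz), ?_⟩
  have h2 := h.mul_of_norm_eq hz hn (y * z * y⁻¹ * z⁻¹)
  rw [inv_mul_cancel_right, CF_conj h.mem_CF hy] at h2
  field_simp at h2
  exact h2.symm

end CfsgLib.FT
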