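import Cfsg.Agent.Lib.FT.CFAut
import Cfsg.Agent.Lib.FrobBasic
import Cfsg.Agent.Lib.CoreElements

/-!
# Group theoretic lemmas used in the character theoretic part of the odd order theorem
-/

set_option autoImplicit false
set_option linter.unusedSectionVars false

namespace CfsgLib.FT

open Cfsg Subgroup
open scoped ComplexConjugate commutatorElement

variable {G : Type*} [Group G] [Fintype G]
variable {L K H N T E : Subgroup G}

theorem normal_subgroupOf_of_le_norm (hn : L ≤ normalizer (H : Set G)) : (H.subgroupOf L).Normal :=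
  ⟨fun a ha g => mem_subgroupOf.mpr ((norm_conj_mem (hn g.2)).mpr (mem_subgroupOf.mp ha))⟩

theorem card_subgroupOf (hHL : H ≤ L) : Nat.card (H.subgroupOf L) = Nat.card H :=
  Nat.card_congr (subgroupOfEquivOfLe hHL).toEquiv

theorem orderOf_dvd_card_of_mem {x : G} (hx : x ∈ H) : orderOf x ∣ Nat.card H :=
  Subgroup.orderOf_dvd_natCard H hx

theorem pow_card_eq_one_of_mem {x : G} (hx : x ∈ H) : x ^ Nat.card H = 1 :=
  orderOf_dvd_iff_pow_eq_one.mp (orderOf_dvd_card_of_mem hx)

theorem odd_card_of_le (hHL : H ≤ L) (h : Odd (Nat.card L)) : Odd (Nat.card H) :=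
  h.of_dvd_nat (card_dvd_of_le hHL)

theorem odd_relIndex (h : Odd (Nat.card L)) : Odd (H.relIndex L) :=
  h.of_dvd_nat (relIndex_dvd_card H L)

theorem one_lt_relIndex_of_lt (h : H < L) : 1 < H.relIndex L := by
  have h0 := relIndex_ne_zero' H L
  have h1 : H.relIndex L ≠ 1 := fun h1 => h.not_ge (relIndex_eq_one.mp h1)
  omega

theorem isComplIn_of_isComplement' (hHL : H ≤ L) {E' : Subgroup L}
    (h : (H.subgroupOf L).IsComplement' E') : IsComplIn H (E'.map L.subtype) L := by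
  refine ⟨hHL, map_subtype_le E', eq_bot_iff.mpr ?_, fun m hm => ?_⟩
  · rintro _ ⟨hx, x, hx', rfl⟩
    have : x ∈ H.subgroupOf L ⊓ E' := ⟨hx, hx'⟩
    rw [h.disjoint.eq_bot, mem_bot] at this
    simp [this]
  · obtain ⟨⟨a, b⟩, hab⟩ := h.existsUnique ⟨m, hm⟩ |>.exists
    exact ⟨a.1, a.2, b.1, ⟨b.1, b.2, rfl⟩, (congrArg Subtype.val hab).symm⟩

/-- Schur-Zassenhaus, existence of complements. -/
theorem exists_isComplIn_of_coprime (hHL : H ≤ L) (hn : L ≤ normalizer (H : Set G))
    (hcop : (Nat.card H).Coprime (H.relIndex L)) : ∃ E, IsComplIn H E L := by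
  have := normal_subgroupOf_of_le_norm hn
  obtain ⟨E', hE⟩ := exists_right_complement'_of_coprime (N := H.subgroupOf L)
    (by rwa [card_subgroupOf hHL])
  exact ⟨_, isComplIn_of_isComplement' hHL hE⟩

theorem eq_or_eq_of_prime_relIndex (hp : (H.relIndex L).Prime) (hHK : H ≤ K) (hKL : K ≤ L) :
    K = H ∨ K = L := by
  have h1 := relIndex_mul_relIndex H K L hHK hKL
  rcases (Nat.dvd_prime hp).mp (Dvd.intro _ h1) with h | h
  · exact Or.inl (le_antisymm (relIndex_eq_one.mp h) hHK)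
  · rw [h] at h1
    have : K.relIndex L = 1 := Nat.eq_of_mul_eq_mul_left hp.pos (by rw [h1, mul_one])
    exact Or.inr (le_antisymm hKL (relIndex_eq_one.mp this))

theorem commutator_le_of_quotient_comm [hN : (H.subgroupOf L).Normal]
    (hc : ∀ a b : L ⧸ H.subgroupOf L, a * b = b * a) : ⁅L, L⁆ ≤ H := by
  refine commutator_le.mpr fun x hx y hy => ?_
  have : (⁅(⟨x, hx⟩ : L), ⟨y, hy⟩⁆ : L) ∈ H.subgroupOf L := by
    rw [← QuotientGroup.eq_one_iff, ← QuotientGroup.mk'_apply, map_commutatorElement,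
      commutatorElement_eq_one_iff_mul_comm]
    exact hc _ _
  exact this

theorem commutator_le_of_prime_relIndex (hn : L ≤ normalizer (H : Set G))
    (hp : (H.relIndex L).Prime) : ⁅L, L⁆ ≤ H := by
  have := normal_subgroupOf_of_le_norm hn
  have := Fact.mk hp
  have : IsCyclic (L ⧸ H.subgroupOf L) := isCyclic_of_prime_card (p := H.relIndex L) rfl
  exact commutator_le_of_quotient_comm fun a b => mul_comm' a b

theorem exists_prime_relIndex_above (hn : L ≤ normalizer (H : Set G)) (hlt : H < L) :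
    ∃ K, H ≤ K ∧ K ≤ L ∧ (H.relIndex K).Prime := by
  have := normal_subgroupOf_of_le_norm hn
  obtain ⟨p, hp, hd⟩ := Nat.exists_prime_and_dvd (one_lt_relIndex_of_lt hlt).ne'
  have := Fact.mk hp
  obtain ⟨q, hq⟩ := exists_prime_orderOf_dvd_card' (G := L ⧸ H.subgroupOf L) p hd
  let K' := (zpowers q).comap (QuotientGroup.mk' (H.subgroupOf L))
  refine ⟨K'.map L.subtype, fun x hx => ⟨⟨x, hlt.le hx⟩, ?_, rfl⟩, map_subtype_le _, ?_⟩
  · have : QuotientGroup.mk' (H.subgroupOf L) ⟨x, hlt.le hx⟩ = 1 :=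
      (QuotientGroup.eq_one_iff _).mpr hx
    change _ ∈ zpowers q
    rw [this]; exact one_mem _
  · have e : (K'.map L.subtype).subgroupOf L = K' :=
      comap_map_eq_self_of_injective L.subtype_injective K'
    rw [← relIndex_subgroupOf (map_subtype_le K'), e,
      ← QuotientGroup.ker_mk' (H.subgroupOf L), ← MonoidHom.comap_bot, relIndex_comap,
      map_comap_eq_self_of_surjective (QuotientGroup.mk'_surjective _), relIndex_bot_left,
      Nat.card_zpowers, hq]
    exact hp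

theorem exists_pow_coprime_left {a b : ℕ} (h : a.Coprime b) :
    ∃ m : ℕ, ∀ x y : G, orderOf x ∣ a → orderOf y ∣ b → x * y = y * x →
      (x * y) ^ m = x ∧ (y * x) ^ m = x := by
  obtain ⟨m, h1, h2⟩ := Nat.chineseRemainder h 1 0
  refine ⟨m, fun x y hx hy hc => ?_⟩
  have h3 : x ^ m = x := by
    rw [← pow_one x, ← pow_mul, one_mul, pow_eq_pow_iff_modEq]
    exact h1.of_dvd hx
  have h4 : y ^ m = 1 := by
    rw [← pow_zero y, pow_eq_pow_iff_modEq]
    exact h2.of_dvd hy
  rw [← hc, (show Commute x y from hc).mul_pow, h3, h4, mul_one]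
  exact ⟨rfl, rfl⟩

/-- An element commuting with a product of commuting elements of coprime orders commutes with
the factors. -/
theorem comm_of_comm_mul_of_coprime {x y z : G} (hc : x * y = y * x)
    (hcop : (orderOf x).Coprime (orderOf y)) (h : z * (x * y) = x * y * z) : z * x = x * z := by
  obtain ⟨m, hm⟩ := exists_pow_coprime_left (G := G) hcop
  rw [← (hm x y dvd_rfl dvd_rfl hc).1]
  exact ((show Commute z (x * y) from h).pow_right m).eq

theorem conj_eq_of_conj_mul_eq {a b : ℕ} (hab : a.Coprime b) {x y x' y' g : G}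
    (hx : orderOf x ∣ a) (hy : orderOf y ∣ b) (hx' : orderOf x' ∣ a) (hy' : orderOf y' ∣ b)
    (hc : x * y = y * x) (hc' : x' * y' = y' * x') (h : g * (x * y) * g⁻¹ = x' * y') :
    g * x * g⁻¹ = x' := by
  obtain ⟨m, hm⟩ := exists_pow_coprime_left (G := G) hab
  rw [← (hm x y hx hy hc).1, ← (hm x' y' hx' hy' hc').1, ← h, conj_pow]

/-- Peterfalvi (2.1), trivial intersection part. -/
theorem cent_of_conj_cent_rcoset {g : G} (hcop : (orderOf g).Coprime (Nat.card H)) {x c c' : G}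
    (hc : c ∈ H) (hcg : c * g = g * c) (hc' : c' ∈ H) (hcg' : c' * g = g * c')
    (h : x * (c * g) * x⁻¹ = c' * g) : x * g = g * x := by
  rw [hcg, hcg'] at h
  have := conj_eq_of_conj_mul_eq hcop dvd_rfl (orderOf_dvd_card_of_mem hc) dvd_rfl
    (orderOf_dvd_card_of_mem hc') hcg.symm hcg'.symm h
  rwa [mul_inv_eq_iff_eq_mul] at this

open Classical in
theorem card_fiber_cent_rcoset {g : G} (hg : g ∈ normalizer (H : Set G))
    (hcop : (orderOf g).Coprime (Nat.card H)) {h : G} (hh : h ∈ H) :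
    ((elems (H : Set G) ×ˢ elems ((H ⊓ centralizer ({g} : Set G) : Subgroup G) : Set G)).filter
      fun p => g⁻¹ * (p.1 * (g * p.2) * p.1⁻¹) = h).card =
        Nat.card ↥(H ⊓ centralizer ({g} : Set G)) := by
  set C := H ⊓ centralizer ({g} : Set G) with hC
  set P := elems (H : Set G) ×ˢ elems (C : Set G) with hP
  have hCg : ∀ c ∈ C, c * g = g * c := fun c hc => mem_centralizer_singleton_iff.mp hc.2
  have hle : ∀ h ∈ elems (H : Set G),
      (P.filter fun p => g⁻¹ * (p.1 * (g * p.2) * p.1⁻¹) = h).card ≤ Nat.card C := by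
    intro h _
    rcases (P.filter fun p => g⁻¹ * (p.1 * (g * p.2) * p.1⁻¹) = h).eq_empty_or_nonempty with
      h0 | ⟨p0, hp0⟩
    · simp [h0]
    rw [← card_elems]
    obtain ⟨h1, h2⟩ := Finset.mem_filter.mp hp0
    obtain ⟨h3, h4⟩ := Finset.mem_product.mp h1
    refine Finset.card_le_card_of_injOn (fun p => p0.1⁻¹ * p.1) (fun p hp => ?_) ?_
    · obtain ⟨h5, h6⟩ := Finset.mem_filter.mp hp
      obtain ⟨h7, h8⟩ := Finset.mem_product.mp h5
      refine mem_elems.mpr ⟨H.mul_mem (H.inv_mem (mem_elems.mp h3)) (mem_elems.mp h7),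
        mem_centralizer_singleton_iff.mpr (cent_of_conj_cent_rcoset hcop (mem_elems.mp h8).1
          (hCg _ (mem_elems.mp h8)) (mem_elems.mp h4).1 (hCg _ (mem_elems.mp h4)) ?_)⟩
      rw [hCg _ (mem_elems.mp h8), hCg _ (mem_elems.mp h4)]
      have := mul_left_cancel (h6.trans h2.symm)
      calc p0.1⁻¹ * p.1 * (g * p.2) * (p0.1⁻¹ * p.1)⁻¹
          = p0.1⁻¹ * (p.1 * (g * p.2) * p.1⁻¹) * p0.1 := by group
        _ = g * p0.2 := by rw [this]; group
    · intro p hp q hq he
      have h5 : p.1 = q.1 := mul_left_cancel he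
      have h6 := ((Finset.mem_filter.mp hp).2).trans ((Finset.mem_filter.mp hq).2).symm
      rw [h5] at h6
      exact Prod.ext h5 (by simpa using h6)
  have hsum : ∑ h ∈ elems (H : Set G),
      (P.filter fun p => g⁻¹ * (p.1 * (g * p.2) * p.1⁻¹) = h).card =
      ∑ _h ∈ elems (H : Set G), Nat.card C := by
    rw [← Finset.card_eq_sum_card_fiberwise (s := P) (t := elems (H : Set G))
      (f := fun p : G × G => g⁻¹ * (p.1 * (g * p.2) * p.1⁻¹)), hP, Finset.card_product,
      card_elems, card_elems, sum_elems_const, smul_eq_mul]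
    intro p hp
    obtain ⟨h3, h4⟩ := Finset.mem_product.mp hp
    refine mem_elems.mpr ?_
    beta_reduce
    rw [show g⁻¹ * (p.1 * (g * p.2) * p.1⁻¹) = g⁻¹ * p.1 * g * p.2 * p.1⁻¹ by group]
    exact H.mul_mem (H.mul_mem ((norm_conj_mem' hg).mpr (mem_elems.mp h3)) (mem_elems.mp h4).1)
      (H.inv_mem (mem_elems.mp h3))
  exact (Finset.sum_eq_sum_iff_of_le hle).mp hsum h (mem_elems.mpr hh)

theorem exists_conj_cent_lcoset {g : G} (hg : g ∈ normalizer (H : Set G))
    (hcop : (orderOf g).Coprime (Nat.card H)) {h : G} (hh : h ∈ H) :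
    ∃ x ∈ H, ∃ c ∈ H, c * g = g * c ∧ x * (g * h) * x⁻¹ = g * c := by
  classical
  have h1 := card_fiber_cent_rcoset hg hcop hh
  obtain ⟨p, hp⟩ := Finset.card_pos.mp (h1 ▸ Nat.card_pos)
  obtain ⟨h2, h3⟩ := Finset.mem_filter.mp hp
  obtain ⟨h4, h5⟩ := Finset.mem_product.mp h2
  refine ⟨p.1⁻¹, H.inv_mem (mem_elems.mp h4), p.2, (mem_elems.mp h5).1,
    mem_centralizer_singleton_iff.mp (mem_elems.mp h5).2, ?_⟩
  rw [← h3]; group

/-- Peterfalvi (2.1), existence part. -/
theorem exists_conj_cent_rcoset {g : G} (hg : g ∈ normalizer (H : Set G))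
    (hcop : (orderOf g).Coprime (Nat.card H)) {h : G} (hh : h ∈ H) :
    ∃ x ∈ H, ∃ c ∈ H, c * g = g * c ∧ x * (h * g) * x⁻¹ = c * g := by
  obtain ⟨x, hx, c, hc, h1, h2⟩ := exists_conj_cent_lcoset hg hcop ((norm_conj_mem' hg).mpr hh)
  refine ⟨x, hx, c, hc, h1, ?_⟩
  rw [h1, ← h2]; group

/-- Peterfalvi (2.1), as a summation formula. -/
theorem sum_rcoset_eq_sum_cent' {M : Type*} [AddCommMonoid M] {g : G}
    (hg : g ∈ normalizer (H : Set G)) (hcop : (orderOf g).Coprime (Nat.card H)) {f : G → M}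
    (hf : ∀ y ∈ H, ∀ x, f (y * x * y⁻¹) = f x) :
    Nat.card ↥(H ⊓ centralizer ({g} : Set G)) • ∑ h ∈ elems (H : Set G), f (g * h) =
      Nat.card H • ∑ c ∈ elems ((H ⊓ centralizer ({g} : Set G) : Subgroup G) : Set G),
        f (g * c) := by
  classical
  rw [← sum_elems_const (L := H), ← Finset.sum_product', Finset.smul_sum,
    ← Finset.sum_fiberwise_of_maps_to (t := elems (H : Set G))
      (s := elems (H : Set G) ×ˢ elems ((H ⊓ centralizer ({g} : Set G) : Subgroup G) : Set G))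
      (g := fun p : G × G => g⁻¹ * (p.1 * (g * p.2) * p.1⁻¹))]
  · refine Finset.sum_congr rfl fun h hh => ?_
    rw [← card_fiber_cent_rcoset hg hcop (mem_elems.mp hh), ← Finset.sum_const]
    refine Finset.sum_congr rfl fun p hp => ?_
    obtain ⟨h2, h3⟩ := Finset.mem_filter.mp hp
    rw [← h3, mul_inv_cancel_left, hf _ (mem_elems.mp (Finset.mem_product.mp h2).1)]
  · intro p hp
    obtain ⟨h3, h4⟩ := Finset.mem_product.mp hp
    refine mem_elems.mpr ?_
    rw [show g⁻¹ * (p.1 * (g * p.2) * p.1⁻¹) = g⁻¹ * p.1 * g * p.2 * p.1⁻¹ by group]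
    exact H.mul_mem (H.mul_mem ((norm_conj_mem' hg).mpr (mem_elems.mp h3)) (mem_elems.mp h4).1)
      (H.inv_mem (mem_elems.mp h3))

theorem sum_rcoset_eq_sum_cent {g : G} (hg : g ∈ normalizer (H : Set G))
    (hcop : (orderOf g).Coprime (Nat.card H)) {f : G → ℂ}
    (hf : ∀ y ∈ H, ∀ x, f (y * x * y⁻¹) = f x) :
    (Nat.card H : ℂ)⁻¹ * ∑ h ∈ elems (H : Set G), f (g * h) =
      (Nat.card ↥(H ⊓ centralizer ({g} : Set G)) : ℂ)⁻¹ *
        ∑ c ∈ elems ((H ⊓ centralizer ({g} : Set G) : Subgroup G) : Set G), f (g * c) := by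
  have h1 := sum_rcoset_eq_sum_cent' hg hcop hf
  rw [nsmul_eq_mul, nsmul_eq_mul] at h1
  have h2 := card_ne_zero H
  have h3 := card_ne_zero (H ⊓ centralizer ({g} : Set G))
  field_simp
  linear_combination h1

end CfsgLib.FT
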