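import Cfsg.Agent.Lib.FT.CFDot

/-!
# Ambient-style class functions: induction, linear characters, products
-/

set_option autoImplicit false
set_option linter.unusedSectionVars false

namespace CfsgLib.FT

open Cfsg Subgroup
open scoped ComplexConjugate commutatorElement

variable {G : Type*} [Group G] [Fintype G]
variable {L K H N : Subgroup G} {A B : Set G} {φ φ' ψ ψ' χ θ : G → ℂ}

/-! ### Induction -/

theorem cfInd_apply {g : G} (hg : g ∈ L) :
    cfInd H L φ g = (Nat.card H : ℂ)⁻¹ * ∑ x ∈ elems (L : Set G), cfRes H φ (x * g * x⁻¹) :=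
  Set.indicator_of_mem (s := (L : Set G)) hg
    fun g => (Nat.card H : ℂ)⁻¹ * ∑ x ∈ elems (L : Set G), cfRes H φ (x * g * x⁻¹)

theorem cfInd_apply_of_notMem {g : G} (hg : g ∉ L) : cfInd H L φ g = 0 :=
  Set.indicator_of_notMem (s := (L : Set G)) hg
    fun g => (Nat.card H : ℂ)⁻¹ * ∑ x ∈ elems (L : Set G), cfRes H φ (x * g * x⁻¹)

theorem cfInd_apply' (hφ : ∀ x, x ∉ H → φ x = 0) {g : G} (hg : g ∈ L) :
    cfInd H L φ g = (Nat.card H : ℂ)⁻¹ * ∑ x ∈ elems (L : Set G), φ (x * g * x⁻¹) := by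
  rw [cfInd_apply hg, cfRes_of_supp hφ]

theorem cfInd_cfRes : cfInd H L (cfRes H φ) = cfInd H L φ := by
  funext g
  by_cases hg : g ∈ L
  · rw [cfInd_apply hg, cfInd_apply hg, cfRes_cfRes le_rfl]
  · rw [cfInd_apply_of_notMem hg, cfInd_apply_of_notMem hg]

theorem conj_mem_iff {y : G} (hy : y ∈ L) {x : G} : y * x * y⁻¹ ∈ L ↔ x ∈ L := by
  rw [L.mul_mem_cancel_right (L.inv_mem hy), L.mul_mem_cancel_left hy]

theorem norm_conj_mem {y : G} (hy : y ∈ normalizer (H : Set G)) {x : G} :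
    y * x * y⁻¹ ∈ H ↔ x ∈ H := (mem_normalizer_iff.mp hy x).symm

theorem norm_conj_mem' {y : G} (hy : y ∈ normalizer (H : Set G)) {x : G} :
    y⁻¹ * x * y ∈ H ↔ x ∈ H := (mem_normalizer_iff''.mp hy x).symm

theorem le_normalizer_of_conj (h : ∀ x ∈ L, ∀ a ∈ H, x * a * x⁻¹ ∈ H) :
    L ≤ normalizer (H : Set G) := fun x hx => mem_normalizer_iff.mpr fun a => ⟨h x hx a, fun ha => by
      have := h x⁻¹ (L.inv_mem hx) _ ha
      simpa [mul_assoc] using this⟩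

theorem cfInd_mem_CF : cfInd H L φ ∈ CF L := by
  refine ⟨fun x hx => cfInd_apply_of_notMem hx, fun y hy x => ?_⟩
  by_cases hx : x ∈ L
  · rw [cfInd_apply hx, cfInd_apply ((conj_mem_iff hy).mpr hx),
      ← sum_elems_mul_right hy fun z => cfRes H φ (z * x * z⁻¹)]
    congr 1
    refine Finset.sum_congr rfl fun z _ => ?_
    congr 1; group
  · rw [cfInd_apply_of_notMem hx, cfInd_apply_of_notMem (mt (conj_mem_iff hy).mp hx)]

theorem relIndex_ne_zero' (H L : Subgroup G) : H.relIndex L ≠ 0 :=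
  Subgroup.FiniteIndex.index_ne_zero

theorem relIndex_cast_ne_zero (H L : Subgroup G) : (H.relIndex L : ℂ) ≠ 0 := by
  exact_mod_cast relIndex_ne_zero' H L

theorem relIndex_pos_real (H L : Subgroup G) : (0 : ℝ) < H.relIndex L := by
  exact_mod_cast Nat.pos_of_ne_zero (relIndex_ne_zero' H L)

theorem cfInd_one (hHL : H ≤ L) : cfInd H L φ 1 = H.relIndex L * φ 1 := by
  rw [cfInd_apply L.one_mem]
  simp only [mul_one, mul_inv_cancel, cfRes_one]
  rw [sum_elems_const, nsmul_eq_mul, card_cast_eq_relIndex_mul hHL]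
  have := card_ne_zero H
  field_simp

theorem sum_elems_cfRes (hHL : H ≤ L) (φ f : G → ℂ) :
    ∑ x ∈ elems (L : Set G), cfRes H φ x * f x = ∑ x ∈ elems (H : Set G), φ x * f x := by
  rw [← sum_elems_mul_CF hHL]
  refine Finset.sum_congr rfl fun x _ => ?_
  by_cases hx : x ∈ H
  · rw [cfRes_apply hx, cf1_apply hx, one_mul]
  · rw [cfRes_apply_of_notMem hx, cf1_apply_of_notMem hx, zero_mul, zero_mul]

/-- Frobenius reciprocity. -/
theorem cfdot_cfInd_left (hHL : H ≤ L) (hψ : ψ ∈ CF L) :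
    cfdot L (cfInd H L φ) ψ = cfdot H φ ψ := by
  unfold cfdot
  have h1 : ∑ g ∈ elems (L : Set G), cfInd H L φ g * conj (ψ g) =
      (Nat.card H : ℂ)⁻¹ * ∑ x ∈ elems (L : Set G), ∑ g ∈ elems (L : Set G),
        cfRes H φ (x * g * x⁻¹) * conj (ψ (x * g * x⁻¹)) := by
    rw [Finset.sum_comm, Finset.mul_sum]
    refine Finset.sum_congr rfl fun g hg => ?_
    rw [cfInd_apply (mem_elems.mp hg), mul_assoc, Finset.sum_mul]
    congr 1
    exact Finset.sum_congr rfl fun x hx => by rw [hψ.2 x (mem_elems.mp hx)]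
  rw [h1, Finset.sum_congr rfl fun x hx => sum_elems_conj (L.le_normalizer (mem_elems.mp hx))
    fun g => cfRes H φ g * conj (ψ g), sum_elems_const, sum_elems_cfRes hHL, nsmul_eq_mul]
  have := card_ne_zero L
  field_simp

theorem cfdot_cfInd_right (hHL : H ≤ L) (hψ : ψ ∈ CF L) :
    cfdot L ψ (cfInd H L φ) = cfdot H ψ φ := by
  rw [← cfdot_conj, cfdot_cfInd_left hHL hψ, cfdot_conj]

theorem cfdot_cfInd_cfRes (hHL : H ≤ L) (hψ : ψ ∈ CF L) :
    cfdot L (cfInd H L φ) ψ = cfdot H φ (cfRes H ψ) := by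
  rw [cfdot_cfInd_left hHL hψ, cfdot_cfRes_right]

theorem cfdot_cfRes_cfInd (hHL : H ≤ L) (hψ : ψ ∈ CF L) :
    cfdot L ψ (cfInd H L φ) = cfdot H (cfRes H ψ) φ := by
  rw [cfdot_cfInd_right hHL hψ, cfdot_cfRes_left]

theorem IsChar.cfInd (hHL : H ≤ L) (h : IsChar H χ) : IsChar L (cfInd H L χ) := by
  refine isChar_of_cfdot_nat cfInd_mem_CF fun ψ hψ => ?_
  rw [cfdot_cfInd_cfRes hHL hψ.mem_CF]
  exact h.cfdot_nat (hψ.isChar.cfRes hHL)

theorem ZIrr_cfInd (hHL : H ≤ L) (h : φ ∈ ZIrr H) : cfInd H L φ ∈ ZIrr L := by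
  obtain ⟨a, b, ha, hb, rfl⟩ := mem_ZIrr_iff_sub.mp h
  rw [map_sub]
  exact (ZIrr L).sub_mem (ha.cfInd hHL).mem_ZIrr (hb.cfInd hHL).mem_ZIrr

theorem cfInd_self (h : φ ∈ CF L) : cfInd L L φ = φ := by
  exact CF_ext cfInd_mem_CF h fun χ hχ => cfdot_cfInd_left le_rfl hχ.mem_CF

theorem cfInd_cfInd (hHK : H ≤ K) (hKL : K ≤ L) : cfInd K L (cfInd H K φ) = cfInd H L φ := by
  refine CF_ext cfInd_mem_CF cfInd_mem_CF fun χ hχ => ?_
  rw [cfdot_cfInd_cfRes hKL hχ.mem_CF, cfdot_cfInd_left hHK (cfRes_mem_CF hKL hχ.mem_CF),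
    cfdot_cfInd_left (hHK.trans hKL) hχ.mem_CF]
  exact cfdot_congr (fun _ _ => rfl) fun x hx => cfRes_apply (hHK hx)

theorem cfInd_mul_cfRes (hHL : H ≤ L) (hψ : ψ ∈ CF L) :
    cfInd H L (φ * cfRes H ψ) = cfInd H L φ * ψ := by
  funext g
  by_cases hg : g ∈ L
  · rw [Pi.mul_apply, cfInd_apply hg, cfInd_apply hg, mul_assoc, Finset.sum_mul]
    congr 1
    refine Finset.sum_congr rfl fun x hx => ?_
    rw [cfRes_mul, cfRes_cfRes le_rfl, Pi.mul_apply]
    by_cases h : x * g * x⁻¹ ∈ H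
    · rw [cfRes_apply (φ := ψ) h, hψ.2 x (mem_elems.mp hx)]
    · rw [cfRes_apply_of_notMem h, zero_mul, zero_mul]
  · rw [Pi.mul_apply, cfInd_apply_of_notMem hg, cfInd_apply_of_notMem hg, zero_mul]

theorem cfInd_cfAut (u : ℂ →+* ℂ) : cfAut u (cfInd H L φ) = cfInd H L (cfAut u φ) := by
  funext g
  by_cases hg : g ∈ L
  · simp [cfInd_apply hg, ← cfAut_cfRes]
  · simp [cfInd_apply_of_notMem hg]

theorem cfInd_cfConjg {x : G} (hx : x ∈ L) (hxH : x ∈ normalizer (H : Set G)) :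
    cfInd H L (cfConjg x φ) = cfInd H L φ := by
  funext g
  by_cases hg : g ∈ L
  · rw [cfInd_apply hg, cfInd_apply hg, ← cfConjg_cfRes hxH,
      ← sum_elems_mul_left hx fun z => cfConjg x (cfRes H φ) (z * g * z⁻¹)]
    congr 1
    refine Finset.sum_congr rfl fun z _ => ?_
    rw [cfConjg_apply]; congr 1; group
  · rw [cfInd_apply_of_notMem hg, cfInd_apply_of_notMem hg]

theorem cfConjg_cfInd {x : G} (hxL : x ∈ normalizer (L : Set G))
    (hxH : x ∈ normalizer (H : Set G)) :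
    cfConjg x (cfInd H L φ) = cfInd H L (cfConjg x φ) := by
  funext g
  by_cases hg : g ∈ L
  · rw [cfConjg_apply, cfInd_apply hg, cfInd_apply ((norm_conj_mem' hxL).mpr hg),
      ← cfConjg_cfRes hxH, ← sum_elems_conj hxL fun z => cfConjg x (cfRes H φ) (z * g * z⁻¹)]
    congr 1
    refine Finset.sum_congr rfl fun z _ => ?_
    rw [cfConjg_apply]; congr 1; group
  · rw [cfConjg_apply, cfInd_apply_of_notMem hg,
      cfInd_apply_of_notMem (mt (norm_conj_mem' hxL).mp hg)]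

theorem cfInd_eq_zero {g : G} (h : ∀ x ∈ L, x * g * x⁻¹ ∈ H → φ (x * g * x⁻¹) = 0) :
    cfInd H L φ g = 0 := by
  by_cases hg : g ∈ L
  · rw [cfInd_apply hg, Finset.sum_eq_zero, mul_zero]
    intro x hx
    by_cases h1 : x * g * x⁻¹ ∈ H
    · rw [cfRes_apply h1, h x (mem_elems.mp hx) h1]
    · exact cfRes_apply_of_notMem h1
  · exact cfInd_apply_of_notMem hg

theorem cfInd_mem_CFon_classSupport (hφ : ∀ x, x ∉ A → φ x = 0) :
    cfInd H L φ ∈ CFon L (classSupport A L) := by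
  refine ⟨cfInd_mem_CF, fun g hg => cfInd_eq_zero fun x hx _ => hφ _ fun h => hg ?_⟩
  exact ⟨_, h, x⁻¹, L.inv_mem hx, by group⟩

theorem cfInd_mem_CFon (hn : ∀ x ∈ L, ∀ a ∈ A, x * a * x⁻¹ ∈ A) (hφ : ∀ x, x ∉ A → φ x = 0) :
    cfInd H L φ ∈ CFon L A := by
  refine CFon_mono ?_ (cfInd_mem_CFon_classSupport hφ)
  rintro _ ⟨a, ha, y, hy, rfl⟩
  exact hn y hy a ha

theorem cfInd_normal_mem_CFon (hn : L ≤ normalizer (H : Set G)) :
    cfInd H L φ ∈ CFon L (H : Set G) := by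
  exact ⟨cfInd_mem_CF, fun g hg => cfInd_eq_zero fun x hx h =>
    (hg ((norm_conj_mem (hn hx)).mp h)).elim⟩

/-- Induction of an `L`-invariant function from a normal subgroup. -/
theorem cfInd_of_invariant (hHL : H ≤ L) (hn : L ≤ normalizer (H : Set G)) (hφ : φ ∈ CF H)
    (hinv : L ≤ inertia φ) : cfInd H L φ = (H.relIndex L : ℂ) • φ := by
  funext g
  by_cases hg : g ∈ H
  · rw [cfInd_apply' hφ.1 (hHL hg), Finset.sum_congr rfl fun x hx => hinv (mem_elems.mp hx) g,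
      sum_elems_const, nsmul_eq_mul, card_cast_eq_relIndex_mul hHL, Pi.smul_apply, smul_eq_mul]
    have := card_ne_zero H
    field_simp
  · rw [(cfInd_normal_mem_CFon hn).2 g hg, Pi.smul_apply, hφ.1 g hg, smul_zero]

theorem cfInd_cf1_normal (hHL : H ≤ L) (hn : L ≤ normalizer (H : Set G)) :
    cfInd H L (cf1 H) = (H.relIndex L : ℂ) • cf1 H := by
  exact cfInd_of_invariant hHL hn cf1_mem_CF (le_inertia (cf1_mem_CF_of_normal hHL hn))

theorem IsChar.cfInd_ne_zero (hHL : H ≤ L) (h : IsChar H χ) (h0 : χ ≠ 0) :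
    FT.cfInd H L χ ≠ 0 := by
  intro h1
  have := congrFun h1 1
  rw [cfInd_one hHL] at this
  exact mul_ne_zero (relIndex_cast_ne_zero H L) (h.one_ne_zero h0) this

theorem IsIrr.cfInd_ne_zero (hHL : H ≤ L) (h : IsIrr H χ) : cfInd H L χ ≠ 0 :=
  h.isChar.cfInd_ne_zero hHL h.ne_zero

/-- Every irreducible character of a subgroup lies under an irreducible character. -/
theorem exists_irr_over (hHL : H ≤ L) (h : IsIrr H θ) : ∃ χ, IsIrr L χ ∧ cfdot H χ θ ≠ 0 := by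
  obtain ⟨χ, hχ, h1⟩ := exists_constt cfInd_mem_CF (h.cfInd_ne_zero hHL)
  rw [cfdot_cfInd_left hHL hχ.mem_CF] at h1
  exact ⟨χ, hχ, fun h2 => h1 (cfdot_symm_zero h2)⟩

/-- Every irreducible character lies over an irreducible character of a subgroup. -/
theorem exists_irr_under (hHL : H ≤ L) (h : IsIrr L χ) : ∃ θ, IsIrr H θ ∧ cfdot H χ θ ≠ 0 := by
  obtain ⟨θ, hθ, h1⟩ := exists_constt (cfRes_mem_CF hHL h.mem_CF)
    (fun h0 => h.one_ne_zero (by simpa using congrFun h0 1))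
  exact ⟨θ, hθ, by rwa [cfdot_cfRes_left] at h1⟩

open Classical in
theorem sum_elems_mul_eq {M : Type*} [AddCommMonoid M] (hKL : K ≤ L) (hHL : H ≤ L)
    (hmul : ∀ x ∈ L, ∃ k ∈ K, ∃ h ∈ H, x = k * h) (f : G → M) :
    ∑ k ∈ elems (K : Set G), ∑ h ∈ elems (H : Set G), f (k * h) =
      Nat.card ↥(K ⊓ H) • ∑ x ∈ elems (L : Set G), f x := by
  have h1 : ∀ k ∈ elems (K : Set G), ∑ h ∈ elems (H : Set G), f (k * h) =
      ∑ x ∈ elems (L : Set G), if k⁻¹ * x ∈ H then f x else 0 := by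
    intro k hk
    have hk' := hKL (mem_elems.mp hk)
    rw [← sum_elems_mul_left hk' fun x => if k⁻¹ * x ∈ H then f x else 0]
    simp only [inv_mul_cancel_left]
    rw [← Finset.sum_filter]
    congr 1
    ext x
    simp only [mem_elems, Finset.mem_filter, SetLike.mem_coe]
    exact ⟨fun h => ⟨hHL h, h⟩, fun h => h.2⟩
  rw [Finset.sum_congr rfl h1, Finset.sum_comm, Finset.smul_sum]
  refine Finset.sum_congr rfl fun x hx => ?_
  obtain ⟨k0, hk0, h0, hh0, rfl⟩ := hmul x (mem_elems.mp hx)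
  rw [← sum_elems_mul_left hk0 fun k => if k⁻¹ * (k0 * h0) ∈ H then f (k0 * h0) else 0,
    ← Finset.sum_filter, Finset.sum_const, ← card_elems]
  congr 2
  ext k
  simp only [mem_elems, Finset.mem_filter, SetLike.mem_coe, mem_inf]
  refine and_congr_right fun _ => ?_
  rw [show (k0 * k)⁻¹ * (k0 * h0) = k⁻¹ * h0 by group, H.mul_mem_cancel_right hh0, inv_mem_iff]

theorem card_mul_eq (hKL : K ≤ L) (hHL : H ≤ L) (hmul : ∀ x ∈ L, ∃ k ∈ K, ∃ h ∈ H, x = k * h) :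
    Nat.card K * Nat.card H = Nat.card ↥(K ⊓ H) * Nat.card L := by
  simpa [card_elems] using sum_elems_mul_eq hKL hHL hmul fun _ => (1 : ℕ)

/-- `Res_H Ind_K^L φ = Ind_{H ∩ K}^H Res φ` when `L = K H`. -/
theorem cfRes_cfInd_of_mul (hKL : K ≤ L) (hHL : H ≤ L)
    (hmul : ∀ x ∈ L, ∃ k ∈ K, ∃ h ∈ H, x = k * h) (hφ : φ ∈ CF K) :
    cfRes H (cfInd K L φ) = cfInd (K ⊓ H) H φ := by
  funext g
  by_cases hg : g ∈ H
  · rw [cfRes_apply hg, cfInd_apply' hφ.1 (hHL hg), cfInd_apply hg]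
    have h1 := sum_elems_mul_eq hKL hHL hmul fun x => φ (x * g * x⁻¹)
    have h2 : ∀ k ∈ elems (K : Set G), ∑ h ∈ elems (H : Set G), φ (k * h * g * (k * h)⁻¹) =
        ∑ h ∈ elems (H : Set G), cfRes (K ⊓ H) φ (h * g * h⁻¹) := fun k hk =>
      Finset.sum_congr rfl fun h hh => by
        rw [show k * h * g * (k * h)⁻¹ = k * (h * g * h⁻¹) * k⁻¹ by group,
          hφ.2 k (mem_elems.mp hk)]
        by_cases h3 : h * g * h⁻¹ ∈ K
        · rw [cfRes_apply (mem_inf.mpr ⟨h3, (conj_mem_iff (mem_elems.mp hh)).mpr hg⟩)]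
        · rw [hφ.1 _ h3, cfRes_apply_of_notMem fun h4 => h3 (mem_inf.mp h4).1]
    rw [Finset.sum_congr rfl h2, sum_elems_const, nsmul_eq_mul, nsmul_eq_mul] at h1
    have h3 := card_ne_zero K
    have h4 := card_ne_zero (K ⊓ H)
    field_simp
    rw [h1, mul_comm]
  · rw [cfRes_apply_of_notMem hg, cfInd_apply_of_notMem hg]

/-! ### Normed TI-subsets -/

theorem NormedTI.subset (h : NormedTI A K L) (hA : A ⊆ K) : A ⊆ L := fun a ha =>
  h.ti a (hA ha) a ha (by simpa using ha)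

theorem NormedTI.cent_le (h : NormedTI A K L) {a : G} (ha : a ∈ A) :
    K ⊓ centralizer ({a} : Set G) ≤ L := by
  intro g hg
  refine h.ti g hg.1 a ha ?_
  rwa [mem_centralizer_singleton_iff.mp hg.2, mul_inv_cancel_right]

theorem NormedTI.mono (h : NormedTI A K L) (hB : B ⊆ A) (hne : B.Nonempty)
    (hn : ∀ x ∈ L, ∀ a ∈ B, x * a * x⁻¹ ∈ B) : NormedTI B K L :=
  ⟨hne, h.le, hn, fun g hg a ha ha' => h.ti g hg a (hB ha) (hB ha')⟩

theorem NormedTI.restrict (h : NormedTI A K L) {K' : Subgroup G} (hL : L ≤ K') (hK : K' ≤ K) :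
    NormedTI A K' L := ⟨h.nonempty, hL, h.conj_mem, fun g hg => h.ti g (hK hg)⟩

theorem normedTI_top_iff (hne : A.Nonempty) (h1 : (1 : G) ∉ A) :
    NormedTI A ⊤ L ↔ IsTISubset A ∧ normalizer A = L := by
  constructor
  · intro h
    have h2 : normalizer A = L := by
      refine le_antisymm (fun g hg => ?_) fun g hg => ?_
      · obtain ⟨a, ha⟩ := hne
        exact h.ti g (mem_top g) a ha ((mem_set_normalizer_iff.mp hg a).mp ha)
      · refine mem_set_normalizer_iff.mpr fun a => ⟨h.conj_mem g hg a, fun ha => ?_⟩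
        have := h.conj_mem g⁻¹ (L.inv_mem hg) _ ha
        simpa [mul_assoc] using this
    exact ⟨fun g hg x hx hx' => (hg (h2 ▸ h.ti g (mem_top g) x hx hx')).elim, h2⟩
  · rintro ⟨h2, rfl⟩
    refine ⟨hne, le_top, fun x hx a => (mem_set_normalizer_iff.mp hx a).mp, fun g _ a ha ha' => ?_⟩
    by_contra hg
    exact h1 (h2 g hg a ha ha' ▸ ha)

theorem normedTI_sharp_iff (hH : H ≠ ⊥) :
    NormedTI (sharp H) ⊤ L ↔ IsTISubset (H : Set G) ∧ normalizer (H : Set G) = L := by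
  have hne : (sharp H).Nonempty := by
    obtain ⟨x, hx⟩ := Subgroup.ne_bot_iff_exists_ne_one.mp hH
    exact ⟨x, x.2, fun h => hx (Subtype.ext h)⟩
  constructor
  · intro h
    have h2 : normalizer (H : Set G) = L := by
      refine le_antisymm (fun g hg => ?_) (le_normalizer_of_conj fun g hg a ha => ?_)
      · obtain ⟨a, ha⟩ := hne
        exact h.ti g (mem_top g) a ha (sharp_conj le_rfl g hg a ha)
      · by_cases h1 : a = 1
        · simp [h1]
        · exact (h.conj_mem g hg a ⟨ha, h1⟩).1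
    refine ⟨fun g hg x hx hx' => ?_, h2⟩
    by_contra h1
    exact hg (h2 ▸ h.ti g (mem_top g) x ⟨hx, h1⟩ ⟨hx', fun h3 => h1 (by simpa using h3)⟩)
  · rintro ⟨h2, rfl⟩
    refine ⟨hne, le_top, sharp_conj le_rfl, fun g _ a ha ha' => ?_⟩
    by_contra hg
    exact ha.2 (h2 g hg a ha.1 ha'.1)

open Classical in
theorem NormedTI.card_smul_sum_classSupport {M : Type*} [AddCommMonoid M] (h : NormedTI A K L)
    {f : G → M} (hf : ∀ y ∈ K, ∀ x, f (y * x * y⁻¹) = f x) :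
    Nat.card L • ∑ g ∈ elems (classSupport A K), f g = Nat.card K • ∑ a ∈ elems A, f a := by
  have h1 : ∀ y ∈ elems (K : Set G), ∑ a ∈ elems A, f a =
      ∑ g ∈ elems (classSupport A K), if y⁻¹ * g * y ∈ A then f g else 0 := by
    intro y hy
    have hy' := mem_elems.mp hy
    rw [← Finset.sum_filter]
    refine Finset.sum_bij' (fun a _ => y * a * y⁻¹) (fun g _ => y⁻¹ * g * y) ?_ ?_ ?_ ?_ ?_
    · intro a ha
      refine Finset.mem_filter.mpr ⟨mem_elems.mpr ⟨a, mem_elems.mp ha, y, hy', rfl⟩, ?_⟩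
      simpa [mul_assoc] using ha
    · intro g hg; exact mem_elems.mpr (Finset.mem_filter.mp hg).2
    · intro g _; group
    · intro g _; group
    · intro a _; exact (hf y hy' a).symm
  rw [← sum_elems_const (L := K), Finset.sum_congr rfl h1, Finset.sum_comm, Finset.smul_sum]
  refine Finset.sum_congr rfl fun g hg => ?_
  obtain ⟨a, ha, y0, hy0, rfl⟩ := mem_elems.mp hg
  rw [← sum_elems_mul_left hy0 fun y => if y⁻¹ * (y0 * a * y0⁻¹) * y ∈ A then f (y0 * a * y0⁻¹)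
    else 0, ← Finset.sum_filter, Finset.sum_const, ← card_elems]
  congr 2
  ext y
  simp only [mem_elems, Finset.mem_filter, SetLike.mem_coe]
  rw [show (y0 * y)⁻¹ * (y0 * a * y0⁻¹) * (y0 * y) = y⁻¹ * a * y⁻¹⁻¹ by group]
  exact ⟨fun hy => ⟨h.le hy, h.conj_mem _ (L.inv_mem hy) a ha⟩,
    fun hy => inv_mem_iff.mp (h.ti _ (K.inv_mem hy.1) a ha hy.2)⟩

/-- Sums of class functions over the conjugates of a TI-subset. -/
theorem NormedTI.sum_classSupport {M : Type*} [AddCommMonoid M] [Module ℚ≥0 M]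
    (h : NormedTI A K L) {f : G → M} (hf : ∀ y ∈ K, ∀ x, f (y * x * y⁻¹) = f x) :
    ∑ g ∈ elems (classSupport A K), f g = L.relIndex K • ∑ a ∈ elems A, f a := by
  have h1 := h.card_smul_sum_classSupport hf
  rw [card_eq_relIndex_mul h.le, mul_comm, mul_smul] at h1
  have h2 := congrArg (fun x => ((Nat.card L : ℚ≥0))⁻¹ • x) h1
  have h3 : (Nat.card L : ℚ≥0) ≠ 0 := by exact_mod_cast Nat.card_pos.ne'
  simpa only [← Nat.cast_smul_eq_nsmul ℚ≥0 (Nat.card L), inv_smul_smul₀ h3] using h2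

theorem NormedTI.card_classSupport (h : NormedTI A K L) :
    (classSupport A K).ncard = L.relIndex K * A.ncard := by
  have h1 := h.card_smul_sum_classSupport (f := fun _ => (1 : ℕ)) fun _ _ _ => rfl
  simp only [Finset.sum_const, card_elems_set, smul_eq_mul, mul_one] at h1
  rw [card_eq_relIndex_mul h.le, mul_comm (L.relIndex K), mul_assoc] at h1
  exact Nat.eq_of_mul_eq_mul_left Nat.card_pos h1

theorem normedTI_Ind_id (h : NormedTI A K L) (hφ : φ ∈ CFon L A) {a : G} (ha : a ∈ A)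
    (haK : a ∈ K) : cfInd L K φ a = φ a := by
  rw [cfInd_apply' hφ.1.1 haK, ← Finset.sum_subset (s₁ := elems (L : Set G))
    (fun x hx => mem_elems.mpr (h.le (mem_elems.mp hx))) fun x hx hx' => hφ.2 _ fun h1 =>
      hx' (mem_elems.mpr (h.ti x (mem_elems.mp hx) a ha h1)),
    Finset.sum_congr rfl fun x hx => hφ.1.2 x (mem_elems.mp hx) a, sum_elems_const, nsmul_eq_mul,
    ← mul_assoc, inv_mul_cancel₀ (card_ne_zero L), one_mul]

theorem normedTI_isometry (h : NormedTI A K L) (hφ : φ ∈ CFon L A) (hψ : ψ ∈ CFon L A) :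
    cfdot K (cfInd L K φ) (cfInd L K ψ) = cfdot L φ ψ := by
  rw [cfdot_cfInd_left h.le cfInd_mem_CF]
  refine cfdot_congr_of_supp (A := A ∩ L) (fun x hx => ?_) fun x hx =>
    normedTI_Ind_id h hψ hx.1 (h.le hx.2)
  by_cases h1 : x ∈ A
  · exact hφ.1.1 x fun h2 => hx ⟨h1, h2⟩
  · exact hφ.2 x h1

/-! ### Conjugate characters -/

/-- Conjugation by `x⁻¹` from the conjugate subgroup. -/
def conjBack (H : Subgroup G) (x : G) : H.map (MulAut.conj x).toMonoidHom →* H where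
  toFun y := ⟨x⁻¹ * y * x, by
    obtain ⟨_, h, hh, rfl⟩ := y
    simpa [mul_assoc] using hh⟩
  map_one' := Subtype.ext (by simp)
  map_mul' a b := Subtype.ext (by
    change x⁻¹ * (a * b : G) * x = x⁻¹ * a * x * (x⁻¹ * b * x)
    group)

theorem conjBack_surjective (H : Subgroup G) (x : G) : Function.Surjective (conjBack H x) :=
  fun h => ⟨⟨x * h * x⁻¹, h, h.2, rfl⟩, Subtype.ext (by
    change x⁻¹ * (x * h * x⁻¹) * x = h
    group)⟩

theorem mem_map_conj {x g : G} : g ∈ H.map (MulAut.conj x).toMonoidHom ↔ x⁻¹ * g * x ∈ H := by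
  refine ⟨?_, fun h => ⟨_, h, by simp [mul_assoc]⟩⟩
  rintro ⟨h, hh, rfl⟩
  simpa [mul_assoc] using hh

theorem map_conj_eq_of_mem_normalizer {x : G} (hx : x ∈ normalizer (H : Set G)) :
    H.map (MulAut.conj x).toMonoidHom = H := by
  ext g; rw [mem_map_conj, norm_conj_mem' hx]

theorem IsChar.cfConjg_map (h : IsChar H χ) (x : G) :
    IsChar (H.map (MulAut.conj x).toMonoidHom) (cfConjg x χ) :=
  ⟨h.1.comp (conjBack H x), fun _ hg => h.2 _ (mt mem_map_conj.mpr hg)⟩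

/-- Transport of characters to a conjugate subgroup. -/
theorem IsIrr.cfConjg_map (h : IsIrr H χ) (x : G) :
    IsIrr (H.map (MulAut.conj x).toMonoidHom) (cfConjg x χ) :=
  ⟨h.1.comp (conjBack H x) (conjBack_surjective H x), fun _ hg => h.2 _ (mt mem_map_conj.mpr hg)⟩

theorem IsChar.cfConjg (h : IsChar H χ) {x : G} (hx : x ∈ normalizer (H : Set G)) :
    IsChar H (cfConjg x χ) := by
  have := h.cfConjg_map x
  rwa [map_conj_eq_of_mem_normalizer hx] at this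

theorem IsIrr.cfConjg (h : IsIrr H χ) {x : G} (hx : x ∈ normalizer (H : Set G)) :
    IsIrr H (cfConjg x χ) := by
  have := h.cfConjg_map x
  rwa [map_conj_eq_of_mem_normalizer hx] at this

theorem ZIrr_cfConjg (h : φ ∈ ZIrr H) {x : G} (hx : x ∈ normalizer (H : Set G)) :
    cfConjg x φ ∈ ZIrr H := by
  obtain ⟨a, b, ha, hb, rfl⟩ := mem_ZIrr_iff_sub.mp h
  rw [map_sub]
  exact (ZIrr H).sub_mem (ha.cfConjg hx).mem_ZIrr (hb.cfConjg hx).mem_ZIrr

theorem mem_cfclass : φ ∈ cfclass L θ ↔ ∃ x ∈ L, cfConjg x θ = φ := by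
  simp [cfclass]

theorem self_mem_cfclass : θ ∈ cfclass L θ := mem_cfclass.mpr ⟨1, L.one_mem, cfConjg_one⟩

theorem cfclass_eq_of_mem (h : φ ∈ cfclass L θ) : cfclass L φ = cfclass L θ := by
  obtain ⟨x, hx, rfl⟩ := mem_cfclass.mp h
  ext ψ
  simp only [mem_cfclass]
  refine ⟨fun ⟨y, hy, h1⟩ => ⟨y * x, L.mul_mem hy hx, by rw [cfConjg_mul, h1]⟩,
    fun ⟨y, hy, h1⟩ => ⟨y * x⁻¹, L.mul_mem hy (L.inv_mem hx), ?_⟩⟩
  rw [cfConjg_mul, cfConjg_inv_cfConjg, h1]

theorem mem_cfclass_comm : φ ∈ cfclass L θ ↔ θ ∈ cfclass L φ := by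
  exact ⟨fun h => cfclass_eq_of_mem h ▸ self_mem_cfclass,
    fun h => cfclass_eq_of_mem h ▸ self_mem_cfclass⟩

open Classical in
theorem sum_cfConjg_eq' {M : Type*} [AddCommMonoid M] (θ : G → ℂ) (f : (G → ℂ) → M) :
    ∑ x ∈ elems (L : Set G), f (cfConjg x θ) =
      Nat.card ↥(L ⊓ inertia θ) • ∑ ξ ∈ cfclass L θ, f ξ := by
  rw [Finset.sum_comp f fun x => cfConjg x θ, Finset.smul_sum]
  refine Finset.sum_congr (by unfold cfclass; congr) fun ξ hξ => ?_
  obtain ⟨x0, hx0, rfl⟩ := mem_cfclass.mp hξ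
  congr 1
  rw [← card_elems]
  refine Finset.card_bij' (fun x _ => x0⁻¹ * x) (fun x _ => x0 * x) ?_ ?_ ?_ ?_
  · intro x hx
    obtain ⟨h1, h2⟩ := Finset.mem_filter.mp hx
    refine mem_elems.mpr ⟨L.mul_mem (L.inv_mem hx0) (mem_elems.mp h1), mem_inertia_iff.mpr ?_⟩
    rw [cfConjg_mul, h2, cfConjg_inv_cfConjg]
  · intro x hx
    obtain ⟨h1, h2⟩ := mem_elems.mp hx
    refine Finset.mem_filter.mpr ⟨mem_elems.mpr (L.mul_mem hx0 h1), ?_⟩
    rw [cfConjg_mul, mem_inertia_iff.mp h2]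
  · intro x _; group
  · intro x _; group

theorem card_cfclass : (cfclass L θ).card = (inertia θ).relIndex L := by
  have h1 := sum_cfConjg_eq' (L := L) θ fun _ => (1 : ℕ)
  simp only [Finset.sum_const, card_elems, smul_eq_mul, mul_one] at h1
  rw [card_eq_relIndex_mul (inf_le_left : L ⊓ inertia θ ≤ L), mul_comm, inf_relIndex_left] at h1
  exact (Nat.eq_of_mul_eq_mul_left Nat.card_pos h1).symm

theorem IsIrr.of_mem_cfclass (hn : L ≤ normalizer (H : Set G)) (h : IsIrr H θ)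
    (hφ : φ ∈ cfclass L θ) : IsIrr H φ := by
  obtain ⟨x, hx, rfl⟩ := mem_cfclass.mp hφ
  exact h.cfConjg (hn hx)

theorem apply_one_of_mem_cfclass (hφ : φ ∈ cfclass L θ) : φ 1 = θ 1 := by
  obtain ⟨x, -, rfl⟩ := mem_cfclass.mp hφ
  exact cfConjg_apply_one x

theorem sum_cfConjg_eq (θ : G → ℂ) :
    ∑ x ∈ elems (L : Set G), cfConjg x θ =
      (Nat.card ↥(L ⊓ inertia θ) : ℂ) • ∑ ξ ∈ cfclass L θ, ξ := by
  rw [Nat.cast_smul_eq_nsmul]
  exact sum_cfConjg_eq' θ id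

/-! ### Linear characters -/

theorem IsLin.isChar (h : IsLin L χ) : IsChar L χ := h.1

theorem IsLin.one (h : IsLin L χ) : χ 1 = 1 := h.2

theorem IsLin.mem_CF (h : IsLin L χ) : χ ∈ CF L := h.1.mem_CF

theorem IsLin.norm_eq (h : IsLin L χ) {x : G} (hx : x ∈ L) : ‖χ x‖ = 1 := by
  obtain ⟨ψ, hψ, h1⟩ := exists_constt h.mem_CF fun h0 => by simpa [h0] using h.2
  have h2 := h.1.constt_one_le hψ h1
  obtain ⟨n, hn, h3⟩ := hψ.exists_nat_one
  obtain ⟨m, ρ, h4⟩ := h.1.1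
  have h5 : ρ.character 1 = 1 := by rw [h4]; exact h.2
  rw [ρ.char_one, Module.finrank_fin_fun] at h5
  obtain rfl : m = 1 := by exact_mod_cast h5
  obtain ⟨b, ε, h6, -, h7⟩ := exists_eigenbasis_rep ρ ⟨x, hx⟩
  have h8 := h7 1
  rw [zpow_one, h4] at h8
  have : Unique (Fin (Module.finrank ℂ (Fin 1 → ℂ))) := by
    rw [Module.finrank_fin_fun]; infer_instance
  rw [Fintype.sum_unique, zpow_one] at h8
  change χ x = _ at h8
  rw [h8]
  exact norm_eq_one_of_pow_eq_one' (orderOf_pos _) (h6 _)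

theorem IsLin.isIrr (h : IsLin L χ) : IsIrr L χ := by
  refine h.1.isIrr_of_cfnorm ?_
  rw [cfnorm_eq, Finset.sum_congr rfl fun x hx => by rw [h.norm_eq (mem_elems.mp hx)],
    sum_elems_const]
  simp

theorem IsIrr.isLin (h : IsIrr L χ) (h1 : χ 1 = 1) : IsLin L χ := ⟨h.isChar, h1⟩

theorem isLin_cf1 : IsLin L (cf1 L) := ⟨isChar_cf1, cf1_one⟩

theorem IsLin.map_mul (h : IsLin L χ) {x y : G} (hx : x ∈ L) (hy : y ∈ L) :
    χ (x * y) = χ x * χ y := by
  rw [h.1.mul_of_norm_eq hy (by rw [h.norm_eq hy, h.2, norm_one]), h.2, div_one, mul_comm]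

theorem IsLin.map_pow (h : IsLin L χ) {x : G} (hx : x ∈ L) (n : ℕ) : χ (x ^ n) = χ x ^ n := by
  induction n with
  | zero => simp [h.2]
  | succ n ih => rw [pow_succ, pow_succ, h.map_mul (L.pow_mem hx n) hx, ih]

theorem IsLin.apply_ne_zero (h : IsLin L χ) {x : G} (hx : x ∈ L) : χ x ≠ 0 := fun h0 => by
  have := h.norm_eq hx
  rw [h0, norm_zero] at this
  exact zero_ne_one this

theorem IsLin.mul_conj (h : IsLin L χ) {x : G} (hx : x ∈ L) : χ x * conj (χ x) = 1 := by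
  rw [Complex.mul_conj, Complex.normSq_eq_norm_sq, h.norm_eq hx]; simp

theorem IsLin.mul_cfConjC (h : IsLin L χ) : χ * cfConjC χ = cf1 L := by
  funext x
  by_cases hx : x ∈ L
  · rw [cf1_apply hx]; exact h.mul_conj hx
  · simp [cf1_apply_of_notMem hx, h.1.2 x hx]

theorem IsLin.pow_orderOf (h : IsLin L χ) {x : G} (hx : x ∈ L) : χ x ^ orderOf x = 1 := by
  rw [← h.map_pow hx, pow_orderOf_eq_one, h.one]

theorem IsLin.mul (h : IsLin L χ) (h' : IsLin L ψ) : IsLin L (χ * ψ) :=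
  ⟨h.1.mul h'.1, by simp [h.2, h'.2]⟩

theorem IsLin.pow (h : IsLin L χ) {n : ℕ} (hn : n ≠ 0) : IsLin L (χ ^ n) := by
  induction n, Nat.one_le_iff_ne_zero.mpr hn using Nat.le_induction with
  | base => simpa using h
  | succ n hn ih => rw [pow_succ]; exact (ih (by omega)).mul h

theorem IsLin.cfRes (hHL : H ≤ L) (h : IsLin L χ) : IsLin H (cfRes H χ) :=
  ⟨h.1.cfRes hHL, by simp [h.2]⟩

theorem IsLin.cfConjg (h : IsLin H χ) {x : G} (hx : x ∈ normalizer (H : Set G)) :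
    IsLin H (cfConjg x χ) := ⟨h.1.cfConjg hx, by simp [h.2]⟩

theorem IsLin.cfdot_mul (h : IsLin L χ) : cfdot L (χ * φ) (χ * ψ) = cfdot L φ ψ := by
  unfold cfdot
  congr 1
  refine Finset.sum_congr rfl fun x hx => ?_
  simp only [Pi.mul_apply, _root_.map_mul]
  linear_combination (φ x * conj (ψ x)) * h.mul_conj (mem_elems.mp hx)

theorem IsLin.mul_irr (h : IsLin L χ) (h' : IsIrr L ψ) : IsIrr L (χ * ψ) := by
  exact (h.1.mul h'.isChar).isIrr_of_cfdot (by rw [h.cfdot_mul, h'.cfdot_self])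

theorem IsLin.mul_left_cancel (h : IsLin L χ) (hφ : φ ∈ CF L) (hψ : ψ ∈ CF L)
    (he : χ * φ = χ * ψ) : φ = ψ := by
  funext x
  by_cases hx : x ∈ L
  · exact mul_left_cancel₀ (h.apply_ne_zero hx) (congrFun he x)
  · rw [hφ.1 x hx, hψ.1 x hx]

theorem IsLin.commutator_le_cfker (h : IsLin L χ) : ⁅L, L⁆ ≤ cfker L χ := by
  refine commutator_le.mpr fun x hx y hy => ?_
  rw [commutatorElement_def]
  exact h.1.commutator_mem_cfker hy (by rw [h.norm_eq hy, h.2, norm_one]) hx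

theorem IsIrr.isLin_of_commutator_le (h : IsIrr L χ) (hk : ⁅L, L⁆ ≤ cfker L χ) : IsLin L χ := by
  refine ⟨h.isChar, ?_⟩
  have h1 := h.cfnorm
  rw [cfnorm_eq, Finset.sum_congr rfl fun x hx => by
    rw [h.norm_eq_of_center (mem_elems.mp hx) fun y hy =>
      hk (commutator_mem_commutator hy (mem_elems.mp hx))], sum_elems_const, nsmul_eq_mul,
    ← mul_assoc, inv_mul_cancel₀ (card_pos_real L).ne', one_mul] at h1
  obtain ⟨n, -, hn⟩ := h.exists_nat_one
  rw [hn, Complex.norm_natCast] at h1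
  have : n ^ 2 = 1 := by exact_mod_cast h1
  rw [hn, (Nat.pow_eq_one.mp this).resolve_right two_ne_zero, Nat.cast_one]

theorem commutator_eq_bot_of_comm (hc : ∀ x ∈ L, ∀ y ∈ L, x * y = y * x) : ⁅L, L⁆ = ⊥ :=
  eq_bot_iff.mpr (commutator_le.mpr fun x hx y hy =>
    mem_bot.mpr (commutatorElement_eq_one_iff_mul_comm.mpr (hc x hx y hy)))

theorem comm_of_isMulCommutative [IsMulCommutative L] : ∀ x ∈ L, ∀ y ∈ L, x * y = y * x :=
  fun x hx y hy => congrArg Subtype.val (mul_comm' (⟨x, hx⟩ : L) ⟨y, hy⟩)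

theorem comm_of_isCyclic (hc : IsCyclic L) : ∀ x ∈ L, ∀ y ∈ L, x * y = y * x :=
  comm_of_isMulCommutative

theorem IsIrr.isLin_of_comm (h : IsIrr L χ) (hc : ∀ x ∈ L, ∀ y ∈ L, x * y = y * x) :
    IsLin L χ := by
  exact h.isLin_of_commutator_le (by rw [commutator_eq_bot_of_comm hc]; exact bot_le)

theorem IsIrr.isLin_of_isMulCommutative (h : IsIrr L χ) [IsMulCommutative L] : IsLin L χ := by
  exact h.isLin_of_comm comm_of_isMulCommutative

theorem IsIrr.isLin_of_isCyclic (h : IsIrr L χ) (hc : IsCyclic L) : IsLin L χ := by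
  exact h.isLin_of_comm (comm_of_isCyclic hc)

theorem le_normalizer_bot : L ≤ normalizer ((⊥ : Subgroup G) : Set G) :=
  le_normalizer_of_conj fun x _ a ha => by simp [mem_bot.mp ha]

theorem le_normalizer_of_commutator_le (hN : ⁅L, L⁆ ≤ N) (hNL : N ≤ L) :
    L ≤ normalizer (N : Set G) :=
  le_normalizer_of_conj fun x hx a ha => by
    have := N.mul_mem (hN (commutator_mem_commutator hx (hNL ha))) ha
    rwa [commutatorElement_def, inv_mul_cancel_right] at this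

theorem comm_of_forall_irr_lin (h : ∀ χ, IsIrr L χ → χ 1 = 1) : ∀ x ∈ L, ∀ y ∈ L, x * y = y * x := by
  intro x hx y hy
  rw [← commutatorElement_eq_one_iff_mul_comm]
  by_contra h1
  have h2 := commutator_mem_commutator hx hy
  obtain ⟨χ, hχ, -, h3⟩ := exists_irr_ker_not_mem bot_le le_normalizer_bot
    ((commutator_le_self L) h2) h1
  exact h3 ((hχ.isLin (h χ hχ)).commutator_le_cfker h2)

theorem card_irr_of_comm (hc : ∀ x ∈ L, ∀ y ∈ L, x * y = y * x) :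
    Fintype.card (Irr L) = Nat.card L := by
  have h1 := sum_irr_one_sq' (L := L)
  rw [Finset.sum_congr rfl fun χ _ => by rw [(χ.2.isLin_of_comm hc).2]] at h1
  simpa using h1

theorem card_irr_of_isCyclic (hc : IsCyclic L) : Fintype.card (Irr L) = Nat.card L := by
  exact card_irr_of_comm (comm_of_isCyclic hc)

open Classical in
/-- The number of irreducible characters of an abelian quotient `L / N`. -/
theorem card_irr_ker_of_commutator_le (hNL : N ≤ L) (hN : ⁅L, L⁆ ≤ N) :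
    (Finset.univ.filter fun χ : Irr L => N ≤ cfker L χ).card = N.relIndex L := by
  have h1 := sum_irr_ker_sq hNL (le_normalizer_of_commutator_le hN hNL)
  rw [Finset.sum_congr rfl fun χ hχ => by
    rw [(χ.2.isLin_of_commutator_le (hN.trans (Finset.mem_filter.mp hχ).2)).2]] at h1
  simpa using h1

theorem isLin_extendByZero (f : L →* ℂ) : IsLin L (extendByZero L f) := by
  exact (isIrr_extendByZero (isIrrCharacter_of_hom f)).isLin
    (by rw [extendByZero_of_mem L _ L.one_mem]; exact f.map_one)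

theorem isLin_of_mul (h0 : ∀ x, x ∉ L → χ x = 0) (h1 : χ 1 = 1)
    (hm : ∀ x ∈ L, ∀ y ∈ L, χ (x * y) = χ x * χ y) : IsLin L χ := by
  have := isLin_extendByZero (L := L)
    { toFun := fun x => χ x, map_one' := h1, map_mul' := fun x y => hm x x.2 y y.2 }
  rw [← extendByZero_restrict h0]
  exact this

theorem exists_lin_ker_not_mem (hNL : N ≤ L) (hN : ⁅L, L⁆ ≤ N) {x : G} (hx : x ∈ L) (hxN : x ∉ N) :
    ∃ χ, IsLin L χ ∧ N ≤ cfker L χ ∧ χ x ≠ 1 := by
  obtain ⟨χ, hχ, h1, h2⟩ := exists_irr_ker_not_mem hNL (le_normalizer_of_commutator_le hN hNL)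
    hx hxN
  have h3 := hχ.isLin_of_commutator_le (hN.trans h1)
  exact ⟨χ, h3, h1, fun h4 => h2 (hχ.isChar.mem_cfker.mpr ⟨hx, by rw [h4, h3.2]⟩)⟩

/-- A proper subgroup containing `L'` lies in the kernel of a nonprincipal linear character. -/
theorem exists_lin_ne_one (hNL : N < L) (hN : ⁅L, L⁆ ≤ N) :
    ∃ χ, IsLin L χ ∧ χ ≠ cf1 L ∧ N ≤ cfker L χ := by
  obtain ⟨x, hx, hxN⟩ := SetLike.exists_of_lt hNL
  obtain ⟨χ, h1, h2, h3⟩ := exists_lin_ker_not_mem hNL.le hN hx hxN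
  exact ⟨χ, h1, fun h4 => h3 (by rw [h4, cf1_apply hx]), h2⟩

open Classical in
theorem exists_irr_over_ker (hHL : H ≤ L) (hNL : N ≤ L) (hn : L ≤ normalizer (N : Set G))
    (h : IsChar H θ) (h0 : θ ≠ 0) (hk : H ⊓ N ≤ cfker H θ) :
    ∃ χ, IsIrr L χ ∧ N ≤ cfker L χ ∧ cfdot H χ θ ≠ 0 := by
  by_contra hc
  push Not at hc
  have h1 : cfdot H (∑ χ ∈ Finset.univ.filter (fun χ : Irr L => N ≤ cfker L χ),
      χ 1 • (χ : G → ℂ)) θ = 0 := by
    rw [cfdot_sum_left]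
    exact Finset.sum_eq_zero fun χ hχ => by
      rw [cfdot_smul_left, hc χ χ.2 (Finset.mem_filter.mp hχ).2, mul_zero]
  have h2 : (∑ χ ∈ Finset.univ.filter (fun χ : Irr L => N ≤ cfker L χ), χ 1 • (χ : G → ℂ)) =
      (N.relIndex L : ℂ) • cf1 N := by
    funext x
    have := sum_irr_ker_mul hNL hn x
    simp only [Finset.sum_apply, Pi.smul_apply, smul_eq_mul, this]
    split_ifs with hx
    · rw [cf1_apply hx, mul_one]
    · rw [cf1_apply_of_notMem hx, mul_zero]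
  rw [h2, cfdot_smul_left, cfdot_eq_sum_of_supp (A := (H ⊓ N : Subgroup G)) inf_le_left
    (fun x hx hx' => by rw [cf1_apply_of_notMem fun h => hx' ⟨hx, h⟩, zero_mul]),
    Finset.sum_congr rfl fun x hx => by
      rw [cf1_apply (mem_inf.mp (mem_elems.mp hx)).2, one_mul, cfker_apply (hk (mem_elems.mp hx)),
        h.conj_one], sum_elems_const, nsmul_eq_mul] at h1
  exact mul_ne_zero (relIndex_cast_ne_zero N L) (mul_ne_zero (inv_ne_zero (card_ne_zero H))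
    (mul_ne_zero (card_ne_zero _) (h.one_ne_zero h0))) h1

/-- Extension of a linear character with prescribed kernel. -/
theorem exists_lin_extend_ker (hHL : H ≤ L) (hNL : N ≤ L) (hN : ⁅L, L⁆ ≤ N) (h : IsLin H θ)
    (hk : H ⊓ N ≤ cfker H θ) : ∃ χ, IsLin L χ ∧ N ≤ cfker L χ ∧ cfRes H χ = θ := by
  obtain ⟨χ, hχ, h1, h2⟩ := exists_irr_over_ker hHL hNL (le_normalizer_of_commutator_le hN hNL)
    h.1 h.isIrr.ne_zero hk
  have h3 := hχ.isLin_of_commutator_le (hN.trans h1)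
  exact ⟨χ, h3, h1, (h3.cfRes hHL).isIrr.eq_of_cfdot_ne h.isIrr (by rwa [cfdot_cfRes_left])⟩

/-- Extension of linear characters through an abelian quotient. -/
theorem exists_lin_extend (hHL : H ≤ L) (h : IsLin H θ) (hk : H ⊓ ⁅L, L⁆ ≤ cfker H θ) :
    ∃ χ, IsLin L χ ∧ cfRes H χ = θ := by
  obtain ⟨χ, h1, -, h2⟩ := exists_lin_extend_ker hHL (commutator_le_self L) le_rfl h hk
  exact ⟨χ, h1, h2⟩

theorem exists_generator (hc : IsCyclic L) : ∃ g ∈ L, orderOf g = Nat.card L ∧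
    ∀ x ∈ L, ∃ m : ℕ, x = g ^ m := by
  obtain ⟨g, hg⟩ := hc.exists_generator
  refine ⟨g, g.2, by rw [Subgroup.orderOf_coe, orderOf_eq_card_of_forall_mem_zpowers hg], ?_⟩
  intro x hx
  obtain ⟨m, hm⟩ := mem_powers_iff_mem_zpowers.mpr (hg ⟨x, hx⟩)
  exact ⟨m, (congrArg Subtype.val hm).symm⟩

/-- A cyclic group has a faithful linear character. -/
theorem exists_lin_faithful (hc : IsCyclic L) : ∃ χ, IsLin L χ ∧ cfker L χ = ⊥ := by
  obtain ⟨g, hg⟩ := hc.exists_generator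
  have hn : Nat.card L ≠ 0 := Nat.card_pos.ne'
  have hζ := Complex.isPrimitiveRoot_exp (Nat.card L) hn
  have hu := hζ.isUnit hn
  have hζ' : IsPrimitiveRoot hu.unit (Nat.card L) := IsPrimitiveRoot.coe_units_iff.mp hζ
  have ho := orderOf_eq_card_of_forall_mem_zpowers hg
  have hd : orderOf hu.unit ∣ orderOf g := by rw [ho, ← hζ'.eq_orderOf]
  let f : L →* ℂ := (Units.coeHom ℂ).comp (monoidHomOfForallMemZpowers hg hd)
  have hf := isLin_extendByZero f
  refine ⟨_, hf, eq_bot_iff.mpr fun x hx => ?_⟩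
  have h1 := cfker_apply hx
  rw [hf.2, extendByZero_of_mem L _ hx.1] at h1
  obtain ⟨m, hm⟩ := mem_powers_iff_mem_zpowers.mpr (hg ⟨x, hx.1⟩)
  simp only at hm
  rw [← hm, _root_.map_pow] at h1
  have h2 : f g = Complex.exp (2 * Real.pi * Complex.I / Nat.card L) := by simp [f]
  rw [h2, hζ.pow_eq_one_iff_dvd, ← ho, orderOf_dvd_iff_pow_eq_one, hm] at h1
  exact congrArg Subtype.val h1

theorem eq_bot_or_eq_of_prime (hp : (Nat.card L).Prime) (hHL : H ≤ L) : H = ⊥ ∨ H = L := by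
  rcases (Nat.dvd_prime hp).mp (card_dvd_of_le hHL) with h | h
  · exact Or.inl (card_eq_one.mp h)
  · exact Or.inr (eq_of_le_of_card_ge hHL h.ge)

theorem IsIrr.cfker_eq_bot_of_prime (h : IsIrr L χ) (hp : (Nat.card L).Prime) (h1 : χ ≠ cf1 L) :
    cfker L χ = ⊥ := by
  exact (eq_bot_or_eq_of_prime hp cfker_le).resolve_right fun h2 => h1 (h.eq_cf1_iff.mpr h2.ge)

/-- The nonprincipal characters of a group of prime order are powers of each other. -/
theorem cfExp_prime_transitive (hp : (Nat.card L).Prime) (h : IsIrr L χ) (h' : IsIrr L ψ)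
    (h1 : χ ≠ cf1 L) (h1' : ψ ≠ cf1 L) : ∃ k, k.Coprime (Nat.card L) ∧ ψ = χ ^ k := by
  have := Fact.mk hp
  have hc : IsCyclic L := isCyclic_of_prime_card rfl
  obtain ⟨g, hg, ho, hgen⟩ := exists_generator hc
  have l1 := h.isLin_of_isCyclic hc
  have l2 := h'.isLin_of_isCyclic hc
  have key : ∀ {ξ : G → ℂ}, IsLin L ξ → ξ ≠ cf1 L → ξ g ≠ 1 := fun {ξ} hξ hne he => by
    refine hne (hξ.isIrr.eq_cf1_iff.mpr fun x hx => hξ.1.mem_cfker.mpr ⟨hx, ?_⟩)
    obtain ⟨m, rfl⟩ := hgen x hx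
    rw [hξ.map_pow hg, he, one_pow, hξ.2]
  have hpr : IsPrimitiveRoot (χ g) (Nat.card L) := by
    have := orderOf_eq_prime (ho ▸ l1.pow_orderOf hg) (key l1 h1)
    exact this ▸ IsPrimitiveRoot.orderOf (χ g)
  have : NeZero (Nat.card L) := ⟨hp.ne_zero⟩
  obtain ⟨k, hk, he⟩ := hpr.eq_pow_of_pow_eq_one (ho ▸ l2.pow_orderOf hg)
  have hk0 : k ≠ 0 := by rintro rfl; exact key l2 h1' (by simpa using he.symm)
  refine ⟨k, (Nat.coprime_of_lt_prime hk0 hk hp).symm, funext fun x => ?_⟩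
  by_cases hx : x ∈ L
  · obtain ⟨m, rfl⟩ := hgen x hx
    rw [Pi.pow_apply, l1.map_pow hg, l2.map_pow hg, ← he, ← pow_mul, ← pow_mul, mul_comm]
  · rw [Pi.pow_apply, h.2 x hx, h'.2 x hx, zero_pow hk0]

/-- Restriction of an irreducible character to a subgroup central modulo the kernel. -/
theorem IsIrr.exists_lin_cfRes_center (h : IsIrr L χ) {Z : Subgroup G} (hZL : Z ≤ L)
    (hc : ∀ z ∈ Z, ∀ y ∈ L, y * z * y⁻¹ * z⁻¹ ∈ cfker L χ) :
    ∃ θ, IsLin Z θ ∧ cfRes Z χ = χ 1 • θ := by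
  have h0 := h.one_ne_zero
  refine ⟨(χ 1)⁻¹ • cfRes Z χ, isLin_of_mul (fun x hx => by simp [cfRes_apply_of_notMem hx])
    (by simp [h0]) fun x hx y hy => ?_, by rw [smul_smul, mul_inv_cancel₀ h0, one_smul]⟩
  simp only [Pi.smul_apply, smul_eq_mul, cfRes_apply hx, cfRes_apply hy,
    cfRes_apply (Z.mul_mem hx hy)]
  rw [h.isChar.mul_of_norm_eq (hZL hy) (h.norm_eq_of_center (hZL hy) (hc y hy))]
  field_simp

theorem cfnorm_cfRes_le (hHL : H ≤ L) : cfnorm H φ ≤ H.relIndex L * cfnorm L φ := by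
  rw [cfnorm_eq, cfnorm_eq, card_real_eq_relIndex_mul hHL, mul_inv, ← mul_assoc, ← mul_assoc,
    mul_inv_cancel₀ (relIndex_pos_real H L).ne', one_mul]
  refine mul_le_mul_of_nonneg_left (Finset.sum_le_sum_of_subset_of_nonneg
    (fun x hx => mem_elems.mpr (hHL (mem_elems.mp hx))) fun _ _ _ => by positivity) ?_
  positivity

/-- `χ(1)² ≤ |L : Z|` if `Z` is central modulo the kernel of `χ`. -/
theorem IsIrr.one_sq_le_index (h : IsIrr L χ) {Z : Subgroup G} (hZL : Z ≤ L)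
    (hc : ∀ z ∈ Z, ∀ y ∈ L, y * z * y⁻¹ * z⁻¹ ∈ cfker L χ) :
    (χ 1).re ^ 2 ≤ Z.relIndex L := by
  obtain ⟨θ, h1, h2⟩ := h.exists_lin_cfRes_center hZL hc
  have h3 := cfnorm_cfRes_le (φ := χ) hZL
  rw [h.cfnorm, mul_one, ← cfnorm_congr fun x hx => cfRes_apply (φ := χ) hx, h2, cfnorm_smul,
    h1.isIrr.cfnorm, mul_one, h.isChar.one_eq_re, Complex.norm_real, Real.norm_eq_abs,
    sq_abs] at h3
  exact h3

theorem cfdot_of_supp_subgroup (hHL : H ≤ L) (hφ : ∀ x, x ∉ H → φ x = 0) :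
    cfdot H φ ψ = H.relIndex L * cfdot L φ ψ := by
  rw [cfdot_eq_sum_of_supp (L := L) (A := (H : Set G)) hHL fun x _ hx => by rw [hφ x hx, zero_mul],
    cfdot, card_cast_eq_relIndex_mul hHL]
  have := relIndex_cast_ne_zero H L
  have := card_ne_zero H
  field_simp

/-! ### Inflation along a homomorphism -/

/-- Pull back of a function along a homomorphism defined on `L`. -/
noncomputable def cfComap (L : Subgroup G) {Q : Type*} [Group Q] (f : L →* Q) (ξ : Q → ℂ) :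
    G → ℂ := extendByZero L (ξ ∘ f)

theorem cfComap_apply {Q : Type*} [Group Q] (f : L →* Q) (ξ : Q → ℂ) (x : L) :
    cfComap L f ξ x = ξ (f x) := extendByZero_coe L _ x

theorem isChar_cfComap {Q : Type*} [Group Q] (f : L →* Q) {ξ : Q → ℂ} (h : IsCharacter Q ξ) :
    IsChar L (cfComap L f ξ) := isChar_extendByZero (h.comp f)

theorem isIrr_cfComap {Q : Type*} [Group Q] (f : L →* Q) (hf : Function.Surjective f) {ξ : Q → ℂ}
    (h : IsIrrCharacter Q ξ) : IsIrr L (cfComap L f ξ) := isIrr_extendByZero (h.comp f hf)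

theorem ker_le_cfker_cfComap {Q : Type*} [Group Q] (f : L →* Q) (ξ : Q → ℂ) :
    f.ker.map L.subtype ≤ cfker L (cfComap L f ξ) := by
  rintro _ ⟨x, hx, rfl⟩
  refine ⟨x.2, fun y => ?_⟩
  by_cases hy : y ∈ L
  · have h1 := cfComap_apply f ξ (x * ⟨y, hy⟩)
    have h2 := cfComap_apply f ξ ⟨y, hy⟩
    rw [_root_.map_mul, MonoidHom.mem_ker.mp hx, one_mul, ← h2] at h1
    exact h1
  · unfold cfComap
    rw [extendByZero_of_not_mem L _ hy]
    exact extendByZero_of_not_mem L _ fun h => hy ((L.mul_mem_cancel_left x.2).mp h)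

theorem cfComap_injective {Q : Type*} [Group Q] (f : L →* Q) (hf : Function.Surjective f) :
    Function.Injective (cfComap L f) := by
  intro a b h
  funext q
  obtain ⟨x, rfl⟩ := hf q
  rw [← cfComap_apply f a, ← cfComap_apply f b, h]

theorem exists_hom_comp_eq {A B C : Type*} [Group A] [Group B] [Monoid C] (f : A →* B)
    (hf : Function.Surjective f) (ρ : A →* C) (h : ∀ x, f x = 1 → ρ x = 1) :
    ∃ ρ' : B →* C, ∀ x, ρ' (f x) = ρ x := by
  have key : ∀ x y, f x = f y → ρ x = ρ y := fun x y hxy => by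
    have h1 := h (x * y⁻¹) (by simp [hxy])
    rw [← inv_mul_cancel_right x y, _root_.map_mul, h1, one_mul]
  choose s hs using hf
  exact ⟨⟨⟨fun b => ρ (s b), h _ (hs 1)⟩, fun a b => by
    simp only [← _root_.map_mul]; exact key _ _ (by simp [hs])⟩, fun x => key _ _ (hs _)⟩

/-- Irreducible characters trivial on the kernel of a surjection come from the image. -/
theorem exists_cfComap_of_irr {Q : Type*} [Group Q] (f : L →* Q) (hf : Function.Surjective f)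
    (h : IsIrr L χ) (hk : f.ker.map L.subtype ≤ cfker L χ) :
    ∃ ξ, IsIrrCharacter Q ξ ∧ χ = cfComap L f ξ := by
  obtain ⟨n, ρ, hρ, h1⟩ := h.1
  obtain ⟨ρ', h3⟩ := exists_hom_comp_eq f hf ρ fun x hx => by
    refine rep_eq_one_of_char_eq ρ x ?_
    rw [← ρ.char_one, h1]
    exact cfker_apply (hk ⟨x, hx, rfl⟩)
  refine ⟨Representation.character ρ', ⟨n, ρ', ?_, rfl⟩, ?_⟩
  · obtain ⟨h4, h5⟩ := (rep_isIrreducible_iff ρ).mp hρ
    exact (rep_isIrreducible_iff ρ').mpr ⟨h4, fun p hp => h5 p fun g => h3 g ▸ hp (f g)⟩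
  · rw [← extendByZero_restrict h.2, ← h1]
    unfold cfComap
    congr 1
    funext x
    simp only [Function.comp_apply, Representation.character, h3]

/-! ### Products -/

theorem cfProd_apply (hd : H ⊓ K = ⊥) {h k : G} (hh : h ∈ H) (hk : k ∈ K) :
    cfProd H K φ ψ (h * k) = φ h * ψ k := by
  unfold cfProd
  rw [Finset.sum_eq_single_of_mem h (mem_elems.mpr hh), inv_mul_cancel_left, cfRes_apply hk]
  intro h' hh' hne
  rw [cfRes_apply_of_notMem, mul_zero]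
  intro h1
  rw [← mul_assoc, K.mul_mem_cancel_right hk] at h1
  have h2 : h'⁻¹ * h ∈ H ⊓ K := ⟨H.mul_mem (H.inv_mem (mem_elems.mp hh')) hh, h1⟩
  rw [hd, mem_bot, inv_mul_eq_one] at h2
  exact hne h2

theorem cfProd_apply_of_not {g : G} (hg : ∀ h ∈ H, ∀ k ∈ K, g ≠ h * k) :
    cfProd H K φ ψ g = 0 := by
  refine Finset.sum_eq_zero fun h hh => ?_
  rw [cfRes_apply_of_notMem, mul_zero]
  exact fun h1 => hg h (mem_elems.mp hh) _ h1 (by simp)

theorem cfProd_one (hd : H ⊓ K = ⊥) : cfProd H K φ ψ 1 = φ 1 * ψ 1 := by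
  simpa using cfProd_apply (φ := φ) (ψ := ψ) hd H.one_mem K.one_mem

theorem cfProd_add_left : cfProd H K (φ + φ') ψ = cfProd H K φ ψ + cfProd H K φ' ψ := by
  funext g; simp [cfProd, add_mul, Finset.sum_add_distrib]

theorem cfProd_add_right : cfProd H K φ (ψ + ψ') = cfProd H K φ ψ + cfProd H K φ ψ' := by
  funext g; simp [cfProd, mul_add, Finset.sum_add_distrib]

theorem cfProd_sub_left : cfProd H K (φ - φ') ψ = cfProd H K φ ψ - cfProd H K φ' ψ := by
  funext g; simp [cfProd, sub_mul, Finset.sum_sub_distrib]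

theorem cfProd_sub_right : cfProd H K φ (ψ - ψ') = cfProd H K φ ψ - cfProd H K φ ψ' := by
  funext g; simp [cfProd, mul_sub, Finset.sum_sub_distrib]

theorem cfProd_smul_left (c : ℂ) : cfProd H K (c • φ) ψ = c • cfProd H K φ ψ := by
  funext g; simp [cfProd, Finset.mul_sum, mul_assoc]

theorem cfProd_smul_right (c : ℂ) : cfProd H K φ (c • ψ) = c • cfProd H K φ ψ := by
  funext g; simp [cfProd, Finset.mul_sum, mul_left_comm]

theorem cfProd_sum_left {ι : Type*} (s : Finset ι) (f : ι → G → ℂ) :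
    cfProd H K (∑ i ∈ s, f i) ψ = ∑ i ∈ s, cfProd H K (f i) ψ := by
  funext g
  simp only [cfProd, Finset.sum_apply, Finset.sum_mul]
  exact Finset.sum_comm

theorem cfProd_sum_right {ι : Type*} (s : Finset ι) (f : ι → G → ℂ) :
    cfProd H K φ (∑ i ∈ s, f i) = ∑ i ∈ s, cfProd H K φ (f i) := by
  funext g
  simp only [cfProd, map_sum, Finset.sum_apply, Finset.mul_sum]
  exact Finset.sum_comm

theorem cfAut_cfProd (u : ℂ →+* ℂ) :
    cfAut u (cfProd H K φ ψ) = cfProd H K (cfAut u φ) (cfAut u ψ) := by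
  funext g
  simp [cfProd, ← cfAut_cfRes]

theorem cfProd_ext (hd : H ⊓ K = ⊥) {ξ : G → ℂ} (h1 : ∀ h ∈ H, ∀ k ∈ K, ξ (h * k) = φ h * ψ k)
    (h0 : ∀ g, (∀ h ∈ H, ∀ k ∈ K, g ≠ h * k) → ξ g = 0) : cfProd H K φ ψ = ξ := by
  funext g
  by_cases hg : ∀ h ∈ H, ∀ k ∈ K, g ≠ h * k
  · rw [cfProd_apply_of_not hg, h0 g hg]
  · push Not at hg
    obtain ⟨h, hh, k, hk, rfl⟩ := hg
    rw [cfProd_apply hd hh hk, h1 h hh k hk]

theorem cfProd_apply_of_notMem (hc : IsComplIn H K L) {g : G} (hg : g ∉ L) :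
    cfProd H K φ ψ g = 0 :=
  cfProd_apply_of_not fun _ hh _ hk he => hg (he ▸ L.mul_mem (hc.1 hh) (hc.2.1 hk))

theorem cfProd_ext' (hc : IsComplIn H K L) {ξ : G → ℂ}
    (h1 : ∀ h ∈ H, ∀ k ∈ K, ξ (h * k) = φ h * ψ k) (h0 : ∀ g, g ∉ L → ξ g = 0) :
    cfProd H K φ ψ = ξ :=
  cfProd_ext hc.2.2.1 h1 fun g hg => h0 g fun h => by
    obtain ⟨a, ha, b, hb, he⟩ := hc.2.2.2 g h
    exact hg a ha b hb he

theorem sum_elems_compl {M : Type*} [AddCommMonoid M] (hc : IsComplIn H K L) (f : G → M) :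
    ∑ x ∈ elems (L : Set G), f x =
      ∑ h ∈ elems (H : Set G), ∑ k ∈ elems (K : Set G), f (h * k) := by
  rw [sum_elems_mul_eq hc.1 hc.2.1 hc.2.2.2, hc.2.2.1, card_bot, one_smul]

theorem IsComplIn_card (h : IsComplIn H K L) : Nat.card L = Nat.card H * Nat.card K := by
  rw [card_mul_eq h.1 h.2.1 h.2.2.2, h.2.2.1, card_bot, one_mul]

theorem cfProd_mul (hd : H ⊓ K = ⊥) :
    cfProd H K φ ψ * cfProd H K φ' ψ' = cfProd H K (φ * φ') (ψ * ψ') := by
  symm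
  refine cfProd_ext hd (fun h hh k hk => ?_) fun g hg => ?_
  · simp only [Pi.mul_apply, cfProd_apply hd hh hk]; ring
  · simp [cfProd_apply_of_not hg]

theorem cfProd_cf1 (hc : IsComplIn H K L) : cfProd H K (cf1 H) (cf1 K) = cf1 L := by
  refine cfProd_ext' hc (fun h hh k hk => ?_) fun g => cf1_apply_of_notMem
  rw [cf1_apply hh, cf1_apply hk, cf1_apply (L.mul_mem (hc.1 hh) (hc.2.1 hk)), one_mul]

theorem cfdot_cfProd (hc : IsComplIn H K L) :
    cfdot L (cfProd H K φ ψ) (cfProd H K φ' ψ') = cfdot H φ φ' * cfdot K ψ ψ' := by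
  unfold cfdot
  rw [sum_elems_compl hc, IsComplIn_card hc, Nat.cast_mul, mul_inv, mul_mul_mul_comm,
    Finset.sum_mul_sum]
  congr 1
  refine Finset.sum_congr rfl fun h hh => Finset.sum_congr rfl fun k hk => ?_
  rw [cfProd_apply hc.2.2.1 (mem_elems.mp hh) (mem_elems.mp hk),
    cfProd_apply hc.2.2.1 (mem_elems.mp hh) (mem_elems.mp hk), _root_.map_mul]
  ring

theorem cfRes_cfProd_left (hd : H ⊓ K = ⊥) (hφ : ∀ x, x ∉ H → φ x = 0) :
    cfRes H (cfProd H K φ ψ) = ψ 1 • φ := by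
  funext x
  by_cases hx : x ∈ H
  · have := cfProd_apply (φ := φ) (ψ := ψ) hd hx K.one_mem
    rw [mul_one] at this
    rw [cfRes_apply hx, this, Pi.smul_apply, smul_eq_mul, mul_comm]
  · rw [cfRes_apply_of_notMem hx, Pi.smul_apply, hφ x hx, smul_zero]

theorem cfRes_cfProd_right (hd : H ⊓ K = ⊥) (hψ : ∀ x, x ∉ K → ψ x = 0) :
    cfRes K (cfProd H K φ ψ) = φ 1 • ψ := by
  funext x
  by_cases hx : x ∈ K
  · have := cfProd_apply (φ := φ) (ψ := ψ) hd H.one_mem hx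
    rw [one_mul] at this
    rw [cfRes_apply hx, this, Pi.smul_apply, smul_eq_mul]
  · rw [cfRes_apply_of_notMem hx, Pi.smul_apply, hψ x hx, smul_zero]

theorem cfConjg_cfProd {x : G} (hxH : x ∈ normalizer (H : Set G))
    (hxK : x ∈ normalizer (K : Set G)) :
    cfConjg x (cfProd H K φ ψ) = cfProd H K (cfConjg x φ) (cfConjg x ψ) := by
  funext g
  simp only [cfProd, cfConjg_apply, ← cfConjg_cfRes hxK]
  rw [← sum_elems_conj ((normalizer (H : Set G)).inv_mem hxH)]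
  refine Finset.sum_congr rfl fun h _ => ?_
  rw [inv_inv]
  congr 2; group

theorem IsComplIn_symm (h : IsComplIn H K L) : IsComplIn K H L := by
  refine ⟨h.2.1, h.1, by rw [inf_comm, h.2.2.1], fun m hm => ?_⟩
  obtain ⟨a, ha, b, hb, he⟩ := h.2.2.2 m⁻¹ (L.inv_mem hm)
  exact ⟨b⁻¹, K.inv_mem hb, a⁻¹, H.inv_mem ha, by rw [← mul_inv_rev, ← he, inv_inv]⟩

theorem IsComplIn_sup (h : IsComplIn H K L) : H ⊔ K = L := by
  refine le_antisymm (sup_le h.1 h.2.1) fun m hm => ?_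
  obtain ⟨a, ha, b, hb, rfl⟩ := h.2.2.2 m hm
  exact mul_mem_sup ha hb

theorem exists_mul_of_mem_sup (hn : K ≤ normalizer (H : Set G)) {x : G} (hx : x ∈ H ⊔ K) :
    ∃ h ∈ H, ∃ k ∈ K, x = h * k := by
  have := coe_mul_of_right_le_normalizer_left H K hn
  have h2 : x ∈ ((H ⊔ K : Subgroup G) : Set G) := hx
  rw [this] at h2
  obtain ⟨a, ha, b, hb, rfl⟩ := h2
  exact ⟨a, ha, b, hb, rfl⟩

theorem isComplIn_of_sup (hs : H ⊔ K = L) (hd : H ⊓ K = ⊥) (hn : K ≤ normalizer (H : Set G)) :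
    IsComplIn H K L :=
  ⟨hs ▸ le_sup_left, hs ▸ le_sup_right, hd, fun _ hm => exists_mul_of_mem_sup hn (hs ▸ hm)⟩

/-- `L = H × K`. -/
structure DProdIn (H K L : Subgroup G) : Prop where
  compl : IsComplIn H K L
  comm : ∀ h ∈ H, ∀ k ∈ K, h * k = k * h

theorem DProdIn.symm (h : DProdIn H K L) : DProdIn K H L := by
  exact ⟨IsComplIn_symm h.compl, fun k hk a ha => (h.comm a ha k hk).symm⟩

theorem dprodIn_of_sup (hs : H ⊔ K = L) (hd : H ⊓ K = ⊥) (hc : ∀ h ∈ H, ∀ k ∈ K, h * k = k * h) :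
    DProdIn H K L := by
  refine ⟨isComplIn_of_sup hs hd (le_normalizer_of_conj fun x hx a ha => ?_), hc⟩
  rwa [← hc a ha x hx, mul_inv_cancel_right]

theorem DProdIn.sup_eq (h : DProdIn H K L) : H ⊔ K = L := by
  exact IsComplIn_sup h.compl

theorem IsComplIn_relIndex (h : IsComplIn H K L) : H.relIndex L = Nat.card K := by
  have h1 := IsComplIn_card h
  rw [card_eq_relIndex_mul h.1, mul_comm] at h1
  exact Nat.eq_of_mul_eq_mul_left Nat.card_pos h1

theorem DProdIn.cfProd_comm (h : DProdIn H K L) : cfProd H K φ ψ = cfProd K H ψ φ := by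
  refine cfProd_ext' h.compl (fun a ha k hk => ?_) fun g => cfProd_apply_of_notMem h.symm.compl
  rw [h.comm a ha k hk, cfProd_apply h.symm.compl.2.2.1 hk ha, mul_comm]

theorem DProdIn.normal_left (h : DProdIn H K L) : L ≤ normalizer (H : Set G) := by
  refine le_normalizer_of_conj fun x hx a ha => ?_
  obtain ⟨b, hb, k, hk, rfl⟩ := h.compl.2.2.2 x hx
  rw [show b * k * a * (b * k)⁻¹ = b * (k * a) * k⁻¹ * b⁻¹ by group, ← h.comm a ha k hk,
    ← mul_assoc, mul_inv_cancel_right]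
  exact H.mul_mem (H.mul_mem hb ha) (H.inv_mem hb)

theorem DProdIn.normal_right (h : DProdIn H K L) : L ≤ normalizer (K : Set G) := h.symm.normal_left

/-- The projection of `L = K ⋊ E` onto `E`. -/
theorem exists_sdprod_proj {E : Subgroup G} (hc : IsComplIn K E L)
    (hn : L ≤ normalizer (K : Set G)) :
    ∃ f : L →* E, ∀ (x : L), ∀ k ∈ K, ∀ e (he : e ∈ E), (x : G) = k * e → f x = ⟨e, he⟩ := by
  have uniq : ∀ k ∈ K, ∀ e ∈ E, ∀ k' ∈ K, ∀ e' ∈ E, k * e = k' * e' → e = e' :=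
    fun k hk e he k' hk' e' he' h => by
      have h1 : e * e'⁻¹ = k⁻¹ * k' := by
        rw [mul_inv_eq_iff_eq_mul, mul_assoc, ← h, inv_mul_cancel_left]
      have h2 : e * e'⁻¹ ∈ K ⊓ E :=
        ⟨h1 ▸ K.mul_mem (K.inv_mem hk) hk', E.mul_mem he (E.inv_mem he')⟩
      rwa [hc.2.2.1, mem_bot, mul_inv_eq_one] at h2
  choose a ha b hb hab using hc.2.2.2
  have key : ∀ (x : L), ∀ k ∈ K, ∀ e (he : e ∈ E), (x : G) = k * e →
      (⟨b x x.2, hb x x.2⟩ : E) = ⟨e, he⟩ := fun x k hk e he h =>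
    Subtype.ext (uniq _ (ha x x.2) _ (hb x x.2) k hk e he ((hab x x.2).symm.trans h))
  refine ⟨MonoidHom.mk' (fun x => ⟨b x x.2, hb x x.2⟩) fun x y => ?_, key⟩
  refine key (x * y) (a x x.2 * (b x x.2 * a y y.2 * (b x x.2)⁻¹))
    (K.mul_mem (ha _ _) ((norm_conj_mem (hn (hc.2.1 (hb _ _)))).mpr (ha _ _))) _
    (E.mul_mem (hb x x.2) (hb y y.2)) ?_
  conv_lhs => rw [Subgroup.coe_mul, hab x x.2, hab y y.2]
  group

theorem sdprod_eq_cfComap {E : Subgroup G} (hc : IsComplIn K E L)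
    (hn : L ≤ normalizer (K : Set G)) : ∃ f : L →* E, Function.Surjective f ∧
      ∀ ψ : G → ℂ, cfProd K E (cf1 K) ψ = cfComap L f fun e => ψ e := by
  obtain ⟨f, hf⟩ := exists_sdprod_proj hc hn
  refine ⟨f, fun e => ⟨⟨e, hc.2.1 e.2⟩, hf _ 1 K.one_mem e e.2 (by simp)⟩, fun ψ => ?_⟩
  refine cfProd_ext' hc (fun k hk e he => ?_) fun g hg => extendByZero_of_not_mem L _ hg
  have := cfComap_apply f (fun e => ψ e) ⟨k * e, L.mul_mem (hc.1 hk) (hc.2.1 he)⟩
  rw [hf _ k hk e he rfl] at this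
  rw [cf1_apply hk, one_mul]
  exact this

theorem sdprod_mem_CF {E : Subgroup G} (hc : IsComplIn K E L) (hn : L ≤ normalizer (K : Set G))
    (hψ : ψ ∈ CF E) : cfProd K E (cf1 K) ψ ∈ CF L := by
  obtain ⟨f, -, hf⟩ := sdprod_eq_cfComap hc hn
  rw [hf]
  exact extendByZero_mem_CF ((isClassFunction_of_mem_CF hψ).comp f)

theorem sdprod_isChar {E : Subgroup G} (hc : IsComplIn K E L) (hn : L ≤ normalizer (K : Set G))
    (hψ : IsChar E ψ) : IsChar L (cfProd K E (cf1 K) ψ) := by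
  obtain ⟨f, -, hf⟩ := sdprod_eq_cfComap hc hn
  rw [hf]
  exact isChar_cfComap f hψ.1

theorem sdprod_isIrr {E : Subgroup G} (hc : IsComplIn K E L) (hn : L ≤ normalizer (K : Set G))
    (hψ : IsIrr E ψ) : IsIrr L (cfProd K E (cf1 K) ψ) := by
  obtain ⟨f, hs, hf⟩ := sdprod_eq_cfComap hc hn
  rw [hf]
  exact isIrr_cfComap f hs hψ.1

theorem DProdIn.cfProd_eq_mul (h : DProdIn H K L) :
    cfProd H K φ ψ = cfProd K H (cf1 K) φ * cfProd H K (cf1 H) ψ := by
  rw [← h.cfProd_comm, cfProd_mul h.compl.2.2.1]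
  refine cfProd_ext' h.compl (fun a ha k hk => ?_) fun g => cfProd_apply_of_notMem h.compl
  rw [cfProd_apply h.compl.2.2.1 ha hk]
  simp [cf1_apply ha, cf1_apply hk]

theorem DProdIn.cfProd_mem_CF (h : DProdIn H K L) (hφ : φ ∈ CF H) (hψ : ψ ∈ CF K) :
    cfProd H K φ ψ ∈ CF L := by
  rw [h.cfProd_eq_mul]
  exact CF_mul (sdprod_mem_CF h.symm.compl h.normal_right hφ)
    (sdprod_mem_CF h.compl h.normal_left hψ)

theorem DProdIn.isChar (h : DProdIn H K L) (hφ : IsChar H φ) (hψ : IsChar K ψ) :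
    IsChar L (cfProd H K φ ψ) := by
  rw [h.cfProd_eq_mul]
  exact (sdprod_isChar h.symm.compl h.normal_right hφ).mul (sdprod_isChar h.compl h.normal_left hψ)

theorem DProdIn.isIrr (h : DProdIn H K L) (hφ : IsIrr H φ) (hψ : IsIrr K ψ) :
    IsIrr L (cfProd H K φ ψ) := by
  exact (h.isChar hφ.isChar hψ.isChar).isIrr_of_cfdot
    (by rw [cfdot_cfProd h.compl, hφ.cfdot_self, hψ.cfdot_self, mul_one])

theorem DProdIn.mem_ZIrr (h : DProdIn H K L) (hφ : φ ∈ ZIrr H) (hψ : ψ ∈ ZIrr K) :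
    cfProd H K φ ψ ∈ ZIrr L := by
  obtain ⟨a, b, ha, hb, rfl⟩ := mem_ZIrr_iff_sub.mp hφ
  obtain ⟨c, d, hc, hd, rfl⟩ := mem_ZIrr_iff_sub.mp hψ
  simp only [cfProd_sub_left, cfProd_sub_right]
  exact (ZIrr L).sub_mem ((ZIrr L).sub_mem (h.isChar ha hc).mem_ZIrr (h.isChar hb hc).mem_ZIrr)
    ((ZIrr L).sub_mem (h.isChar ha hd).mem_ZIrr (h.isChar hb hd).mem_ZIrr)

theorem DProdIn.cfInd_left (h : DProdIn H K L) (hφ : φ ∈ CF H) :
    cfInd H L φ = ∑ j : Irr K, j 1 • cfProd H K φ j := by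
  classical
  have hinv : L ≤ inertia φ := fun x hx g => by
    by_cases hg : g ∈ H
    · obtain ⟨b, hb, k, hk, rfl⟩ := h.compl.2.2.2 x hx
      rw [show b * k * g * (b * k)⁻¹ = b * (k * g) * k⁻¹ * b⁻¹ by group, ← h.comm g hg k hk,
        ← mul_assoc, mul_inv_cancel_right, hφ.2 b hb]
    · rw [hφ.1 g hg, hφ.1 _ (mt (norm_conj_mem (h.normal_left hx)).mp hg)]
  rw [cfInd_of_invariant h.compl.1 h.normal_left hφ hinv]
  simp only [← cfProd_smul_right, ← cfProd_sum_right]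
  symm
  refine cfProd_ext' h.compl (fun a ha k hk => ?_) fun g hg => by
    simp [hφ.1 g fun h1 => hg (h.compl.1 h1)]
  simp only [Finset.sum_apply, Pi.smul_apply, smul_eq_mul, sum_irr_one_mul']
  split_ifs with h1
  · rw [h1, mul_one, IsComplIn_relIndex h.compl, mul_comm]
  · rw [hφ.1, mul_zero, mul_zero]
    rw [H.mul_mem_cancel_left ha]
    exact fun h2 => h1 (mem_bot.mp (h.compl.2.2.1 ▸ (mem_inf.mpr ⟨h2, hk⟩)))

theorem DProdIn.exists_of_irr (h : DProdIn H K L) (hχ : IsIrr L χ) :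
    ∃ φ ψ, IsIrr H φ ∧ IsIrr K ψ ∧ χ = cfProd H K φ ψ := by
  obtain ⟨θ, hθ, h1⟩ := exists_irr_under h.compl.1 hχ
  rw [← cfdot_cfInd_right h.compl.1 hχ.mem_CF, h.cfInd_left hθ.mem_CF, cfdot_sum_right] at h1
  obtain ⟨j, -, h2⟩ := Finset.exists_ne_zero_of_sum_ne_zero h1
  rw [cfdot_smul_right] at h2
  exact ⟨θ, j, hθ, j.2, hχ.eq_of_cfdot_ne (h.isIrr hθ j.2) (right_ne_zero_of_mul h2)⟩

theorem cfProd_irr_inj (hc : IsComplIn H K L) (h1 : IsIrr H φ) (h2 : IsIrr K ψ) (h1' : IsIrr H φ')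
    (h2' : IsIrr K ψ') (h : cfProd H K φ ψ = cfProd H K φ' ψ') : φ = φ' ∧ ψ = ψ' := by
  have h3 := cfdot_cfProd (φ := φ) (ψ := ψ) (φ' := φ) (ψ' := ψ) hc
  rw [h1.cfdot_self, h2.cfdot_self] at h3
  nth_rewrite 2 [h] at h3
  rw [cfdot_cfProd hc, one_mul] at h3
  exact ⟨h1.eq_of_cfdot_ne h1' (left_ne_zero_of_mul_eq_one h3),
    h2.eq_of_cfdot_ne h2' (right_ne_zero_of_mul_eq_one h3)⟩

theorem DProdIn.mem_cfker (h : DProdIn H K L) (hφ : IsChar H φ) (hψ : IsChar K ψ) (hψ0 : ψ ≠ 0)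
    {x : G} (hx : x ∈ H) : x ∈ cfker L (cfProd H K φ ψ) ↔ x ∈ cfker H φ := by
  have h1 := cfProd_apply (φ := φ) (ψ := ψ) h.compl.2.2.1 hx K.one_mem
  rw [mul_one] at h1
  rw [(h.isChar hφ hψ).mem_cfker, hφ.mem_cfker, h1, cfProd_one h.compl.2.2.1,
    mul_left_inj' (hψ.one_ne_zero hψ0)]
  exact ⟨fun h2 => ⟨hx, h2.2⟩, fun h2 => ⟨h.compl.1 hx, h2.2⟩⟩

/-! Inflation from a complement: `L = K ⋊ E`. -/

theorem sdprod_le_cfker {E : Subgroup G} (hc : IsComplIn K E L) :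
    K ≤ cfker L (cfProd K E (cf1 K) ψ) := by
  refine fun k hk => ⟨hc.1 hk, fun y => ?_⟩
  by_cases hy : y ∈ L
  · obtain ⟨a, ha, b, hb, rfl⟩ := hc.2.2.2 y hy
    rw [← mul_assoc, cfProd_apply hc.2.2.1 (K.mul_mem hk ha) hb, cfProd_apply hc.2.2.1 ha hb,
      cf1_apply ha, cf1_apply (K.mul_mem hk ha)]
  · rw [cfProd_apply_of_notMem hc hy, cfProd_apply_of_notMem hc
      fun h => hy ((L.mul_mem_cancel_left (hc.1 hk)).mp h)]

theorem sdprod_eq_of_le_cfker {E : Subgroup G} (hc : IsComplIn K E L) (hφ : φ ∈ CF L)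
    (hk : K ≤ cfker L φ) : φ = cfProd K E (cf1 K) (cfRes E φ) := by
  symm
  refine cfProd_ext' hc (fun k hk' e he => ?_) hφ.1
  rw [cf1_apply hk', cfRes_apply he, one_mul, (hk hk').2]

theorem cfdot_of_mul_ker (hHL : H ≤ L) (hN : N ≤ cfker L φ) (hN' : N ≤ cfker L ψ)
    (hmul : ∀ x ∈ L, ∃ n ∈ N, ∃ h ∈ H, x = n * h) : cfdot H φ ψ = cfdot L φ ψ := by
  have h1 := sum_elems_mul_eq (hN.trans cfker_le) hHL hmul fun x => φ x * conj (ψ x)
  have h2 : (Nat.card N : ℂ) * Nat.card H = Nat.card ↥(N ⊓ H) * Nat.card L := by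
    exact_mod_cast card_mul_eq (hN.trans cfker_le) hHL hmul
  rw [Finset.sum_congr rfl fun n hn => Finset.sum_congr rfl fun h _ => by
    rw [(hN (mem_elems.mp hn)).2, (hN' (mem_elems.mp hn)).2], sum_elems_const, nsmul_eq_mul,
    nsmul_eq_mul] at h1
  unfold cfdot
  have h3 := card_ne_zero N
  have h4 := card_ne_zero H
  have h5 := card_ne_zero L
  field_simp
  apply mul_left_cancel₀ h3
  linear_combination (Nat.card L : ℂ) * h1 - (∑ x ∈ elems (L : Set G), φ x * conj (ψ x)) * h2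

/-- If `L = N H` with `N` in the kernel of `χ`, restriction to `H` stays irreducible. -/
theorem IsIrr.cfRes_of_mul (h : IsIrr L χ) (hHL : H ≤ L) (hN : N ≤ cfker L χ)
    (hmul : ∀ x ∈ L, ∃ n ∈ N, ∃ h ∈ H, x = n * h) : IsIrr H (cfRes H χ) := by
  exact (h.isChar.cfRes hHL).isIrr_of_cfdot (by
    rw [cfdot_cfRes_left, cfdot_cfRes_right, cfdot_of_mul_ker hHL hN hN hmul, h.cfdot_self])

/-- If `L = N H` with `N` normal, a character of `H` trivial on `H ∩ N` extends to `L`. -/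
theorem exists_irr_extend_of_mul (hHL : H ≤ L) (hNL : N ≤ L) (hn : L ≤ normalizer (N : Set G))
    (hmul : ∀ x ∈ L, ∃ n ∈ N, ∃ h ∈ H, x = n * h) (h : IsIrr H θ) (hk : H ⊓ N ≤ cfker H θ) :
    ∃ χ, IsIrr L χ ∧ N ≤ cfker L χ ∧ cfRes H χ = θ := by
  obtain ⟨χ, hχ, h1, h2⟩ := exists_irr_over_ker hHL hNL hn h.isChar h.ne_zero hk
  exact ⟨χ, hχ, h1, (hχ.cfRes_of_mul hHL h1 hmul).eq_of_cfdot_ne h (by rwa [cfdot_cfRes_left])⟩

end CfsgLib.FT
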