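import Cfsg.Agent.Lib.FT.PF1

/-!
# Peterfalvi, Section 2: the Dade isometry
-/

set_option autoImplicit false
set_option linter.unusedSectionVars false

namespace CfsgLib.FT

open Cfsg Subgroup
open scoped ComplexConjugate commutatorElement

variable {G : Type*} [Group G] [Fintype G]
variable {L K H : Subgroup G} {A A1 : Set G} {R R' : G → Subgroup G} {α β φ ψ χ : G → ℂ}

theorem mem_of_coprime_relIndex (hn : L ≤ normalizer (H : Set G)) {x : G} (hx : x ∈ L)
    (h : (orderOf x).Coprime (H.relIndex L)) : x ∈ H := by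
  have := normal_subgroupOf_of_le_norm hn
  exact mem_of_coprime_index (N := H.subgroupOf L) (x := ⟨x, hx⟩) (by rwa [Subgroup.orderOf_mk])

theorem Dade_normal (h : DadeHypothesis A L R) {a : G} (ha : a ∈ A) :
    centralizer ({a} : Set G) ≤ normalizer (R a : Set G) :=
  le_normalizer_of_conj (h.conj_mem_H a ha)

theorem Dade_isComplIn (h : DadeHypothesis A L R) {a : G} (ha : a ∈ A) :
    IsComplIn (R a) (L ⊓ centralizer ({a} : Set G)) (centralizer ({a} : Set G)) :=
  isComplIn_of_sup (h.sup_eq a ha) (h.inf_eq_bot a ha) (inf_le_right.trans (Dade_normal h ha))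

theorem mem_Dade_signalizer (h : DadeHypothesis A L R) {a : G} (ha : a ∈ A) {u : G} :
    u ∈ R a ↔ u * a = a * u ∧
      ∀ b ∈ A, (orderOf u).Coprime (Nat.card ↥(L ⊓ centralizer ({b} : Set G))) := by
  refine ⟨fun hu => ⟨mem_centralizer_singleton_iff.mp (h.le_centralizer a ha hu), fun b hb =>
    (h.coprime a ha b hb).coprime_dvd_left (orderOf_dvd_card_of_mem hu)⟩, fun hu => ?_⟩
  refine mem_of_coprime_relIndex (Dade_normal h ha) (mem_centralizer_singleton_iff.mpr hu.1) ?_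
  rw [IsComplIn_relIndex (Dade_isComplIn h ha)]
  exact hu.2 a ha

theorem Dade_comm (h : DadeHypothesis A L R) {a u : G} (ha : a ∈ A) (hu : u ∈ R a) :
    u * a = a * u := ((mem_Dade_signalizer h ha).mp hu).1

theorem Dade_conj_mem (h : DadeHypothesis A L R) {a g u : G} (ha : a ∈ A) (hg : g * a * g⁻¹ ∈ A)
    (hu : u ∈ R a) : g * u * g⁻¹ ∈ R (g * a * g⁻¹) := by
  obtain ⟨h1, h2⟩ := (mem_Dade_signalizer h ha).mp hu
  refine (mem_Dade_signalizer h hg).mpr ⟨?_, by rwa [Frob.orderOf_conj_eq]⟩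
  rw [conj_mul, conj_mul, h1]

theorem Dade_conj_mem_iff (h : DadeHypothesis A L R) {a g u : G} (ha : a ∈ A)
    (hg : g * a * g⁻¹ ∈ A) : u ∈ R (g * a * g⁻¹) ↔ g⁻¹ * u * g ∈ R a := by
  refine ⟨fun hu => ?_, fun hu => ?_⟩
  · have := Dade_conj_mem h (g := g⁻¹) hg (by simpa [mul_assoc] using ha) hu
    simpa [mul_assoc] using this
  · simpa [mul_assoc] using Dade_conj_mem h ha hg hu

theorem Dade_signalizer_unique (h : DadeHypothesis A L R) (h' : DadeHypothesis A L R') {a : G}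
    (ha : a ∈ A) : R a = R' a := by
  ext u
  rw [mem_Dade_signalizer h ha, mem_Dade_signalizer h' ha]

theorem Dade_card_cent (h : DadeHypothesis A L R) {a : G} (ha : a ∈ A) :
    Nat.card (centralizer ({a} : Set G)) =
      Nat.card (R a) * Nat.card ↥(L ⊓ centralizer ({a} : Set G)) := by
  exact IsComplIn_card (Dade_isComplIn h ha)

theorem Dade_coprime_orderOf (h : DadeHypothesis A L R) {a b : G} (ha : a ∈ A) (hb : b ∈ A) :
    (orderOf b).Coprime (Nat.card (R a)) := by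
  exact (h.coprime a ha b hb).symm.coprime_dvd_left
    (orderOf_dvd_card_of_mem (mem_inf.mpr ⟨h.subset hb, mem_centralizer_singleton_iff.mpr rfl⟩))

/-- Peterfalvi (2.4)(a). -/
theorem DadeJ (h : DadeHypothesis A L R) {a x : G} (ha : a ∈ A) (hx : x ∈ L) :
    R (x * a * x⁻¹) = (R a).map (MulAut.conj x).toMonoidHom := by
  ext u
  rw [Dade_conj_mem_iff h ha (h.conj_mem x hx a ha), mem_map_conj]

/-- Peterfalvi (2.4)(b). -/
theorem Dade_support1_TI (h : DadeHypothesis A L R) {a b u v g : G} (ha : a ∈ A) (hb : b ∈ A)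
    (hu : u ∈ R a) (hv : v ∈ R b) (hg : g * (a * u) * g⁻¹ = b * v) :
    g * a * g⁻¹ = b ∧ ∃ x ∈ L, x * a * x⁻¹ = b := by
  have h1 : g * a * g⁻¹ = b := by
    refine conj_eq_of_conj_mul_eq (a := orderOf a * orderOf b)
      (b := Nat.card (R a) * Nat.card (R b)) ?_ (dvd_mul_right _ _)
      ((orderOf_dvd_card_of_mem hu).mul_right _) (dvd_mul_left _ _)
      ((orderOf_dvd_card_of_mem hv).mul_left _) (Dade_comm h ha hu).symm (Dade_comm h hb hv).symm hg
    exact Nat.Coprime.mul_left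
      ((Dade_coprime_orderOf h ha ha).mul_right (Dade_coprime_orderOf h hb ha))
      ((Dade_coprime_orderOf h ha hb).mul_right (Dade_coprime_orderOf h hb hb))
  exact ⟨h1, h1 ▸ h.fusion a ha g (h1 ▸ hb)⟩

theorem mem_dadeSupp {g : G} :
    g ∈ dadeSupp A R ↔ ∃ a ∈ A, ∃ r ∈ R a, ∃ y : G, g = y * (a * r) * y⁻¹ := Iff.rfl

theorem subset_dadeSupp : A ⊆ dadeSupp A R :=
  fun a ha => ⟨a, ha, 1, (R a).one_mem, 1, by simp⟩

theorem dadeSupp_mono (h : A1 ⊆ A) : dadeSupp A1 R ⊆ dadeSupp A R :=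
  fun _ ⟨a, ha, h'⟩ => ⟨a, h ha, h'⟩

theorem dadeSupp_conj {g : G} (hg : g ∈ dadeSupp A R) (x : G) : x * g * x⁻¹ ∈ dadeSupp A R := by
  obtain ⟨a, ha, r, hr, y, rfl⟩ := hg
  exact ⟨a, ha, r, hr, x * y, by group⟩

theorem dadeSupp_congr (h : ∀ a ∈ A, R a = R' a) : dadeSupp A R = dadeSupp A R' := by
  ext g
  exact exists_congr fun a => and_congr_right fun ha => by rw [h a ha]

theorem dadeSupp_of_bot (h : ∀ a ∈ A, R a = ⊥) : dadeSupp A R = classSupport A ⊤ := by
  ext g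
  refine exists_congr fun a => and_congr_right fun ha => ?_
  simp [h a ha]

theorem one_notMem_dadeSupp (h : DadeHypothesis A L R) : (1 : G) ∉ dadeSupp A R := by
  rintro ⟨a, ha, r, hr, y, h1⟩
  have h2 : a ∈ R a := by
    rw [eq_inv_of_mul_eq_one_left (conj_eq_one_iff.mp h1.symm)]
    rw [eq_inv_of_mul_eq_one_left (conj_eq_one_iff.mp h1.symm)] at hr
    exact inv_mem hr
  have h3 : a ∈ R a ⊓ (L ⊓ centralizer ({a} : Set G)) :=
    ⟨h2, h.subset ha, mem_centralizer_singleton_iff.mpr rfl⟩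
  rw [h.inf_eq_bot a ha, mem_bot] at h3
  exact h.one_not_mem (h3 ▸ ha)

theorem mem_dadeSupp_iff {g : G} : g ∈ dadeSupp A R ↔ ∃ a ∈ A, ∃ r ∈ R a, IsConj (a * r) g := by
  simp only [isConj_iff, mem_dadeSupp, eq_comm]

open Classical in
/-- The value of `α` at a chosen point satisfying `P`. -/
noncomputable def dadeAux {X : Type*} (P : X → Prop) (α : X → ℂ) : ℂ :=
  if h : ∃ a, P a then α (Classical.choose h) else 0

theorem Dade_apply (α : G → ℂ) (g : G) :
    Dade A R α g = dadeAux (fun a => a ∈ A ∧ ∃ r ∈ R a, IsConj (a * r) g) α := rfl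

theorem Dade_apply_of_mem {g : G} (hg : g ∈ dadeSupp A R) :
    ∃ a ∈ A, ∃ r ∈ R a, ∃ y : G, g = y * (a * r) * y⁻¹ ∧ ∀ α, Dade A R α g = α a := by
  have h := mem_dadeSupp_iff.mp hg
  obtain ⟨ha, r, hr, h1⟩ := Classical.choose_spec h
  obtain ⟨y, hy⟩ := isConj_iff.mp h1
  exact ⟨_, ha, r, hr, y, hy.symm, fun α => by rw [Dade_apply, dadeAux, dif_pos h]⟩

theorem Dade_congr (h : ∀ a ∈ A, R a = R' a) : Dade A R = Dade A R' := by
  ext1 α
  ext g
  have : (fun a => a ∈ A ∧ ∃ r ∈ R a, IsConj (a * r) g) =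
      fun a => a ∈ A ∧ ∃ r ∈ R' a, IsConj (a * r) g :=
    funext fun a => propext (and_congr_right fun ha => by rw [h a ha])
  rw [Dade_apply, Dade_apply, this]

theorem Dade_apply_of_notMem {g : G} (hg : g ∉ dadeSupp A R) : Dade A R α g = 0 := by
  rw [Dade_apply, dadeAux, dif_neg (mem_dadeSupp_iff.not.mp hg)]

/-- The defining property of the Dade map (Peterfalvi (2.5)). -/
theorem DadeE (h : DadeHypothesis A L R) (hα : α ∈ CF L) {a r : G} (ha : a ∈ A) (hr : r ∈ R a)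
    (y : G) : Dade A R α (y * (a * r) * y⁻¹) = α a := by
  obtain ⟨b, hb, v, hv, z, h1, h2⟩ := Dade_apply_of_mem (A := A) (R := R) ⟨a, ha, r, hr, y, rfl⟩
  obtain ⟨-, x, hx, h3⟩ := Dade_support1_TI h ha hb hr hv (g := z⁻¹ * y) (by
    calc z⁻¹ * y * (a * r) * (z⁻¹ * y)⁻¹ = z⁻¹ * (y * (a * r) * y⁻¹) * z := by group
      _ = b * v := by rw [h1]; group)
  rw [h2, ← h3, CF_conj hα hx]

theorem Dade_id (h : DadeHypothesis A L R) (hα : α ∈ CF L) {a : G} (ha : a ∈ A) :
    Dade A R α a = α a := by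
  simpa using DadeE h hα ha (R a).one_mem 1

theorem Dade_mem_CF : Dade A R α ∈ CF (⊤ : Subgroup G) := by
  refine ⟨fun x hx => (hx (mem_top x)).elim, fun y _ x => ?_⟩
  have : (fun a => a ∈ A ∧ ∃ r ∈ R a, IsConj (a * r) (y * x * y⁻¹)) =
      fun a => a ∈ A ∧ ∃ r ∈ R a, IsConj (a * r) x := by
    have h1 : IsConj x (y * x * y⁻¹) := isConj_iff.mpr ⟨y, rfl⟩
    exact funext fun a => propext (and_congr_right fun ha => exists_congr fun r =>
      and_congr_right fun _ => ⟨fun h => h.trans h1.symm, fun h => h.trans h1⟩)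
  rw [Dade_apply, Dade_apply, this]

theorem Dade_mem_CFon : Dade A R α ∈ CFon ⊤ (dadeSupp A R) :=
  ⟨Dade_mem_CF, fun _ hg => Dade_apply_of_notMem hg⟩

theorem Dade1 (h : DadeHypothesis A L R) : Dade A R α 1 = 0 :=
  Dade_apply_of_notMem (one_notMem_dadeSupp h)

theorem Dade_aut (u : ℂ →+* ℂ) : Dade A R (cfAut u α) = cfAut u (Dade A R α) := by
  ext g
  rw [cfAut_apply, Dade_apply, Dade_apply, dadeAux, dadeAux]
  split_ifs <;> simp

theorem Dade_congr_on (h : ∀ a ∈ A, α a = β a) : Dade A R α = Dade A R β := by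
  ext g
  by_cases hg : g ∈ dadeSupp A R
  · obtain ⟨a, ha, -, -, -, -, h2⟩ := Dade_apply_of_mem hg
    rw [h2, h2, h a ha]
  · rw [Dade_apply_of_notMem hg, Dade_apply_of_notMem hg]

open Classical in
theorem Dade_card_filter (h : DadeHypothesis A L R) {a b : G} (ha : a ∈ A) (hb : b ∈ A) (z : G) :
    (Finset.univ.filter fun y => y * a * y⁻¹ = z * b * z⁻¹).card =
      Nat.card (R a) * ((elems (L : Set G)).filter fun x => x * a * x⁻¹ = b).card := by
  by_cases h1 : ∃ x ∈ L, x * a * x⁻¹ = b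
  · obtain ⟨x, hx, rfl⟩ := h1
    rw [card_filter_conj_eq hx, ← Dade_card_cent h ha, ← elems_top,
      show z * (x * a * x⁻¹) * z⁻¹ = (z * x) * a * (z * x)⁻¹ by group,
      card_filter_conj_eq (mem_top _), top_inf_eq]
  · rw [Finset.filter_eq_empty_iff.mpr, Finset.filter_eq_empty_iff.mpr]
    · simp
    · exact fun x hx h2 => h1 ⟨x, mem_elems.mp hx, h2⟩
    · intro y _ h2
      have h3 : z⁻¹ * y * a * (z⁻¹ * y)⁻¹ = b := by
        calc z⁻¹ * y * a * (z⁻¹ * y)⁻¹ = z⁻¹ * (y * a * y⁻¹) * z := by group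
          _ = b := by rw [h2]; group
      exact h1 (h3 ▸ h.fusion a ha _ (h3 ▸ hb))

open Classical in
theorem Dade_weight (h : DadeHypothesis A L R) {g : G} (hg : g ∈ dadeSupp A R) :
    ∑ a ∈ elems A, (Nat.card (R a) : ℂ)⁻¹ * ∑ r ∈ elems (R a : Set G), ∑ y : G,
      (if y * (a * r) * y⁻¹ = g then 1 else 0) = Nat.card L := by
  obtain ⟨b, hb, v, hv, z, rfl⟩ := hg
  have h1 : ∀ a ∈ elems A, (Nat.card (R a) : ℂ)⁻¹ * ∑ r ∈ elems (R a : Set G), ∑ y : G,
      (if y * (a * r) * y⁻¹ = z * (b * v) * z⁻¹ then 1 else 0) =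
      ∑ x ∈ elems (L : Set G), if x * a * x⁻¹ = b then 1 else 0 := by
    intro a ha
    have ha := mem_elems.mp ha
    rw [Finset.sum_boole, inv_mul_eq_iff_eq_mul₀ (card_ne_zero _), ← Nat.cast_mul,
      ← Dade_card_filter h ha hb z, ← Finset.sum_boole, Finset.sum_comm]
    refine Finset.sum_congr rfl fun y _ => ?_
    split_ifs with h2
    · have h3 : z⁻¹ * y * a * (z⁻¹ * y)⁻¹ = b := by
        calc z⁻¹ * y * a * (z⁻¹ * y)⁻¹ = z⁻¹ * (y * a * y⁻¹) * z := by group
          _ = b := by rw [h2]; group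
      rw [Finset.sum_eq_single_of_mem ((z⁻¹ * y)⁻¹ * v * (z⁻¹ * y))
        (mem_elems.mpr ((Dade_conj_mem_iff h ha (h3 ▸ hb)).mp (h3 ▸ hv))), if_pos]
      · rw [← h3]; group
      · intro r _ hr
        refine if_neg fun h4 => hr ?_
        calc r = (z⁻¹ * y)⁻¹ * b⁻¹ * z⁻¹ * (y * (a * r) * y⁻¹) * y := by rw [← h3]; group
          _ = _ := by rw [h4]; group
    · refine Finset.sum_eq_zero fun r hr => if_neg fun h3 => h2 ?_
      have h4 := (Dade_support1_TI h ha hb (mem_elems.mp hr) hv (g := z⁻¹ * y) (by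
        calc z⁻¹ * y * (a * r) * (z⁻¹ * y)⁻¹ = z⁻¹ * (y * (a * r) * y⁻¹) * z := by group
          _ = b * v := by rw [h3]; group)).1
      rw [← h4]; group
  rw [Finset.sum_congr rfl h1, Finset.sum_comm, Finset.sum_congr rfl (g := fun _ => 1),
    sum_elems_const, nsmul_eq_mul, mul_one]
  intro x hx
  have hx := mem_elems.mp hx
  rw [Finset.sum_eq_single_of_mem (x⁻¹ * b * x)
    (mem_elems.mpr (by simpa using h.conj_mem _ (L.inv_mem hx) b hb)), if_pos (by group)]
  intro a _ ha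
  refine if_neg fun h2 => ha ?_
  rw [← h2]; group

theorem Dade_sum (h : DadeHypothesis A L R) {F : G → ℂ} (hF : F ∈ CFon ⊤ (dadeSupp A R)) :
    Nat.card L * ∑ g, F g = Nat.card G *
      ∑ a ∈ elems A, (Nat.card (R a) : ℂ)⁻¹ * ∑ r ∈ elems (R a : Set G), F (a * r) := by
  classical
  have h1 : ∀ x : G, (Nat.card G : ℂ) * F x =
      ∑ g, F g * ∑ y : G, if y * x * y⁻¹ = g then 1 else 0 := by
    intro x
    simp only [Finset.mul_sum, mul_ite, mul_one, mul_zero]
    rw [Finset.sum_comm]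
    simp [CF_conj hF.1 (mem_top _)]
  simp only [Finset.mul_sum, mul_left_comm (Nat.card G : ℂ), h1]
  rw [Finset.sum_congr rfl fun a _ => Finset.sum_comm, Finset.sum_comm]
  refine Finset.sum_congr rfl fun g _ => ?_
  by_cases hg : g ∈ dadeSupp A R
  · rw [← Dade_weight h hg]
    simp only [Finset.mul_sum, Finset.sum_mul]
    exact Finset.sum_congr rfl fun _ _ => Finset.sum_congr rfl fun _ _ =>
      Finset.sum_congr rfl fun _ _ => by ring
  · simp [CFon_zero hF hg]

/-- Peterfalvi (2.7), main part. -/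
theorem general_Dade_reciprocity (h : DadeHypothesis A L R) (hα : α ∈ CFon L A)
    (hφ : φ ∈ CF (⊤ : Subgroup G))
    (hψ : ∀ a ∈ A, ψ a = (Nat.card (R a) : ℂ)⁻¹ * ∑ r ∈ elems (R a : Set G), φ (a * r)) :
    cfdot ⊤ (Dade A R α) φ = cfdot L α ψ := by
  have h1 := Dade_sum h (CFon_mul (Dade_mem_CFon (α := α)) (cfAut_mem_CF (starRingEnd ℂ) hφ))
  rw [cfdot_eq_sum_of_supp h.subset fun x _ hx => by rw [CFon_zero hα hx, zero_mul], cfdot,
    elems_top, card_top, Finset.sum_congr rfl (s₁ := elems A) (g := fun a => (Nat.card (R a) : ℂ)⁻¹ *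
      ∑ r ∈ elems (R a : Set G), (Dade A R α * cfConjC φ) (a * r))]
  · have h2 := card_ne_zero L
    have h3 : (Nat.card G : ℂ) ≠ 0 := Nat.cast_ne_zero.mpr Nat.card_pos.ne'
    rw [inv_mul_eq_iff_eq_mul₀ h3, mul_left_comm, ← h1, inv_mul_cancel_left₀ h2]; rfl
  · intro a ha
    rw [hψ a (mem_elems.mp ha), map_mul, map_sum, map_inv₀, map_natCast, mul_left_comm,
      Finset.mul_sum]
    congr 1
    refine Finset.sum_congr rfl fun r hr => ?_
    have := DadeE h hα.1 (mem_elems.mp ha) (mem_elems.mp hr) 1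
    rw [one_mul, inv_one, mul_one] at this
    rw [Pi.mul_apply, this]; rfl

/-- Peterfalvi (2.7), second part. -/
theorem Dade_reciprocity (h : DadeHypothesis A L R) (hα : α ∈ CFon L A)
    (hφ : φ ∈ CF (⊤ : Subgroup G)) (hc : ∀ a ∈ A, ∀ r ∈ R a, φ (a * r) = φ a) :
    cfdot ⊤ (Dade A R α) φ = cfdot L α φ := by
  refine general_Dade_reciprocity h hα hφ fun a ha => ?_
  rw [Finset.sum_congr rfl fun r hr => hc a ha r (mem_elems.mp hr), sum_elems_const, nsmul_eq_mul,
    inv_mul_cancel_left₀ (card_ne_zero _)]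

theorem cfdot_Dade_cf1 (h : DadeHypothesis A L R) (hα : α ∈ CFon L A) :
    cfdot ⊤ (Dade A R α) (cf1 ⊤) = cfdot L α (cf1 L) := by
  rw [Dade_reciprocity h hα cf1_mem_CF fun a _ r _ => by rw [cf1_top]; rfl]
  exact cfdot_congr (fun _ _ => rfl) fun x hx => by rw [cf1_apply hx, cf1_apply (mem_top _)]

theorem Dade_cfInd1 : Dade A R (cfInd1 A) = cfInd1 (dadeSupp A R) := by
  ext g
  by_cases hg : g ∈ dadeSupp A R
  · obtain ⟨a, ha, -, -, -, -, h2⟩ := Dade_apply_of_mem hg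
    rw [h2, cfInd1_apply ha, cfInd1_apply hg]
  · rw [Dade_apply_of_notMem hg, cfInd1_apply_of_notMem hg]

theorem Dade_isometry' (h : DadeHypothesis A L R) (hα : α ∈ CFon L A) (hβ : β ∈ CF L) :
    cfdot ⊤ (Dade A R α) (Dade A R β) = cfdot L α β := by
  rw [Dade_reciprocity h hα Dade_mem_CF fun a ha r hr => by
    rw [Dade_id h hβ ha]; simpa using DadeE h hβ ha hr 1]
  exact cfdot_congr_of_supp hα.2 fun a ha => Dade_id h hβ ha

theorem card_dadeSupp (h : DadeHypothesis A L R) :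
    (dadeSupp A R).ncard * Nat.card L = A.ncard * Nat.card G := by
  have h0 := cfInd1_mem_CFon h.subset h.conj_mem
  have h1 := Dade_isometry' h h0 h0.1
  rw [Dade_cfInd1, cfdot_cfInd1 h.subset, cfdot_cfInd1 (Set.subset_univ _), card_top,
    div_eq_div_iff (Nat.cast_ne_zero.mpr Nat.card_pos.ne') (card_ne_zero L)] at h1
  exact_mod_cast h1

/-- Peterfalvi (2.6)(a). -/
theorem Dade_isometry (h : DadeHypothesis A L R) (hα : α ∈ CFon L A) (hβ : β ∈ CFon L A) :
    cfdot ⊤ (Dade A R α) (Dade A R β) = cfdot L α β := by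
  exact Dade_isometry' h hα hβ.1

theorem cfnorm_Dade (h : DadeHypothesis A L R) (hα : α ∈ CFon L A) :
    cfnorm ⊤ (Dade A R α) = cfnorm L α := cfnorm_eq_of_cfdot (Dade_isometry h hα hα)

theorem exists_int_sum_stabilizer {M X : Type*} [Group M] [MulAction M X] [Fintype X] {f : X → ℂ}
    (hf : ∀ (a : M) x, f (a • x) = f x) (hi : ∀ x, ∃ n : ℤ, f x = n) :
    ∃ k : ℤ, ∑ x, Nat.card (MulAction.stabilizer M x) * f x = Nat.card M * k := by
  classical
  choose n hn using hi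
  refine ⟨∑ q : MulAction.orbitRel.Quotient M X, n q.out, ?_⟩
  rw [← Finset.sum_fiberwise (g := fun x => (Quotient.mk'' x : MulAction.orbitRel.Quotient M X)),
    Int.cast_sum, Finset.mul_sum]
  refine Finset.sum_congr rfl fun q _ => ?_
  have h1 : ∀ x, (Quotient.mk'' x : MulAction.orbitRel.Quotient M X) = q ↔
      x ∈ MulAction.orbit M q.out := fun x => by
    rw [← MulAction.orbitRel_apply, ← Quotient.eq'']; simp
  rw [Finset.sum_congr rfl (g := fun _ => Nat.card (MulAction.stabilizer M q.out) * (n q.out : ℂ)),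
    Finset.sum_const, nsmul_eq_mul, ← mul_assoc, ← Nat.cast_mul,
    ← index_mul_card (MulAction.stabilizer M q.out), MulAction.index_stabilizer,
    Set.ncard_eq_toFinset_card']
  · congr 4
    ext x
    simp [h1]
  · intro x hx
    obtain ⟨a, rfl⟩ := (h1 x).mp (Finset.mem_filter.mp hx).2
    beta_reduce
    rw [hf, hn, ← Nat.card_congr (MulAction.stabilizerEquivStabilizer (g := a) rfl).toEquiv]

theorem sum_elems_map_conj {M : Type*} [AddCommMonoid M] (y : G) (f : G → M) :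
    ∑ x ∈ elems (H.map (MulAut.conj y).toMonoidHom : Set G), f x =
      ∑ x ∈ elems (H : Set G), f (y * x * y⁻¹) := by
  refine Finset.sum_bij' (fun x _ => y⁻¹ * x * y) (fun x _ => y * x * y⁻¹)
    (fun x hx => mem_elems.mpr (mem_map_conj.mp (mem_elems.mp hx)))
    (fun x hx => mem_elems.mpr (mem_map_conj.mpr (by simpa [mul_assoc] using hx)))
    (fun x _ => by group) (fun x _ => by group) fun x _ => ?_
  congr 1; group

theorem card_map_conj' (y : G) : Nat.card (H.map (MulAut.conj y).toMonoidHom) = Nat.card H :=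
  card_map_of_injective (MulAut.conj y).injective

theorem sdprod_mem_ZIrr {E : Subgroup G} (hc : IsComplIn K E L) (hn : L ≤ normalizer (K : Set G))
    (hψ : ψ ∈ ZIrr E) : cfProd K E (cf1 K) ψ ∈ ZIrr L := by
  obtain ⟨a, b, ha, hb, rfl⟩ := mem_ZIrr_iff_sub.mp hψ
  rw [cfProd_sub_right]
  exact sub_mem (sdprod_isChar hc hn ha).mem_ZIrr (sdprod_isChar hc hn hb).mem_ZIrr

theorem sdprod_sum_int {E : Subgroup G} (hd : K ⊓ E = ⊥) (hn : E ≤ normalizer (K : Set G))
    (hψ : ψ ∈ ZIrr E) (hχ : χ ∈ ZIrr (⊤ : Subgroup G)) :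
    ∃ n : ℤ, (Nat.card E : ℂ)⁻¹ * ∑ x ∈ elems (E : Set G), ψ x *
      ((Nat.card K : ℂ)⁻¹ * ∑ c ∈ elems (K : Set G), conj (χ (x * c))) = n := by
  have hc := isComplIn_of_sup rfl hd hn
  obtain ⟨n, h1⟩ := ZIrr_cfdot_int (sdprod_mem_ZIrr hc (sup_le le_normalizer hn) hψ)
    (ZIrr_cfRes le_top hχ)
  refine ⟨n, ?_⟩
  rw [← h1, cfdot_cfRes_right, cfdot, sum_elems_compl hc, IsComplIn_card hc, Finset.sum_comm,
    Nat.cast_mul, mul_inv, mul_comm (Nat.card K : ℂ)⁻¹, mul_assoc]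
  congr 1
  rw [Finset.mul_sum]
  refine Finset.sum_congr rfl fun x hx => ?_
  rw [mul_left_comm, Finset.mul_sum]
  congr 1
  refine Finset.sum_congr rfl fun c hc' => ?_
  rw [cfProd_apply hd (mem_elems.mp hc') (mem_elems.mp hx), cf1_apply (mem_elems.mp hc'), one_mul,
    CF_mul_comm (ZIrr_mem_CF hχ) (mem_top _)]

theorem mem_normalizer_insert {B : Set G} {x : G} (hx : x ∉ B) :
    x ∈ normalizer (insert x B) ↔ x ∈ normalizer B := by
  simp only [mem_set_normalizer_iff, Set.mem_insert_iff]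
  refine forall_congr' fun b => ?_
  have h1 : x * b * x⁻¹ = x ↔ b = x := by
    rw [mul_inv_eq_iff_eq_mul, mul_right_inj]
  rw [h1]
  by_cases h2 : b = x
  · simp [h2, hx]
  · simp [h2]

/-- The conjugation action of `L` on finite subsets. -/
@[reducible] def conjFinsetAction [DecidableEq G] (L : Subgroup G) : MulAction L (Finset G) where
  smul y B := B.image fun a => y * a * (y : G)⁻¹
  one_smul B := by
    change B.image _ = B
    simp
  mul_smul x y B := by
    change B.image _ = (B.image _).image _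
    rw [Finset.image_image]
    congr 1
    ext a
    simp [mul_assoc]

/-- Peterfalvi (2.6)(b). -/
theorem Dade_vchar (h : DadeHypothesis A L R) (hα : α ∈ ZIrr L) (hA : ∀ x, x ∉ A → α x = 0) :
    Dade A R α ∈ ZIrr (⊤ : Subgroup G) := by
  classical
  refine mem_ZIrr_of_cfdot_int Dade_mem_CF fun χ hχ => ?_
  let HB : Finset G → Subgroup G := fun B => ⨅ a ∈ B, R a
  let NB : Finset G → Subgroup G := fun B => L ⊓ normalizer (B : Set G)
  let Ψ : Finset G → G → ℂ := fun B x =>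
    (Nat.card (HB B) : ℂ)⁻¹ * ∑ c ∈ elems (HB B : Set G), conj (χ (x * c))
  let f : Finset G → ℂ := fun B => if B ⊆ elems A ∧ B.Nonempty then
    (-1) ^ B.card * ((Nat.card (NB B) : ℂ)⁻¹ * ∑ x ∈ elems (NB B : Set G), α x * Ψ B x) else 0
  have hHB : ∀ B u, u ∈ HB B ↔ ∀ a ∈ B, u ∈ R a := fun B u => by simp [HB, mem_iInf]
  have hNH : ∀ B, B ⊆ elems A → NB B ≤ normalizer (HB B : Set G) := by
    intro B hB
    refine le_normalizer_of_conj fun x hx u hu => (hHB _ _).mpr fun a ha => ?_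
    have h1 : x⁻¹ * a * x ∈ B := by
      have := (mem_set_normalizer_iff.mp (inv_mem hx.2) a).mp ha
      rwa [inv_inv] at this
    have h2 := Dade_conj_mem h (mem_elems.mp (hB h1)) (g := x)
      (by simpa [mul_assoc] using hB ha) ((hHB _ _).mp hu _ h1)
    simpa [mul_assoc] using h2
  have hcop : ∀ B, B ⊆ elems A → B.Nonempty → ∀ b ∈ A, ∃ a ∈ A, HB B ≤ R a := by
    rintro B hB ⟨a, ha⟩ - -
    exact ⟨a, mem_elems.mp (hB ha), fun u hu => (hHB _ _).mp hu a ha⟩
  have hint : ∀ B, ∃ n : ℤ, f B = n := by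
    intro B
    simp only [f]
    split_ifs with hB
    swap
    · exact ⟨0, by simp⟩
    obtain ⟨n, hn⟩ := sdprod_sum_int (K := HB B) (E := NB B) (by
      obtain ⟨a, ha⟩ := hB.2
      have ha' := mem_elems.mp (hB.1 ha)
      rw [eq_bot_iff, ← h.inf_eq_bot a ha']
      exact fun u hu => ⟨(hHB _ _).mp hu.1 a ha, hu.2.1,
        h.le_centralizer a ha' ((hHB _ _).mp hu.1 a ha)⟩) (hNH B hB.1)
      (ZIrr_cfRes inf_le_left hα) hχ.mem_ZIrr
    rw [Finset.sum_congr rfl fun x hx => by rw [cfRes_apply (mem_elems.mp hx)]] at hn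
    exact ⟨(-1) ^ B.card * n, by rw [hn]; simp⟩
  letI : MulAction L (Finset G) := conjFinsetAction L
  have hsm : ∀ (y : L) (B : Finset G) (a : G), a ∈ y • B ↔ (y : G)⁻¹ * a * y ∈ B := by
    intro y B a
    change a ∈ B.image _ ↔ _
    rw [Finset.mem_image]
    exact ⟨fun ⟨b, hb, h1⟩ => by simpa [← h1, mul_assoc] using hb, fun h1 => ⟨_, h1, by group⟩⟩
  have hstab : ∀ B, Nat.card (MulAction.stabilizer L B) = Nat.card (NB B) := by
    intro B
    rw [← card_subgroupOf (inf_le_left : NB B ≤ L)]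
    congr 2
    ext y
    rw [← inv_mem_iff, MulAction.mem_stabilizer_iff, Finset.ext_iff]
    simp only [hsm, NB, mem_subgroupOf, mem_inf, y.2, true_and, mem_set_normalizer_iff]
    simp [eq_comm, iff_comm]
  have hinv : ∀ (y : L) B, f (y • B) = f B := by
    intro y B
    have h1 : y • B ⊆ elems A ↔ B ⊆ elems A := by
      refine ⟨fun h1 a ha => ?_, fun h1 a ha => ?_⟩
      · have := h.conj_mem _ (L.inv_mem y.2) _ (mem_elems.mp (h1 ((hsm y B (y * a * (y : G)⁻¹)).mpr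
          (by simpa [mul_assoc] using ha))))
        simpa [mul_assoc] using this
      · have := h.conj_mem _ y.2 _ (mem_elems.mp (h1 ((hsm y B a).mp ha)))
        simpa [mul_assoc] using this
    have h2 : (y • B).card = B.card := Finset.card_image_of_injective _ (MulAut.conj (y : G)).injective
    simp only [f, h1, ← Finset.card_pos, h2]
    split_ifs with hB
    swap
    · rfl
    have h3 : HB (y • B) = (HB B).map (MulAut.conj (y : G)).toMonoidHom := by
      ext u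
      rw [mem_map_conj, hHB, hHB]
      refine ⟨fun h4 a ha => ?_, fun h4 a ha => ?_⟩
      · have ha' := mem_elems.mp (hB.1 ha)
        exact (Dade_conj_mem_iff h ha' (h.conj_mem _ y.2 a ha')).mp
          (h4 _ ((hsm y B _).mpr (by simpa [mul_assoc] using ha)))
      · have ha' := mem_elems.mp (hB.1 ((hsm y B a).mp ha))
        have := (Dade_conj_mem_iff h ha' (h.conj_mem _ y.2 _ ha')).mpr (h4 _ ((hsm y B a).mp ha))
        simpa [mul_assoc] using this
    have h4 : NB (y • B) = (NB B).map (MulAut.conj (y : G)).toMonoidHom := by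
      ext x
      rw [mem_map_conj]
      simp only [NB, mem_inf, mem_set_normalizer_iff, Finset.mem_coe, hsm]
      refine and_congr (by simpa using (conj_mem_iff (L.inv_mem y.2)).symm)
        ⟨fun h5 a => ?_, fun h5 a => ?_⟩
      · simpa [mul_assoc] using h5 (y * a * (y : G)⁻¹)
      · simpa [mul_assoc] using h5 ((y : G)⁻¹ * a * y)
    simp only [Ψ, h3, h4, card_map_conj', sum_elems_map_conj, conj_mul, CF_conj hχ.mem_CF (mem_top _),
      CF_conj (ZIrr_mem_CF hα) y.2]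
  obtain ⟨k, hk⟩ := exists_int_sum_stabilizer hinv hint
  refine ⟨-k, ?_⟩
  rw [general_Dade_reciprocity h ⟨ZIrr_mem_CF hα, hA⟩ hχ.mem_CF fun a _ => rfl,
    cfdot_eq_sum_of_supp h.subset fun x _ hx => by rw [hA x hx, zero_mul],
    inv_mul_eq_iff_eq_mul₀ (card_ne_zero L), Int.cast_neg, mul_neg, ← hk, eq_neg_iff_add_eq_zero]
  have h1 : ∀ B : Finset G, Nat.card (MulAction.stabilizer L B) * f B =
      ∑ x ∈ elems A, α x * if B ⊆ elems A ∧ B.Nonempty ∧ x ∈ normalizer (B : Set G) then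
        (-1) ^ B.card * Ψ (insert x B) x else 0 := by
    intro B
    simp only [f, hstab]
    split_ifs with hB
    swap
    · rw [mul_zero, Finset.sum_eq_zero]
      intro x _
      rw [if_neg fun h2 => hB ⟨h2.1, h2.2.1⟩, mul_zero]
    rw [mul_left_comm, mul_inv_cancel_left₀ (card_ne_zero _), Finset.mul_sum]
    simp only [hB.1, hB.2, true_and, mul_ite, mul_zero]
    rw [← Finset.sum_filter]
    refine Finset.sum_congr_of_eq_on_inter (fun x hx hx' => ?_) (fun x hx hx' => ?_)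
      fun x hx hx' => ?_
    · rw [hA x fun h2 => hx' (Finset.mem_filter.mpr ⟨mem_elems.mpr h2, (mem_elems.mp hx).2⟩)]
      simp
    · obtain ⟨h2, h3⟩ := Finset.mem_filter.mp hx
      exact (hx' (mem_elems.mpr ⟨h.subset (mem_elems.mp h2), h3⟩)).elim
    · have hxA := mem_elems.mp (Finset.mem_filter.mp hx').1
      obtain ⟨a, ha, h2⟩ := hcop B hB.1 hB.2 x hxA
      have h3 := sum_rcoset_eq_sum_cent (hNH B hB.1 (mem_elems.mp hx))
        ((Dade_coprime_orderOf h ha hxA).coprime_dvd_right (card_dvd_of_le h2))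
        (f := fun g => conj (χ g)) fun y _ g => by rw [CF_conj hχ.mem_CF (mem_top _)]
      have h4 : HB (insert x B) = HB B ⊓ centralizer ({x} : Set G) := by
        ext u
        rw [mem_inf, hHB, hHB, Finset.forall_mem_insert, and_comm, mem_centralizer_singleton_iff]
        refine and_congr_right fun hu => ⟨Dade_comm h hxA, fun h5 => ?_⟩
        exact (mem_Dade_signalizer h hxA).mpr
          ⟨h5, ((mem_Dade_signalizer h ha).mp (h2 ((hHB _ _).mpr hu))).2⟩
      simp only [Ψ, h4, h3, mul_left_comm (α x)]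
  rw [Finset.sum_congr rfl fun B _ => h1 B, Finset.sum_comm, ← Finset.sum_add_distrib]
  refine Finset.sum_eq_zero fun x hx => ?_
  rw [← Finset.mul_sum, ← mul_add]
  refine mul_eq_zero_of_right _ ?_
  have h2 : ∑ B ∈ (elems A).powerset, (if x ∈ normalizer (B : Set G) then
      (-1) ^ B.card * Ψ (insert x B) x else 0) = 0 := by
    rw [← Finset.insert_erase hx, Finset.sum_powerset_insert (Finset.notMem_erase x _),
      ← Finset.sum_add_distrib]
    refine Finset.sum_eq_zero fun B hB => ?_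
    have h3 : x ∉ B := fun h3 => Finset.notMem_erase x _ (Finset.mem_powerset.mp hB h3)
    simp only [Finset.coe_insert, mem_normalizer_insert (Finset.mem_coe.not.mpr h3),
      Finset.card_insert_of_notMem h3, Finset.insert_idem]
    split_ifs
    · ring
    · simp
  refine Eq.trans ?_ h2
  rw [← Finset.add_sum_erase _ _ (Finset.empty_mem_powerset _), if_pos, ← Finset.sum_filter,
    ← Finset.sum_filter]
  · congr 1
    · have : HB {x} = R x := by simp [HB]
      simp [Ψ, this]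
    · refine Finset.sum_congr ?_ fun _ _ => rfl
      ext B
      simp [Finset.nonempty_iff_ne_empty, and_comm, and_left_comm, and_assoc]
  · simp [mem_set_normalizer_iff]

theorem mem_CFon_of_zspan {S : Finset (G → ℂ)} (hA : ∀ ξ ∈ S, ξ ∈ CFon L (insert 1 A))
    (hφ : φ ∈ zspan S) (h1 : φ 1 = 0) : φ ∈ CFon L A :=
  CFon_of_insert_one (zspan_mem_submodule hA hφ) h1

theorem Dade_ZIsom1 (h : DadeHypothesis A L R) {S : Finset (G → ℂ)} (hS : ∀ ξ ∈ S, ξ ∈ ZIrr L)
    (hA : ∀ ξ ∈ S, ξ ∈ CFon L (insert 1 A)) : ZIsom1 L ⊤ S (Dade A R) := by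
  exact ⟨fun φ hφ h1 ψ hψ h2 => Dade_isometry h (mem_CFon_of_zspan hA hφ h1)
    (mem_CFon_of_zspan hA hψ h2), fun φ hφ h1 => Dade_vchar h (zspan_le_ZIrr hS hφ)
    (mem_CFon_of_zspan hA hφ h1).2, fun φ _ _ => Dade1 h⟩

/-- Peterfalvi (2.11), first part. -/
theorem restr_Dade_hyp (h : DadeHypothesis A L R) (hA1 : A1 ⊆ A)
    (hn : ∀ x ∈ L, ∀ a ∈ A1, x * a * x⁻¹ ∈ A1) : DadeHypothesis A1 L R := by
  exact ⟨fun h1 => h.one_not_mem (hA1 h1), hA1.trans h.subset, hn,
    fun a ha g hg => h.fusion a (hA1 ha) g (hA1 hg), fun a ha => h.le_centralizer a (hA1 ha),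
    fun a ha => h.conj_mem_H a (hA1 ha), fun a ha => h.inf_eq_bot a (hA1 ha),
    fun a ha => h.sup_eq a (hA1 ha), fun a ha b hb => h.coprime a (hA1 ha) b (hA1 hb)⟩

/-- Peterfalvi (2.11), second part. -/
theorem restr_DadeE (h : DadeHypothesis A L R) (hA1 : A1 ⊆ A) (hα : α ∈ CFon L A1) :
    Dade A1 R α = Dade A R α := by
  ext g
  by_cases hg : g ∈ dadeSupp A1 R
  · obtain ⟨a, ha, r, hr, y, rfl, h2⟩ := Dade_apply_of_mem hg
    rw [h2, DadeE h hα.1 (hA1 ha) hr]
  · rw [Dade_apply_of_notMem hg]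
    by_cases hg' : g ∈ dadeSupp A R
    · obtain ⟨a, ha, r, hr, y, rfl, h2⟩ := Dade_apply_of_mem hg'
      rw [h2, CFon_zero hα fun h3 => hg ⟨a, h3, r, hr, y, rfl⟩]
    · rw [Dade_apply_of_notMem hg']

/-- Peterfalvi (2.3), existence part. -/
theorem normedTI_Dade (h : NormedTI A ⊤ L) (h1 : (1 : G) ∉ A) :
    DadeHypothesis A L fun _ => ⊥ := by
  refine ⟨h1, h.subset (Set.subset_univ _), h.conj_mem,
    fun a ha g hg => ⟨g, h.ti g (mem_top g) a ha hg, rfl⟩, fun _ _ => bot_le,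
    fun a _ c _ u hu => by rw [mem_bot.mp hu]; simp, fun _ _ => bot_inf_eq _, fun a ha => ?_,
    fun _ _ _ _ => by simp⟩
  rw [bot_sup_eq, inf_eq_right]
  simpa using h.cent_le ha

theorem Dade_signalizer_eq_bot' (h : DadeHypothesis A L R) {a : G} (ha : a ∈ A) :
    R a = ⊥ ↔ centralizer ({a} : Set G) ≤ L := by
  refine ⟨fun h1 => ?_, fun h1 => ?_⟩
  · rw [← h.sup_eq a ha, h1, bot_sup_eq]; exact inf_le_left
  · rw [← h.inf_eq_bot a ha, inf_eq_right.mpr h1, inf_eq_left.mpr (h.le_centralizer a ha)]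

/-- Peterfalvi (2.3). -/
theorem Dade_normedTI_P (h : DadeHypothesis A L R) :
    NormedTI A ⊤ L ↔ A.Nonempty ∧ ∀ a ∈ A, R a = ⊥ := by
  refine ⟨fun h1 => ⟨h1.nonempty, fun a ha => (Dade_signalizer_eq_bot' h ha).mpr
    (by simpa using h1.cent_le ha)⟩, fun h1 => ⟨h1.1, le_top, h.conj_mem, fun g _ a ha hg => ?_⟩⟩
  obtain ⟨x, hx, h2⟩ := h.fusion a ha g hg
  have h3 : x⁻¹ * g ∈ L := (Dade_signalizer_eq_bot' h ha).mp (h1.2 a ha)
    (mem_centralizer_singleton_iff.mpr (by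
      calc x⁻¹ * g * a = x⁻¹ * (g * a * g⁻¹) * g := by group
        _ = a * (x⁻¹ * g) := by rw [← h2]; group))
  simpa using L.mul_mem hx h3

theorem Dade_signalizer_eq_bot (h : DadeHypothesis A L R) {a : G} (ha : a ∈ A) :
    R a = ⊥ ↔ centralizer ({a} : Set G) ≤ L := by
  exact Dade_signalizer_eq_bot' h ha

theorem Dade_Ind_of_bot (h : DadeHypothesis A L R) (hα : α ∈ CFon L A1) (hA1 : A1 ⊆ A)
    (hR : ∀ a ∈ A1, R a = ⊥) : Dade A R α = cfInd L ⊤ α := by
  refine CF_ext Dade_mem_CF cfInd_mem_CF fun χ hχ => ?_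
  rw [general_Dade_reciprocity h (CFon_mono hA1 hα) hχ.mem_CF fun a _ => rfl,
    cfdot_cfInd_left le_top hχ.mem_CF]
  refine cfdot_congr_of_supp hα.2 fun a ha => ?_
  rw [Finset.sum_congr rfl (g := fun _ => χ a), sum_elems_const, nsmul_eq_mul,
    inv_mul_cancel_left₀ (card_ne_zero _)]
  intro r hr
  have := mem_elems.mp hr
  rw [hR a ha] at this
  rw [mem_bot.mp this, mul_one]

theorem Dade_Ind (h : DadeHypothesis A L R) (hTI : NormedTI A ⊤ L) (hα : α ∈ CFon L A) :
    Dade A R α = cfInd L ⊤ α :=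
  Dade_Ind_of_bot h hα subset_rfl ((Dade_normedTI_P h).mp hTI).2

theorem restr_Dade_Ind (h : DadeHypothesis A L R) (hA1 : A1 ⊆ A) (hTI : NormedTI A1 ⊤ L)
    (hα : α ∈ CFon L A1) : Dade A R α = cfInd L ⊤ α := by
  exact Dade_Ind_of_bot h hα hA1 fun a ha =>
    (Dade_signalizer_eq_bot h (hA1 ha)).mpr (by simpa using hTI.cent_le ha)

theorem normedTI_ZIsom1 {G0 : Subgroup G} (h : NormedTI A G0 L) {S : Finset (G → ℂ)}
    (hS : ∀ ξ ∈ S, ξ ∈ ZIrr L) (hA : ∀ ξ ∈ S, ξ ∈ CFon L (insert 1 A)) :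
    ZIsom1 L G0 S (cfInd L G0) := by
  exact ⟨fun φ hφ h1 ψ hψ h2 => normedTI_isometry h (mem_CFon_of_zspan hA hφ h1)
    (mem_CFon_of_zspan hA hψ h2), fun φ hφ _ => ZIrr_cfInd h.le (zspan_le_ZIrr hS hφ),
    fun φ _ h1 => by rw [cfInd_one h.le, h1, mul_zero]⟩

end CfsgLib.FT
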