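import Mathlib

/-!
# The combinatorial core of Peterfalvi (3.5) and (3.8)
-/

set_option autoImplicit false

namespace CfsgLib.FT.PF3Comb

open Matrix

variable {X : Type*} [Fintype X] [DecidableEq X]

/-- Two signed triples meet in exactly one point, with the same sign. -/
def Lrel (a b : X → ℤ) : Prop :=
  ∃ p, a p = b p ∧ a p ≠ 0 ∧ ∀ x, a x ≠ 0 → b x ≠ 0 → x = p

omit [DecidableEq X] in
theorem sq_le_dot (a : X → ℤ) (x : X) : a x * a x ≤ a ⬝ᵥ a :=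
  Finset.single_le_sum (f := fun x => a x * a x) (fun x _ => mul_self_nonneg _) (Finset.mem_univ x)

omit [DecidableEq X] in
theorem val_cases {a : X → ℤ} (h : a ⬝ᵥ a ≤ 3) (x : X) : a x = 0 ∨ a x = 1 ∨ a x = -1 := by
  have h1 := (sq_le_dot a x).trans h
  have h2 : a x ≤ 1 := by nlinarith
  have h3 : -1 ≤ a x := by nlinarith
  omega

omit [DecidableEq X] in
theorem mul_self_of_ne {a : X → ℤ} (h : a ⬝ᵥ a ≤ 3) {x : X} (hx : a x ≠ 0) : a x * a x = 1 := by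
  rcases val_cases h x with h | h | h <;> simp_all

theorem lrel_of {a b d : X → ℤ} (ha : a ⬝ᵥ a = 3) (hb : b ⬝ᵥ b = 3) (hab : a ⬝ᵥ b = 1)
    (hd : ∀ x, d x ≠ 0) (h : a ⬝ᵥ d = b ⬝ᵥ d) : Lrel a b := by
  have h1 : ∀ x, 0 ≤ a x * b x := by
    intro x
    by_contra h2
    have h3 : (a - b) x * (a - b) x = 4 := by
      rw [Pi.sub_apply]
      rcases val_cases ha.le x with h | h | h <;> rcases val_cases hb.le x with h' | h' | h' <;>
        simp_all
    have h4 : (a - b) ⬝ᵥ (a - b) = 4 := by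
      rw [sub_dotProduct, dotProduct_sub, dotProduct_sub, dotProduct_comm b a, ha, hb, hab]; rfl
    rw [dotProduct, ← Finset.add_sum_erase _ _ (Finset.mem_univ x), h3, add_eq_left,
      Finset.sum_eq_zero_iff_of_nonneg fun y _ => mul_self_nonneg _] at h4
    rw [← sub_eq_zero, ← sub_dotProduct, dotProduct, Finset.sum_eq_single x
      (fun y _ hy => by rw [mul_self_eq_zero.mp (h4 y (by simp [hy])), zero_mul]) (by simp),
      mul_eq_zero, or_iff_left (hd x)] at h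
    rw [h] at h3
    omega
  obtain ⟨p, -, hp⟩ := Finset.exists_ne_zero_of_sum_ne_zero (s := Finset.univ)
    (f := fun x => a x * b x) (by rw [← dotProduct, hab]; exact one_ne_zero)
  refine ⟨p, ?_, left_ne_zero_of_mul hp, fun x hx hx' => ?_⟩
  · have := h1 p
    rcases val_cases ha.le p with h | h | h <;> rcases val_cases hb.le p with h' | h' | h' <;>
      simp_all
  · by_contra h2
    have h3 : ∑ y ∈ {x, p}, a y * b y ≤ a ⬝ᵥ b :=
      Finset.sum_le_sum_of_subset_of_nonneg (Finset.subset_univ _) fun y _ _ => h1 y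
    rw [Finset.sum_pair h2, hab] at h3
    have h4 := lt_of_le_of_ne (h1 x) (mul_ne_zero hx hx').symm
    have h5 := lt_of_le_of_ne (h1 p) hp.symm
    omega

omit [Fintype X] [DecidableEq X] in
theorem Lrel.eq {a b : X → ℤ} (h : Lrel a b) {x : X} (ha : a x ≠ 0) (hb : b x ≠ 0) :
    a x = b x := by
  obtain ⟨p, h1, -, h2⟩ := h
  rw [h2 x ha hb, h1]

omit [Fintype X] [DecidableEq X] in
theorem Lrel.unique {a b : X → ℤ} (h : Lrel a b) {x y : X} (ha : a x ≠ 0) (hb : b x ≠ 0)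
    (ha' : a y ≠ 0) (hb' : b y ≠ 0) : x = y := by
  obtain ⟨p, -, -, h2⟩ := h
  rw [h2 x ha hb, h2 y ha' hb']

omit [DecidableEq X] in
theorem gram_residual {ι : Type*} [Fintype ι] [DecidableEq ι] {e : ι → X → ℤ}
    (he : ∀ k l, e k ⬝ᵥ e l = if k = l then 1 else 0) (B B' : X → ℤ) :
    (B - ∑ k, (B ⬝ᵥ e k) • e k) ⬝ᵥ (B' - ∑ k, (B' ⬝ᵥ e k) • e k) =
      B ⬝ᵥ B' - ∑ k, (B ⬝ᵥ e k) * (B' ⬝ᵥ e k) := by
  simp only [sub_dotProduct, dotProduct_sub, sum_dotProduct, dotProduct_sum, smul_dotProduct,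
    dotProduct_smul, he, smul_eq_mul, mul_ite, mul_one, mul_zero, Finset.sum_ite_eq',
    Finset.mem_univ, if_true, dotProduct_comm (e _) B', mul_comm (B' ⬝ᵥ e _)]
  simp

omit [DecidableEq X] in
theorem gram_bessel {ι : Type*} [Fintype ι] [DecidableEq ι] {e : ι → X → ℤ}
    (he : ∀ k l, e k ⬝ᵥ e l = if k = l then 1 else 0) (B : X → ℤ) :
    ∑ k, (B ⬝ᵥ e k) * (B ⬝ᵥ e k) ≤ B ⬝ᵥ B := by
  rw [← sub_nonneg, ← gram_residual he]
  exact Finset.sum_nonneg fun x _ => mul_self_nonneg _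

omit [DecidableEq X] in
theorem gram_cs {ι : Type*} [Fintype ι] [DecidableEq ι] {e : ι → X → ℤ}
    (he : ∀ k l, e k ⬝ᵥ e l = if k = l then 1 else 0) (B B' : X → ℤ) :
    (B ⬝ᵥ B' - ∑ k, (B ⬝ᵥ e k) * (B' ⬝ᵥ e k)) ^ 2 ≤
      (B ⬝ᵥ B - ∑ k, (B ⬝ᵥ e k) * (B ⬝ᵥ e k)) * (B' ⬝ᵥ B' - ∑ k, (B' ⬝ᵥ e k) * (B' ⬝ᵥ e k)) := by
  rw [← gram_residual he, ← gram_residual he, ← gram_residual he]
  simpa only [dotProduct, pow_two] using Finset.sum_mul_sq_le_sq_mul_sq Finset.univ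
    (B - ∑ k, (B ⬝ᵥ e k) • e k) (B' - ∑ k, (B' ⬝ᵥ e k) • e k)

/-- Inner product of the coordinate vectors in configuration (b). -/
def ipb (p u1 u2 u3 c1 c2 c3 p' u1' u2' u3' c1' c2' c3' : ℤ) : ℤ :=
  p * p' + u1 * u1' + u2 * u2' + u3 * u3' + (c1 - p - u1) * (c1' - p' - u1') +
    (c2 - p - u2) * (c2' - p' - u2') + (c3 - p - u3) * (c3' - p' - u3')

/-- Cauchy-Schwarz compatibility in configuration (b). -/
def csb (p u1 u2 u3 c1 c2 c3 p' u1' u2' u3' c1' c2' c3' : ℤ) : Prop :=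
  (1 - ipb p u1 u2 u3 c1 c2 c3 p' u1' u2' u3' c1' c2' c3') ^ 2 ≤
    (3 - ipb p u1 u2 u3 c1 c2 c3 p u1 u2 u3 c1 c2 c3) *
      (3 - ipb p' u1' u2' u3' c1' c2' c3' p' u1' u2' u3' c1' c2' c3')

theorem arith_b : ∀ p ∈ [(0 : ℤ), 1, -1], ∀ u ∈ [(0 : ℤ), 1, -1], ∀ w ∈ [(0 : ℤ), 1, -1],
    ipb p u w (1 - u - w) 0 0 0 p u w (1 - u - w) 0 0 0 ≤ 3 →
    ∀ p1 ∈ [(0 : ℤ), 1, -1], ∀ u1 ∈ [(0 : ℤ), 1, -1], ∀ w1 ∈ [(0 : ℤ), 1, -1],
    ipb p1 u1 w1 (0 - u1 - w1) 1 0 0 p1 u1 w1 (0 - u1 - w1) 1 0 0 ≤ 3 →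
    csb p u w (1 - u - w) 0 0 0 p1 u1 w1 (0 - u1 - w1) 1 0 0 →
    ∀ p2 ∈ [(0 : ℤ), 1, -1], ∀ u2 ∈ [(0 : ℤ), 1, -1], ∀ w2 ∈ [(0 : ℤ), 1, -1],
    ipb p2 u2 w2 (0 - u2 - w2) 0 1 0 p2 u2 w2 (0 - u2 - w2) 0 1 0 ≤ 3 →
    csb p u w (1 - u - w) 0 0 0 p2 u2 w2 (0 - u2 - w2) 0 1 0 →
    csb p1 u1 w1 (0 - u1 - w1) 1 0 0 p2 u2 w2 (0 - u2 - w2) 0 1 0 →
    ∀ p3 ∈ [(0 : ℤ), 1, -1], ∀ u3 ∈ [(0 : ℤ), 1, -1], ∀ w3 ∈ [(0 : ℤ), 1, -1],
    ipb p3 u3 w3 (0 - u3 - w3) 0 0 1 p3 u3 w3 (0 - u3 - w3) 0 0 1 ≤ 3 →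
    csb p u w (1 - u - w) 0 0 0 p3 u3 w3 (0 - u3 - w3) 0 0 1 →
    csb p1 u1 w1 (0 - u1 - w1) 1 0 0 p3 u3 w3 (0 - u3 - w3) 0 0 1 →
    csb p2 u2 w2 (0 - u2 - w2) 0 1 0 p3 u3 w3 (0 - u3 - w3) 0 0 1 → False := by
  unfold csb ipb
  decide +kernel

theorem dot_single_of {a b : X → ℤ} (hb : b ⬝ᵥ b ≤ 3) {x : X} (hx : b x ≠ 0) (h : a x = b x) :
    a ⬝ᵥ Pi.single x (b x) = 1 := by
  rw [dotProduct_single, h, mul_self_of_ne hb hx]

theorem single_dot_single {x y : X} (h : x ≠ y) (s t : ℤ) :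
    (Pi.single x s : X → ℤ) ⬝ᵥ Pi.single y t = 0 := by
  rw [dotProduct_single, Pi.single_eq_of_ne h.symm, zero_mul]

theorem single_dot_self {b : X → ℤ} (hb : b ⬝ᵥ b ≤ 3) {x : X} (hx : b x ≠ 0) :
    (Pi.single x (b x) : X → ℤ) ⬝ᵥ Pi.single x (b x) = 1 := by
  rw [dotProduct_single, Pi.single_eq_same, mul_self_of_ne hb hx]

omit [DecidableEq X] in
theorem config_b_vec {P U1 U2 U3 C1 C2 C3 D E B1 B2 B3 : X → ℤ}
    (hP : P ⬝ᵥ P = 1) (hU1 : U1 ⬝ᵥ U1 = 1) (hU2 : U2 ⬝ᵥ U2 = 1) (hU3 : U3 ⬝ᵥ U3 = 1)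
    (hPU1 : P ⬝ᵥ U1 = 0) (hPU2 : P ⬝ᵥ U2 = 0) (hPU3 : P ⬝ᵥ U3 = 0)
    (hU12 : U1 ⬝ᵥ U2 = 0) (hU13 : U1 ⬝ᵥ U3 = 0) (hU23 : U2 ⬝ᵥ U3 = 0)
    (hC1P : C1 ⬝ᵥ P = 1) (hC2P : C2 ⬝ᵥ P = 1) (hC3P : C3 ⬝ᵥ P = 1)
    (h11 : C1 ⬝ᵥ U1 = 1) (h12 : C1 ⬝ᵥ U2 = 0) (h13 : C1 ⬝ᵥ U3 = 0)
    (h21 : C2 ⬝ᵥ U1 = 0) (h22 : C2 ⬝ᵥ U2 = 1) (h23 : C2 ⬝ᵥ U3 = 0)
    (h31 : C3 ⬝ᵥ U1 = 0) (h32 : C3 ⬝ᵥ U2 = 0) (h33 : C3 ⬝ᵥ U3 = 1)
    (hD1 : D ⬝ᵥ U1 = 1) (hD2 : D ⬝ᵥ U2 = 1) (hD3 : D ⬝ᵥ U3 = 1) (hD : D ⬝ᵥ D = 3)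
    (hC1 : C1 ⬝ᵥ C1 = 3) (hC2 : C2 ⬝ᵥ C2 = 3) (hC3 : C3 ⬝ᵥ C3 = 3)
    (hC12 : C1 ⬝ᵥ C2 = 1) (hC13 : C1 ⬝ᵥ C3 = 1) (hC23 : C2 ⬝ᵥ C3 = 1)
    (hE : E ⬝ᵥ E = 3) (hB1 : B1 ⬝ᵥ B1 = 3) (hB2 : B2 ⬝ᵥ B2 = 3) (hB3 : B3 ⬝ᵥ B3 = 3)
    (hE1 : E ⬝ᵥ B1 = 1) (hE2 : E ⬝ᵥ B2 = 1) (hE3 : E ⬝ᵥ B3 = 1)
    (hB12 : B1 ⬝ᵥ B2 = 1) (hB13 : B1 ⬝ᵥ B3 = 1) (hB23 : B2 ⬝ᵥ B3 = 1)
    (e0 : E ⬝ᵥ D = 1) (e1 : E ⬝ᵥ C1 = 0) (e2 : E ⬝ᵥ C2 = 0) (e3 : E ⬝ᵥ C3 = 0)
    (b10 : B1 ⬝ᵥ D = 0) (b11 : B1 ⬝ᵥ C1 = 1) (b12 : B1 ⬝ᵥ C2 = 0) (b13 : B1 ⬝ᵥ C3 = 0)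
    (b20 : B2 ⬝ᵥ D = 0) (b21 : B2 ⬝ᵥ C1 = 0) (b22 : B2 ⬝ᵥ C2 = 1) (b23 : B2 ⬝ᵥ C3 = 0)
    (b30 : B3 ⬝ᵥ D = 0) (b31 : B3 ⬝ᵥ C1 = 0) (b32 : B3 ⬝ᵥ C2 = 0) (b33 : B3 ⬝ᵥ C3 = 1) :
    False := by
  have hDU : D = U1 + U2 + U3 := by
    rw [← sub_eq_zero, ← dotProduct_self_eq_zero]
    simp only [sub_dotProduct, dotProduct_sub, add_dotProduct, dotProduct_add, dotProduct_comm _ D,
      dotProduct_comm U2 U1, dotProduct_comm U3 U1, dotProduct_comm U3 U2, *]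
    rfl
  let e : Fin 7 → X → ℤ := ![P, U1, U2, U3, C1 - P - U1, C2 - P - U2, C3 - P - U3]
  have he : ∀ k l, e k ⬝ᵥ e l = if k = l then 1 else 0 := by
    intro k l
    fin_cases k <;> fin_cases l <;>
      simp [e, dotProduct_comm U1 P, dotProduct_comm U2 P, dotProduct_comm U3 P,
        dotProduct_comm U2 U1, dotProduct_comm U3 U1, dotProduct_comm U3 U2,
        dotProduct_comm P C1, dotProduct_comm P C2, dotProduct_comm P C3,
        dotProduct_comm U1 C1, dotProduct_comm U1 C2, dotProduct_comm U1 C3,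
        dotProduct_comm U2 C1, dotProduct_comm U2 C2, dotProduct_comm U2 C3,
        dotProduct_comm U3 C1, dotProduct_comm U3 C2, dotProduct_comm U3 C3,
        dotProduct_comm C2 C1, dotProduct_comm C3 C1, dotProduct_comm C3 C2,
        hP, hU1, hU2, hU3, hPU1, hPU2, hPU3, hU12, hU13, hU23, hC1P, hC2P, hC3P, h11, h12, h13,
        h21, h22, h23, h31, h32, h33, hC1, hC2, hC3, hC12, hC13, hC23]
  have hip : ∀ B B' : X → ℤ, ∑ k, (B ⬝ᵥ e k) * (B' ⬝ᵥ e k) =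
      ipb (B ⬝ᵥ P) (B ⬝ᵥ U1) (B ⬝ᵥ U2) (B ⬝ᵥ D - B ⬝ᵥ U1 - B ⬝ᵥ U2) (B ⬝ᵥ C1) (B ⬝ᵥ C2) (B ⬝ᵥ C3)
        (B' ⬝ᵥ P) (B' ⬝ᵥ U1) (B' ⬝ᵥ U2) (B' ⬝ᵥ D - B' ⬝ᵥ U1 - B' ⬝ᵥ U2) (B' ⬝ᵥ C1) (B' ⬝ᵥ C2)
        (B' ⬝ᵥ C3) := by
    intro B B'
    simp only [Fin.sum_univ_seven, e, ipb, hDU, dotProduct_add, Matrix.cons_val, dotProduct_sub]
    ring
  have hm : ∀ B : X → ℤ, B ⬝ᵥ B = 3 → ∀ k, B ⬝ᵥ e k ∈ [(0 : ℤ), 1, -1] := by
    intro B hB k
    have h1 := val_cases (a := fun k => B ⬝ᵥ e k) (hB ▸ gram_bessel he B) k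
    simpa using h1
  have hb := gram_bessel he
  have hcs := gram_cs he
  simp only [hip] at hb hcs
  refine arith_b _ (hm E hE 0) _ (hm E hE 1) _ (hm E hE 2) ?_ _ (hm B1 hB1 0) _ (hm B1 hB1 1) _
    (hm B1 hB1 2) ?_ ?_ _ (hm B2 hB2 0) _ (hm B2 hB2 1) _ (hm B2 hB2 2) ?_ ?_ ?_
    _ (hm B3 hB3 0) _ (hm B3 hB3 1) _ (hm B3 hB3 2) ?_ ?_ ?_ ?_
  · have := hb E
    simp only [e0, e1, e2, e3, hE] at this
    exact this
  · have := hb B1
    simp only [b10, b11, b12, b13, hB1] at this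
    exact this
  · have := hcs E B1
    simp only [e0, e1, e2, e3, hE, b10, b11, b12, b13, hB1, hE1] at this
    exact this
  · have := hb B2
    simp only [b20, b21, b22, b23, hB2] at this
    exact this
  · have := hcs E B2
    simp only [e0, e1, e2, e3, hE, b20, b21, b22, b23, hB2, hE2] at this
    exact this
  · have := hcs B1 B2
    simp only [b10, b11, b12, b13, hB1, b20, b21, b22, b23, hB2, hB12] at this
    exact this
  · have := hb B3
    simp only [b30, b31, b32, b33, hB3] at this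
    exact this
  · have := hcs E B3
    simp only [e0, e1, e2, e3, hE, b30, b31, b32, b33, hB3, hE3] at this
    exact this
  · have := hcs B1 B3
    simp only [b10, b11, b12, b13, hB1, b30, b31, b32, b33, hB3, hB13] at this
    exact this
  · have := hcs B2 B3
    simp only [b20, b21, b22, b23, hB2, b30, b31, b32, b33, hB3, hB23] at this
    exact this

section Column

variable {I : Type*} [DecidableEq I] {A B : I → X → ℤ}

theorem config_b (hA : ∀ i k, A i ⬝ᵥ A k = if i = k then 3 else 1)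
    (hB : ∀ i k, B i ⬝ᵥ B k = if i = k then 3 else 1)
    (hAB : ∀ i k, B i ⬝ᵥ A k = if i = k then 1 else 0) (hL : ∀ i k, i ≠ k → Lrel (A i) (A k))
    {i1 i2 i3 i4 : I} (h12 : i1 ≠ i2) (h13 : i1 ≠ i3) (h14 : i1 ≠ i4) (h23 : i2 ≠ i3)
    (h24 : i2 ≠ i4) (h34 : i3 ≠ i4) {p : X} (p1 : A i1 p ≠ 0) (p2 : A i2 p ≠ 0)
    (p3 : A i3 p ≠ 0) : A i4 p ≠ 0 := by
  intro p4
  have hA3 : ∀ i, A i ⬝ᵥ A i ≤ 3 := fun i => by simp [hA]
  obtain ⟨u1, e1, n1, -⟩ := hL i4 i1 h14.symm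
  obtain ⟨u2, e2, n2, -⟩ := hL i4 i2 h24.symm
  obtain ⟨u3, e3, n3, -⟩ := hL i4 i3 h34.symm
  have hz : ∀ {i k : I} {u : X}, i ≠ k → A i p ≠ 0 → A k p ≠ 0 → A i4 u ≠ 0 → A i4 u = A k u →
      A i u = 0 := by
    intro i k u hik hi hk hu he
    by_contra h
    exact hu ((hL i k hik).unique h (he ▸ hu) hi hk ▸ p4)
  have z12 := hz h12 p1 p2 n2 e2
  have z13 := hz h13 p1 p3 n3 e3
  have z21 := hz h12.symm p2 p1 n1 e1
  have z23 := hz h23 p2 p3 n3 e3
  have z31 := hz h13.symm p3 p1 n1 e1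
  have z32 := hz h23.symm p3 p2 n2 e2
  have hp : ∀ {u : X}, A i4 u ≠ 0 → p ≠ u := fun hu h => hu (h ▸ p4)
  refine config_b_vec (P := Pi.single p (A i1 p)) (U1 := Pi.single u1 (A i4 u1))
    (U2 := Pi.single u2 (A i4 u2)) (U3 := Pi.single u3 (A i4 u3)) (C1 := A i1) (C2 := A i2)
    (C3 := A i3) (D := A i4) (E := B i4) (B1 := B i1) (B2 := B i2) (B3 := B i3)
    (single_dot_self (hA3 _) p1) (single_dot_self (hA3 _) n1) (single_dot_self (hA3 _) n2)
    (single_dot_self (hA3 _) n3) (single_dot_single (hp n1) _ _) (single_dot_single (hp n2) _ _)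
    (single_dot_single (hp n3) _ _)
    (single_dot_single (fun h => n1 (by rw [e1, h, z12])) _ _)
    (single_dot_single (fun h => n1 (by rw [e1, h, z13])) _ _)
    (single_dot_single (fun h => n2 (by rw [e2, h, z23])) _ _)
    (dot_single_of (hA3 _) p1 rfl) (dot_single_of (hA3 _) p1 ((hL _ _ h12).eq p1 p2).symm)
    (dot_single_of (hA3 _) p1 ((hL _ _ h13).eq p1 p3).symm)
    (dot_single_of (hA3 _) n1 e1.symm) (by simp [z12]) (by simp [z13])
    (by simp [z21]) (dot_single_of (hA3 _) n2 e2.symm) (by simp [z23])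
    (by simp [z31]) (by simp [z32]) (dot_single_of (hA3 _) n3 e3.symm)
    (dot_single_of (hA3 _) n1 rfl) (dot_single_of (hA3 _) n2 rfl) (dot_single_of (hA3 _) n3 rfl)
    ?_ ?_ ?_ ?_ ?_ ?_ ?_ ?_ ?_ ?_ ?_ ?_ ?_ ?_ ?_ ?_ ?_ ?_ ?_ ?_ ?_ ?_ ?_ ?_ ?_ ?_ ?_ ?_ ?_ ?_ ?_ ?_
    ?_ <;>
  simp [hA, hB, hAB, h12, h13, h14, h23, h24, h34, h12.symm, h13.symm, h14.symm, h23.symm,
    h24.symm, h34.symm]

theorem arith_c : ∀ a ∈ [(0 : ℤ), 1, -1], ∀ b ∈ [(0 : ℤ), 1, -1], ∀ c ∈ [(0 : ℤ), 1, -1],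
    ∀ d ∈ [(0 : ℤ), 1, -1], (a = 0 ∨ b = 0 ∨ c = 0) → (a = 0 ∨ b = 0 ∨ d = 0) →
    (a = 0 ∨ c = 0 ∨ d = 0) → (b = 0 ∨ c = 0 ∨ d = 0) →
    (a + b + c + d) * (a + b + c + d) ≤ 2 * (a * a + b * b + c * c + d * d) ∧
    ((a + b + c + d) * (a + b + c + d) = 2 * (a * a + b * b + c * c + d * d) →
      (a + b + c + d) % 2 = 0) := by
  set_option synthInstance.maxSize 1000 in decide +kernel

theorem column_pivot [Fintype I] (h4 : 4 ≤ Fintype.card I)
    (hA : ∀ i k, A i ⬝ᵥ A k = if i = k then 3 else 1)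
    (hB : ∀ i k, B i ⬝ᵥ B k = if i = k then 3 else 1)
    (hAB : ∀ i k, B i ⬝ᵥ A k = if i = k then 1 else 0) (hL : ∀ i k, i ≠ k → Lrel (A i) (A k)) :
    ∃ p, ∀ i, A i p ≠ 0 := by
  by_contra h
  push Not at h
  obtain ⟨i1, i2, h12⟩ := Fintype.exists_pair_of_one_lt_card (α := I) (by omega)
  obtain ⟨p, e12, p1, u12⟩ := hL i1 i2 h12
  have p2 : A i2 p ≠ 0 := e12 ▸ p1
  obtain ⟨i3, p3⟩ := h p
  have h13 : i1 ≠ i3 := fun h => p1 (h ▸ p3)
  have h23 : i2 ≠ i3 := fun h => p2 (h ▸ p3)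
  obtain ⟨i4, -, hi4⟩ := Finset.exists_mem_notMem_of_card_lt_card (s := {i1, i2, i3})
    (t := Finset.univ) (lt_of_le_of_lt Finset.card_le_three (by rw [Finset.card_univ]; omega))
  simp only [Finset.mem_insert, Finset.mem_singleton, not_or] at hi4
  obtain ⟨h41, h42, h43⟩ := hi4
  have h14 := Ne.symm h41
  have h24 := Ne.symm h42
  have h34 := Ne.symm h43
  have hA3 : ∀ i, A i ⬝ᵥ A i ≤ 3 := fun i => by simp [hA]
  have h123 : ∀ x, A i1 x = 0 ∨ A i2 x = 0 ∨ A i3 x = 0 := fun x => by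
    by_contra h1
    push Not at h1
    exact h1.2.2 (u12 x h1.1 h1.2.1 ▸ p3)
  have hc := fun x => arith_c (A i1 x) (by simpa using val_cases (hA3 _) x) (A i2 x)
    (by simpa using val_cases (hA3 _) x) (A i3 x) (by simpa using val_cases (hA3 _) x) (A i4 x)
    (by simpa using val_cases (hA3 _) x) (h123 x)
    (by
      by_contra h1
      push Not at h1
      have := config_b hA hB hAB hL h12 h14 h13 h24 h23 h43 h1.1 h1.2.1 h1.2.2
      have := h123 x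
      tauto)
    (by
      by_contra h1
      push Not at h1
      have := config_b hA hB hAB hL h13 h14 h12 h34 h23.symm h42 h1.1 h1.2.1 h1.2.2
      have := h123 x
      tauto)
    (by
      by_contra h1
      push Not at h1
      have := config_b hA hB hAB hL h23 h24 h12.symm h34 h13.symm h41 h1.1 h1.2.1 h1.2.2
      have := h123 x
      tauto)
  have h1 : (A i1 + A i2 + A i3 + A i4) ⬝ᵥ (A i1 + A i2 + A i3 + A i4) =
      2 * (A i1 ⬝ᵥ A i1 + A i2 ⬝ᵥ A i2 + A i3 ⬝ᵥ A i3 + A i4 ⬝ᵥ A i4) := by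
    simp [hA, h12, h13, h14, h23, h24, h34, h12.symm, h13.symm, h14.symm, h23.symm, h24.symm,
      h34.symm]
  simp only [dotProduct, ← Finset.sum_add_distrib, Finset.mul_sum, Pi.add_apply] at h1
  have h2 := (Finset.sum_eq_sum_iff_of_le fun x _ => (hc x).1).mp h1
  have h3 : 2 ∣ B i1 ⬝ᵥ (A i1 + A i2 + A i3 + A i4) :=
    Finset.dvd_sum fun x hx => (Int.dvd_of_emod_eq_zero ((hc x).2 (h2 x hx))).mul_left _
  simp [hAB, h12, h13, h14] at h3

end Column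

theorem exists_xyz {I J : Type*} [Fintype I] [Fintype J] [DecidableEq I] [DecidableEq J]
    (hI : 4 ≤ Fintype.card I) (hJ : Fintype.card J = 2 ∨ 4 ≤ Fintype.card J)
    {β : I → J → X → ℤ} {d : X → ℤ} (hd : ∀ x, d x ≠ 0) {c : ℤ} (hβd : ∀ i j, β i j ⬝ᵥ d = c)
    (hβ : ∀ i j k l, β i j ⬝ᵥ β k l =
      if i = k then (if j = l then 3 else 1) else (if j = l then 1 else 0)) :
    ∃ (x : I → X → ℤ) (y : J → X → ℤ),
      (∀ i k, x i ⬝ᵥ x k = if i = k then 1 else 0) ∧ (∀ j l, y j ⬝ᵥ y l = if j = l then 1 else 0) ∧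
      (∀ i j, x i ⬝ᵥ y j = 0) ∧ (∀ i j k, β i j ⬝ᵥ x k = if i = k then 1 else 0) ∧
      (∀ i j l, β i j ⬝ᵥ y l = if j = l then 1 else 0) ∧
      ∀ p, (∀ i j, β i j p = 0) → (∀ i, x i p = 0) ∧ ∀ j, y j p = 0 := by
  have h3 : ∀ i j, β i j ⬝ᵥ β i j ≤ 3 := fun i j => by simp [hβ]
  have hLc : ∀ j i k, i ≠ k → Lrel (β i j) (β k j) := fun j i k h =>
    lrel_of (by simp [hβ]) (by simp [hβ]) (by simp [hβ, h]) hd (by rw [hβd, hβd])
  have hLr : ∀ i j l, j ≠ l → Lrel (β i j) (β i l) := fun i j l h =>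
    lrel_of (by simp [hβ]) (by simp [hβ]) (by simp [hβ, h]) hd (by rw [hβd, hβd])
  have hJ' : ∀ j : J, ∃ l, l ≠ j := fun j => Fintype.exists_ne_of_one_lt_card (by omega) j
  have hI' : ∀ i : I, ∃ k, k ≠ i := fun i => Fintype.exists_ne_of_one_lt_card (by omega) i
  have hcol : ∀ j, ∃ q, ∀ i, β i j q ≠ 0 := fun j => by
    obtain ⟨l, hl⟩ := hJ' j
    exact column_pivot (A := fun i => β i j) (B := fun i => β i l) hI (fun i k => by simp [hβ])
      (fun i k => by simp [hβ]) (fun i k => by simp [hβ, hl]) (hLc j)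
  have hrow : ∀ i, ∃ p, ∀ j, β i j p ≠ 0 := fun i => by
    rcases hJ with hJ | hJ
    · obtain ⟨j, l, hjl, h2⟩ := Finset.card_eq_two.mp hJ
      obtain ⟨p, h4, h5, -⟩ := hLr i j l hjl
      refine ⟨p, fun m => ?_⟩
      have := h2 ▸ Finset.mem_univ m
      rcases Finset.mem_insert.mp this with rfl | h6
      · exact h5
      · rw [Finset.mem_singleton.mp h6, ← h4]; exact h5
    · obtain ⟨k, hk⟩ := hI' i
      exact column_pivot (A := fun j => β i j) (B := fun j => β k j) hJ (fun j l => by simp [hβ])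
        (fun j l => by simp [hβ]) (fun j l => by simp [hβ, hk]) (hLr i)
  choose q hq using hcol
  choose p hp using hrow
  have hq0 : ∀ i j l, j ≠ l → β i j (q l) = 0 := by
    intro i j l hjl
    by_contra h1
    have h2 : ∀ k, k ≠ i → ∃ t, t ≠ q l ∧ β i j t ≠ 0 ∧ β k l t ≠ 0 := by
      intro k hk
      by_contra h4
      push Not at h4
      have h5 := hβ i j k l
      rw [if_neg hk.symm, if_neg hjl, dotProduct, Finset.sum_eq_single (q l) (fun t _ ht => by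
        by_cases h6 : β i j t = 0
        · simp [h6]
        · simp [h4 t ht h6]) (by simp)] at h5
      exact mul_ne_zero h1 (hq l k) h5
    have : Nonempty X := ⟨q l⟩
    choose! t ht1 ht2 ht3 using h2
    have h4 : Set.InjOn t ((Finset.univ.erase i : Finset I) : Set I) := by
      intro k hk k' hk' he
      have hk := (Finset.mem_erase.mp hk).1
      have hk' := (Finset.mem_erase.mp hk').1
      by_contra h5
      exact ht1 k hk ((hLc l k k' h5).unique (ht3 k hk) (he ▸ ht3 k' hk') (hq l k) (hq l k'))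
    have h5 : ∑ s ∈ insert (q l) ((Finset.univ.erase i).image t), β i j s * β i j s ≤
        β i j ⬝ᵥ β i j := Finset.sum_le_sum_of_subset_of_nonneg (Finset.subset_univ _)
          fun s _ _ => mul_self_nonneg _
    rw [Finset.sum_insert (by
      simp only [Finset.mem_image, not_exists, not_and]
      exact fun k hk => ht1 k (Finset.mem_erase.mp hk).1), Finset.sum_image h4,
      mul_self_of_ne (h3 i j) h1, Finset.sum_congr rfl fun k hk =>
        mul_self_of_ne (h3 i j) (ht2 k (Finset.mem_erase.mp hk).1)] at h5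
    have h6 := h3 i j
    simp only [Finset.sum_const, Finset.card_erase_of_mem (Finset.mem_univ i), Finset.card_univ,
      nsmul_eq_mul, mul_one] at h5
    omega
  have hpq : ∀ i j, p i ≠ q j := fun i j h => by
    obtain ⟨l, hl⟩ := hJ' j
    exact hp i l (h ▸ hq0 i l j hl)
  have hp0 : ∀ i j k, i ≠ k → β i j (p k) = 0 := by
    intro i j k hik
    by_contra h1
    exact hpq k j ((hLc j i k hik).unique h1 (hp k j) (hq j i) (hq j k))
  have : Nonempty I := Fintype.card_pos_iff.mp (by omega)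
  have : Nonempty J := Fintype.card_pos_iff.mp (by omega)
  inhabit I
  inhabit J
  refine ⟨fun i => Pi.single (p i) (β i default (p i)), fun j => Pi.single (q j) (β default j (q j)),
    fun i k => ?_, fun j l => ?_, fun i j => single_dot_single (hpq i j) _ _, fun i j k => ?_,
    fun i j l => ?_, fun s hs => ⟨fun i => ?_, fun j => ?_⟩⟩
  · split_ifs with h
    · subst h; exact single_dot_self (h3 _ _) (hp _ _)
    · exact single_dot_single (fun h1 : p i = p k => hp i default (h1 ▸ hp0 i default k h)) _ _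
  · split_ifs with h
    · subst h; exact single_dot_self (h3 _ _) (hq _ _)
    · exact single_dot_single (fun h1 : q j = q l => hq j default (h1 ▸ hq0 default j l h)) _ _
  · split_ifs with h
    · subst h
      refine dot_single_of (h3 _ _) (hp _ _) ?_
      by_cases h1 : j = default
      · rw [h1]
      · exact (hLr i j default h1).eq (hp _ _) (hp _ _)
    · simp [hp0 i j k h]
  · split_ifs with h
    · subst h
      refine dot_single_of (h3 _ _) (hq _ _) ?_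
      by_cases h1 : i = default
      · rw [h1]
      · exact (hLc j i default h1).eq (hq _ _) (hq _ _)
    · simp [hq0 i j l h]
  · exact Pi.single_eq_of_ne (fun h : s = p i => hp i default (h ▸ hs i default)) _
  · exact Pi.single_eq_of_ne (fun h : s = q j => hq j default (h ▸ hs default j)) _

theorem exists_eta {I J : Type*} [Fintype I] [Fintype J] [DecidableEq I] [DecidableEq J]
    (i0 : I) (j0 : J) (hI : 5 ≤ Fintype.card I) (hJ : Fintype.card J = 3 ∨ 5 ≤ Fintype.card J)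
    {β : I → J → X → ℤ} {d : X → ℤ} (hd : ∀ x, d x ≠ 0) {c : ℤ} (o : X)
    (hβd : ∀ i j, i ≠ i0 → j ≠ j0 → β i j ⬝ᵥ d = c)
    (hβo : ∀ i j, i ≠ i0 → j ≠ j0 → β i j o = 0)
    (hβ : ∀ i j k l, i ≠ i0 → j ≠ j0 → k ≠ i0 → l ≠ j0 → β i j ⬝ᵥ β k l =
      if i = k then (if j = l then 3 else 1) else (if j = l then 1 else 0)) :
    ∃ η : I → J → X → ℤ, (∀ i j k l, η i j ⬝ᵥ η k l = if i = k ∧ j = l then 1 else 0) ∧
      η i0 j0 = Pi.single o 1 ∧
      ∀ i j, i ≠ i0 → j ≠ j0 → β i j + Pi.single o 1 = η i j - η i0 j - η i j0 + η i0 j0 := by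
  obtain ⟨x, y, hx, hy, hxy, hβx, hβy, h0⟩ := exists_xyz (I := {i // i ≠ i0}) (J := {j // j ≠ j0})
    (by rw [Fintype.card_subtype_compl, Fintype.card_subtype_eq]; omega)
    (by rw [Fintype.card_subtype_compl, Fintype.card_subtype_eq]; omega)
    (β := fun i j => β i j) hd (fun i j => hβd i j i.2 j.2)
    (fun i j k l => by simpa only [Subtype.ext_iff] using hβ i j k l i.2 j.2 k.2 l.2)
  obtain ⟨hxo, hyo⟩ := h0 o fun i j => hβo i j i.2 j.2
  let x' : I → X → ℤ := fun i => if h : i = i0 then 0 else x ⟨i, h⟩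
  let y' : J → X → ℤ := fun j => if h : j = j0 then 0 else y ⟨j, h⟩
  have hx' : ∀ i k, i ≠ i0 → k ≠ i0 → x' i ⬝ᵥ x' k = if i = k then 1 else 0 := fun i k hi hk => by
    simp [x', hi, hk, hx]
  have hy' : ∀ j l, j ≠ j0 → l ≠ j0 → y' j ⬝ᵥ y' l = if j = l then 1 else 0 := fun j l hj hl => by
    simp [y', hj, hl, hy]
  have hxy' : ∀ i j, i ≠ i0 → j ≠ j0 → x' i ⬝ᵥ y' j = 0 := fun i j hi hj => by
    simp [x', y', hi, hj, hxy]
  have hyx' : ∀ i j, i ≠ i0 → j ≠ j0 → y' j ⬝ᵥ x' i = 0 := fun i j hi hj => by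
    rw [dotProduct_comm, hxy' i j hi hj]
  have hβx' : ∀ i j k, i ≠ i0 → j ≠ j0 → k ≠ i0 → β i j ⬝ᵥ x' k = if i = k then 1 else 0 :=
    fun i j k hi hj hk => by simpa [x', hk] using hβx ⟨i, hi⟩ ⟨j, hj⟩ ⟨k, hk⟩
  have hβy' : ∀ i j l, i ≠ i0 → j ≠ j0 → l ≠ j0 → β i j ⬝ᵥ y' l = if j = l then 1 else 0 :=
    fun i j l hi hj hl => by simpa [y', hl] using hβy ⟨i, hi⟩ ⟨j, hj⟩ ⟨l, hl⟩
  have hxβ' : ∀ i j k, i ≠ i0 → j ≠ j0 → k ≠ i0 → x' k ⬝ᵥ β i j = if k = i then 1 else 0 :=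
    fun i j k hi hj hk => by rw [dotProduct_comm, hβx' i j k hi hj hk]; simp [eq_comm]
  have hyβ' : ∀ i j l, i ≠ i0 → j ≠ j0 → l ≠ j0 → y' l ⬝ᵥ β i j = if l = j then 1 else 0 :=
    fun i j l hi hj hl => by rw [dotProduct_comm, hβy' i j l hi hj hl]; simp [eq_comm]
  have hxo' : ∀ i, i ≠ i0 → x' i o = 0 := fun i hi => by simp [x', hi, hxo]
  have hyo' : ∀ j, j ≠ j0 → y' j o = 0 := fun j hj => by simp [y', hj, hyo]
  clear_value x' y'
  refine ⟨fun i j => if i = i0 then (if j = j0 then Pi.single o 1 else -y' j) else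
    (if j = j0 then -x' i else β i j - x' i - y' j), fun i j k l => ?_, by simp,
    fun i j hi hj => by simp [hi, hj]⟩
  by_cases hi : i = i0 <;> by_cases hj : j = j0 <;> by_cases hk : k = i0 <;>
    by_cases hl : l = j0 <;>
    simp [hi, hj, hk, hl, hx', hy', hxy', hyx', hβx', hβy', hxβ', hyβ', hxo', hyo', hβo, hβ,
      eq_comm (a := i0), eq_comm (a := j0)]
  by_cases h1 : i = k <;> by_cases h2 : j = l <;> simp [h1, h2]

/-- The combinatorial core of Peterfalvi (3.8). -/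
theorem small_support {I J : Type*} [Fintype I] [Fintype J] [DecidableEq I] [DecidableEq J]
    {R : Type*} [AddCommGroup R] [DecidableEq R] {a : I → J → R}
    (ha : ∀ i1 i2 j1 j2, a i1 j1 + a i2 j2 = a i1 j2 + a i2 j1)
    (hI : 3 ≤ Fintype.card I) (hJ : 3 ≤ Fintype.card J)
    (hIJ : Fintype.card I + 2 ≤ Fintype.card J ∨ Fintype.card J + 2 ≤ Fintype.card I)
    (hN : (Finset.univ.filter fun ij : I × J => a ij.1 ij.2 ≠ 0).card <
      2 * min (Fintype.card I) (Fintype.card J)) {i0 : I} {j0 : J} (h0 : a i0 j0 ≠ 0) :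
    (∀ i j, a i j = if j = j0 then a i0 j0 else 0) ∨
      ∀ i j, a i j = if i = i0 then a i0 j0 else 0 := by
  set S := Finset.univ.filter fun ij : I × J => a ij.1 ij.2 ≠ 0 with hS
  by_cases hr : ∃ i1, ∀ j, a i1 j = 0
  · obtain ⟨i1, h1⟩ := hr
    have h2 : ∀ i j, a i j = a i j0 := fun i j => by simpa [h1] using ha i i1 j j0
    refine Or.inr fun i j => ?_
    rw [h2]
    split_ifs with h3
    · rw [h3]
    · by_contra h4
      have : ({i, i0} : Finset I) ×ˢ (Finset.univ : Finset J) ⊆ S := by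
        rintro ⟨k, l⟩ hk
        simp only [Finset.mem_product, Finset.mem_insert, Finset.mem_singleton] at hk
        rcases hk.1 with rfl | rfl <;> simpa [hS, h2 _ l]
      have := Finset.card_le_card this
      rw [Finset.card_product, Finset.card_pair h3, Finset.card_univ] at this
      omega
  by_cases hc : ∃ j1, ∀ i, a i j1 = 0
  · obtain ⟨j1, h1⟩ := hc
    have h2 : ∀ i j, a i j = a i0 j := fun i j => by simpa [h1] using ha i i0 j j1
    refine Or.inl fun i j => ?_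
    rw [h2]
    split_ifs with h3
    · rw [h3]
    · by_contra h4
      have : (Finset.univ : Finset I) ×ˢ ({j, j0} : Finset J) ⊆ S := by
        rintro ⟨k, l⟩ hk
        simp only [Finset.mem_product, Finset.mem_insert, Finset.mem_singleton] at hk
        rcases hk.2 with rfl | rfl <;> simpa [hS, h2 k]
      have := Finset.card_le_card this
      rw [Finset.card_product, Finset.card_pair h3, Finset.card_univ] at this
      omega
  exfalso
  push Not at hr hc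
  have h1 : ∃ i1 j2, a i1 j2 ≠ 0 ∧ ∀ j, j ≠ j2 → a i1 j = 0 := by
    by_contra h1
    push Not at h1
    choose f hf using hr
    choose g hg hg' using fun i => h1 i (f i) (hf i)
    have : (Finset.univ.image fun i => (i, f i)) ∪ (Finset.univ.image fun i => (i, g i)) ⊆ S := by
      intro ij hij
      simp only [Finset.mem_union, Finset.mem_image, Finset.mem_univ, true_and] at hij
      rcases hij with ⟨i, rfl⟩ | ⟨i, rfl⟩ <;> simp [hS, hf, hg']
    have := Finset.card_le_card this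
    rw [Finset.card_union_of_disjoint, Finset.card_image_of_injective _ fun _ _ h => congrArg Prod.fst h,
      Finset.card_image_of_injective _ fun _ _ h => congrArg Prod.fst h, Finset.card_univ] at this
    · omega
    · simp only [Finset.disjoint_left, Finset.mem_image, Finset.mem_univ, true_and, not_exists]
      rintro _ ⟨i, rfl⟩ k hk
      obtain ⟨rfl, h3⟩ := Prod.ext_iff.mp hk
      exact hg _ h3
  have h2 : ∃ j1 i2, a i2 j1 ≠ 0 ∧ ∀ i, i ≠ i2 → a i j1 = 0 := by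
    by_contra h1
    push Not at h1
    choose f hf using hc
    choose g hg hg' using fun i => h1 i (f i) (hf i)
    have : (Finset.univ.image fun i => (f i, i)) ∪ (Finset.univ.image fun i => (g i, i)) ⊆ S := by
      intro ij hij
      simp only [Finset.mem_union, Finset.mem_image, Finset.mem_univ, true_and] at hij
      rcases hij with ⟨i, rfl⟩ | ⟨i, rfl⟩ <;> simp [hS, hf, hg']
    have := Finset.card_le_card this
    rw [Finset.card_union_of_disjoint, Finset.card_image_of_injective _ fun _ _ h => congrArg Prod.snd h,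
      Finset.card_image_of_injective _ fun _ _ h => congrArg Prod.snd h, Finset.card_univ] at this
    · omega
    · simp only [Finset.disjoint_left, Finset.mem_image, Finset.mem_univ, true_and, not_exists]
      rintro _ ⟨i, rfl⟩ k hk
      obtain ⟨h3, rfl⟩ := Prod.ext_iff.mp hk
      exact hg _ h3
  obtain ⟨i1, j2, h3, h4⟩ := h1
  obtain ⟨j1, i2, h5, h6⟩ := h2
  by_cases h7 : j1 = j2
  · subst h7
    have h8 : i1 = i2 := by
      by_contra h8
      exact h3 (h6 i1 h8)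
    subst h8
    have : (Finset.univ.erase i1) ×ˢ (Finset.univ.erase j1) ⊆ S := by
      rintro ⟨k, l⟩ hk
      simp only [Finset.mem_product, Finset.mem_erase, Finset.mem_univ, and_true] at hk
      have h9 := ha k i1 l j1
      rw [h6 k hk.1, h4 l hk.2, add_zero] at h9
      simp only [hS, Finset.mem_filter, Finset.mem_univ, true_and]
      intro h10
      rw [h10, zero_add] at h9
      exact h3 h9
    have := Finset.card_le_card this
    rw [Finset.card_product, Finset.card_erase_of_mem (Finset.mem_univ _),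
      Finset.card_erase_of_mem (Finset.mem_univ _), Finset.card_univ, Finset.card_univ] at this
    obtain ⟨m, hm⟩ := Nat.exists_eq_add_of_le hI
    obtain ⟨n, hn⟩ := Nat.exists_eq_add_of_le hJ
    rw [hm, hn] at this hN hIJ
    have h9 : (3 + m - 1) * (3 + n - 1) = 4 + 2 * m + 2 * n + m * n := by
      rw [show 3 + m - 1 = 2 + m by omega, show 3 + n - 1 = 2 + n by omega]; ring
    omega
  · have h8 : a i1 j1 = 0 := h4 j1 h7
    have : (Finset.univ.erase i2) ×ˢ {j2} ∪ {i2} ×ˢ (Finset.univ.erase j2) ⊆ S := by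
      rintro ⟨k, l⟩ hk
      simp only [Finset.mem_union, Finset.mem_product, Finset.mem_erase, Finset.mem_univ, and_true,
        Finset.mem_singleton] at hk
      have h9 := ha k i1 l j1
      simp only [hS, Finset.mem_filter, Finset.mem_univ, true_and]
      rcases hk with ⟨hk, rfl⟩ | ⟨rfl, hl⟩
      · rw [h8, h6 k hk, add_zero, zero_add] at h9
        rwa [h9]
      · rw [h8, h4 l hl, add_zero, add_zero] at h9
        rwa [h9]
    have := Finset.card_le_card this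
    rw [Finset.card_union_of_disjoint, Finset.card_product, Finset.card_product,
      Finset.card_erase_of_mem (Finset.mem_univ _), Finset.card_erase_of_mem (Finset.mem_univ _),
      Finset.card_univ, Finset.card_univ, Finset.card_singleton, Finset.card_singleton] at this
    · omega
    · simp only [Finset.disjoint_left, Finset.mem_product, Finset.mem_erase, Finset.mem_singleton]
      exact fun _ h9 h10 => h9.1.1 h10.1

end CfsgLib.FT.PF3Comb
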