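import Cfsg.Agent.Lib.FT.PF2
import Cfsg.Agent.Lib.FT.PF3Comb

/-!
# Peterfalvi, Section 3: TI-subsets with cyclic normalizers
-/

set_option autoImplicit false
set_option linter.unusedSectionVars false

namespace CfsgLib.FT

open Cfsg Subgroup
open scoped ComplexConjugate commutatorElement

variable {G : Type*} [Group G] [Fintype G]
variable {G0 W W1 W2 : Subgroup G} {φ ψ χ : G → ℂ}

theorem mem_cycTIset {x : G} : x ∈ cycTIset W W1 W2 ↔ x ∈ W ∧ x ∉ W1 ∧ x ∉ W2 := by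
  simp [cycTIset]

theorem cycTIset_comm : cycTIset W W2 W1 = cycTIset W W1 W2 := by
  simp only [cycTIset, Set.union_comm]

theorem cycTIset_subset : cycTIset W W1 W2 ⊆ W := fun _ h => h.1

theorem one_notMem_cycTIset : (1 : G) ∉ cycTIset W W1 W2 :=
  fun h => (mem_cycTIset.mp h).2.1 W1.one_mem

theorem CycTI.symm (h : CycTI G0 W W1 W2) : CycTI G0 W W2 W1 :=
  ⟨by rw [sup_comm, h.sup_eq], by rw [inf_comm, h.inf_eq], h.cyclic, h.odd,
    by rw [cycTIset_comm]; exact h.normedTI⟩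

theorem CycTI.W1_le (h : CycTI G0 W W1 W2) : W1 ≤ W := h.sup_eq ▸ le_sup_left

theorem CycTI.W2_le (h : CycTI G0 W W1 W2) : W2 ≤ W := h.sup_eq ▸ le_sup_right

theorem CycTI.le (h : CycTI G0 W W1 W2) : W ≤ G0 := h.normedTI.le

theorem CycTI.comm (h : CycTI G0 W W1 W2) : ∀ x ∈ W, ∀ y ∈ W, x * y = y * x := by
  exact comm_of_isCyclic h.cyclic

theorem CycTI.dprod (h : CycTI G0 W W1 W2) : DProdIn W1 W2 W := by
  exact dprodIn_of_sup h.sup_eq h.inf_eq fun x hx y hy => h.comm x (h.W1_le hx) y (h.W2_le hy)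

theorem CycTI.W1_ne (h : CycTI G0 W W1 W2) : W1 ≠ ⊥ := by
  rintro rfl
  obtain ⟨x, hx⟩ := h.normedTI.nonempty
  obtain ⟨h1, -, h2⟩ := mem_cycTIset.mp hx
  rw [← h.sup_eq, bot_sup_eq] at h1
  exact h2 h1

theorem CycTI.W2_ne (h : CycTI G0 W W1 W2) : W2 ≠ ⊥ := h.symm.W1_ne

theorem CycTI.W1_cyclic (h : CycTI G0 W W1 W2) : IsCyclic W1 := by
  have := h.cyclic
  exact isCyclic_of_le h.W1_le

theorem CycTI.W2_cyclic (h : CycTI G0 W W1 W2) : IsCyclic W2 := h.symm.W1_cyclic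

theorem CycTI.card_eq (h : CycTI G0 W W1 W2) : Nat.card W = Nat.card W1 * Nat.card W2 :=
  IsComplIn_card h.dprod.compl

theorem CycTI.odd_W1 (h : CycTI G0 W W1 W2) : Odd (Nat.card W1) := by
  exact odd_card_of_le h.W1_le h.odd

theorem CycTI.odd_W2 (h : CycTI G0 W W1 W2) : Odd (Nat.card W2) := h.symm.odd_W1

theorem CycTI.three_le_W1 (h : CycTI G0 W W1 W2) : 3 ≤ Nat.card W1 := by
  have h1 := (one_lt_card_iff_ne_bot _).mpr h.W1_ne
  obtain ⟨k, hk⟩ := h.odd_W1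
  omega

theorem CycTI.three_le_W2 (h : CycTI G0 W W1 W2) : 3 ≤ Nat.card W2 := h.symm.three_le_W1

theorem DProdIn.coprime_of_isCyclic (h : DProdIn W1 W2 W) (hc : IsCyclic W) :
    (Nat.card W1).Coprime (Nat.card W2) := by
  obtain ⟨g, hg, h1, -⟩ := exists_generator hc
  obtain ⟨x, hx, y, hy, rfl⟩ := h.compl.2.2.2 g hg
  have h2 := (show Commute x y from h.comm x hx y hy).orderOf_mul_dvd_lcm.trans
    (lcm_dvd_lcm (orderOf_dvd_card_of_mem hx) (orderOf_dvd_card_of_mem hy))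
  rw [h1, IsComplIn_card h.compl, ← Nat.gcd_mul_lcm] at h2
  have h3 : 0 < (Nat.card W1).lcm (Nat.card W2) := Nat.lcm_pos Nat.card_pos Nat.card_pos
  exact Nat.dvd_one.mp (Nat.dvd_of_mul_dvd_mul_right h3 (by rwa [one_mul]))

theorem DProdIn.mem_left_iff (h : DProdIn W1 W2 W) (hc : (Nat.card W1).Coprime (Nat.card W2))
    {x : G} (hx : x ∈ W) : x ∈ W1 ↔ (orderOf x).Coprime (Nat.card W2) :=
  ⟨fun h1 => hc.coprime_dvd_left (orderOf_dvd_card_of_mem h1),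
    fun h1 => mem_of_coprime_relIndex h.normal_left hx (by rwa [IsComplIn_relIndex h.compl])⟩

theorem CycTI.coprime (h : CycTI G0 W W1 W2) : (Nat.card W1).Coprime (Nat.card W2) := by
  exact h.dprod.coprime_of_isCyclic h.cyclic

theorem CycTI.card_irr_W1 (h : CycTI G0 W W1 W2) : Fintype.card (Irr W1) = Nat.card W1 :=
  card_irr_of_isCyclic h.W1_cyclic

theorem CycTI.card_irr_W2 (h : CycTI G0 W W1 W2) : Fintype.card (Irr W2) = Nat.card W2 :=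
  card_irr_of_isCyclic h.W2_cyclic

theorem CycTI.lin_W1 (h : CycTI G0 W W1 W2) (i : Irr W1) : IsLin W1 i :=
  i.2.isLin_of_isCyclic h.W1_cyclic

theorem CycTI.lin_W2 (h : CycTI G0 W W1 W2) (j : Irr W2) : IsLin W2 j :=
  j.2.isLin_of_isCyclic h.W2_cyclic

theorem mul_mem_cycTIset' (h : IsComplIn W1 W2 W) {x y : G} (hx : x ∈ W1) (hy : y ∈ W2) :
    x * y ∈ cycTIset W W1 W2 ↔ x ≠ 1 ∧ y ≠ 1 := by
  rw [mem_cycTIset, W1.mul_mem_cancel_left hx, W2.mul_mem_cancel_right hy,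
    and_iff_right (W.mul_mem (h.1 hx) (h.2.1 hy)), and_comm]
  refine and_congr (not_congr ⟨fun h1 => ?_, fun h1 => h1 ▸ W2.one_mem⟩)
    (not_congr ⟨fun h1 => ?_, fun h1 => h1 ▸ W1.one_mem⟩)
  · rw [← mem_bot, ← h.2.2.1]; exact ⟨hx, h1⟩
  · rw [← mem_bot, ← h.2.2.1]; exact ⟨h1, hy⟩

theorem CycTI.card_cycTIset (h : CycTI G0 W W1 W2) :
    (cycTIset W W1 W2).ncard = (Nat.card W1 - 1) * (Nat.card W2 - 1) := by
  classical
  rw [← card_elems_set, ← card_elems, ← card_elems,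
    ← Finset.card_erase_of_mem (mem_elems.mpr W1.one_mem),
    ← Finset.card_erase_of_mem (mem_elems.mpr W2.one_mem), ← Finset.card_product, eq_comm]
  refine Finset.card_bij (fun p _ => p.1 * p.2) (fun p hp => ?_) (fun p hp q hq he => ?_)
    fun w hw => ?_
  · simp only [Finset.mem_product, Finset.mem_erase, mem_elems] at hp
    exact mem_elems.mpr ((mul_mem_cycTIset' h.dprod.compl hp.1.2 hp.2.2).mpr ⟨hp.1.1, hp.2.1⟩)
  · simp only [Finset.mem_product, Finset.mem_erase, mem_elems] at hp hq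
    have h1 : q.1⁻¹ * p.1 ∈ W1 ⊓ W2 := mem_inf.mpr ⟨W1.mul_mem (W1.inv_mem hq.1.2) hp.1.2, by
      rw [show q.1⁻¹ * p.1 = q.1⁻¹ * (p.1 * p.2) * p.2⁻¹ by group, he, inv_mul_cancel_left]
      exact W2.mul_mem hq.2.2 (W2.inv_mem hp.2.2)⟩
    rw [h.inf_eq, mem_bot, inv_mul_eq_one] at h1
    rw [h1] at he
    exact Prod.ext h1.symm (mul_left_cancel he)
  · obtain ⟨x, hx, y, hy, rfl⟩ := h.dprod.compl.2.2.2 w (mem_elems.mp hw).1
    have := (mul_mem_cycTIset' h.dprod.compl hx hy).mp (mem_elems.mp hw)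
    exact ⟨(x, y), by simp [hx, hy, this.1, this.2], rfl⟩

theorem CycTI.mul_mem_cycTIset (h : CycTI G0 W W1 W2) {x y : G} (hx : x ∈ W1) (hy : y ∈ W2) :
    x * y ∈ cycTIset W W1 W2 ↔ x ≠ 1 ∧ y ≠ 1 := by
  exact mul_mem_cycTIset' h.dprod.compl hx hy

theorem CycTI.exists_mul (h : CycTI G0 W W1 W2) {w : G} (hw : w ∈ cycTIset W W1 W2) :
    ∃ x ∈ W1, ∃ y ∈ W2, x ≠ 1 ∧ y ≠ 1 ∧ w = x * y := by
  obtain ⟨x, hx, y, hy, rfl⟩ := h.dprod.compl.2.2.2 w hw.1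
  have := (h.mul_mem_cycTIset hx hy).mp hw
  exact ⟨x, hx, y, hy, this.1, this.2, rfl⟩

theorem cycTI_of_selfNormalizing (h : IsSelfNormalizingCyclic W1 W2)
    (hodd : Odd (Nat.card ↥(W1 ⊔ W2))) : CycTI ⊤ (W1 ⊔ W2) W1 W2 := by
  obtain ⟨h1, h2, h3, h4, h5, h6⟩ := h
  have hd := dprodIn_of_sup rfl h3 h4
  have hc := hd.coprime_of_isCyclic h5
  have hW := comm_of_isCyclic h5
  obtain ⟨x, hx, hx1⟩ := (bot_or_exists_ne_one W1).resolve_left h1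
  obtain ⟨y, hy, hy1⟩ := (bot_or_exists_ne_one W2).resolve_left h2
  have hne : (cycTIset (W1 ⊔ W2) W1 W2).Nonempty :=
    ⟨x * y, (mul_mem_cycTIset' hd.compl hx hy).mpr ⟨hx1, hy1⟩⟩
  have hC : ∀ a ∈ cycTIset (W1 ⊔ W2) W1 W2, ∀ z, z ∈ W1 ⊔ W2 ↔ z * a * z⁻¹ = a := by
    intro a ha z
    rw [← h6 {a} (Set.singleton_subset_iff.mpr ha) (by simp), mem_set_normalizer_iff]
    refine ⟨fun h7 => (h7 a).mp rfl, fun h7 b => ⟨fun h8 => by rw [h8]; exact h7, fun h8 => ?_⟩⟩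
    exact (MulAut.conj z).injective (h8.trans h7.symm)
  refine ⟨rfl, h3, h5, hodd, hne, le_top, fun z hz a ha => by rwa [(hC a ha z).mp hz],
    fun g _ a ha hg => ?_⟩
  have h7 : ∀ z, z ∈ W1 ⊔ W2 ↔ g * z * g⁻¹ ∈ W1 ⊔ W2 := fun z => by
    rw [hC a ha, hC _ hg, ← (MulAut.conj g).injective.eq_iff]
    simp [mul_assoc]
  rw [← h6 _ subset_rfl hne, mem_set_normalizer_iff]
  intro z
  change z ∈ cycTIset _ _ _ ↔ g * z * g⁻¹ ∈ cycTIset _ _ _
  rw [mem_cycTIset, mem_cycTIset, ← h7]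
  refine and_congr_right fun hz => ?_
  rw [hd.mem_left_iff hc hz, hd.mem_left_iff hc ((h7 z).mp hz), hd.symm.mem_left_iff hc.symm hz,
    hd.symm.mem_left_iff hc.symm ((h7 z).mp hz), Frob.orderOf_conj_eq]

theorem CycTI.restrict (h : CycTI G0 W W1 W2) {G1 : Subgroup G} (h1 : W ≤ G1) (h2 : G1 ≤ G0) :
    CycTI G1 W W1 W2 :=
  ⟨h.sup_eq, h.inf_eq, h.cyclic, h.odd, h.normedTI.restrict h1 h2⟩

/-! ### The linear characters `ω_ij` -/

theorem CycTI.cycW_lin (h : CycTI G0 W W1 W2) (i : Irr W1) (j : Irr W2) :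
    IsLin W (cycW W1 W2 i j) := by
  exact (h.dprod.isIrr i.irr j.irr).isLin_of_isCyclic h.cyclic

theorem CycTI.cycW_irr (h : CycTI G0 W W1 W2) (i : Irr W1) (j : Irr W2) :
    IsIrr W (cycW W1 W2 i j) := (h.cycW_lin i j).isIrr

theorem CycTI.cycW_apply (h : CycTI G0 W W1 W2) (i : Irr W1) (j : Irr W2) {x y : G}
    (hx : x ∈ W1) (hy : y ∈ W2) : cycW W1 W2 i j (x * y) = i x * j y :=
  cfProd_apply h.inf_eq hx hy

theorem CycTI.cycW_apply_left (h : CycTI G0 W W1 W2) (i : Irr W1) (j : Irr W2) {x : G}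
    (hx : x ∈ W1) : cycW W1 W2 i j x = i x := by
  simpa [(h.lin_W2 j).one] using h.cycW_apply i j hx W2.one_mem

theorem CycTI.cycW_apply_right (h : CycTI G0 W W1 W2) (i : Irr W1) (j : Irr W2) {y : G}
    (hy : y ∈ W2) : cycW W1 W2 i j y = j y := by
  simpa [(h.lin_W1 i).one] using h.cycW_apply i j W1.one_mem hy

theorem CycTI.cycTIirrP (h : CycTI G0 W W1 W2) (hχ : IsIrr W χ) :
    ∃ i j, χ = cycW W1 W2 i j := by
  obtain ⟨φ, ψ, h1, h2, h3⟩ := h.dprod.exists_of_irr hχ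
  exact ⟨⟨φ, h1⟩, ⟨ψ, h2⟩, h3⟩

theorem CycTI.cycW_one (h : CycTI G0 W W1 W2) : cycW W1 W2 1 1 = cf1 W :=
  cfProd_cf1 h.dprod.compl

theorem CycTI.cycW_split (h : CycTI G0 W W1 W2) (i : Irr W1) (j : Irr W2) :
    cycW W1 W2 i j = cycW W1 W2 i 1 * cycW W1 W2 1 j := by
  rw [cycW, cycW, cycW, cfProd_mul h.inf_eq, Irr.coe_one, Irr.coe_one, mul_cf1 i.mem_CF,
    cf1_mul j.mem_CF]

theorem CycTI.cfdot_cycW (h : CycTI G0 W W1 W2) (i i' : Irr W1) (j j' : Irr W2) :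
    cfdot W (cycW W1 W2 i j) (cycW W1 W2 i' j') = if i = i' ∧ j = j' then 1 else 0 := by
  rw [cycW, cycW, cfdot_cfProd h.dprod.compl, Irr.cfdot_eq, Irr.cfdot_eq]
  by_cases h1 : i = i' <;> by_cases h2 : j = j' <;> simp [h1, h2]

theorem CycTI.cycW_inj (h : CycTI G0 W W1 W2) {i i' : Irr W1} {j j' : Irr W2} :
    cycW W1 W2 i j = cycW W1 W2 i' j' ↔ i = i' ∧ j = j' := by
  refine ⟨fun h1 => ?_, fun h1 => by rw [h1.1, h1.2]⟩
  have := cfProd_irr_inj h.dprod.compl i.irr j.irr i'.irr j'.irr h1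
  exact ⟨Irr.ext this.1, Irr.ext this.2⟩

theorem cycW_aut (u : ℂ →+* ℂ) (i : Irr W1) (j : Irr W2) :
    cycW W1 W2 (i.aut u) (j.aut u) = cfAut u (cycW W1 W2 i j) := (cfAut_cfProd u).symm

theorem CycTI.cycW_comm (h : CycTI G0 W W1 W2) (i : Irr W1) (j : Irr W2) :
    cycW W2 W1 j i = cycW W1 W2 i j := h.dprod.cfProd_comm.symm

theorem CycTI.cfker_cycTIl (h : CycTI G0 W W1 W2) (j : Irr W2) :
    W1 ≤ cfker W (cycW W1 W2 1 j) := by
  exact sdprod_le_cfker h.dprod.compl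

theorem CycTI.cfker_cycTIr (h : CycTI G0 W W1 W2) (i : Irr W1) :
    W2 ≤ cfker W (cycW W1 W2 i 1) := by
  rw [← h.cycW_comm]
  exact h.symm.cfker_cycTIl i

theorem CycTI.sum_irr (h : CycTI G0 W W1 W2) {M : Type*} [AddCommMonoid M] (f : (G → ℂ) → M) :
    ∑ χ : Irr W, f χ = ∑ i : Irr W1, ∑ j : Irr W2, f (cycW W1 W2 i j) := by
  rw [← Finset.sum_product', eq_comm]
  refine Finset.sum_bij (fun p _ => ⟨cycW W1 W2 p.1 p.2, h.cycW_irr _ _⟩) (fun _ _ => Finset.mem_univ _)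
    (fun p _ q _ he => ?_) (fun χ _ => ?_) fun _ _ => rfl
  · have := h.cycW_inj.mp (congrArg Subtype.val he)
    exact Prod.ext this.1 this.2
  · obtain ⟨i, j, h1⟩ := h.cycTIirrP χ.irr
    exact ⟨(i, j), by simp, Irr.ext h1.symm⟩

/-- `ω_ij - ω_i'j - ω_ij' + ω_i'j'` vanishes off `V` (Peterfalvi (3.4)). -/
theorem CycTI.cfCycTI_on (h : CycTI G0 W W1 W2) (i i' : Irr W1) (j j' : Irr W2) :
    cycW W1 W2 i j - cycW W1 W2 i' j - cycW W1 W2 i j' + cycW W1 W2 i' j' ∈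
      CFon W (cycTIset W W1 W2) := by
  have h0 := fun i j => (h.cycW_irr i j).mem_CF
  have h1 := add_mem (sub_mem (sub_mem (h0 i j) (h0 i' j)) (h0 i j')) (h0 i' j')
  refine ⟨h1, fun x hx => ?_⟩
  by_cases hW : x ∈ W
  · rw [mem_cycTIset, and_iff_right hW, ← not_or, not_not] at hx
    rcases hx with hx | hx
    · simp [h.cycW_apply_left _ _ hx]
    · simp [h.cycW_apply_right _ _ hx]
  · exact CF_zero h1 hW

/-! ### The isometry `σ` (Peterfalvi (3.2)) -/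

theorem CycTI.eq_sum_cycW (h : CycTI G0 W W1 W2) (hφ : φ ∈ CF W) :
    φ = ∑ i, ∑ j, cfdot W φ (cycW W1 W2 i j) • cycW W1 W2 i j := by
  rw [← h.sum_irr fun χ => cfdot W φ χ • χ]
  exact cfun_sum_cfdot hφ

/-- Peterfalvi (3.4). -/
theorem CycTI.eq_sum_cfCycTI (h : CycTI G0 W W1 W2) (hφ : φ ∈ CFon W (cycTIset W W1 W2)) :
    φ = ∑ i, ∑ j, cfdot W φ (cycW W1 W2 i j) •
      (cycW W1 W2 i j - cycW W1 W2 1 j - cycW W1 W2 i 1 + cycW W1 W2 1 1) := by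
  ext g
  by_cases hg : g ∈ W
  swap
  · simp [CF_zero hφ.1 hg, CF_zero (h.cycW_irr _ _).mem_CF hg]
  obtain ⟨x, hx, y, hy, rfl⟩ := h.dprod.compl.2.2.2 g hg
  have h1 := fun z => congrFun (h.eq_sum_cycW hφ.1) z
  have h2 := h1 x
  have h3 := h1 y
  have h4 := h1 1
  rw [CFon_zero hφ fun h5 => (mem_cycTIset.mp h5).2.1 hx] at h2
  rw [CFon_zero hφ fun h5 => (mem_cycTIset.mp h5).2.2 hy] at h3
  rw [CFon_zero hφ one_notMem_cycTIset] at h4
  rw [h1 (x * y)]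
  simp only [Finset.sum_apply, Pi.smul_apply, Pi.add_apply, Pi.sub_apply, h.cycW_apply _ _ hx hy,
    h.cycW_apply_left _ _ hx, h.cycW_apply_right _ _ hy, (h.cycW_lin _ _).one, Irr.coe_one,
    cf1_apply hx, cf1_apply hy, smul_eq_mul, mul_add, mul_sub, Finset.sum_add_distrib,
    Finset.sum_sub_distrib, one_mul, mul_one] at h2 h3 h4 ⊢
  rw [← h2, ← h3, ← h4]; ring

theorem CycTI.spec_of_eta (h : CycTI G0 W W1 W2) {η : Irr W1 → Irr W2 → G → ℂ}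
    (hZ : ∀ i j, η i j ∈ ZIrr G0)
    (ho : ∀ i j k l, cfdot G0 (η i j) (η k l) = if i = k ∧ j = l then 1 else 0)
    (h1 : η 1 1 = cf1 G0)
    (hI : ∀ i j, i ≠ 1 → j ≠ 1 → cfInd W G0 (cycW W1 W2 i j - cycW W1 W2 1 j - cycW W1 W2 i 1 +
      cycW W1 W2 1 1) = η i j - η 1 j - η i 1 + η 1 1) :
    ∃ σ, CycTISpec G0 W (cycTIset W W1 W2) σ := by
  let σ : CFMap G :=
    { toFun := fun φ => ∑ i, ∑ j, cfdot W φ (cycW W1 W2 i j) • η i j
      map_add' := fun φ ψ => by simp [cfdot_add_left, add_smul, Finset.sum_add_distrib]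
      map_smul' := fun c φ => by simp [cfdot_smul_left, mul_smul, Finset.smul_sum] }
  have hσ : ∀ φ, σ φ = ∑ i, ∑ j, cfdot W φ (cycW W1 W2 i j) • η i j := fun _ => rfl
  have hσω : ∀ i j, σ (cycW W1 W2 i j) = η i j := fun i j => by
    simp [hσ, h.cfdot_cycW, ite_and]
  refine ⟨σ, fun φ hφ ψ hψ => ?_, fun φ hφ => ?_, by rw [← h.cycW_one, hσω, h1], fun φ hφ => ?_⟩
  · rw [cfdot_eq_sum_irr hφ, h.sum_irr fun χ => cfdot W φ χ * conj (cfdot W ψ χ)]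
    simp [hσ, cfdot_sum_left, cfdot_sum_right, cfdot_smul_left, cfdot_smul_right, ho, ite_and,
      mul_comm]
  · refine Submodule.sum_mem _ fun i _ => Submodule.sum_mem _ fun j _ => ?_
    obtain ⟨n, hn⟩ := ZIrr_cfdot_int hφ (h.cycW_irr i j).mem_ZIrr
    rw [hn]
    exact intCast_smul_mem (hZ i j) n
  · rw [h.eq_sum_cfCycTI hφ]
    simp only [map_sum, map_smul]
    refine Finset.sum_congr rfl fun i _ => Finset.sum_congr rfl fun j _ => ?_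
    congr 1
    by_cases hi : i = 1
    · simp [hi]
    by_cases hj : j = 1
    · simp [hj]
    rw [hI i j hi hj]
    simp only [map_add, map_sub, hσω]

/-- The virtual character with given coefficients. -/
noncomputable def zvec (L : Subgroup G) (c : Irr L → ℤ) : G → ℂ :=
  ∑ χ : Irr L, (c χ : ℂ) • (χ : G → ℂ)

theorem zvec_mem_ZIrr (c : Irr G0 → ℤ) : zvec G0 c ∈ ZIrr G0 :=
  Submodule.sum_mem _ fun χ _ => intCast_smul_mem χ.mem_ZIrr _

theorem cfdot_zvec (a b : Irr G0 → ℤ) : cfdot G0 (zvec G0 a) (zvec G0 b) = (a ⬝ᵥ b : ℤ) := by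
  simp only [zvec, cfdot_sum_right, cfdot_intCast_smul_right, cfdot_sum_irr, dotProduct]
  push_cast
  exact Finset.sum_congr rfl fun _ _ => mul_comm _ _

theorem zvec_add (a b : Irr G0 → ℤ) : zvec G0 (a + b) = zvec G0 a + zvec G0 b := by
  simp [zvec, add_smul, Finset.sum_add_distrib]

theorem zvec_sub (a b : Irr G0 → ℤ) : zvec G0 (a - b) = zvec G0 a - zvec G0 b := by
  simp [zvec, sub_smul, Finset.sum_sub_distrib]

theorem zvec_single (χ : Irr G0) : zvec G0 (Pi.single χ 1) = χ := by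
  simp [zvec, Pi.single_apply]

theorem exists_zvec (h : φ ∈ ZIrr G0) : ∃ c, φ = zvec G0 c := by
  obtain ⟨c, -, h1, -⟩ := ZIrr_exists_coeff h
  exact ⟨c, h1⟩

theorem CycTI.exists_spec_aux (h : CycTI G0 W W1 W2) (h5 : 5 ≤ Nat.card W1) :
    ∃ σ, CycTISpec G0 W (cycTIset W W1 W2) σ := by
  set α : Irr W1 → Irr W2 → G → ℂ := fun i j =>
    cycW W1 W2 i j - cycW W1 W2 1 j - cycW W1 W2 i 1 + cycW W1 W2 1 1 with hα
  have hαZ : ∀ i j, α i j ∈ ZIrr W := fun i j =>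
    add_mem (sub_mem (sub_mem (h.cycW_irr _ _).mem_ZIrr (h.cycW_irr _ _).mem_ZIrr)
      (h.cycW_irr _ _).mem_ZIrr) (h.cycW_irr _ _).mem_ZIrr
  have hαV : ∀ i j, α i j ∈ CFon W (cycTIset W W1 W2) := fun i j => h.cfCycTI_on i 1 j 1
  choose β hβ using fun i j => exists_zvec (sub_mem (ZIrr_cfInd h.le (hαZ i j)) cf1_mem_ZIrr)
  choose d hd hd' using fun χ : Irr G0 => χ.irr.exists_nat_one
  have h1 : ∀ i j, i ≠ 1 → j ≠ 1 → cfdot G0 (cfInd W G0 (α i j)) (cf1 G0) = 1 := by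
    intro i j hi hj
    rw [cfdot_cfInd_cfRes h.le cf1_mem_CF, cfRes_cf1 h.le, ← h.cycW_one]
    simp [hα, cfdot_add_left, cfdot_sub_left, h.cfdot_cycW, hi, hj]
  obtain ⟨η, ho, h11, hη⟩ := PF3Comb.exists_eta (1 : Irr W1) (1 : Irr W2)
    (h.card_irr_W1 ▸ h5) (by
      rw [h.card_irr_W2]
      have := h.three_le_W2
      obtain ⟨k, hk⟩ := h.odd_W2
      omega) (β := β) (d := fun χ => d χ) (fun χ => Int.natCast_ne_zero.mpr (hd χ).ne') (c := -1)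
    (1 : Irr G0) (fun i j _ _ => by
      have h2 := congrFun (hβ i j) 1
      rw [Pi.sub_apply, cfInd_one h.le, CFon_zero (hαV i j) one_notMem_cycTIset] at h2
      refine Int.cast_injective (α := ℂ) ?_
      simpa [zvec, dotProduct, hd', eq_comm] using h2)
    (fun i j hi hj => by
      have h2 := cfdot_zvec (β i j) (Pi.single 1 1)
      rw [zvec_single, ← hβ, Irr.coe_one, cfdot_sub_left, h1 i j hi hj, cfdot_cf1, sub_self] at h2
      simpa using h2.symm)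
    (fun i j k l hi hj hk hl => by
      refine Int.cast_injective (α := ℂ) ?_
      rw [← cfdot_zvec, ← hβ, ← hβ, cfdot_sub_left, cfdot_sub_right, cfdot_sub_right,
        h1 i j hi hj, ← cfdot_conj (ψ := cf1 G0) (φ := cfInd W G0 (α k l)), h1 k l hk hl, cfdot_cf1,
        normedTI_isometry h.normedTI (hαV i j) (hαV k l)]
      by_cases h2 : i = k <;> by_cases h3 : j = l <;>
        simp [hα, cfdot_add_left, cfdot_sub_left, cfdot_add_right, cfdot_sub_right, h.cfdot_cycW,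
          hi, hj, hk, hl, h2, h3, eq_comm (a := (1 : Irr W1)), eq_comm (a := (1 : Irr W2))]
      norm_num)
  refine h.spec_of_eta (η := fun i j => zvec G0 (η i j)) (fun i j => zvec_mem_ZIrr _)
    (fun i j k l => by simp [cfdot_zvec, ho]) (by rw [h11, zvec_single, Irr.coe_one])
    fun i j hi hj => ?_
  rw [← zvec_sub, ← zvec_sub, ← zvec_add, ← hη i j hi hj, zvec_add, ← hβ, zvec_single,
    Irr.coe_one, sub_add_cancel]

/-- Peterfalvi, Theorem (3.2). -/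
theorem CycTI.exists_spec (h : CycTI G0 W W1 W2) :
    ∃ σ, CycTISpec G0 W (cycTIset W W1 W2) σ := by
  by_cases h5 : 5 ≤ Nat.card W1
  · exact h.exists_spec_aux h5
  rw [← cycTIset_comm]
  refine h.symm.exists_spec_aux ?_
  have h1 := h.three_le_W1
  have h2 := h.three_le_W2
  obtain ⟨k, hk⟩ := h.odd_W1
  obtain ⟨l, hl⟩ := h.odd_W2
  have h3 := h.coprime
  by_contra h4
  rw [show Nat.card W1 = 3 by omega, show Nat.card W2 = 3 by omega] at h3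
  norm_num at h3

theorem CycTI.spec (h : CycTI G0 W W1 W2) :
    CycTISpec G0 W (cycTIset W W1 W2) (cycTIiso G0 W W1 W2) := by
  unfold cycTIiso
  rw [dif_pos h.exists_spec]
  exact Classical.choose_spec h.exists_spec

theorem cycTIiso_comm : cycTIiso G0 W W2 W1 = cycTIiso G0 W W1 W2 := by
  unfold cycTIiso
  rw [cycTIset_comm]

theorem CycTI.cycEta_comm (h : CycTI G0 W W1 W2) (i : Irr W1) (j : Irr W2) :
    cycEta G0 W W2 W1 j i = cycEta G0 W W1 W2 i j := by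
  unfold cycEta
  rw [cycTIiso_comm, h.cycW_comm]

theorem CycTI.isometry (h : CycTI G0 W W1 W2) (hφ : φ ∈ CF W) (hψ : ψ ∈ CF W) :
    cfdot G0 (cycTIiso G0 W W1 W2 φ) (cycTIiso G0 W W1 W2 ψ) = cfdot W φ ψ :=
  h.spec.isom φ hφ ψ hψ

theorem CycTI.iso_mem_ZIrr (h : CycTI G0 W W1 W2) (hφ : φ ∈ ZIrr W) :
    cycTIiso G0 W W1 W2 φ ∈ ZIrr G0 := h.spec.virt φ hφ

theorem CycTI.iso_eq_sum (h : CycTI G0 W W1 W2) (hφ : φ ∈ CF W) :
    cycTIiso G0 W W1 W2 φ = ∑ i, ∑ j, cfdot W φ (cycW W1 W2 i j) • cycEta G0 W W1 W2 i j := by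
  conv_lhs => rw [h.eq_sum_cycW hφ]
  simp only [map_sum, map_smul, cycEta]

theorem CycTI.iso_mem_CF (h : CycTI G0 W W1 W2) (hφ : φ ∈ CF W) :
    cycTIiso G0 W W1 W2 φ ∈ CF G0 := by
  rw [h.iso_eq_sum hφ]
  exact Submodule.sum_mem _ fun i _ => Submodule.sum_mem _ fun j _ => Submodule.smul_mem _ _
    (ZIrr_mem_CF (h.iso_mem_ZIrr (h.cycW_irr i j).mem_ZIrr))

theorem CycTI.iso_dirr (h : CycTI G0 W W1 W2) (hχ : IsIrr W χ) :
    IsDirr G0 (cycTIiso G0 W W1 W2 χ) :=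
  isDirr_of_cfdot (h.iso_mem_ZIrr hχ.mem_ZIrr)
    (by rw [h.isometry hχ.mem_CF hχ.mem_CF, hχ.cfdot_self])

theorem CycTI.cycTIiso1 (h : CycTI G0 W W1 W2) : cycTIiso G0 W W1 W2 (cf1 W) = cf1 G0 :=
  h.spec.one

/-- Peterfalvi (3.2)(a). -/
theorem CycTI.cycTIiso_Ind (h : CycTI G0 W W1 W2) (hφ : φ ∈ CFon W (cycTIset W W1 W2)) :
    cycTIiso G0 W W1 W2 φ = cfInd W G0 φ := h.spec.ind φ hφ

/-- Peterfalvi (3.2)(c). -/
theorem CycTI.cycTIiso_restrict (h : CycTI G0 W W1 W2) (hφ : φ ∈ CF W) {x : G}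
    (hx : x ∈ cycTIset W W1 W2) : cycTIiso G0 W W1 W2 φ x = φ x := by
  rw [← cfRes_apply (H := W) (φ := cycTIiso G0 W W1 W2 φ) hx.1]
  refine eq_on_of_cfdot_CFon cycTIset_subset h.normedTI.conj_mem
    (cfRes_mem_CF h.le (h.iso_mem_CF hφ)) hφ (fun α hα => ?_) x hx
  rw [← cfdot_cfInd_cfRes h.le (h.iso_mem_CF hφ), ← h.cycTIiso_Ind hα, h.isometry hα.1 hφ]

theorem CycTI.cycEta_vchar (h : CycTI G0 W W1 W2) (i : Irr W1) (j : Irr W2) :
    cycEta G0 W W1 W2 i j ∈ ZIrr G0 := h.iso_mem_ZIrr (h.cycW_irr i j).mem_ZIrr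

theorem CycTI.cycEta_mem_CF (h : CycTI G0 W W1 W2) (i : Irr W1) (j : Irr W2) :
    cycEta G0 W W1 W2 i j ∈ CF G0 := ZIrr_mem_CF (h.cycEta_vchar i j)

theorem CycTI.cycEta_dirr (h : CycTI G0 W W1 W2) (i : Irr W1) (j : Irr W2) :
    IsDirr G0 (cycEta G0 W W1 W2 i j) := h.iso_dirr (h.cycW_irr i j)

theorem CycTI.cfdot_cycEta (h : CycTI G0 W W1 W2) (i i' : Irr W1) (j j' : Irr W2) :
    cfdot G0 (cycEta G0 W W1 W2 i j) (cycEta G0 W W1 W2 i' j') =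
      if i = i' ∧ j = j' then 1 else 0 := by
  rw [← h.cfdot_cycW]
  exact h.isometry (h.cycW_irr i j).mem_CF (h.cycW_irr i' j').mem_CF

theorem CycTI.cfnorm_cycEta (h : CycTI G0 W W1 W2) (i : Irr W1) (j : Irr W2) :
    cfnorm G0 (cycEta G0 W W1 W2 i j) = 1 := (h.cycEta_dirr i j).cfnorm

theorem CycTI.cycEta_inj (h : CycTI G0 W W1 W2) {i i' : Irr W1} {j j' : Irr W2} :
    cycEta G0 W W1 W2 i j = cycEta G0 W W1 W2 i' j' ↔ i = i' ∧ j = j' := by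
  refine ⟨fun h1 => ?_, fun h1 => by rw [h1.1, h1.2]⟩
  have h2 := h.cfdot_cycEta i i' j j'
  rw [← h1, (h.cycEta_dirr i j).cfdot_self] at h2
  by_contra h3
  simp [h3] at h2

theorem CycTI.cycEta_ne_neg (h : CycTI G0 W W1 W2) (i i' : Irr W1) (j j' : Irr W2) :
    cycEta G0 W W1 W2 i j ≠ -cycEta G0 W W1 W2 i' j' := by
  intro h1
  have h2 := h.cfdot_cycEta i i' j j'
  rw [h1, cfdot_neg_left, (h.cycEta_dirr i' j').cfdot_self] at h2
  split_ifs at h2 <;> norm_num at h2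

theorem CycTI.cycEta_one (h : CycTI G0 W W1 W2) : cycEta G0 W W1 W2 1 1 = cf1 G0 := by
  rw [cycEta, h.cycW_one, h.cycTIiso1]

theorem CycTI.cycEta_apply (h : CycTI G0 W W1 W2) (i : Irr W1) (j : Irr W2) {x : G}
    (hx : x ∈ cycTIset W W1 W2) : cycEta G0 W W1 W2 i j x = cycW W1 W2 i j x :=
  h.cycTIiso_restrict (h.cycW_irr i j).mem_CF hx

theorem CycTI.cfnorm_sum_cycEta_col (h : CycTI G0 W W1 W2) (j : Irr W2) :
    cfnorm G0 (∑ i : Irr W1, cycEta G0 W W1 W2 i j) = Nat.card W1 := by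
  rw [cfnorm_sum_of_ortho _ _ fun i _ i' _ hi => by simp [h.cfdot_cycEta, hi]]
  simp [h.cfnorm_cycEta, h.card_irr_W1]

/-- `η_ij - η_i'j - η_ij' + η_i'j'` is induced from `W`. -/
theorem CycTI.cycEta_sub2 (h : CycTI G0 W W1 W2) (i i' : Irr W1) (j j' : Irr W2) :
    cycEta G0 W W1 W2 i j - cycEta G0 W W1 W2 i' j - cycEta G0 W W1 W2 i j' +
        cycEta G0 W W1 W2 i' j' =
      cfInd W G0 (cycW W1 W2 i j - cycW W1 W2 i' j - cycW W1 W2 i j' + cycW W1 W2 i' j') := by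
  rw [← h.cycTIiso_Ind (h.cfCycTI_on i i' j j')]
  simp only [map_add, map_sub, cycEta]

/-- Off the conjugates of `V`, `η_ij = η_i0 + η_0j - 1`. -/
theorem CycTI.cycEta_apply_of_notMem (h : CycTI G0 W W1 W2) (i i' : Irr W1) (j j' : Irr W2)
    {x : G} (hx : x ∉ classSupport (cycTIset W W1 W2) G0) :
    cycEta G0 W W1 W2 i j x + cycEta G0 W W1 W2 i' j' x =
      cycEta G0 W W1 W2 i' j x + cycEta G0 W W1 W2 i j' x := by
  have h1 := congrFun (h.cycEta_sub2 i i' j j') x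
  rw [CFon_zero (cfInd_mem_CFon_classSupport (h.cfCycTI_on i i' j j').2) hx] at h1
  simp only [Pi.add_apply, Pi.sub_apply] at h1
  linear_combination h1

/-- Peterfalvi (3.2)(d). -/
theorem CycTI.ortho_cycTIiso_vanish (h : CycTI G0 W W1 W2) (hψ : ψ ∈ CF G0)
    (ho : ∀ i j, cfdot G0 ψ (cycEta G0 W W1 W2 i j) = 0) : ∀ x ∈ cycTIset W W1 W2, ψ x = 0 := by
  intro x hx
  rw [← cfRes_apply (H := W) (φ := ψ) hx.1]
  refine eq_zero_on_of_ortho_CFon cycTIset_subset h.normedTI.conj_mem (cfRes_mem_CF h.le hψ)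
    (fun α hα => ?_) x hx
  rw [← cfdot_cfInd_cfRes h.le hψ, ← h.cycTIiso_Ind hα, h.iso_eq_sum hα.1]
  simp [cfdot_sum_left, cfdot_smul_left, cfdot_symm_zero (ho _ _)]

/-- On `V` a class function agrees with its projection on the `η_ij`. -/
theorem CycTI.apply_eq_sum_cycW (h : CycTI G0 W W1 W2) (hψ : ψ ∈ CF G0) {x : G}
    (hx : x ∈ cycTIset W W1 W2) :
    ψ x = ∑ i, ∑ j, cfdot G0 ψ (cycEta G0 W W1 W2 i j) * cycW W1 W2 i j x := by
  have h1 := h.ortho_cycTIiso_vanish (ψ := ψ - ∑ i, ∑ j, cfdot G0 ψ (cycEta G0 W W1 W2 i j) •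
    cycEta G0 W W1 W2 i j) (sub_mem hψ (Submodule.sum_mem _ fun i _ => Submodule.sum_mem _
      fun j _ => Submodule.smul_mem _ _ (h.cycEta_mem_CF i j))) (fun i j => by
        simp [cfdot_sub_left, cfdot_sum_left, cfdot_smul_left, h.cfdot_cycEta, ite_and]) x hx
  simpa [sub_eq_zero, Finset.sum_apply, h.cycEta_apply _ _ hx] using h1

/-- Peterfalvi (3.7). -/
theorem CycTI.cycTIiso_cfdot_exchange (h : CycTI G0 W W1 W2) (hψ : ψ ∈ CF G0)
    (h0 : ∀ x ∈ cycTIset W W1 W2, ψ x = 0) (i1 i2 : Irr W1) (j1 j2 : Irr W2) :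
    cfdot G0 ψ (cycEta G0 W W1 W2 i1 j1) + cfdot G0 ψ (cycEta G0 W W1 W2 i2 j2) =
      cfdot G0 ψ (cycEta G0 W W1 W2 i1 j2) + cfdot G0 ψ (cycEta G0 W W1 W2 i2 j1) := by
  have h1 : cfdot G0 ψ (cfInd W G0 (cycW W1 W2 i1 j1 - cycW W1 W2 i2 j1 - cycW W1 W2 i1 j2 +
      cycW W1 W2 i2 j2)) = 0 := by
    rw [cfdot_cfInd_right h.le hψ]
    refine cfdot_eq_zero_of_supp fun x _ => ?_
    by_cases hx : x ∈ cycTIset W W1 W2
    · exact Or.inl (h0 x hx)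
    · exact Or.inr (CFon_zero (h.cfCycTI_on i1 i2 j1 j2) hx)
  rw [← h.cycEta_sub2, cfdot_add_right, cfdot_sub_right, cfdot_sub_right] at h1
  linear_combination h1

/-! ### `NC` (Peterfalvi (3.6)) -/

theorem cycTI_NC_opp : cycNC G0 W W1 W2 (-φ) = cycNC G0 W W1 W2 φ := by
  simp [cycNC, cfdot_neg_left]

theorem cycTI_NC_scale_nz {a : ℂ} (ha : a ≠ 0) :
    cycNC G0 W W1 W2 (a • φ) = cycNC G0 W W1 W2 φ := by
  simp [cycNC, cfdot_smul_left, ha]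

theorem cycTI_NC_0 : cycNC G0 W W1 W2 0 = 0 := by
  simp [cycNC]

theorem cycTI_NC_scale (a : ℂ) : cycNC G0 W W1 W2 (a • φ) ≤ cycNC G0 W W1 W2 φ := by
  rcases eq_or_ne a 0 with rfl | ha
  · simp [cycTI_NC_0]
  · rw [cycTI_NC_scale_nz ha]

theorem cycTI_NC_add :
    cycNC G0 W W1 W2 (φ + ψ) ≤ cycNC G0 W W1 W2 φ + cycNC G0 W W1 W2 ψ := by
  classical
  refine le_trans (Finset.card_le_card fun ij hij => ?_) (Finset.card_union_le _ _)
  simp only [Finset.mem_filter, Finset.mem_univ, true_and, Finset.mem_union, cfdot_add_left]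
    at hij ⊢
  by_contra h1
  push Not at h1
  simp [h1.1, h1.2] at hij

theorem cycTI_NC_sub :
    cycNC G0 W W1 W2 (φ - ψ) ≤ cycNC G0 W W1 W2 φ + cycNC G0 W W1 W2 ψ := by
  rw [sub_eq_add_neg, ← cycTI_NC_opp (φ := ψ)]; exact cycTI_NC_add

theorem cycTI_NC_eq_zero : cycNC G0 W W1 W2 φ = 0 ↔
    ∀ i j, cfdot G0 φ (cycEta G0 W W1 W2 i j) = 0 := by
  simp [cycNC, Finset.filter_eq_empty_iff]

theorem CycTI.NC_comm (h : CycTI G0 W W1 W2) : cycNC G0 W W2 W1 φ = cycNC G0 W W1 W2 φ := by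
  refine Finset.card_bij' (fun p _ => p.swap) (fun p _ => p.swap) (fun p hp => ?_) (fun p hp => ?_)
    (fun _ _ => rfl) fun _ _ => rfl
  · simpa [h.cycEta_comm] using hp
  · simpa [h.cycEta_comm] using hp

theorem CycTI.NC_iso (h : CycTI G0 W W1 W2) (i : Irr W1) (j : Irr W2) :
    cycNC G0 W W1 W2 (cycEta G0 W W1 W2 i j) = 1 := by
  rw [cycNC, Finset.card_eq_one]
  refine ⟨(i, j), Finset.ext fun p => ?_⟩
  simp [h.cfdot_cycEta, Prod.ext_iff, eq_comm]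

theorem sum_norm_sq_le_of_orthonormal {L : Subgroup G} {ι : Type*} [DecidableEq ι] (s : Finset ι)
    {f : ι → G → ℂ} (h : ∀ i ∈ s, ∀ j ∈ s, cfdot L (f i) (f j) = if i = j then 1 else 0)
    (β : G → ℂ) : ∑ i ∈ s, ‖cfdot L β (f i)‖ ^ 2 ≤ cfnorm L β := by
  classical
  have h1 : Set.InjOn f s := fun i hi j hj he => by
    have h2 := h i hi j hj
    rw [← he, h i hi i hi] at h2
    by_contra h3
    simp [h3] at h2
  rw [← Finset.sum_image (f := fun α => ‖cfdot L β α‖ ^ 2) h1]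
  refine Orthonormal'.sum_norm_sq_le (fun α hα γ hγ => ?_) β
  obtain ⟨i, hi, rfl⟩ := Finset.mem_image.mp hα
  obtain ⟨j, hj, rfl⟩ := Finset.mem_image.mp hγ
  rw [h i hi j hj]
  simp only [h1.eq_iff hi hj]

theorem one_le_norm_sq_of_int {z : ℂ} (h : ∃ n : ℤ, z = n) (h0 : z ≠ 0) : 1 ≤ ‖z‖ ^ 2 := by
  obtain ⟨n, rfl⟩ := h
  rw [Complex.norm_intCast, sq_abs]
  have : n ≠ 0 := by simpa using h0
  exact_mod_cast (one_le_sq_iff_one_le_abs n).mpr (Int.one_le_abs this)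

theorem CycTI.NC_norm (h : CycTI G0 W W1 W2) (hφ : φ ∈ ZIrr G0) :
    (cycNC G0 W W1 W2 φ : ℝ) ≤ cfnorm G0 φ := by
  classical
  refine le_trans ?_ (sum_norm_sq_le_of_orthonormal (Finset.univ.filter fun ij : Irr W1 × Irr W2 =>
    cfdot G0 φ (cycEta G0 W W1 W2 ij.1 ij.2) ≠ 0) (f := fun ij => cycEta G0 W W1 W2 ij.1 ij.2)
    (fun p _ q _ => by simp only [h.cfdot_cycEta, Prod.ext_iff]) φ)
  rw [cycNC, Finset.card_eq_sum_ones, Nat.cast_sum]
  exact Finset.sum_le_sum fun p hp => by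
    simpa using one_le_norm_sq_of_int (ZIrr_cfdot_int hφ (h.cycEta_vchar _ _))
      (Finset.mem_filter.mp hp).2

theorem CycTI.NC_dirr (h : CycTI G0 W W1 W2) (hφ : IsDirr G0 φ) : cycNC G0 W W1 W2 φ ≤ 1 := by
  have := h.NC_norm hφ.mem_ZIrr
  rw [hφ.cfnorm] at this
  exact_mod_cast this

/-- Peterfalvi (3.8). -/
theorem CycTI.small_cycTI_NC (h : CycTI G0 W W1 W2) (hφ : φ ∈ CF G0)
    (h0 : ∀ x ∈ cycTIset W W1 W2, φ x = 0)
    (hNC : cycNC G0 W W1 W2 φ < 2 * min (Nat.card W1) (Nat.card W2)) {i0 : Irr W1} {j0 : Irr W2}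
    (ha : cfdot G0 φ (cycEta G0 W W1 W2 i0 j0) ≠ 0) :
    (∀ i j, cfdot G0 φ (cycEta G0 W W1 W2 i j) =
        if j = j0 then cfdot G0 φ (cycEta G0 W W1 W2 i0 j0) else 0) ∨
      ∀ i j, cfdot G0 φ (cycEta G0 W W1 W2 i j) =
        if i = i0 then cfdot G0 φ (cycEta G0 W W1 W2 i0 j0) else 0 := by
  classical
  have h1 := h.three_le_W1
  have h2 := h.three_le_W2
  refine PF3Comb.small_support (a := fun i j => cfdot G0 φ (cycEta G0 W W1 W2 i j))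
    (h.cycTIiso_cfdot_exchange hφ h0) (h.card_irr_W1 ▸ h1) (h.card_irr_W2 ▸ h2) ?_
    (by rw [h.card_irr_W1, h.card_irr_W2]; unfold cycNC at hNC; convert hNC) ha
  rw [h.card_irr_W1, h.card_irr_W2]
  obtain ⟨k, hk⟩ := h.odd_W1
  obtain ⟨l, hl⟩ := h.odd_W2
  have h3 := h.coprime
  have h4 : Nat.card W1 ≠ Nat.card W2 := fun h4 => by
    rw [h4, Nat.coprime_self] at h3
    omega
  omega

/-- A weaker version of Peterfalvi (3.8). -/
theorem CycTI.NC_minn (h : CycTI G0 W W1 W2) (hφ : φ ∈ CF G0)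
    (h0 : ∀ x ∈ cycTIset W W1 W2, φ x = 0) (hpos : 0 < cycNC G0 W W1 W2 φ)
    (hNC : cycNC G0 W W1 W2 φ < 2 * min (Nat.card W1) (Nat.card W2)) :
    min (Nat.card W1) (Nat.card W2) ≤ cycNC G0 W W1 W2 φ := by
  classical
  obtain ⟨⟨i0, j0⟩, h1⟩ := Finset.card_pos.mp hpos
  have h1 := (Finset.mem_filter.mp h1).2
  rcases h.small_cycTI_NC hφ h0 hNC h1 with h2 | h2
  · refine (min_le_left _ _).trans ?_
    rw [← h.card_irr_W1]
    exact Finset.card_le_card_of_injOn (fun i => (i, j0)) (fun i _ => by simpa [h2 i j0] using h1)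
      fun _ _ _ _ h => congrArg Prod.fst h
  · refine (min_le_right _ _).trans ?_
    rw [← h.card_irr_W2]
    exact Finset.card_le_card_of_injOn (fun j => (i0, j)) (fun j _ => by simpa [h2 i0 j] using h1)
      fun _ _ _ _ h => congrArg Prod.snd h

theorem CycTI.ortho_of_NC_lt (h : CycTI G0 W W1 W2) (hφ : φ ∈ CF G0)
    (h0 : ∀ x ∈ cycTIset W W1 W2, φ x = 0)
    (hNC : cycNC G0 W W1 W2 φ < min (Nat.card W1) (Nat.card W2)) (i : Irr W1) (j : Irr W2) :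
    cfdot G0 φ (cycEta G0 W W1 W2 i j) = 0 := by
  refine cycTI_NC_eq_zero.mp ?_ i j
  by_contra h1
  have := h.NC_minn hφ h0 (Nat.pos_of_ne_zero h1) (by omega)
  omega

/-- Another consequence of (3.8), used in (4.8), (10.5), (10.10) and (11.8). -/
theorem CycTI.eq_signed_sub_cTIiso (h : CycTI G0 W W1 W2) (hφ : φ ∈ ZIrr G0)
    (hn : cfnorm G0 φ = 2) {ε : ℤ} (hε : ε = 1 ∨ ε = -1) {i : Irr W1} {j1 j2 : Irr W2}
    (hj : j1 ≠ j2)
    (he : ∀ x ∈ cycTIset W W1 W2,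
      φ x = ε * (cycEta G0 W W1 W2 i j1 x - cycEta G0 W W1 W2 i j2 x)) :
    φ = (ε : ℂ) • (cycEta G0 W W1 W2 i j1 - cycEta G0 W W1 W2 i j2) := by
  set η := cycEta G0 W W1 W2 with hη
  set ψ := φ - (ε : ℂ) • (η i j1 - η i j2) with hψ
  have hψZ : ψ ∈ ZIrr G0 :=
    sub_mem hφ (intCast_smul_mem (sub_mem (h.cycEta_vchar _ _) (h.cycEta_vchar _ _)) _)
  have hε2 : (ε : ℝ) ^ 2 = 1 := by rcases hε with rfl | rfl <;> simp
  have h1 : cfnorm G0 ψ = -2 * (ε * (cfdot G0 ψ (η i j1) - cfdot G0 ψ (η i j2))).re := by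
    have h2 : φ = ψ + (ε : ℂ) • (η i j1 - η i j2) := by simp [hψ]
    rw [h2, cfnorm_add, cfnorm_intCast_smul, cfnorm_sub_of_ortho (φ := η i j1)
      (by simp [hη, h.cfdot_cycEta, hj]), (h.cfnorm_cycEta _ _ : cfnorm G0 (η i j1) = 1),
      (h.cfnorm_cycEta _ _ : cfnorm G0 (η i j2) = 1), hε2, cfdot_intCast_smul_right, cfdot_sub_right] at hn
    linarith
  rw [← sub_eq_zero, ← hψ, ← cfnorm_eq_zero (ZIrr_mem_CF hψZ)]
  by_cases h2 : ∀ k l, cfdot G0 ψ (η k l) = 0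
  · simp [h1, h2]
  push Not at h2
  obtain ⟨i0, j0, h2⟩ := h2
  have h3 := h.three_le_W1
  have h4 := h.three_le_W2
  have hNC : cycNC G0 W W1 W2 ψ < 2 * min (Nat.card W1) (Nat.card W2) := by
    have h5 := h.NC_norm hφ
    rw [hn] at h5
    have h6 : cycNC G0 W W1 W2 φ ≤ 2 := by exact_mod_cast h5
    have h7 := cycTI_NC_sub (G0 := G0) (W := W) (W1 := W1) (W2 := W2) (φ := η i j1) (ψ := η i j2)
    rw [h.NC_iso, h.NC_iso] at h7
    have h8 := cycTI_NC_scale (G0 := G0) (W := W) (W1 := W1) (W2 := W2) (φ := η i j1 - η i j2) ε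
    have h9 := cycTI_NC_sub (G0 := G0) (W := W) (W1 := W1) (W2 := W2) (φ := φ)
      (ψ := (ε : ℂ) • (η i j1 - η i j2))
    rw [← hψ] at h9
    omega
  rcases h.small_cycTI_NC (ZIrr_mem_CF hψZ) (fun x hx => by simp [hψ, he x hx]) hNC h2 with h5 | h5
  · exfalso
    obtain ⟨a, ha⟩ := ZIrr_cfdot_int hψZ (h.cycEta_vchar i0 j0)
    have h6 := sum_norm_sq_le_of_orthonormal (L := G0) Finset.univ (f := fun k => η k j0)
      (fun k _ k' _ => by simp [hη, h.cfdot_cycEta]) ψ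
    rw [ha, ← hη] at h5
    simp only [h5, if_true, Finset.sum_const, Finset.card_univ, h.card_irr_W1, nsmul_eq_mul]
      at h6
    rw [h1, h5 i j1, h5 i j2, Complex.norm_intCast, sq_abs] at h6
    have h7 : (1 : ℝ) ≤ a ^ 2 := by
      simpa [Complex.norm_intCast] using one_le_norm_sq_of_int ⟨a, rfl⟩ (ha ▸ h2)
    have h8 : (3 : ℝ) ≤ Nat.card W1 := by exact_mod_cast h3
    have h9 := mul_le_mul_of_nonneg_right h8 (sq_nonneg (a : ℝ))
    rcases hε with rfl | rfl <;> split_ifs at h6 <;> simp at h6 <;>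
      nlinarith [sq_nonneg ((a : ℝ) - 1), sq_nonneg ((a : ℝ) + 1)]
  · rw [← hη] at h5
    rw [h1, h5 i j1, h5 i j2]; simp

/-- Peterfalvi (3.9)(a). -/
theorem CycTI.eq_in_cycTIiso (h : CycTI G0 W W1 W2) (hχ : IsIrr W χ) (hφ : IsDirr G0 φ)
    (he : ∀ x ∈ cycTIset W W1 W2, φ x = χ x) : φ = cycTIiso G0 W W1 W2 χ := by
  obtain ⟨i, j, rfl⟩ := h.cycTIirrP hχ
  have h3 := h.three_le_W1
  have h4 := h.three_le_W2
  have h1 := h.ortho_of_NC_lt (φ := φ - cycEta G0 W W1 W2 i j)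
    (sub_mem hφ.mem_CF (h.cycEta_mem_CF i j))
    (fun x hx => by rw [Pi.sub_apply, he x hx, h.cycEta_apply i j hx, sub_self]) (by
      have h5 := cycTI_NC_sub (G0 := G0) (W := W) (W1 := W1) (W2 := W2) (φ := φ)
        (ψ := cycEta G0 W W1 W2 i j)
      rw [h.NC_iso] at h5
      have := h.NC_dirr hφ
      omega) i j
  rw [cfdot_sub_left, (h.cycEta_dirr i j).cfdot_self, sub_eq_zero] at h1
  exact hφ.eq_of_cfdot_eq_one (h.cycEta_dirr i j) h1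

/-- Second part of Peterfalvi (3.9)(a). -/
theorem CycTI.cfAut_cycTIiso (h : CycTI G0 W W1 W2) (u : ℂ →+* ℂ) (hφ : φ ∈ CF W) :
    cfAut u (cycTIiso G0 W W1 W2 φ) = cycTIiso G0 W W1 W2 (cfAut u φ) := by
  rw [cfun_sum_cfdot hφ]
  simp only [map_sum, map_smul, cfAut_sum, cfAut_smul]
  refine Finset.sum_congr rfl fun χ _ => ?_
  rw [h.eq_in_cycTIiso (χ.irr.cfAut u) ((h.iso_dirr χ.irr).cfAut u) fun x hx => by
    rw [cfAut_apply, cfAut_apply, h.cycTIiso_restrict χ.mem_CF hx]]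

theorem CycTI.cycEta_aut (h : CycTI G0 W W1 W2) (u : ℂ →+* ℂ) (i : Irr W1) (j : Irr W2) :
    cycEta G0 W W1 W2 (i.aut u) (j.aut u) = cfAut u (cycEta G0 W W1 W2 i j) := by
  rw [cycEta, cycW_aut, ← h.cfAut_cycTIiso u (h.cycW_irr i j).mem_CF, cycEta]

/-- Peterfalvi (3.9)(b); `a` is any exponent of the linear character `χ`. -/
theorem CycTI.cycTIiso_aut_exists (h : CycTI G0 W W1 W2) (hχ : IsIrr W χ) {a k : ℕ} (ha : a ≠ 0)
    (hχa : ∀ x ∈ W, χ x ^ a = 1) (hk : k.Coprime a) :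
    ∃ u : ℂ →+* ℂ, (∀ x ∈ W, cfAut u χ x = χ x ^ k) ∧
      ∀ x, (orderOf x).Coprime a →
        cycTIiso G0 W W1 W2 (cfAut u χ) x = cycTIiso G0 W W1 W2 χ x := by
  obtain ⟨u, h1, -, h2⟩ := make_pi_cfAut G ha hk
  refine ⟨u, fun x hx => h1 _ (hχa x hx), fun x hx => ?_⟩
  rw [← h.cfAut_cycTIiso u hχ.mem_CF, cfAut_apply, h2 G0 _ (h.iso_mem_ZIrr hχ.mem_ZIrr) x hx]

/-- Peterfalvi (3.9)(c). -/
theorem CycTI.Cint_cycTIiso_coprime (h : CycTI G0 W W1 W2) (hχ : IsIrr W χ) {a : ℕ} (ha : a ≠ 0)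
    (hχa : ∀ x ∈ W, χ x ^ a = 1) {x : G} (hx : (orderOf x).Coprime a) :
    ∃ n : ℤ, cycTIiso G0 W W1 W2 χ x = n := by
  refine int_of_isIntegral_of_fixed (ZIrr_isIntegral (h.iso_mem_ZIrr hχ.mem_ZIrr) x) fun u => ?_
  obtain ⟨k, hk, h1⟩ := exists_pow_of_aut ha u
  obtain ⟨v, h2, h3⟩ := h.cycTIiso_aut_exists hχ ha hχa hk
  have h4 : cfAut u χ = cfAut v χ := by
    ext y
    by_cases hy : y ∈ W
    · rw [h2 y hy, cfAut_apply, h1 _ (hχa y hy)]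
    · simp [hχ.2 y hy]
  rw [← cfAut_apply, h.cfAut_cycTIiso u hχ.mem_CF, h4, h3 x hx]

theorem IsLin.pow_card {L : Subgroup G} (h : IsLin L χ) {x : G} (hx : x ∈ L) :
    χ x ^ Nat.card L = 1 := by
  rw [← h.map_pow hx, pow_card_eq_one_of_mem hx, h.one]

theorem CycTI.cycW_left_apply (h : CycTI G0 W W1 W2) (i : Irr W1) {x : G} (hx : x ∈ W) :
    ∃ y ∈ W1, ∀ i : Irr W1, cycW W1 W2 i 1 x = i y := by
  obtain ⟨y, hy, z, hz, rfl⟩ := h.dprod.compl.2.2.2 x hx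
  exact ⟨y, hy, fun i => by rw [h.cycW_apply i 1 hy hz, Irr.coe_one, cf1_apply hz, mul_one]⟩

theorem CycTI.cycW_left_pow_card (h : CycTI G0 W W1 W2) (i : Irr W1) {x : G} (hx : x ∈ W) :
    cycW W1 W2 i 1 x ^ Nat.card W1 = 1 := by
  obtain ⟨y, hy, h1⟩ := h.cycW_left_apply i hx
  rw [h1, (h.lin_W1 i).pow_card hy]

theorem CycTI.Cint_cycEta (h : CycTI G0 W W1 W2) (i : Irr W1) (j : Irr W2) {x : G}
    (hx : (orderOf x).Coprime (Nat.card W)) : ∃ n : ℤ, cycEta G0 W W1 W2 i j x = n := by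
  exact h.Cint_cycTIiso_coprime (h.cycW_irr i j) Nat.card_pos.ne'
    (fun y hy => (h.cycW_lin i j).pow_card hy) hx

theorem CycTI.Cint_cycEta_left (h : CycTI G0 W W1 W2) (i : Irr W1) {x : G}
    (hx : (orderOf x).Coprime (Nat.card W1)) : ∃ n : ℤ, cycEta G0 W W1 W2 i 1 x = n := by
  exact h.Cint_cycTIiso_coprime (h.cycW_irr i 1) Nat.card_pos.ne'
    (fun y hy => h.cycW_left_pow_card i hy) hx

theorem CycTI.Cint_cycEta_right (h : CycTI G0 W W1 W2) (j : Irr W2) {x : G}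
    (hx : (orderOf x).Coprime (Nat.card W2)) : ∃ n : ℤ, cycEta G0 W W1 W2 1 j x = n := by
  rw [← h.cycEta_comm]
  exact h.symm.Cint_cycEta_left j hx

/-- If `|W₁|` is prime, the `η_i0` (`i ≠ 0`) agree at elements of order prime to `|W₁|`. -/
theorem CycTI.cycEta_left_eq_of_prime (h : CycTI G0 W W1 W2) (hp : (Nat.card W1).Prime)
    {i i' : Irr W1} (hi : i ≠ 1) (hi' : i' ≠ 1) {x : G}
    (hx : (orderOf x).Coprime (Nat.card W1)) :
    cycEta G0 W W1 W2 i 1 x = cycEta G0 W W1 W2 i' 1 x := by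
  obtain ⟨k, hk, h1⟩ := cfExp_prime_transitive hp i.irr i'.irr (fun h1 => hi (Irr.ext h1))
    fun h1 => hi' (Irr.ext h1)
  obtain ⟨u, h2, h3⟩ := h.cycTIiso_aut_exists (h.cycW_irr i 1) Nat.card_pos.ne'
    (fun y hy => h.cycW_left_pow_card i hy) hk
  have h4 : cfAut u (cycW W1 W2 i 1) = cycW W1 W2 i' 1 := by
    ext y
    by_cases hy : y ∈ W
    · obtain ⟨z, hz, h5⟩ := h.cycW_left_apply i hy
      rw [h2 y hy, h5, h5, h1, Pi.pow_apply]
    · simp [(h.cycW_irr _ _).2 y hy]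
  rw [cycEta, ← h3 x hx, h4, cycEta]

theorem CycTI.cycEta_right_eq_of_prime (h : CycTI G0 W W1 W2) (hp : (Nat.card W2).Prime)
    {j j' : Irr W2} (hj : j ≠ 1) (hj' : j' ≠ 1) {x : G}
    (hx : (orderOf x).Coprime (Nat.card W2)) :
    cycEta G0 W W1 W2 1 j x = cycEta G0 W W1 W2 1 j' x := by
  rw [← h.cycEta_comm, ← h.cycEta_comm]
  exact h.symm.cycEta_left_eq_of_prime hp hj hj' hx

end CfsgLib.FT
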