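import Cfsg.Agent.Lib.FT.PF3

/-!
# Peterfalvi, Section 4: the Dade isometry of a certain type of subgroup
-/

set_option autoImplicit false
set_option linter.unusedSectionVars false

namespace CfsgLib.FT

open Cfsg Subgroup
open scoped ComplexConjugate commutatorElement

variable {G : Type*} [Group G] [Fintype G]
variable {L K H N W W1 W2 : Subgroup G} {A A0 : Set G} {R : G → Subgroup G} {φ ψ χ θ : G → ℂ}

theorem vchar_pairs_aux {X : Subgroup G} {a b c d : G → ℂ} (ha : IsDirr X a)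
    (hb : IsDirr X b) (hc : IsDirr X c) (hd : IsDirr X d) (hab : cfdot X a b = 0)
    (hcd : cfdot X c d = 0) {u v : ℝ} (hu : u ≠ 0)
    (h : cfdot X (a - b) ((u : ℂ) • c - (v : ℂ) • d) = 0) (h1 : a 1 = b 1)
    (h2 : u * c 1 = v * d 1) : cfdot X a c = 0 := by
  have hu' : (u : ℂ) ≠ 0 := by exact_mod_cast hu
  have hc1 := hc.one_ne_zero
  have hba := cfdot_symm_zero hab
  simp only [cfdot_sub_left, cfdot_sub_right, cfdot_smul_right, Complex.conj_ofReal] at h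
  rcases ha.cfdot_cases hc with ⟨rfl, e⟩ | ⟨rfl, e⟩ | ⟨-, -, e⟩
  · rw [e, hcd, hba] at h
    rcases hb.cfdot_cases hd with ⟨rfl, e'⟩ | ⟨rfl, e'⟩ | ⟨-, -, e'⟩ <;> rw [e'] at h
    · exact absurd (mul_right_cancel₀ hc1 (show 2 * u * a 1 = 0 * a 1 by
        linear_combination a 1 * h + h2 - v * h1)) (mul_ne_zero two_ne_zero hu')
    · rw [Pi.neg_apply] at h1
      exact absurd (mul_right_cancel₀ hc1 (show 2 * u * a 1 = 0 * a 1 by
        linear_combination a 1 * h + h2 + v * h1)) (mul_ne_zero two_ne_zero hu')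
    · exact absurd (by linear_combination h) hu'
  · rw [cfdot_neg_right, neg_eq_zero] at hba
    rw [e, hba, cfdot_neg_left, hcd] at h
    rw [Pi.neg_apply] at h1
    rcases hb.cfdot_cases hd with ⟨rfl, e'⟩ | ⟨rfl, e'⟩ | ⟨-, -, e'⟩ <;> rw [e'] at h
    · exact absurd (mul_right_cancel₀ hc1 (show 2 * u * c 1 = 0 * c 1 by
        linear_combination -c 1 * h + h2 - v * h1)) (mul_ne_zero two_ne_zero hu')
    · rw [Pi.neg_apply] at h1
      exact absurd (mul_right_cancel₀ hc1 (show 2 * u * c 1 = 0 * c 1 by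
        linear_combination -c 1 * h + h2 + v * h1)) (mul_ne_zero two_ne_zero hu')
    · exact absurd (by linear_combination -h) hu'
  · exact e

/-- Peterfalvi (4.1). -/
theorem vchar_pairs_orthonormal {X : Subgroup G} {a b c d : G → ℂ} (ha : IsDirr X a)
    (hb : IsDirr X b) (hc : IsDirr X c) (hd : IsDirr X d) (hab : cfdot X a b = 0)
    (hcd : cfdot X c d = 0) {u v : ℝ} (hu : u ≠ 0) (hv : v ≠ 0)
    (h : cfdot X (a - b) ((u : ℂ) • c - (v : ℂ) • d) = 0) (h1 : a 1 = b 1)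
    (h2 : u * c 1 = v * d 1) :
    cfdot X a c = 0 ∧ cfdot X a d = 0 ∧ cfdot X b c = 0 ∧ cfdot X b d = 0 := by
  have hba := cfdot_symm_zero hab
  have hdc := cfdot_symm_zero hcd
  have h' : cfdot X (a - b) ((v : ℂ) • d - (u : ℂ) • c) = 0 := by
    rw [← neg_sub ((u : ℂ) • c), cfdot_neg_right, h, neg_zero]
  exact ⟨vchar_pairs_aux ha hb hc hd hab hcd hu h h1 h2,
    vchar_pairs_aux ha hb hd hc hab hdc hv h' h1 h2.symm,
    vchar_pairs_aux hb ha hc hd hba hcd hu (by rw [← neg_sub, cfdot_neg_left, h, neg_zero])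
      h1.symm h2,
    vchar_pairs_aux hb ha hd hc hba hdc hv (by rw [← neg_sub, cfdot_neg_left, h', neg_zero])
      h1.symm h2.symm⟩

theorem orthonormal_vchar_diff_ortho {X : Subgroup G} {a b c d : G → ℂ} (ha : IsDirr X a)
    (hb : IsDirr X b) (hc : IsDirr X c) (hd : IsDirr X d) (hab : cfdot X a b = 0)
    (hcd : cfdot X c d = 0) (h : cfdot X (a - b) (c - d) = 0) (h1 : a 1 = b 1) (h2 : c 1 = d 1) :
    cfdot X a c = 0 :=
  (vchar_pairs_orthonormal ha hb hc hd hab hcd one_ne_zero one_ne_zero (by simpa using h) h1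
    (by simpa using h2)).1

/-! ### Hypothesis (4.2) -/

theorem PrimeTI.K_le (h : PrimeTI L K W W1 W2) : K ≤ L := h.compl.1

theorem PrimeTI.W1_le_L (h : PrimeTI L K W W1 W2) : W1 ≤ L := h.compl.2.1

theorem PrimeTI.W_le (h : PrimeTI L K W W1 W2) : W ≤ L :=
  h.sup_eq ▸ sup_le h.W1_le_L (h.W2_le.trans h.K_le)

theorem PrimeTI.relIndex (h : PrimeTI L K W W1 W2) : K.relIndex L = Nat.card W1 :=
  IsComplIn_relIndex h.compl

theorem PrimeTI.eq_one (h : PrimeTI L K W W1 W2) {x : G} (hK : x ∈ K) (hx : x ∈ W1) : x = 1 :=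
  mem_bot.1 (h.compl.2.2.1 ▸ mem_inf.2 ⟨hK, hx⟩)

theorem PrimeTI.mem_W2 (h : PrimeTI L K W W1 W2) {x k : G} (hx : x ∈ W1) (h1 : x ≠ 1) (hk : k ∈ K)
    (hc : k * x = x * k) : k ∈ W2 :=
  h.cent x hx h1 ▸ mem_inf.2 ⟨hk, mem_centralizer_singleton_iff.2 hc⟩

theorem PrimeTI.dprod (h : PrimeTI L K W W1 W2) : DProdIn W1 W2 W := by
  refine dprodIn_of_sup h.sup_eq (eq_bot_iff.2 fun x hx => h.eq_one (h.W2_le hx.2) hx.1)
    fun x hx y hy => ?_
  by_cases h1 : x = 1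
  · simp [h1]
  · rw [← h.cent x hx h1] at hy
    exact (mem_centralizer_singleton_iff.1 hy.2).symm

theorem PrimeTI.inf_K (h : PrimeTI L K W W1 W2) : W ⊓ K = W2 := by
  refine le_antisymm (fun w hw => ?_) (le_inf (h.sup_eq ▸ le_sup_right) h.W2_le)
  obtain ⟨x, hx, y, hy, rfl⟩ := h.dprod.compl.2.2.2 w hw.1
  rw [h.eq_one ((K.mul_mem_cancel_right (h.W2_le hy)).1 hw.2) hx, one_mul]
  exact hy

theorem PrimeTI.commutator_le (h : PrimeTI L K W W1 W2) : ⁅L, L⁆ ≤ K := by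
  refine Subgroup.commutator_le.2 fun a ha b hb => ?_
  obtain ⟨k, hk, x, hx, rfl⟩ := h.compl.2.2.2 a ha
  obtain ⟨k', hk', x', hx', rfl⟩ := h.compl.2.2.2 b hb
  have e := comm_of_isCyclic h.W1_cyclic x hx x' hx'
  have : ⁅k * x, k' * x'⁆ = k * (x * k' * x⁻¹) * (x' * k⁻¹ * x'⁻¹) * k'⁻¹ := by
    rw [commutatorElement_def]
    calc _ = k * (x * k' * x⁻¹) * (x * x' * x⁻¹) * k⁻¹ * x'⁻¹ * k'⁻¹ := by group
      _ = _ := by rw [e]; group
  rw [this]
  exact K.mul_mem (K.mul_mem (K.mul_mem hk ((norm_conj_mem (h.normal (h.W1_le_L hx))).2 hk'))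
    ((norm_conj_mem (h.normal (h.W1_le_L hx'))).2 (K.inv_mem hk))) (K.inv_mem hk')

theorem PrimeTI.coprime_W (h : PrimeTI L K W W1 W2) : (Nat.card W1).Coprime (Nat.card W2) :=
  (h.coprime.coprime_dvd_left (card_dvd_of_le h.W2_le)).symm

theorem PrimeTI.W_cyclic (h : PrimeTI L K W W1 W2) : IsCyclic W := by
  obtain ⟨x, hx, ox, -⟩ := exists_generator h.W1_cyclic
  obtain ⟨y, hy, oy, -⟩ := exists_generator h.W2_cyclic
  have hd := h.dprod
  refine isCyclic_of_orderOf_eq_card ⟨x * y, W.mul_mem (hd.compl.1 hx) (hd.compl.2.1 hy)⟩ ?_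
  rw [← Subgroup.orderOf_coe, IsComplIn_card hd.compl, ← ox, ← oy]
  exact Commute.orderOf_mul_eq_mul_orderOf_of_coprime (hd.comm x hx y hy)
    (ox ▸ oy ▸ h.coprime_W)

theorem PrimeTI.conj_eq (h : PrimeTI L K W W1 W2) {x a : G} (hx : x ∈ W) (ha : a ∈ W) :
    x * a * x⁻¹ = a := by
  rw [comm_of_isCyclic h.W_cyclic x hx a ha, mul_inv_cancel_right]

theorem PrimeTI.notMem_W2 (h : PrimeTI L K W W1 W2) {x y : G} (hx : x ∈ W1) (h1 : x ≠ 1)
    (hy : y ∈ W2) : x * y ∉ W2 :=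
  fun e => h1 (h.eq_one (h.W2_le ((W2.mul_mem_cancel_right hy).1 e)) hx)

/-- Peterfalvi (4.3)(a). -/
theorem PrimeTI.normedTI_prTIset (h : PrimeTI L K W W1 W2) :
    NormedTI ((W : Set G) \ W2) L W := by
  have hd := h.dprod
  refine ⟨?_, h.W_le, fun x hx a ha => by rwa [h.conj_eq hx ha.1], fun g hg a ha ha' => ?_⟩
  · obtain ⟨⟨x, hx⟩, h1⟩ := ne_bot_iff_exists_ne_one.1 h.W1_ne
    exact ⟨x, hd.compl.1 hx, fun e => h1 (Subtype.ext (h.eq_one (h.W2_le e) hx))⟩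
  obtain ⟨x, hx, y, hy, rfl⟩ := hd.compl.2.2.2 a ha.1
  obtain ⟨x', hx', y', hy', e⟩ := hd.compl.2.2.2 _ ha'.1
  have h1 : x ≠ 1 := fun e => ha.2 (by rw [e, one_mul]; exact hy)
  have e1 := conj_eq_of_conj_mul_eq h.coprime_W (orderOf_dvd_card_of_mem hx)
    (orderOf_dvd_card_of_mem hy) (orderOf_dvd_card_of_mem hx') (orderOf_dvd_card_of_mem hy')
    (hd.comm x hx y hy) (hd.comm x' hx' y' hy') e
  obtain ⟨k, hk, w, hw, rfl⟩ := h.compl.2.2.2 g hg
  have e2 : k * x * k⁻¹ = x' := by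
    rw [← e1]
    conv_lhs => rw [← h.conj_eq (hd.compl.1 hw) (hd.compl.1 hx)]
    group
  have e3 : x' * x⁻¹ = 1 := h.eq_one (by
    rw [← e2, show k * x * k⁻¹ * x⁻¹ = k * (x * k⁻¹ * x⁻¹) by group]
    exact K.mul_mem hk ((norm_conj_mem (h.normal (h.W1_le_L hx))).2 (K.inv_mem hk)))
    (W1.mul_mem hx' (W1.inv_mem hx))
  rw [mul_inv_eq_one.1 e3, mul_inv_eq_iff_eq_mul] at e2
  exact W.mul_mem (hd.compl.2.1 (h.mem_W2 hx h1 hk e2)) (hd.compl.1 hw)

theorem PrimeTI.cent_prTIset (h : PrimeTI L K W W1 W2) {x : G} (hx : x ∈ W) (hx2 : x ∉ W2) :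
    L ⊓ centralizer ({x} : Set G) = W := by
  exact le_antisymm (h.normedTI_prTIset.cent_le ⟨hx, hx2⟩) (le_inf h.W_le fun y hy =>
    mem_centralizer_singleton_iff.2 (comm_of_isCyclic h.W_cyclic y hy x hx))

/-- Every element of `L \ K` is conjugate to an element of `W \ W₂`. -/
theorem PrimeTI.exists_conj_mem (h : PrimeTI L K W W1 W2) {x : G} (hx : x ∈ L) (hxK : x ∉ K) :
    ∃ y ∈ K, y * x * y⁻¹ ∈ W ∧ y * x * y⁻¹ ∉ W2 := by
  obtain ⟨k, hk, w, hw, rfl⟩ := h.compl.2.2.2 x hx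
  have h1 : w ≠ 1 := fun e => hxK (by rw [e, mul_one]; exact hk)
  obtain ⟨y, hy, c, hc, hcw, e⟩ := exists_conj_cent_rcoset (h.normal (h.W1_le_L hw))
    (h.coprime.symm.coprime_dvd_left (orderOf_dvd_card_of_mem hw)) hk
  have hc2 := h.mem_W2 hw h1 hc hcw
  refine ⟨y, hy, ?_⟩
  rw [e, hcw]
  exact ⟨W.mul_mem (h.dprod.compl.1 hw) (h.dprod.compl.2.1 hc2), h.notMem_W2 hw h1 hc2⟩

/-- Second part of Peterfalvi (4.3)(a). -/
theorem PrimeTI.cycTI (h : PrimeTI L K W W1 W2) : CycTI L W W1 W2 := by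
  refine ⟨h.sup_eq, h.dprod.compl.2.2.1, h.W_cyclic, h.odd, h.normedTI_prTIset.mono
    (fun x hx => ⟨hx.1, (mem_cycTIset.1 hx).2.2⟩) ?_ fun x hx a ha => by rwa [h.conj_eq hx ha.1]⟩
  obtain ⟨⟨x, hx⟩, h1⟩ := ne_bot_iff_exists_ne_one.1 h.W1_ne
  obtain ⟨⟨y, hy⟩, h2⟩ := ne_bot_iff_exists_ne_one.1 h.W2_ne
  exact ⟨x * y, mem_cycTIset.2 ⟨W.mul_mem (h.dprod.compl.1 hx) (h.dprod.compl.2.1 hy),
    fun e => h2 (Subtype.ext (h.eq_one (h.W2_le hy) ((W1.mul_mem_cancel_left hx).1 e))),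
    h.notMem_W2 hx (fun e => h1 (Subtype.ext e)) hy⟩⟩

theorem prTIsign_cases (j : Irr W2) :
    prTIsign L W W1 W2 j = 1 ∨ prTIsign L W W1 W2 j = -1 := by
  unfold prTIsign; split_ifs <;> simp

theorem prTIsign_mul_self (j : Irr W2) :
    (prTIsign L W W1 W2 j : ℂ) * prTIsign L W W1 W2 j = 1 := by
  rcases prTIsign_cases (L := L) (W := W) (W1 := W1) j with h | h <;> simp [h]

theorem prTIsign_ne_zero (j : Irr W2) : (prTIsign L W W1 W2 j : ℂ) ≠ 0 :=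
  left_ne_zero_of_mul_eq_one (prTIsign_mul_self j)

theorem PrimeTI.sub_cycW_on (h : PrimeTI L K W W1 W2) (i i' : Irr W1) (j : Irr W2) :
    cycW W1 W2 i j - cycW W1 W2 i' j ∈ CFon W ((W : Set G) \ W2) := by
  have hc := h.cycTI
  have hW := (CF W).sub_mem (hc.cycW_irr i j).mem_CF (hc.cycW_irr i' j).mem_CF
  refine mem_CFon.2 ⟨hW, fun x hx => ?_⟩
  by_cases hxW : x ∈ W
  · have h2 : x ∈ W2 := by_contra fun h2 => hx ⟨hxW, h2⟩
    rw [Pi.sub_apply, hc.cycW_apply_right i j h2, hc.cycW_apply_right i' j h2, sub_self]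
  · exact CF_zero hW hxW

theorem PrimeTI.cfInd_sub_cycW (h : PrimeTI L K W W1 W2) (i i' : Irr W1) (j : Irr W2) :
    cfInd W L (cycW W1 W2 i j - cycW W1 W2 i' j) =
      cycEta L W W1 W2 i j - cycEta L W W1 W2 i' j := by
  by_cases e : i = i'
  · simp [e]
  have hc := h.cycTI
  have hon := h.sub_cycW_on i i' j
  have := hc.symm.eq_signed_sub_cTIiso (φ := cfInd W L (cycW W1 W2 i j - cycW W1 W2 i' j))
    (ZIrr_cfInd h.W_le ((ZIrr W).sub_mem (hc.cycW_irr i j).mem_ZIrr (hc.cycW_irr i' j).mem_ZIrr))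
    (by
      rw [cfnorm_eq_of_cfdot (normedTI_isometry h.normedTI_prTIset hon hon),
        cfnorm_sub_of_ortho (by rw [hc.cfdot_cycW, if_neg fun h => e h.1]),
        (hc.cycW_irr i j).cfnorm, (hc.cycW_irr i' j).cfnorm, one_add_one_eq_two])
    (Or.inl rfl) (i := j) e fun x hx => by
      rw [cycTIset_comm] at hx
      rw [normedTI_Ind_id h.normedTI_prTIset hon ⟨hx.1, (mem_cycTIset.1 hx).2.2⟩ (h.W_le hx.1),
        hc.cycEta_comm, hc.cycEta_comm, hc.cycEta_apply i j hx, hc.cycEta_apply i' j hx]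
      simp
  rw [this, hc.cycEta_comm, hc.cycEta_comm]
  simp

theorem PrimeTI.cycEta_apply_one (h : PrimeTI L K W W1 W2) (i : Irr W1) (j : Irr W2) :
    cycEta L W W1 W2 i j 1 = cycEta L W W1 W2 1 j 1 := by
  have := congrFun (h.cfInd_sub_cycW i 1 j) 1
  rw [cfInd_one h.W_le, CFon_zero (h.sub_cycW_on i 1 j) (fun e => e.2 W2.one_mem), mul_zero] at this
  exact sub_eq_zero.1 this.symm

/-- Peterfalvi (4.3)(b). -/
theorem PrimeTI.prTIirr_irr (h : PrimeTI L K W W1 W2) (i : Irr W1) (j : Irr W2) :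
    IsIrr L (prTIirr L W W1 W2 i j) := by
  have hc := h.cycTI
  have h1 := h.cycEta_apply_one i j
  unfold prTIirr prTIsign
  split_ifs with e
  · rw [Int.cast_one, one_smul]
    exact isIrr_of_cfnorm (hc.cycEta_vchar i j) (hc.cfnorm_cycEta i j) (h1 ▸ e.one_re_pos.le)
  · rw [Int.cast_neg, Int.cast_one, neg_one_smul]
    refine isIrr_of_cfnorm ((ZIrr L).neg_mem (hc.cycEta_vchar i j))
      (by rw [cfnorm_neg, hc.cfnorm_cycEta]) ?_
    rw [Pi.neg_apply, h1]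
    exact ((hc.cycEta_dirr 1 j).resolve_left e).one_re_pos.le

theorem cycTIiso_prTIirr (i : Irr W1) (j : Irr W2) :
    cycEta L W W1 W2 i j = (prTIsign L W W1 W2 j : ℂ) • prTIirr L W W1 W2 i j := by
  rw [prTIirr, smul_smul, prTIsign_mul_self, one_smul]

theorem PrimeTI.cfdot_prTIirr (h : PrimeTI L K W W1 W2) (i i' : Irr W1) (j j' : Irr W2) :
    cfdot L (prTIirr L W W1 W2 i j) (prTIirr L W W1 W2 i' j') =
      if i = i' ∧ j = j' then 1 else 0 := by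
  rw [prTIirr, prTIirr, cfdot_smul_left, cfdot_intCast_smul_right, h.cycTI.cfdot_cycEta]
  split_ifs with e
  · rw [e.2, mul_one, prTIsign_mul_self]
  · simp

theorem PrimeTI.prTIirr_inj (h : PrimeTI L K W W1 W2) {i i' : Irr W1} {j j' : Irr W2} :
    prTIirr L W W1 W2 i j = prTIirr L W W1 W2 i' j' ↔ i = i' ∧ j = j' := by
  refine ⟨fun e => by_contra fun e' => ?_, fun e => by rw [e.1, e.2]⟩
  have := h.cfdot_prTIirr i i' j j'
  rw [if_neg e', ← e, (h.prTIirr_irr i j).cfdot_self] at this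
  exact one_ne_zero this

theorem PrimeTI.cfInd_sub_prTIirr (h : PrimeTI L K W W1 W2) (i i' : Irr W1) (j : Irr W2) :
    cfInd W L (cycW W1 W2 i j - cycW W1 W2 i' j) =
      (prTIsign L W W1 W2 j : ℂ) • (prTIirr L W W1 W2 i j - prTIirr L W W1 W2 i' j) := by
  rw [h.cfInd_sub_cycW, cycTIiso_prTIirr, cycTIiso_prTIirr, smul_sub]

open Classical in
theorem sum_irr_lin_apply (hc : IsCyclic W1) (x : G) :
    ∑ i : Irr W1, i x = if x = 1 then (Nat.card W1 : ℂ) else 0 := by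
  rw [← sum_irr_one_mul']
  exact Finset.sum_congr rfl fun i _ => by rw [(i.2.isLin_of_isCyclic hc).one, one_mul]

/-- On `CF(W, W \ W₂)` the isometry `σ` is induction. -/
theorem PrimeTI.cfInd_eq_iso (h : PrimeTI L K W W1 W2) (hφ : φ ∈ CFon W ((W : Set G) \ W2)) :
    cfInd W L φ = cycTIiso L W W1 W2 φ := by
  have hc := h.cycTI
  have h0 : ∀ j, ∑ i, cfdot W φ (cycW W1 W2 i j) = 0 := fun j => by
    rw [← cfdot_sum_right]
    refine cfdot_eq_zero_of_supp fun x hx => ?_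
    obtain ⟨a, ha, b, hb, rfl⟩ := h.dprod.compl.2.2.2 x hx
    by_cases h1 : a = 1
    · exact Or.inl (CFon_zero hφ fun e => e.2 (by rw [h1, one_mul]; exact hb))
    · right
      simp only [Finset.sum_apply, hc.cycW_apply _ j ha hb]
      rw [← Finset.sum_mul, sum_irr_lin_apply h.W1_cyclic, if_neg h1, zero_mul]
  have h1 : φ = ∑ i, ∑ j, cfdot W φ (cycW W1 W2 i j) • (cycW W1 W2 i j - cycW W1 W2 1 j) := by
    simp only [smul_sub, Finset.sum_sub_distrib]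
    rw [Finset.sum_comm (f := fun i j => cfdot W φ (cycW W1 W2 i j) • cycW W1 W2 1 j)]
    simp only [← Finset.sum_smul, h0, zero_smul, Finset.sum_const_zero, sub_zero]
    rw [← hc.sum_irr fun χ => cfdot W φ χ • χ]
    exact cfun_sum_cfdot (CFon_CF hφ)
  rw [h1]
  simp only [map_sum, map_smul, h.cfInd_sub_cycW]
  simp only [map_sub, cycEta]

theorem PrimeTI.conj_mem_prTIset (h : PrimeTI L K W W1 W2) :
    ∀ x ∈ W, ∀ a ∈ (W : Set G) \ W2, x * a * x⁻¹ ∈ (W : Set G) \ W2 :=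
  h.normedTI_prTIset.conj_mem

theorem PrimeTI.cycEta_id (h : PrimeTI L K W W1 W2) (i : Irr W1) (j : Irr W2) {x : G}
    (hx : x ∈ W) (hx2 : x ∉ W2) : cycEta L W W1 W2 i j x = cycW W1 W2 i j x := by
  have hc := h.cycTI
  rw [← cfRes_apply (φ := cycEta L W W1 W2 i j) hx]
  refine eq_on_of_cfdot_CFon Set.sdiff_subset h.conj_mem_prTIset
    (cfRes_mem_CF h.W_le (hc.cycEta_mem_CF i j)) (hc.cycW_irr i j).mem_CF (fun φ hφ => ?_) x ⟨hx, hx2⟩
  rw [← cfdot_cfInd_cfRes h.W_le (hc.cycEta_mem_CF i j), h.cfInd_eq_iso hφ]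
  exact hc.isometry (CFon_CF hφ) (hc.cycW_irr i j).mem_CF

/-- Peterfalvi (4.3)(c). -/
theorem PrimeTI.prTIirr_id (h : PrimeTI L K W W1 W2) (i : Irr W1) (j : Irr W2) {x : G}
    (hx : x ∈ W) (hx2 : x ∉ W2) :
    prTIirr L W W1 W2 i j x = prTIsign L W W1 W2 j * cycW W1 W2 i j x := by
  rw [prTIirr, Pi.smul_apply, h.cycEta_id i j hx hx2, smul_eq_mul]

theorem PrimeTI.not_prTIirr_vanish (h : PrimeTI L K W W1 W2) (hχ : IsIrr L χ)
    (hne : ∀ i j, χ ≠ prTIirr L W W1 W2 i j) {x : G} (hx : x ∈ W) (hx2 : x ∉ W2) : χ x = 0 := by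
  have hc := h.cycTI
  rw [← cfRes_apply (φ := χ) hx]
  refine eq_zero_on_of_ortho_CFon Set.sdiff_subset h.conj_mem_prTIset
    (cfRes_mem_CF h.W_le hχ.mem_CF) (fun φ hφ => ?_) x ⟨hx, hx2⟩
  rw [← cfdot_cfInd_cfRes h.W_le hχ.mem_CF, h.cfInd_eq_iso hφ, cfun_sum_cfdot (CFon_CF hφ),
    hc.sum_irr fun ξ => cfdot W φ ξ • ξ]
  simp only [map_sum, map_smul, cfdot_sum_left, cfdot_smul_left]
  refine Finset.sum_eq_zero fun i _ => Finset.sum_eq_zero fun j _ => ?_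
  rw [← cycEta, cycTIiso_prTIirr, cfdot_smul_left,
    (h.prTIirr_irr i j).cfdot_ne hχ (hne i j).symm, mul_zero, mul_zero]

/-- Peterfalvi (4.3)(d). -/
theorem PrimeTI.prTIirr1_mod (h : PrimeTI L K W W1 W2) (i : Irr W1) (j : Irr W2) :
    ∃ n : ℤ, prTIirr L W W1 W2 i j 1 = prTIsign L W W1 W2 j + n * Nat.card W1 := by
  obtain ⟨n, hn⟩ := ZIrr_cfdot_int ((ZIrr W1).sub_mem
    (ZIrr_cfRes h.W1_le_L (h.prTIirr_irr i j).mem_ZIrr)
    (intCast_smul_mem i.mem_ZIrr (prTIsign L W W1 W2 j))) cf1_mem_ZIrr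
  refine ⟨n, ?_⟩
  rw [cfdot_cf1_right, Finset.sum_eq_single_of_mem 1 (mem_elems.2 W1.one_mem) fun x hx h1 => by
    have hx := mem_elems.1 hx
    rw [Pi.sub_apply, cfRes_apply hx, h.prTIirr_id i j (h.cycTI.W1_le hx)
      (fun e => h1 (h.eq_one (h.W2_le e) hx)), h.cycTI.cycW_apply_left i j hx]
    simp] at hn
  rw [← hn]
  simp only [Pi.sub_apply, cfRes_one, Pi.smul_apply, (h.cycTI.lin_W1 i).one, smul_eq_mul]
  field_simp [card_ne_zero W1]
  ring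

theorem PrimeTI.prTIsign_aut (h : PrimeTI L K W W1 W2) (u : ℂ →+* ℂ) (j : Irr W2) :
    prTIsign L W W1 W2 (j.aut u) = prTIsign L W W1 W2 j := by
  have e := h.cycTI.cycEta_aut u 1 j
  rw [Irr.aut_one] at e
  unfold prTIsign
  rw [e]
  by_cases h1 : IsIrr L (cycEta L W W1 W2 1 j)
  · rw [if_pos h1, if_pos (h1.cfAut u)]
  · rw [if_neg h1, if_neg fun h2 => h2.ne_neg (((h.cycTI.cycEta_dirr 1 j).resolve_left h1).cfAut u)
      (by rw [cfAut_neg, neg_neg])]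

theorem PrimeTI.prTIirr_aut (h : PrimeTI L K W W1 W2) (u : ℂ →+* ℂ) (i : Irr W1) (j : Irr W2) :
    prTIirr L W W1 W2 (i.aut u) (j.aut u) = cfAut u (prTIirr L W W1 W2 i j) := by
  rw [prTIirr, prTIirr, h.prTIsign_aut, h.cycTI.cycEta_aut, cfAut_smul, map_intCast]

theorem PrimeTI.prTIred_aut (h : PrimeTI L K W W1 W2) (u : ℂ →+* ℂ) (j : Irr W2) :
    prTIred L W W1 W2 (j.aut u) = cfAut u (prTIred L W W1 W2 j) := by
  rw [prTIred, prTIred, cfAut_sum, ← Irr.sum_aut u]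
  exact Finset.sum_congr rfl fun i _ => h.prTIirr_aut u i j

theorem PrimeTI.prTIred_char (h : PrimeTI L K W W1 W2) (j : Irr W2) :
    IsChar L (prTIred L W W1 W2 j) :=
  isChar_sum _ _ fun i _ => (h.prTIirr_irr i j).isChar

theorem PrimeTI.cfdot_prTIirr_red (h : PrimeTI L K W W1 W2) (i : Irr W1) (j k : Irr W2) :
    cfdot L (prTIirr L W W1 W2 i j) (prTIred L W W1 W2 k) = if j = k then 1 else 0 := by
  rw [prTIred, cfdot_sum_right]
  simp only [h.cfdot_prTIirr]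
  split_ifs with e <;> simp [e]

theorem PrimeTI.cfdot_prTIred (h : PrimeTI L K W W1 W2) (j k : Irr W2) :
    cfdot L (prTIred L W W1 W2 j) (prTIred L W W1 W2 k) =
      if j = k then (Nat.card W1 : ℂ) else 0 := by
  rw [prTIred, cfdot_sum_left]
  simp only [h.cfdot_prTIirr_red]
  split_ifs with e <;> simp [h.cycTI.card_irr_W1]

theorem PrimeTI.cfnorm_prTIred (h : PrimeTI L K W W1 W2) (j : Irr W2) :
    cfnorm L (prTIred L W W1 W2 j) = Nat.card W1 :=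
  cfnorm_eq_of_cfdot_eq (by rw [h.cfdot_prTIred, if_pos rfl]; simp)

theorem PrimeTI.prTIred_neq0 (h : PrimeTI L K W W1 W2) (j : Irr W2) :
    prTIred L W W1 W2 j ≠ 0 := by
  intro e
  have := h.cfdot_prTIred j j
  rw [if_pos rfl, e, cfdot_zero_left] at this
  exact card_ne_zero W1 this.symm

theorem PrimeTI.prTIred_1_neq0 (h : PrimeTI L K W W1 W2) (j : Irr W2) :
    prTIred L W W1 W2 j 1 ≠ 0 := (h.prTIred_char j).one_ne_zero (h.prTIred_neq0 j)

theorem PrimeTI.prTIred_inj (h : PrimeTI L K W W1 W2) :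
    Function.Injective (prTIred L W W1 W2) := by
  intro j k e
  by_contra e'
  have := h.cfdot_prTIred j k
  rw [if_neg e', ← e, h.cfdot_prTIred, if_pos rfl] at this
  exact card_ne_zero W1 this

theorem PrimeTI.prTIred_not_real (h : PrimeTI L K W W1 W2) {j : Irr W2} (hj : j ≠ 1) :
    cfConjC (prTIred L W W1 W2 j) ≠ prTIred L W W1 W2 j := by
  intro e
  rw [cfConjC, ← h.prTIred_aut] at e
  exact hj ((Irr.conj_eq_self h.cycTI.odd_W2 j).1 (h.prTIred_inj e))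

theorem PrimeTI.prTIred_not_irr (h : PrimeTI L K W W1 W2) (j : Irr W2) :
    ¬ IsIrr L (prTIred L W W1 W2 j) := by
  intro e
  have h1 := h.cfnorm_prTIred j
  have h2 := h.cycTI.three_le_W1
  rw [e.cfnorm] at h1
  have : Nat.card W1 = 1 := by exact_mod_cast h1.symm
  omega

theorem PrimeTI.prTIsign0 (h : PrimeTI L K W W1 W2) : prTIsign L W W1 W2 1 = 1 := by
  rw [prTIsign, h.cycTI.cycEta_one, if_pos (isIrr_cf1 L)]

theorem PrimeTI.prTIirr00 (h : PrimeTI L K W W1 W2) : prTIirr L W W1 W2 1 1 = cf1 L := by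
  rw [prTIirr, h.prTIsign0, h.cycTI.cycEta_one, Int.cast_one, one_smul]

theorem PrimeTI.prTIirr0_eq (h : PrimeTI L K W W1 W2) (i : Irr W1) :
    prTIirr L W W1 W2 i 1 = cfProd K W1 (cf1 K) i := by
  have hc := h.cycTI
  rw [prTIirr, h.prTIsign0, Int.cast_one, one_smul]
  refine (hc.eq_in_cycTIiso (hc.cycW_irr i 1) (sdprod_isIrr h.compl h.normal i.irr).isDirr
    fun w hw => ?_).symm
  obtain ⟨x, hx, y, hy, -, -, rfl⟩ := hc.exists_mul hw
  rw [hc.cycW_apply i 1 hx hy, h.dprod.comm x hx y hy, cfProd_apply h.compl.2.2.1 (h.W2_le hy) hx,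
    cf1_apply (h.W2_le hy), Irr.coe_one, cf1_apply hy, mul_comm]

/-- Peterfalvi (4.4). -/
theorem PrimeTI.prTIirr0P (h : PrimeTI L K W W1 W2) (hχ : IsIrr L χ) :
    K ≤ cfker L χ ↔ ∃ i, χ = prTIirr L W W1 W2 i 1 := by
  refine ⟨fun hk => ?_, ?_⟩
  · obtain ⟨i, hi⟩ : ∃ i : Irr W1, (i : G → ℂ) = cfRes W1 χ :=
      ⟨⟨_, hχ.cfRes_of_mul h.W1_le_L hk h.compl.2.2.2⟩, rfl⟩
    exact ⟨i, by rw [h.prTIirr0_eq, hi]; exact sdprod_eq_of_le_cfker h.compl hχ.mem_CF hk⟩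
  · rintro ⟨i, rfl⟩
    rw [h.prTIirr0_eq]
    exact sdprod_le_cfker h.compl

theorem PrimeTI.prTIirr0_linear (h : PrimeTI L K W W1 W2) (i : Irr W1) :
    IsLin L (prTIirr L W W1 W2 i 1) := by
  refine (h.prTIirr_irr i 1).isLin ?_
  rw [h.prTIirr0_eq, cfProd_one h.compl.2.2.1, cf1_one, (h.cycTI.lin_W1 i).one, mul_one]

theorem PrimeTI.prTIirr_eq_mul (h : PrimeTI L K W W1 W2) (i : Irr W1) (j : Irr W2) :
    prTIirr L W W1 W2 i j = prTIirr L W W1 W2 i 1 * prTIirr L W W1 W2 1 j := by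
  have hc := h.cycTI
  have := hc.eq_in_cycTIiso (hc.cycW_irr i j) (isDirr_sign_smul
    ((h.prTIirr0_linear i).mul_irr (h.prTIirr_irr 1 j)).isDirr
      (prTIsign_cases (L := L) (W := W) (W1 := W1) j)) fun w hw => by
    obtain ⟨h1, -, h2⟩ := mem_cycTIset.1 hw
    rw [Pi.smul_apply, Pi.mul_apply, h.prTIirr_id i 1 h1 h2, h.prTIirr_id 1 j h1 h2, h.prTIsign0,
      hc.cycW_split i j, Pi.mul_apply, smul_eq_mul]
    linear_combination cycW W1 W2 i 1 w * cycW W1 W2 1 j w *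
      prTIsign_mul_self (L := L) (W := W) (W1 := W1) j
  conv_lhs => rw [prTIirr, cycEta, ← this, smul_smul, prTIsign_mul_self, one_smul]

/-- First part of Peterfalvi (4.5)(a). -/
theorem PrimeTI.cfRes_prTIirr (h : PrimeTI L K W W1 W2) (i : Irr W1) (j : Irr W2) :
    cfRes K (prTIirr L W W1 W2 i j) = prTIres L K W W1 W2 j := by
  rw [h.prTIirr_eq_mul, cfRes_mul_of_le_cfker (h.prTIirr0_linear i)
    ((h.prTIirr0P (h.prTIirr_irr i 1)).2 ⟨i, rfl⟩), prTIres]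

theorem PrimeTI.prTIirr_1 (h : PrimeTI L K W W1 W2) (i : Irr W1) (j : Irr W2) :
    prTIirr L W W1 W2 i j 1 = prTIirr L W W1 W2 1 j 1 := by
  rw [h.prTIirr_eq_mul, Pi.mul_apply, (h.prTIirr0_linear i).one, one_mul]

theorem PrimeTI.prTIres_1 (h : PrimeTI L K W W1 W2) (i : Irr W1) (j : Irr W2) :
    prTIres L K W W1 W2 j 1 = prTIirr L W W1 W2 i j 1 := by
  rw [← h.cfRes_prTIirr i j, cfRes_one]

theorem PrimeTI.prTIred_eq_smul (h : PrimeTI L K W W1 W2) (j : Irr W2) :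
    prTIred L W W1 W2 j = (Nat.card W1 : ℂ) • prTIres L K W W1 W2 j := by
  have h1 : ∑ i, prTIirr L W W1 W2 i 1 = (Nat.card W1 : ℂ) • cf1 K := by
    simp only [h.prTIirr0_eq]
    rw [← cfProd_sum_right]
    refine cfProd_ext' h.compl (fun k hk x hx => ?_) fun g hg => ?_
    · rw [Finset.sum_apply, sum_irr_lin_apply h.W1_cyclic, cf1_apply hk, Pi.smul_apply]
      split_ifs with e
      · simp [e, cf1_apply hk]
      · rw [cf1_apply_of_notMem fun e' => e (h.eq_one ((K.mul_mem_cancel_left hk).1 e') hx)]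
        simp
    · rw [Pi.smul_apply, cf1_apply_of_notMem fun e => hg (h.K_le e), smul_zero]
  rw [prTIred, Finset.sum_congr rfl fun i _ => h.prTIirr_eq_mul i j, ← Finset.sum_mul, h1,
    smul_mul_assoc, prTIres]
  congr 1
  ext x
  by_cases hx : x ∈ K
  · rw [Pi.mul_apply, cf1_apply hx, cfRes_apply hx, one_mul]
  · rw [Pi.mul_apply, cf1_apply_of_notMem hx, cfRes_apply_of_notMem hx, zero_mul]

theorem PrimeTI.prTIred_1 (h : PrimeTI L K W W1 W2) (i : Irr W1) (j : Irr W2) :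
    prTIred L W W1 W2 j 1 = Nat.card W1 * prTIirr L W W1 W2 i j 1 := by
  rw [h.prTIred_eq_smul, Pi.smul_apply, h.prTIres_1 i, smul_eq_mul]

theorem PrimeTI.le_inertia_prTIres (h : PrimeTI L K W W1 W2) (j : Irr W2) :
    L ≤ inertia (prTIres L K W W1 W2 j) :=
  le_inertia_of_cfRes h.normal (h.prTIirr_irr 1 j).mem_CF

theorem PrimeTI.cfInd_prTIres (h : PrimeTI L K W W1 W2) (j : Irr W2) :
    cfInd K L (prTIres L K W W1 W2 j) = prTIred L W W1 W2 j := by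
  rw [h.prTIred_eq_smul, ← h.relIndex]
  exact cfInd_of_invariant h.K_le h.normal (cfRes_mem_CF h.K_le (h.prTIirr_irr 1 j).mem_CF)
    (h.le_inertia_prTIres j)

/-- Peterfalvi (4.5)(a). -/
theorem PrimeTI.prTIres_irr (h : PrimeTI L K W W1 W2) (j : Irr W2) :
    IsIrr K (prTIres L K W W1 W2 j) := by
  refine ((h.prTIirr_irr 1 j).isChar.cfRes h.K_le).isIrr_of_cfdot ?_
  rw [← cfdot_cfRes_cfInd h.K_le (h.prTIirr_irr 1 j).mem_CF]
  exact (congrArg _ (h.cfInd_prTIres j)).trans (by rw [h.cfdot_prTIirr_red, if_pos rfl])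

theorem PrimeTI.cfRes_prTIred (h : PrimeTI L K W W1 W2) (j : Irr W2) :
    cfRes K (prTIred L W W1 W2 j) = (Nat.card W1 : ℂ) • prTIres L K W W1 W2 j := by
  rw [h.prTIred_eq_smul, map_smul, cfRes_self (h.prTIres_irr j).mem_CF]

theorem PrimeTI.prTIred_on (h : PrimeTI L K W W1 W2) (j : Irr W2) :
    prTIred L W W1 W2 j ∈ CFon L (K : Set G) := by
  rw [← h.cfInd_prTIres]; exact cfInd_normal_mem_CFon h.normal

theorem PrimeTI.prTIres_aut (h : PrimeTI L K W W1 W2) (u : ℂ →+* ℂ) (j : Irr W2) :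
    prTIres L K W W1 W2 (j.aut u) = cfAut u (prTIres L K W W1 W2 j) := by
  rw [prTIres, prTIres, cfAut_cfRes, ← h.prTIirr_aut, Irr.aut_one]

theorem PrimeTI.prTIres0 (h : PrimeTI L K W W1 W2) : prTIres L K W W1 W2 1 = cf1 K := by
  rw [prTIres, h.prTIirr00, cfRes_cf1 h.K_le]

theorem PrimeTI.prTIred0 (h : PrimeTI L K W W1 W2) :
    prTIred L W W1 W2 1 = (Nat.card W1 : ℂ) • cf1 K := by
  rw [h.prTIred_eq_smul, h.prTIres0]

theorem PrimeTI.prTIres_inj (h : PrimeTI L K W W1 W2) :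
    Function.Injective (prTIres L K W W1 W2) := by
  intro j k e
  exact h.prTIred_inj (by rw [h.prTIred_eq_smul, h.prTIred_eq_smul, e])

/-- First assertion of Peterfalvi (4.5)(b). -/
theorem PrimeTI.prTIres_irr_cases (h : PrimeTI L K W W1 W2) (hθ : IsIrr K θ) :
    (∃ j, θ = prTIres L K W W1 W2 j) ∨
      (IsIrr L (cfInd K L θ) ∧ ∀ i j, cfInd K L θ ≠ prTIirr L W W1 W2 i j) := by
  classical
  refine or_iff_not_imp_left.2 fun hne => ⟨inertia_Ind_irr h.K_le h.normal hθ fun g hg => ?_,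
    fun i j e => hne ⟨j, ((h.prTIres_irr j).eq_of_cfdot_ne hθ ?_).symm⟩⟩
  · obtain ⟨k, hk, x, hx, rfl⟩ := h.compl.2.2.2 g hg.1
    by_contra hK
    have h1 : x ≠ 1 := fun e => hK (by rw [e, mul_one]; exact hk)
    have hn := h.normal (h.W1_le_L hx)
    have h2 := card_inertia_le_card_cent hn
      (h.coprime.symm.coprime_dvd_left (orderOf_dvd_card_of_mem hx))
    rw [h.cent x hx h1, ← h.cycTI.card_irr_W2] at h2
    obtain ⟨f, hf⟩ : ∃ f : Irr W2 → Irr K, ∀ j, (f j : G → ℂ) = prTIres L K W W1 W2 j :=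
      ⟨fun j => ⟨_, h.prTIres_irr j⟩, fun _ => rfl⟩
    obtain ⟨θ, rfl⟩ : ∃ θ' : Irr K, (θ' : G → ℂ) = θ := ⟨⟨_, hθ⟩, rfl⟩
    have h3 : insert θ (Finset.univ.image f) ⊆
        Finset.univ.filter fun χ : Irr K => x ∈ inertia χ := by
      intro χ hχ
      rw [Finset.mem_filter]
      rcases Finset.mem_insert.1 hχ with rfl | hχ
      · exact ⟨Finset.mem_univ _, (Subgroup.mul_mem_cancel_left _
          (le_inertia hθ.mem_CF hk)).1 hg.2⟩
      · obtain ⟨j, -, rfl⟩ := Finset.mem_image.1 hχ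
        exact ⟨Finset.mem_univ _, hf j ▸ h.le_inertia_prTIres j (h.W1_le_L hx)⟩
    have h4 := (Finset.card_le_card h3).trans h2
    rw [Finset.card_insert_of_notMem fun e => by
        obtain ⟨j, -, e⟩ := Finset.mem_image.1 e
        exact hne ⟨j, by rw [← hf, e]⟩,
      Finset.card_image_of_injective _ fun j k e => h.prTIres_inj (by rw [← hf, ← hf, e]),
      Finset.card_univ] at h4
    omega
  · rw [← h.cfRes_prTIirr i j, ← cfdot_cfRes_cfInd h.K_le (h.prTIirr_irr i j).mem_CF, e]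
    exact (h.prTIirr_irr i j).cfdot_self_ne_zero

/-- Second assertion of Peterfalvi (4.5)(b). -/
theorem PrimeTI.prTIind_irr_cases (h : PrimeTI L K W W1 W2) (hχ : IsIrr L χ) :
    (∃ i j, χ = prTIirr L W W1 W2 i j) ∨
      ∃ θ, IsIrr K θ ∧ (∀ j, θ ≠ prTIres L K W W1 W2 j) ∧ χ = cfInd K L θ := by
  obtain ⟨θ, hθ, h0⟩ := exists_irr_under h.K_le hχ
  rw [← cfdot_cfInd_right h.K_le hχ.mem_CF] at h0
  by_cases e : ∃ j, θ = prTIres L K W W1 W2 j
  · obtain ⟨j, rfl⟩ := e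
    rw [h.cfInd_prTIres, prTIred, cfdot_sum_right] at h0
    obtain ⟨i, -, h1⟩ := Finset.exists_ne_zero_of_sum_ne_zero h0
    exact Or.inl ⟨i, j, hχ.eq_of_cfdot_ne (h.prTIirr_irr i j) h1⟩
  · exact Or.inr ⟨θ, hθ, fun j e' => e ⟨j, e'⟩,
      hχ.eq_of_cfdot_ne ((h.prTIres_irr_cases hθ).resolve_left e).1 h0⟩

theorem PrimeTI.cfInd_red_cases (h : PrimeTI L K W W1 W2) (hθ : IsIrr K θ) :
    IsIrr L (cfInd K L θ) ∨ ∃ j, θ = prTIres L K W W1 W2 j ∧ cfInd K L θ = prTIred L W W1 W2 j := by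
  rcases h.prTIres_irr_cases hθ with ⟨j, rfl⟩ | h1
  · exact Or.inr ⟨j, rfl, h.cfInd_prTIres j⟩
  · exact Or.inl h1.1

theorem PrimeTI.le_cfker_prTIirr (h : PrimeTI L K W W1 W2) (hNK : N ≤ K)
    (hn : L ≤ normalizer (N : Set G)) (i : Irr W1) (j : Irr W2) :
    N ≤ cfker L (prTIirr L W W1 W2 i j) ↔ N ⊓ W2 ≤ cfker W2 j := by
  have hc := h.cycTI
  obtain ⟨⟨x, hx⟩, h1⟩ := ne_bot_iff_exists_ne_one.1 h.W1_ne
  have h1 : x ≠ 1 := fun e => h1 (Subtype.ext e)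
  have h2 : ∀ c ∈ W2, prTIirr L W W1 W2 i j (x * c) = prTIsign L W W1 W2 j * i x * j c :=
    fun c hc' => by
      rw [h.prTIirr_id i j (W.mul_mem (hc.W1_le hx) (hc.W2_le hc')) (h.notMem_W2 hx h1 hc'),
        hc.cycW_apply i j hx hc', mul_assoc]
  have h3 : (prTIsign L W W1 W2 j : ℂ) * i x ≠ 0 :=
    mul_ne_zero (prTIsign_ne_zero j) ((hc.lin_W1 i).apply_ne_zero hx)
  have hirr := h.prTIirr_irr i j
  rw [j.isChar.le_cfker inf_le_right]
  refine ⟨fun hk c hc' => mul_left_cancel₀ h3 ?_, fun hk => by_contra fun hk' => ?_⟩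
  · rw [← h2 c hc'.2, ← h2 1 W2.one_mem, cfker_mul_right hirr.mem_CF (hk hc'.1), mul_one]
  have h4 := sum_rcoset_eq_sum_cent (hn (h.W1_le_L hx)) ((h.coprime.symm.coprime_dvd_left
    (orderOf_dvd_card_of_mem hx)).coprime_dvd_right (card_dvd_of_le hNK))
    (fun y hy => CF_conj hirr.mem_CF (h.K_le (hNK hy)))
  rw [Finset.sum_congr rfl fun n _ => CF_mul_comm hirr.mem_CF (h.W1_le_L hx) n,
    hirr.sum_eq_zero_of_not_le (hNK.trans h.K_le) hn hk', mul_zero,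
    Finset.sum_congr rfl fun c hc' => show _ = prTIsign L W W1 W2 j * i x by
      have hc' := mem_elems.1 hc'
      have h5 : c ∈ W2 := h.cent x hx h1 ▸ mem_inf.2 ⟨hNK hc'.1, hc'.2⟩
      rw [h2 c h5, hk c ⟨hc'.1, h5⟩, (hc.lin_W2 j).one, mul_one],
    sum_elems_const, nsmul_eq_mul, inv_mul_cancel_left₀ (card_ne_zero _)] at h4
  exact h3 h4.symm

/-- Substitute for passing to a quotient `L / N`. -/
theorem PrimeTI.le_cfker_prTIres (h : PrimeTI L K W W1 W2) (hNK : N ≤ K)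
    (hn : L ≤ normalizer (N : Set G)) (j : Irr W2) :
    N ≤ cfker K (prTIres L K W W1 W2 j) ↔ N ⊓ W2 ≤ cfker W2 j := by
  rw [prTIres, (h.prTIirr_irr 1 j).isChar.cfker_cfRes h.K_le, le_inf_iff,
    h.le_cfker_prTIirr hNK hn, and_iff_right hNK]

theorem PrimeTI.le_cfker_prTIred (h : PrimeTI L K W W1 W2) (hNK : N ≤ K)
    (hn : L ≤ normalizer (N : Set G)) (j : Irr W2) :
    N ≤ cfker L (prTIred L W W1 W2 j) ↔ N ⊓ W2 ≤ cfker W2 j := by
  rw [← h.cfInd_prTIres, sub_cfker_Ind_irr h.K_le hn (h.prTIres_irr j), h.le_cfker_prTIres hNK hn]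

/-- Characters of `K` trivial on a normal subgroup containing `W₂` induce irreducibly. -/
theorem PrimeTI.cfInd_irr_of_W2_le (h : PrimeTI L K W W1 W2) (hNK : N ≤ K)
    (hn : L ≤ normalizer (N : Set G)) (hW : W2 ≤ N) (hθ : IsIrr K θ) (h1 : θ ≠ cf1 K)
    (hk : N ≤ cfker K θ) : IsIrr L (cfInd K L θ) := by
  refine ((h.prTIres_irr_cases hθ).resolve_left ?_).1
  rintro ⟨j, rfl⟩
  rw [h.le_cfker_prTIres hNK hn, inf_eq_right.2 hW, ← Irr.eq_one_iff] at hk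
  exact h1 (hk ▸ h.prTIres0)

open Classical in
/-- The reducible characters `μ_j` (`j ≠ 0`) of the same degree as `μ_k`. -/
noncomputable def uniformPrTIred (L W W1 W2 : Subgroup G) (k : Irr W2) : Finset (G → ℂ) :=
  (Finset.univ.filter fun j => j ≠ 1 ∧ prTIred L W W1 W2 j 1 = prTIred L W W1 W2 k 1).image
    (prTIred L W W1 W2)

theorem mem_uniformPrTIred {k : Irr W2} : φ ∈ uniformPrTIred L W W1 W2 k ↔
    ∃ j, j ≠ 1 ∧ prTIred L W W1 W2 j 1 = prTIred L W W1 W2 k 1 ∧ φ = prTIred L W W1 W2 j := by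
  simp only [uniformPrTIred, Finset.mem_image, Finset.mem_filter, Finset.mem_univ, true_and]
  exact ⟨fun ⟨j, h1, h2⟩ => ⟨j, h1.1, h1.2, h2.symm⟩, fun ⟨j, h1, h2, h3⟩ => ⟨j, ⟨h1, h2⟩, h3.symm⟩⟩

/-! ### Hypothesis (4.6) -/

theorem PrimeDade.A_subset (h : PrimeDade L K H A A0 R W W1 W2) : A ⊆ A0 :=
  h.A0_eq ▸ Set.subset_union_left

theorem PrimeDade.cycTIset_subset (h : PrimeDade L K H A A0 R W W1 W2) :
    cycTIset W W1 W2 ⊆ A0 :=
  h.A0_eq ▸ fun a ha => Or.inr ⟨a, ha, 1, L.one_mem, by simp⟩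

theorem PrimeDade.sharp_H_subset (h : PrimeDade L K H A A0 R W W1 W2) : sharp H ⊆ A :=
  fun x hx => h.cent_sub x hx.1 hx.2 x (h.H_le hx.1) hx.2 rfl

theorem PrimeDade.dadeA (h : PrimeDade L K H A A0 R W W1 W2) : DadeHypothesis A L R :=
  restr_Dade_hyp h.dade h.A_subset h.A_conj

theorem PrimeDade.normedTI_classSupport (h : PrimeDade L K H A A0 R W W1 W2) :
    NormedTI (classSupport (cycTIset W W1 W2) L) ⊤ L := by
  obtain ⟨v, hv⟩ := h.cycTI.normedTI.nonempty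
  refine ⟨⟨v, v, hv, 1, L.one_mem, by simp⟩, le_top, ?_, ?_⟩
  · rintro x hx _ ⟨a, ha, y, hy, rfl⟩
    exact ⟨a, ha, x * y, L.mul_mem hx hy, by group⟩
  · rintro g - _ ⟨a, ha, y, hy, rfl⟩ ⟨b, hb, z, hz, e⟩
    have := h.prTI.W_le (h.cycTI.normedTI.ti (z⁻¹ * g * y) (mem_top _) a ha (by
      rw [show z⁻¹ * g * y * a * (z⁻¹ * g * y)⁻¹ = z⁻¹ * (g * (y * a * y⁻¹) * g⁻¹) * z by group, e]
      simpa [mul_assoc] using hb))
    exact (L.mul_mem_cancel_left (L.inv_mem hz)).1 ((L.mul_mem_cancel_right hy).1 this)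

theorem PrimeDade.supp_disjoint (h : PrimeDade L K H A A0 R W W1 W2) {x : G}
    (hx : x ∈ classSupport (cycTIset W W1 W2) L) : x ∉ K := by
  obtain ⟨a, ha, y, hy, rfl⟩ := hx
  rw [norm_conj_mem (h.prTI.normal hy)]
  exact fun e => (mem_cycTIset.1 ha).2.2 (h.prTI.inf_K ▸ mem_inf.2 ⟨ha.1, e⟩)

/-- The conjugates of `V` miss the support of the Dade map of `A`. -/
theorem PrimeDade.notMem_dadeSupp (h : PrimeDade L K H A A0 R W W1 W2) {x : G}
    (hx : x ∈ cycTIset W W1 W2) : x ∉ dadeSupp A R := by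
  rintro ⟨a, ha, r, hr, y, e⟩
  obtain ⟨-, z, hz, e'⟩ := Dade_support1_TI h.dade (h.A_subset ha) (h.cycTIset_subset hx) hr
    (one_mem _) (e.symm.trans (mul_one x).symm)
  exact h.supp_disjoint ⟨x, hx, 1, L.one_mem, by simp⟩ (e' ▸ (h.A_sub (h.A_conj z hz a ha)).1)

/-- Peterfalvi (4.7), part 1. -/
theorem PrimeDade.prDade_irr_on (h : PrimeDade L K H A A0 R W W1 W2) (hθ : IsIrr K θ)
    (hk : ¬ H ≤ cfker K θ) : θ ∈ CFon K (insert 1 A) := by
  refine mem_CFon.2 ⟨hθ.mem_CF, fun g hg => ?_⟩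
  by_cases hK : g ∈ K
  · refine irr_reg_off_ker_0 hθ h.H_le (h.prTI.K_le.trans h.H_normal) hk
      (eq_bot_iff.2 fun x hx => by_contra fun h1 => hg (Or.inr (h.cent_sub x hx.1 h1 g hK
        (fun e => hg (Or.inl e)) (mem_centralizer_singleton_iff.1 hx.2).symm)))
  · exact CF_zero hθ.mem_CF hK

/-- Peterfalvi (4.7), part 2. -/
theorem PrimeDade.prDade_Ind_irr_on (h : PrimeDade L K H A A0 R W W1 W2) (hθ : IsIrr K θ)
    (hk : ¬ H ≤ cfker K θ) : cfInd K L θ ∈ CFon L (insert 1 A) := by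
  refine cfInd_mem_CFon ?_ fun x hx => CFon_zero (h.prDade_irr_on hθ hk) hx
  rintro x hx a (rfl | ha)
  · simp
  · exact Or.inr (h.A_conj x hx a ha)

/-- Third part of Peterfalvi (4.7). -/
theorem PrimeDade.cfker_prTIres (h : PrimeDade L K H A A0 R W W1 W2) {j : Irr W2} (hj : j ≠ 1) :
    ¬ H ≤ cfker K (prTIres L K W W1 W2 j) := by
  rw [h.prTI.le_cfker_prTIres h.H_le h.H_normal, inf_eq_right.2 h.W2_le_H, ← Irr.eq_one_iff]
  exact hj

/-- Fourth part of Peterfalvi (4.7). -/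
theorem PrimeDade.prDade_TIres_on (h : PrimeDade L K H A A0 R W W1 W2) {j : Irr W2}
    (hj : j ≠ 1) : prTIres L K W W1 W2 j ∈ CFon K (insert 1 A) :=
  h.prDade_irr_on (h.prTI.prTIres_irr j) (h.cfker_prTIres hj)

/-- Last part of Peterfalvi (4.7). -/
theorem PrimeDade.prDade_TIred_on (h : PrimeDade L K H A A0 R W W1 W2) {j : Irr W2}
    (hj : j ≠ 1) : prTIred L W W1 W2 j ∈ CFon L (insert 1 A) := by
  rw [← h.prTI.cfInd_prTIres]
  exact h.prDade_Ind_irr_on (h.prTI.prTIres_irr j) (h.cfker_prTIres hj)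

/-- Second part of Peterfalvi (4.8). -/
theorem PrimeTI.prDade_TIsign_eq (h : PrimeTI L K W W1 W2) {i : Irr W1} {j k : Irr W2}
    (he : prTIirr L W W1 W2 i j 1 = prTIirr L W W1 W2 i k 1) :
    prTIsign L W W1 W2 j = prTIsign L W W1 W2 k := by
  obtain ⟨m, hm⟩ := h.prTIirr1_mod i j
  obtain ⟨n, hn⟩ := h.prTIirr1_mod i k
  have h3 : (3 : ℤ) ≤ Nat.card W1 := by exact_mod_cast h.cycTI.three_le_W1
  have e : prTIsign L W W1 W2 j - prTIsign L W W1 W2 k = (n - m) * Nat.card W1 := by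
    have : ((prTIsign L W W1 W2 j - prTIsign L W W1 W2 k : ℤ) : ℂ) =
        ((n - m) * Nat.card W1 : ℤ) := by
      push_cast
      linear_combination he - hm + hn
    exact_mod_cast this
  have h0 := Int.eq_zero_of_abs_lt_dvd (Dvd.intro_left _ e.symm) (by
    rcases prTIsign_cases (L := L) (W := W) (W1 := W1) j with h1 | h1 <;>
      rcases prTIsign_cases (L := L) (W := W) (W1 := W1) k with h2 | h2 <;>
      rw [h1, h2] <;> norm_num <;> omega)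
  exact sub_eq_zero.1 h0

/-- First part of Peterfalvi (4.8). -/
theorem PrimeDade.prDade_sub_TIirr_on (h : PrimeDade L K H A A0 R W W1 W2) {i : Irr W1}
    {j k : Irr W2} (hj : j ≠ 1) (hk : k ≠ 1)
    (he : prTIirr L W W1 W2 i j 1 = prTIirr L W W1 W2 i k 1) :
    prTIirr L W W1 W2 i j - prTIirr L W W1 W2 i k ∈ CFon L A0 := by
  have hp := h.prTI
  have hL := (CF L).sub_mem (hp.prTIirr_irr i j).mem_CF (hp.prTIirr_irr i k).mem_CF
  refine mem_CFon.2 ⟨hL, fun g hg => ?_⟩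
  by_cases hgL : g ∈ L
  swap
  · exact CF_zero hL hgL
  by_cases hK : g ∈ K
  · by_cases h1 : g = 1
    · rw [h1, Pi.sub_apply, he, sub_self]
    have h2 : g ∉ insert 1 A := fun e => e.elim h1 fun e => hg (h.A_subset e)
    rw [← cfRes_apply (φ := _ - _) hK, map_sub, hp.cfRes_prTIirr, hp.cfRes_prTIirr, Pi.sub_apply,
      CFon_zero (h.prDade_TIres_on hj) h2, CFon_zero (h.prDade_TIres_on hk) h2, sub_self]
  obtain ⟨y, hy, h1, h2⟩ := hp.exists_conj_mem hgL hK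
  have h3 : y * g * y⁻¹ ∈ W1 := by_contra fun h3 => hg (h.A0_eq ▸ Or.inr
    ⟨_, mem_cycTIset.2 ⟨h1, h3, h2⟩, y⁻¹, L.inv_mem (hp.K_le hy), by group⟩)
  rw [← CF_conj hL (hp.K_le hy), Pi.sub_apply, hp.prTIirr_id i j h1 h2, hp.prTIirr_id i k h1 h2,
    hp.prDade_TIsign_eq he, h.cycTI.cycW_apply_left i j h3, h.cycTI.cycW_apply_left i k h3, sub_self]

/-- Last part of Peterfalvi (4.8). -/
theorem PrimeDade.prDade_sub_TIirr (h : PrimeDade L K H A A0 R W W1 W2) {i : Irr W1}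
    {j k : Irr W2} (hj : j ≠ 1) (hk : k ≠ 1)
    (he : prTIirr L W W1 W2 i j 1 = prTIirr L W W1 W2 i k 1) :
    Dade A0 R (prTIirr L W W1 W2 i j - prTIirr L W W1 W2 i k) =
      (prTIsign L W W1 W2 j : ℂ) • (cycEta ⊤ W W1 W2 i j - cycEta ⊤ W W1 W2 i k) := by
  by_cases e : j = k
  · simp [e]
  have hp := h.prTI
  have hon := h.prDade_sub_TIirr_on hj hk he
  refine h.cycTI.eq_signed_sub_cTIiso (Dade_vchar h.dade ((ZIrr L).sub_mem
    (hp.prTIirr_irr i j).mem_ZIrr (hp.prTIirr_irr i k).mem_ZIrr) fun x hx => CFon_zero hon hx) ?_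
    (prTIsign_cases j) e fun x hx => ?_
  · rw [cfnorm_Dade h.dade hon, cfnorm_sub_of_ortho (by rw [hp.cfdot_prTIirr, if_neg fun h => e h.2]),
      (hp.prTIirr_irr i j).cfnorm, (hp.prTIirr_irr i k).cfnorm, one_add_one_eq_two]
  · obtain ⟨h1, -, h2⟩ := mem_cycTIset.1 hx
    rw [Dade_id h.dade (CFon_CF hon) (h.cycTIset_subset hx), Pi.sub_apply, hp.prTIirr_id i j h1 h2,
      hp.prTIirr_id i k h1 h2, ← hp.prDade_TIsign_eq he, h.cycTI.cycEta_apply i j hx,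
      h.cycTI.cycEta_apply i k hx, mul_sub]

theorem PrimeTI.prTIirr_1_eq (h : PrimeTI L K W W1 W2) {j k : Irr W2}
    (he : prTIred L W W1 W2 j 1 = prTIred L W W1 W2 k 1) (i : Irr W1) :
    prTIirr L W W1 W2 i j 1 = prTIirr L W W1 W2 i k 1 := by
  rw [h.prTIred_1 i, h.prTIred_1 i] at he
  exact mul_left_cancel₀ (card_ne_zero W1) he

theorem PrimeDade.prDade_sub_TIred (h : PrimeDade L K H A A0 R W W1 W2) {j k : Irr W2}
    (hj : j ≠ 1) (hk : k ≠ 1) (he : prTIred L W W1 W2 j 1 = prTIred L W W1 W2 k 1) :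
    Dade A0 R (prTIred L W W1 W2 j - prTIred L W W1 W2 k) =
      (prTIsign L W W1 W2 j : ℂ) •
        (∑ i, cycEta ⊤ W W1 W2 i j - ∑ i, cycEta ⊤ W W1 W2 i k) := by
  rw [prTIred, prTIred, ← Finset.sum_sub_distrib, ← Finset.sum_sub_distrib, map_sum,
    Finset.smul_sum]
  exact Finset.sum_congr rfl fun i _ => h.prDade_sub_TIirr hj hk (h.prTI.prTIirr_1_eq he i)

/-- Peterfalvi (4.9)(b). -/
theorem PrimeDade.uniform_prTIred_coherent (h : PrimeDade L K H A A0 R W W1 W2) {k : Irr W2}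
    (hk : k ≠ 1) :
    ∃ τ1 : CFMap G, (∀ j, τ1 (prTIred L W W1 W2 j) =
        (prTIsign L W W1 W2 k : ℂ) • ∑ i, cycEta ⊤ W W1 W2 i j) ∧
      CoherentWith L (uniformPrTIred L W W1 W2 k) (Dade A0 R) τ1 := by
  classical
  have hp := h.prTI
  obtain ⟨τ, hτ⟩ := exists_linear_of_ortho (L := L)
    (S := Finset.univ.image (prTIred L W W1 W2)) (by
      simp only [Finset.mem_image, Finset.mem_univ, true_and]
      rintro _ ⟨j, rfl⟩ _ ⟨l, rfl⟩ e
      rw [hp.cfdot_prTIred, if_neg fun e' => e (by rw [e'])]) (by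
      simp only [Finset.mem_image, Finset.mem_univ, true_and]
      rintro _ ⟨j, rfl⟩
      rw [hp.cfdot_prTIred, if_pos rfl]
      exact card_ne_zero W1)
    fun ξ => (prTIsign L W W1 W2 k : ℂ) • ∑ i, cycEta ⊤ W W1 W2 i
      (Function.invFun (prTIred L W W1 W2) ξ)
  have h1 : ∀ j, τ (prTIred L W W1 W2 j) =
      (prTIsign L W W1 W2 k : ℂ) • ∑ i, cycEta ⊤ W W1 W2 i j := fun j => by
    rw [hτ _ (Finset.mem_image_of_mem _ (Finset.mem_univ j)),
      Function.leftInverse_invFun hp.prTIred_inj j]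
  refine ⟨τ, h1, ⟨fun φ hφ ψ hψ => cfdot_map_zspan (fun ξ hξ ζ hζ => ?_) hφ hψ,
    fun φ hφ => map_mem_of_zspan τ (fun ξ hξ => ?_) hφ⟩, fun φ hφ h0 => ?_⟩
  · obtain ⟨j, -, -, rfl⟩ := mem_uniformPrTIred.1 hξ
    obtain ⟨l, -, -, rfl⟩ := mem_uniformPrTIred.1 hζ
    rw [h1, h1, cfdot_smul_left, cfdot_intCast_smul_right, ← mul_assoc, prTIsign_mul_self, one_mul,
      hp.cfdot_prTIred, cfdot_sum_left]
    simp only [cfdot_sum_right, h.cycTI.cfdot_cycEta]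
    split_ifs with e <;> simp [e, h.cycTI.card_irr_W1]
  · obtain ⟨j, -, -, rfl⟩ := mem_uniformPrTIred.1 hξ
    rw [h1]
    exact intCast_smul_mem (sum_mem fun i _ => h.cycTI.cycEta_vchar i j) _
  obtain ⟨c, rfl⟩ := mem_zspan_iff.1 hφ
  have h2 : ∑ ξ ∈ uniformPrTIred L W W1 W2 k, (c ξ : ℂ) = 0 := by
    refine (mul_eq_zero.1 ?_).resolve_right (hp.prTIred_1_neq0 k)
    rw [← h0, Finset.sum_apply, Finset.sum_mul]
    refine Finset.sum_congr rfl fun ξ hξ => ?_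
    obtain ⟨j, -, e, rfl⟩ := mem_uniformPrTIred.1 hξ
    rw [Pi.smul_apply, e, smul_eq_mul]
  have h3 : ∑ ξ ∈ uniformPrTIred L W W1 W2 k, (c ξ : ℂ) • ξ =
      ∑ ξ ∈ uniformPrTIred L W W1 W2 k, (c ξ : ℂ) • (ξ - prTIred L W W1 W2 k) := by
    simp only [smul_sub, Finset.sum_sub_distrib, ← Finset.sum_smul, h2, zero_smul, sub_zero]
  rw [h3, map_sum, map_sum]
  refine Finset.sum_congr rfl fun ξ hξ => ?_
  obtain ⟨j, hj, e, rfl⟩ := mem_uniformPrTIred.1 hξ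
  rw [map_smul, map_smul, h.prDade_sub_TIred hj hk e, map_sub, h1, h1,
    hp.prDade_TIsign_eq (hp.prTIirr_1_eq e 1), ← smul_sub]

theorem PrimeTI.uniformPrTIred_conj (h : PrimeTI L K W W1 W2) {k : Irr W2}
    (hφ : φ ∈ uniformPrTIred L W W1 W2 k) : cfConjC φ ∈ uniformPrTIred L W W1 W2 k := by
  obtain ⟨j, hj, e, rfl⟩ := mem_uniformPrTIred.1 hφ
  refine mem_uniformPrTIred.2 ⟨j.conj, fun e' => hj ((Irr.aut_eq_one _).1 e'), ?_,
    (h.prTIred_aut _ j).symm⟩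
  rw [h.prTIred_aut, ZIrr_cfAut_one (h.prTIred_char j).mem_ZIrr, e]

theorem PrimeTI.sub2_eq_cfInd (h : PrimeTI L K W W1 W2) (i : Irr W1) (j : Irr W2) :
    (prTIsign L W W1 W2 j : ℂ) • prTIirr L W W1 W2 i j -
        (prTIsign L W W1 W2 j : ℂ) • prTIirr L W W1 W2 1 j - prTIirr L W W1 W2 i 1 +
        prTIirr L W W1 W2 1 1 =
      cfInd W L (cycW W1 W2 i j - cycW W1 W2 1 j - cycW W1 W2 i 1 + cycW W1 W2 1 1) := by
  rw [← h.cycTI.cycEta_sub2, cycTIiso_prTIirr, cycTIiso_prTIirr, cycTIiso_prTIirr i 1,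
    cycTIiso_prTIirr 1 1, h.prTIsign0, Int.cast_one, one_smul, one_smul]

theorem PrimeDade.prDade_sub2_TIirr_on (h : PrimeDade L K H A A0 R W W1 W2) (i : Irr W1)
    (j : Irr W2) :
    (prTIsign L W W1 W2 j : ℂ) • prTIirr L W W1 W2 i j -
        (prTIsign L W W1 W2 j : ℂ) • prTIirr L W W1 W2 1 j - prTIirr L W W1 W2 i 1 +
        prTIirr L W W1 W2 1 1 ∈ CFon L (classSupport (cycTIset W W1 W2) L) := by
  rw [h.prTI.sub2_eq_cfInd]
  exact cfInd_mem_CFon_classSupport fun x hx => CFon_zero (h.cycTI.cfCycTI_on i 1 j 1) hx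

/-- Peterfalvi (4.10). -/
theorem PrimeDade.prDade_sub2_TIirr (h : PrimeDade L K H A A0 R W W1 W2) (i : Irr W1)
    (j : Irr W2) :
    Dade A0 R ((prTIsign L W W1 W2 j : ℂ) • prTIirr L W W1 W2 i j -
        (prTIsign L W W1 W2 j : ℂ) • prTIirr L W W1 W2 1 j - prTIirr L W W1 W2 i 1 +
        prTIirr L W W1 W2 1 1) =
      cycEta ⊤ W W1 W2 i j - cycEta ⊤ W W1 W2 1 j - cycEta ⊤ W W1 W2 i 1 +
        cycEta ⊤ W W1 W2 1 1 := by
  rw [restr_Dade_Ind h.dade (h.A0_eq ▸ Set.subset_union_right) h.normedTI_classSupport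
    (h.prDade_sub2_TIirr_on i j), h.prTI.sub2_eq_cfInd, cfInd_cfInd h.prTI.W_le le_top,
    h.cycTI.cycEta_sub2]

end CfsgLib.FT
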