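import Cfsg.Agent.Lib.FT.PF5
import Cfsg.Agent.Lib.FT.BG3
import Cfsg.Agent.Lib.FT.BG6
import Cfsg.Agent.Lib.CoprimeAction

/-!
# Peterfalvi, Section 6: some coherence theorems
-/

set_option autoImplicit false
set_option linter.unusedSectionVars false

namespace CfsgLib.FT

open Cfsg Subgroup
open scoped ComplexConjugate commutatorElement Classical

variable {G : Type*} [Group G] [Fintype G]
variable {L K H M : Subgroup G} {φ ψ χ ξ θ : G → ℂ}

/-- `H / M` is nilpotent. -/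
def NilQuo (H M : Subgroup G) : Prop := ∃ n, H.lowerCentralSeries n ≤ M

theorem NilQuo.of_isNilpotent (h : Group.IsNilpotent H) : NilQuo H M := by
  obtain ⟨n, hn⟩ := (isNilpotent_iff_lowerCentralSeries H).mp h
  exact ⟨n, hn ▸ bot_le⟩

theorem NilQuo.mono {M' : Subgroup G} (h : NilQuo H M) (hM : M ≤ M') : NilQuo H M' :=
  h.imp fun _ h => h.trans hM

theorem nilQuo_iff [(M.subgroupOf H).Normal] :
    NilQuo H M ↔ Group.IsNilpotent (H ⧸ M.subgroupOf H) := by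
  rw [Subgroup.nilpotent_iff_lowerCentralSeries]
  refine exists_congr fun n => ?_
  rw [← map_top_of_surjective _ (QuotientGroup.mk'_surjective (M.subgroupOf H)),
    ← map_lowerCentralSeries, Subgroup.map_eq_bot_iff, QuotientGroup.ker_mk',
    ← top_subtype_lowerCentralSeries, map_le_iff_le_comap]
  rfl

theorem le_normalizer_sup2 {A B : Subgroup G} (hA : L ≤ normalizer (A : Set G))
    (hB : L ≤ normalizer (B : Set G)) : L ≤ normalizer ((A ⊔ B : Subgroup G) : Set G) :=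
  (le_inf hA hB).trans (normalizer_inf_normalizer_le_normalizer_sup A B)

theorem le_normalizer_inf2 {A B : Subgroup G} (hA : L ≤ normalizer (A : Set G))
    (hB : L ≤ normalizer (B : Set G)) : L ≤ normalizer ((A ⊓ B : Subgroup G) : Set G) :=
  (le_inf hA hB).trans inf_normalizer_le_normalizer_inf

theorem lowerCentralSeries_le_self (H : Subgroup G) (n : ℕ) : H.lowerCentralSeries n ≤ H :=
  H.lowerCentralSeries_antitone (Nat.zero_le n)

/-- In a nilpotent quotient `H / M` a nontrivial normal subgroup `A / M` is not perfect relative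
to `H`. -/
theorem NilQuo.commutator_sup_lt (h : NilQuo H M) {A : Subgroup G} (hMA : M < A) (hAH : A ≤ H)
    (hM : H ≤ normalizer (M : Set G)) (hA : H ≤ normalizer (A : Set G)) : ⁅A, H⁆ ⊔ M < A := by
  refine lt_of_le_of_ne (sup_le (le_normalizer_iff_commutator_le_left.mp hA) hMA.le) fun he => ?_
  have key : ∀ n, A ≤ H.lowerCentralSeries n ⊔ M := by
    intro n
    induction n with
    | zero => exact hAH.trans le_sup_left
    | succ n ih =>
      have hn : H ≤ normalizer ((H.lowerCentralSeries (n + 1) ⊔ M : Subgroup G) : Set G) :=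
        le_normalizer_sup2 (H.self_le_normalizer_lowerCentralSeries _) hM
      rw [← he]
      refine sup_le ((commutator_mono ih le_rfl).trans ?_) le_sup_right
      exact CommCalc.commutator_sup_left_le ((lowerCentralSeries_le_self H n).trans hn)
        ((hMA.le.trans hAH).trans hn) le_sup_left
        ((le_normalizer_iff_commutator_le_left.mp hM).trans le_sup_right)
  obtain ⟨n, hn⟩ := h
  exact hMA.not_ge ((key n).trans (sup_le hn le_rfl))

theorem NilQuo.eq_of_sup_commutator (h : NilQuo K M) {P : Subgroup G} (hMP : M ≤ P) (hPK : P ≤ K)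
    (hs : K ≤ P ⊔ ⁅K, K⁆) : P = K := by
  have key : ∀ n, K ≤ P ⊔ K.lowerCentralSeries n := by
    intro n
    induction n with
    | zero => exact le_sup_right
    | succ n ih =>
      have hNK : P ⊔ K.lowerCentralSeries (n + 1) ≤ K :=
        sup_le hPK (lowerCentralSeries_le_self K _)
      have h1 : K.lowerCentralSeries n ≤
          normalizer ((P ⊔ K.lowerCentralSeries (n + 1) : Subgroup G) : Set G) :=
        le_normalizer_iff_commutator_le_right.mpr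
          ((commutator_mono le_rfl hNK).trans le_sup_right)
      have h2 : P ≤ normalizer ((P ⊔ K.lowerCentralSeries (n + 1) : Subgroup G) : Set G) :=
        le_sup_left.trans le_normalizer
      have h3 := ih.trans (sup_le h2 h1)
      refine hs.trans (sup_le le_sup_left ((commutator_mono ih le_rfl).trans ?_))
      exact CommCalc.commutator_sup_left_le h2 h1 ((commutator_mono le_sup_left le_rfl).trans
        (le_normalizer_iff_commutator_le_left.mp h3)) le_sup_right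
  obtain ⟨n, hn⟩ := h
  exact le_antisymm hPK ((key n).trans (sup_le le_rfl (hn.trans hMP)))

theorem two_mul_add_one_le_of_odd_dvd {e n : ℕ} (he : Odd e) (hn : Odd n) (h1 : 1 < n)
    (hd : e ∣ n - 1) : 2 * e + 1 ≤ n := by
  have h3 : 2 ∣ n - 1 := by obtain ⟨m, hm⟩ := hn; exact ⟨m, by omega⟩
  have h4 := Nat.le_of_dvd (by omega)
    (Nat.Coprime.mul_dvd_of_dvd_of_dvd (Nat.coprime_two_left.2 he) h3 hd)
  omega

theorem commutator_self_le (K : Subgroup G) : ⁅K, K⁆ ≤ K :=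
  le_normalizer_iff_commutator_le_left.mp le_normalizer

/-- An abelian chief factor is a `p`-group. -/
theorem exists_relIndex_eq_pow_of_chief {N : Subgroup G} (hn : L ≤ normalizer (K : Set G))
    (hNK : N < K) (hN : L ≤ normalizer (N : Set G)) (hc : ⁅K, K⁆ ≤ N)
    (hch : ∀ N' : Subgroup G, L ≤ normalizer (N' : Set G) → N ≤ N' → N' ≤ K → N' = N ∨ N' = K) :
    ∃ p k : ℕ, p.Prime ∧ N.relIndex K = p ^ k := by
  have hNn := normal_subgroupOf_of_le_norm (le_normalizer_of_commutator_le hc hNK.le)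
  let f := QuotientGroup.mk' (N.subgroupOf K)
  have hf : ∀ a : K, f a = 1 ↔ (a : G) ∈ N := fun a => QuotientGroup.eq_one_iff a
  have hcomm : ∀ a b : K, Commute (f a) (f b) := fun a b => by
    rw [← commutatorElement_eq_one_iff_commute, ← map_commutatorElement, hf]
    exact hc (commutator_mem_commutator a.2 b.2)
  obtain ⟨p, hp, hpd⟩ := Nat.exists_prime_and_dvd (one_lt_relIndex_of_lt hNK).ne'
  have : Fact p.Prime := ⟨hp⟩
  obtain ⟨y, hy⟩ := exists_prime_orderOf_dvd_card' (G := K ⧸ N.subgroupOf K) p hpd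
  obtain ⟨x, rfl⟩ := QuotientGroup.mk'_surjective _ y
  let N' : Subgroup G :=
    { carrier := {x | x ∈ K ∧ x ^ p ∈ N}
      one_mem' := ⟨K.one_mem, by simp⟩
      inv_mem' := fun h => ⟨K.inv_mem h.1, by rw [inv_pow]; exact N.inv_mem h.2⟩
      mul_mem' := fun {a b} ha hb => ⟨K.mul_mem ha.1 hb.1, by
        have h1 := (hf (⟨a, ha.1⟩ ^ p)).mpr ha.2
        have h2 := (hf (⟨b, hb.1⟩ ^ p)).mpr hb.2
        refine (hf ((⟨a, ha.1⟩ * ⟨b, hb.1⟩) ^ p)).mp ?_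
        rw [map_pow] at h1 h2 ⊢
        rw [map_mul, (hcomm _ _).mul_pow, h1, h2, mul_one]⟩ }
  rcases hch N' (le_normalizer_of_conj fun g hg a ha => ⟨(norm_conj_mem (hn hg)).mpr ha.1, by
      rw [conj_pow]; exact (norm_conj_mem (hN hg)).mpr ha.2⟩)
    (fun a ha => ⟨hNK.le ha, N.pow_mem ha p⟩) (fun a ha => ha.1) with he | he
  · exfalso
    have h1 : (x : G) ∈ N' := ⟨x.2, (hf (x ^ p)).mp (by rw [map_pow, ← hy, pow_orderOf_eq_one])⟩
    rw [he, ← hf] at h1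
    rw [show QuotientGroup.mk' (N.subgroupOf K) x = 1 from h1, orderOf_one] at hy
    exact hp.one_lt.ne hy
  · have hP : IsPGroup p (K ⧸ N.subgroupOf K) := fun y => by
      obtain ⟨z, rfl⟩ := QuotientGroup.mk'_surjective _ y
      have h1 : (z : G) ∈ N' := he.ge z.2
      exact ⟨1, by rw [pow_one, ← map_pow]; exact (hf (z ^ p)).mpr h1.2⟩
    obtain ⟨k, hk⟩ := IsPGroup.iff_card.mp hP
    exact ⟨p, k, hp, hk⟩

theorem NilQuo.exists_relIndex_eq_pow (h : NilQuo K M) (hMK : M ≤ K)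
    (hM : K ≤ normalizer (M : Set G)) {p k : ℕ} (hp : p.Prime)
    (hk : (⁅K, K⁆ ⊔ M).relIndex K = p ^ k) : ∃ n, M.relIndex K = p ^ n := by
  have : Fact p.Prime := ⟨hp⟩
  obtain ⟨P⟩ := (inferInstance : Nonempty (Sylow p K))
  set P0 := (P : Subgroup K).map K.subtype with hP0
  have hP0K : P0 ≤ K := map_subtype_le _
  have h1 : P0.relIndex K = (P : Subgroup K).index := by
    rw [relIndex, hP0, subgroupOf, comap_map_eq_self_of_injective K.subtype_injective]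
  have h2 : (P0 ⊔ M ⊔ ⁅K, K⁆).relIndex K = 1 := by
    have d1 : (P0 ⊔ M ⊔ ⁅K, K⁆).relIndex K ∣ p ^ k :=
      hk ▸ relIndex_dvd_of_le_left K (sup_le le_sup_right (le_sup_right.trans le_sup_left))
    have d2 : (P0 ⊔ M ⊔ ⁅K, K⁆).relIndex K ∣ (P : Subgroup K).index :=
      h1 ▸ relIndex_dvd_of_le_left K (le_sup_left.trans le_sup_left)
    exact Nat.eq_one_of_dvd_coprimes
      ((Nat.Coprime.pow_left k ((Nat.Prime.coprime_iff_not_dvd hp).mpr P.not_dvd_index))) d1 d2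
  have h3 := h.eq_of_sup_commutator le_sup_right (sup_le hP0K hMK) (relIndex_eq_one.mp h2)
  obtain ⟨j, hj⟩ := IsPGroup.iff_card.mp (P.isPGroup'.map K.subtype)
  have h4 : M.relIndex K ∣ p ^ j := by
    rw [← h3, relIndex_sup_of_le_normalizer (hP0K.trans hM), ← hj]
    exact relIndex_dvd_card M P0
  obtain ⟨n, -, hn⟩ := (Nat.dvd_prime_pow hp).mp h4
  exact ⟨n, hn⟩

theorem NilQuo.commutator_le_of_prime (h : NilQuo K M) (hMK : M ≤ K)
    (hM : K ≤ normalizer (M : Set G)) (hp : ((⁅K, K⁆ ⊔ M).relIndex K).Prime) : ⁅K, K⁆ ≤ M := by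
  have hle : ⁅K, K⁆ ⊔ M ≤ K := sup_le (commutator_self_le K) hMK
  obtain ⟨x, hx, hx1⟩ : ∃ x ∈ K, x ∉ ⁅K, K⁆ ⊔ M := by
    by_contra hc
    push Not at hc
    rw [relIndex_eq_one.mpr hc] at hp
    exact Nat.not_prime_one hp
  have hz : zpowers x ≤ K := zpowers_le.mpr hx
  rcases eq_or_eq_of_prime_relIndex hp (le_sup_right (a := zpowers x)) (sup_le hz hle) with he | he
  · exact absurd (he ▸ (le_sup_left (b := ⁅K, K⁆ ⊔ M)) (mem_zpowers x)) hx1
  have h3 : zpowers x ⊔ M = K := h.eq_of_sup_commutator le_sup_right (sup_le hz hMK) (he.ge.trans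
    (sup_le (le_sup_left.trans le_sup_left) (sup_le le_sup_right (le_sup_right.trans le_sup_left))))
  refine (commutator_mono h3.ge le_rfl).trans (CommCalc.commutator_sup_left_le (hz.trans hM)
    le_normalizer ((commutator_mono le_rfl h3.ge).trans ?_)
    (le_normalizer_iff_commutator_le_left.mp hM))
  refine CommCalc.commutator_sup_right_le (hz.trans hM) le_normalizer ?_
    (le_normalizer_iff_commutator_le_right.mp (hz.trans hM))
  rw [commutator_eq_bot_of_comm (comm_of_isCyclic inferInstance)]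
  exact bot_le

section GeneralCoherence

variable {τ : CFMap G} {R : (G → ℂ) → Finset (G → ℂ)}

theorem ConjCSubset.union {S1 S2 S : Finset (G → ℂ)} (h1 : ConjCSubset S1 S)
    (h2 : ConjCSubset S2 S) : ConjCSubset (S1 ∪ S2) S :=
  ⟨Finset.union_subset h1.1 h2.1, fun ξ hξ => by
    rcases Finset.mem_union.mp hξ with hξ | hξ
    · exact Finset.mem_union_left _ (h1.2 ξ hξ)
    · exact Finset.mem_union_right _ (h2.2 ξ hξ)⟩

/-- Coherence by successive extension. -/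
theorem coherent_of_extend {S0 T : Finset (G → ℂ)} (hT : ∀ χ ∈ T, cfConjC χ ∈ T)
    (h0 : ConjCSubset S0 T) (hc : Coherent L S0 τ)
    (hstep : ∀ S1, S0 ⊆ S1 → ConjCSubset S1 T → Coherent L S1 τ → (∃ χ ∈ T, χ ∉ S1) →
      ∃ χ ∈ T, χ ∉ S1 ∧ Coherent L (insert χ (insert (cfConjC χ) S1)) τ) : Coherent L T τ := by
  obtain ⟨S1, hS1, hmax⟩ := (T.powerset.filter fun S1 =>
    S0 ⊆ S1 ∧ ConjCSubset S1 T ∧ Coherent L S1 τ).exists_max_image Finset.card
    ⟨S0, Finset.mem_filter.mpr ⟨Finset.mem_powerset.mpr h0.1, subset_rfl, h0, hc⟩⟩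
  obtain ⟨-, h1, h2, h3⟩ := Finset.mem_filter.mp hS1
  by_cases hex : ∃ χ ∈ T, χ ∉ S1
  · obtain ⟨χ, hχ, hχ1, h4⟩ := hstep S1 h1 h2 h3 hex
    have h5 : insert χ (insert (cfConjC χ) S1) ⊆ T :=
      Finset.insert_subset hχ (Finset.insert_subset (hT χ hχ) h2.1)
    have h6 := hmax _ (Finset.mem_filter.mpr ⟨Finset.mem_powerset.mpr h5,
      h1.trans ((Finset.subset_insert _ _).trans (Finset.subset_insert _ _)), ⟨h5, fun ξ hξ => by
        simp only [Finset.mem_insert] at hξ ⊢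
        rcases hξ with rfl | rfl | hξ
        · exact Or.inr (Or.inl rfl)
        · exact Or.inl cfConjC_cfConjC
        · exact Or.inr (Or.inr (h2.2 ξ hξ))⟩, h4⟩)
    refine absurd h6 (not_le.mpr (Finset.card_lt_card ?_))
    exact Finset.ssubset_iff_of_subset
      ((Finset.subset_insert _ _).trans (Finset.subset_insert _ _)) |>.mpr
      ⟨χ, Finset.mem_insert_self _ _, hχ1⟩
  · push Not at hex
    exact subset_coherent h3 hex

theorem commutator_sup_lt_of_solvable (hsol : Group.IsSolvable K) (hMK : M < K)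
    (hM : K ≤ normalizer (M : Set G)) : ⁅K, K⁆ ⊔ M < K :=
  lt_of_le_of_ne (sup_le (commutator_self_le K) hMK.le)
    fun he => hMK.ne (eq_of_le_commutator_sup hsol hMK.le hM he.ge)

theorem exists_linInd (hKL : K ≤ L) (hsol : Group.IsSolvable K) (hMK : M < K)
    (hM : K ≤ normalizer (M : Set G)) : ∃ φ ∈ seqIndD K L K M, φ 1 = K.relIndex L := by
  obtain ⟨χ, h1, h2, h3⟩ := exists_lin_ne_one (commutator_sup_lt_of_solvable hsol hMK hM)
    le_sup_left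
  exact ⟨_, mem_seqIndD.mpr ⟨χ, h1.isIrr, le_sup_right.trans h3,
    fun h => h2 (h1.isIrr.eq_cf1_iff.mpr h), rfl⟩, by rw [cfInd_one hKL, h1.one, mul_one]⟩

theorem exists_mul_of_deg (hKL : K ≤ L) {P Q : Irr K → Prop} (hχ : χ ∈ seqInd K L P)
    (h1 : ξ 1 = K.relIndex L) : ∃ a : ℕ, χ 1 = a * ξ 1 := by
  obtain ⟨n, -, hn⟩ := dvd_index_seqInd1 hKL hχ
  exact ⟨n, by rw [hn, h1, mul_comm]⟩

theorem sum_deg_sq_mono {S1 S2 : Finset (G → ℂ)} (h : S1 ⊆ S2) :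
    ∑ ξ ∈ S1, (ξ 1).re ^ 2 / cfnorm L ξ ≤ ∑ ξ ∈ S2, (ξ 1).re ^ 2 / cfnorm L ξ :=
  Finset.sum_le_sum_of_subset_of_nonneg h fun _ _ _ => div_nonneg (sq_nonneg _) cfnorm_nonneg

/-- Peterfalvi (6.2), in squared form. -/
theorem coherent_seqIndD_bound (hKL : K ≤ L) (hn : L ≤ normalizer (K : Set G))
    (hsol : Group.IsSolvable K) (hS : Subcoherent L (seqIndD K L K ⊥) τ R) {A B C D : Subgroup G}
    (hA : L ≤ normalizer (A : Set G)) (hAK : A < K)
    (hDC : D ≤ C) (hCK : C ≤ K) (hc : ⁅D, C⁆ ≤ B) (hcoh : Coherent L (seqIndD K L K A) τ) :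
    Coherent L (seqIndD K L K B) τ ∨
      ((A.relIndex K : ℝ) - 1) ^ 2 ≤ 4 * (C.relIndex L : ℝ) ^ 2 * D.relIndex C := by
  rw [or_iff_not_imp_right, not_le]
  intro hlt
  obtain ⟨ξ1, hξ1, hd1⟩ := exists_linInd hKL hsol hAK (hKL.trans hA)
  have cA : ConjCSubset (seqIndD K L K A) (seqIndD K L K ⊥) := seqInd_conjC_subset1 le_rfl
  have cB : ConjCSubset (seqIndD K L K B) (seqIndD K L K ⊥) := seqInd_conjC_subset1 le_rfl
  have cT := cA.union cB
  refine subset_coherent (coherent_of_extend cT.2 ⟨Finset.subset_union_left, cA.2⟩ hcoh ?_)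
    Finset.subset_union_right
  rintro S1 h1 h2 h3 ⟨χ, hχ, hχ1⟩
  refine ⟨χ, hχ, hχ1, extend_coherent hS (h2.trans cT.1) h3 (h1 hξ1) (cT.1 hχ) hχ1
    (exists_mul_of_deg (Q := fun _ => True) hKL (cT.1 hχ) hd1) (lt_of_lt_of_le ?_
      (sum_deg_sq_mono h1))⟩
  rw [sum_seqIndD_square hKL hn le_rfl hAK.le hn hA, hd1]
  obtain ⟨θ, hθ, hk, -, rfl⟩ := mem_seqIndD.mp
    ((Finset.mem_union.mp hχ).resolve_left fun h => hχ1 (h1 h))
  have hb := irr1_bound_quo hθ hk hDC hCK hc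
  rw [← relIndex_mul_relIndex C K L hCK hKL] at hlt
  rw [cfInd_one hKL]
  simp only [Complex.mul_re, Complex.natCast_re, Complex.natCast_im, zero_mul, sub_zero]
  push_cast at hlt
  have he := relIndex_pos_real K L
  have hx : (1 : ℝ) ≤ A.relIndex K := by exact_mod_cast (one_lt_relIndex_of_lt hAK).le
  have : 2 * (K.relIndex L * (θ 1).re) < (A.relIndex K : ℝ) - 1 :=
    lt_of_pow_lt_pow_left₀ 2 (by linarith) (lt_of_le_of_lt (by
      nlinarith [mul_le_mul_of_nonneg_left hb (sq_nonneg (K.relIndex L : ℝ))]) hlt)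
  nlinarith

/-- Peterfalvi, Theorem (6.3). -/
theorem bounded_seqIndD_coherence (hKL : K ≤ L) (hn : L ≤ normalizer (K : Set G))
    (hsol : Group.IsSolvable K) (hS : Subcoherent L (seqIndD K L K ⊥) τ R) {H1 : Subgroup G}
    (hM : L ≤ normalizer (M : Set G)) (hH : L ≤ normalizer (H : Set G))
    (hH1 : L ≤ normalizer (H1 : Set G)) (hMH1 : M ≤ H1) (hH1H : H1 ≤ H) (hHK : H ≤ K)
    (hnil : NilQuo H M) (hcoh : Coherent L (seqIndD K L K H1) τ)
    (hbig : 4 * K.relIndex L ^ 2 + 1 < H1.relIndex H) : Coherent L (seqIndD K L K M) τ := by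
  obtain ⟨A, ⟨hA, hMA, hAH1, hcA⟩, hmin⟩ := exists_minimal_of_wellFoundedLT
    (fun A : Subgroup G => L ≤ normalizer (A : Set G) ∧ M ≤ A ∧ A ≤ H1 ∧
      Coherent L (seqIndD K L K A) τ) ⟨H1, hH1, hMH1, le_rfl, hcoh⟩
  rcases hMA.eq_or_lt with rfl | hlt
  · exact hcA
  exfalso
  have hAH := hAH1.trans hH1H
  have hHL := hHK.trans hKL
  have hB := hnil.commutator_sup_lt hlt hAH (hHL.trans hM) (hHL.trans hA)
  have hH1lt : H1 < H := lt_of_le_of_ne hH1H (by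
    rintro rfl
    rw [relIndex_self] at hbig
    omega)
  rcases coherent_seqIndD_bound hKL hn hsol hS hA ((hAH1.trans_lt hH1lt).trans_le hHK) hAH hHK
    (le_sup_left (b := M)) hcA with h | h
  · exact hB.not_ge (hmin ⟨le_normalizer_sup2 (Cop.le_normalizer_commutator hA hH) hM,
      le_sup_right, hB.le.trans hAH1, h⟩ hB.le)
  rw [← relIndex_mul_relIndex A H K hAH hHK, ← relIndex_mul_relIndex H K L hHK hKL] at h
  have hx : H1.relIndex H ≤ A.relIndex H :=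
    Nat.le_of_dvd (Nat.pos_of_ne_zero (relIndex_ne_zero' _ _)) (relIndex_dvd_of_le_left H hAH1)
  have hx' : 4 * (K.relIndex L : ℝ) ^ 2 + 2 ≤ A.relIndex H := by
    have : 4 * K.relIndex L ^ 2 + 2 ≤ A.relIndex H := by omega
    exact_mod_cast this
  have hk : (1 : ℝ) ≤ H.relIndex K := by
    exact_mod_cast Nat.pos_of_ne_zero (relIndex_ne_zero' H K)
  push_cast at h
  generalize (A.relIndex H : ℝ) = x at *
  generalize (H.relIndex K : ℝ) = k at *
  generalize (K.relIndex L : ℝ) = e at *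
  have h1 : 0 ≤ k * (x - 1) := mul_nonneg (by linarith) (by nlinarith [sq_nonneg e])
  have h2 : (k * (x - 1)) ^ 2 ≤ (x * k - 1) ^ 2 := pow_le_pow_left₀ h1 (by nlinarith) 2
  have h3 : k ^ 2 * (x - 1) ^ 2 ≤ k ^ 2 * (4 * e ^ 2 * x) := by nlinarith
  have h4 := le_of_mul_le_mul_left h3 (by positivity)
  nlinarith [sq_nonneg e]

/-- Peterfalvi, Hypothesis (6.4). -/
structure OddFrobQuo (L K M : Subgroup G) : Prop where
  odd : Odd (Nat.card L)
  M_normal : L ≤ normalizer (M : Set G)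
  M_le : M ≤ K
  nil : NilQuo K M
  frob : FrobQuo L K (⁅K, K⁆ ⊔ M)

theorem oddFrobQuo_of_frobKer (hodd : Odd (Nat.card L)) (h : FrobKer L K)
    (hnil : Group.IsNilpotent K) : OddFrobQuo L K ⊥ := by
  have hlt : ⁅K, K⁆ ⊔ ⊥ < K := commutator_sup_lt_of_solvable inferInstance
    (bot_lt_iff_ne_bot.mpr h.ker_ne) le_normalizer_bot
  exact ⟨hodd, le_normalizer_bot, bot_le, NilQuo.of_isNilpotent hnil, h.frobQuo hlt
    (le_normalizer_sup2 (Cop.le_normalizer_commutator h.normal h.normal) le_normalizer_bot)⟩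

theorem seqIndD_lin_deg (hKL : K ≤ L) (hM : ⁅K, K⁆ ≤ M) (hφ : φ ∈ seqIndD K L H M) :
    φ 1 = K.relIndex L := by
  obtain ⟨θ, hθ, hk, -, rfl⟩ := mem_seqIndD.mp hφ
  rw [cfInd_one hKL, (hθ.isLin_of_commutator_le (hM.trans hk)).one, mul_one]

theorem seqIndD_lin_coherent (hKL : K ≤ L) (hS : Subcoherent L (seqIndD K L K ⊥) τ R)
    (hM : ⁅K, K⁆ ≤ M) : Coherent L (seqIndD K L K M) τ :=
  uniform_degree_coherence (subset_subcoherent hS (seqInd_conjC_subset1 le_rfl))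
    fun _ hχ _ hφ => (seqIndD_lin_deg hKL hM hχ).trans (seqIndD_lin_deg hKL hM hφ).symm

/-- Peterfalvi (6.5). -/
theorem non_coherent_chief (hsol : Group.IsSolvable K) (hS : Subcoherent L (seqIndD K L K ⊥) τ R)
    (h : OddFrobQuo L K M) :
    Coherent L (seqIndD K L K M) τ ∨
      ((∀ N : Subgroup G, L ≤ normalizer (N : Set G) → ⁅K, K⁆ ⊔ M ≤ N → N ≤ K →
          N = ⁅K, K⁆ ⊔ M ∨ N = K) ∧
        (⁅K, K⁆ ⊔ M).relIndex K ≤ 4 * K.relIndex L ^ 2 + 1 ∧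
        ∃ p : ℕ, p.Prime ∧ (∃ n, M.relIndex K = p ^ n) ∧ ¬ ⁅K, K⁆ ≤ M ∧
          ¬ K.relIndex L ∣ p - 1) := by
  rw [or_iff_not_imp_left]
  intro hnc
  have hF := h.frob
  have hKL := hF.lt.le
  have hoK := odd_card_of_le hKL h.odd
  have hb : (⁅K, K⁆ ⊔ M).relIndex K ≤ 4 * K.relIndex L ^ 2 + 1 := by
    by_contra hc
    exact hnc (bounded_seqIndD_coherence hKL hF.normal hsol hS h.M_normal hF.normal hF.N_normal
      le_sup_right hF.N_lt.le le_rfl h.nil (seqIndD_lin_coherent hKL hS le_sup_left)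
      (not_le.mp hc))
  have he : 0 < K.relIndex L := Nat.pos_of_ne_zero (relIndex_ne_zero' K L)
  have hch : ∀ N : Subgroup G, L ≤ normalizer (N : Set G) → ⁅K, K⁆ ⊔ M ≤ N → N ≤ K →
      N = ⁅K, K⁆ ⊔ M ∨ N = K := by
    intro N hN h1 h2
    by_contra hc
    push Not at hc
    have k1 := two_mul_add_one_le_of_odd_dvd (odd_relIndex h.odd)
      (odd_relIndex (odd_card_of_le h2 hoK)) (one_lt_relIndex_of_lt (lt_of_le_of_ne h1 hc.1.symm))
      (hF.index_dvd h1 h2 hN)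
    have k2 := two_mul_add_one_le_of_odd_dvd (odd_relIndex h.odd) (odd_relIndex hoK)
      (one_lt_relIndex_of_lt (lt_of_le_of_ne h2 hc.2))
      ((hF.mono h1 (lt_of_le_of_ne h2 hc.2) hN).index_dvd h2 le_rfl hF.normal)
    rw [← relIndex_mul_relIndex _ N K h1 h2] at hb
    nlinarith [Nat.mul_le_mul k1 k2]
  obtain ⟨p, k, hp, hk⟩ :=
    exists_relIndex_eq_pow_of_chief hF.normal hF.N_lt hF.N_normal le_sup_left hch
  have hna : ¬ ⁅K, K⁆ ≤ M := fun hc => hnc (seqIndD_lin_coherent hKL hS hc)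
  refine ⟨hch, hb, p, hp, h.nil.exists_relIndex_eq_pow h.M_le (hKL.trans h.M_normal) hp hk, hna,
    fun hd => ?_⟩
  have hk0 : k ≠ 0 := by
    rintro rfl
    exact (one_lt_relIndex_of_lt hF.N_lt).ne' hk
  have hk1 : k ≠ 1 := by
    rintro rfl
    exact hna (h.nil.commutator_le_of_prime h.M_le (hKL.trans h.M_normal) (by rwa [hk, pow_one]))
  have hpo : Odd p := Odd.of_dvd_nat (odd_relIndex (H := ⁅K, K⁆ ⊔ M) hoK)
    (hk ▸ dvd_pow_self p hk0)
  have k1 := two_mul_add_one_le_of_odd_dvd (odd_relIndex h.odd) hpo hp.one_lt hd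
  have k2 : p ^ 2 ≤ p ^ k := Nat.pow_le_pow_right hp.pos (by omega)
  rw [hk] at hb
  nlinarith [Nat.mul_le_mul k1 k1]

theorem mem_seqIndD_iff_of_irr (hKL : K ≤ L) {Z : Subgroup G} (hZ : L ≤ normalizer (Z : Set G))
    (hZK : Z ≤ K) (hirr : ∀ φ ∈ seqIndD K L Z ⊥, IsIrr L φ) (χ : G → ℂ) :
    χ ∈ seqIndD K L Z ⊥ ↔ IsIrr L χ ∧ ¬ Z ≤ cfker L χ := by
  refine ⟨fun h => ⟨hirr χ h, ((mem_seqIndD_iff_cfker hKL hZ le_normalizer_bot).mp h).2.2⟩,
    fun ⟨h1, h2⟩ => ?_⟩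
  obtain ⟨θ, hθ, h3⟩ := exists_irr_under hKL h1
  have h4 : cfInd K L θ ∈ seqIndD K L Z ⊥ := mem_seqIndD.mpr ⟨θ, hθ, bot_le,
    fun h => h2 ((sub_cfker_constt_irr hKL hZK hZ h1 hθ h3).mp h), rfl⟩
  rwa [h1.eq_of_cfdot_ne (hirr _ h4) (by rwa [cfdot_cfInd_right hKL h1.mem_CF])]

theorem IsIrr.exists_pow_one (h : IsIrr K θ) {p n : ℕ} (hp : p.Prime) (hK : Nat.card K = p ^ n) :
    ∃ k : ℕ, θ 1 = p ^ k := by
  obtain ⟨m, -, hm⟩ := h.exists_nat_one
  obtain ⟨k, -, hk⟩ := (Nat.dvd_prime_pow hp).mp (hK ▸ h.degree_dvd_card hm)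
  exact ⟨k, by rw [hm, hk, Nat.cast_pow]⟩

theorem FrobQuo.coprime_of_pow {N : Subgroup G} (h : FrobQuo L K N) {p n : ℕ} (hp : p.Prime)
    (hK : Nat.card K = p ^ n) : p.Coprime (K.relIndex L) := by
  obtain ⟨k, -, hk⟩ := (Nat.dvd_prime_pow hp).mp (hK ▸ relIndex_dvd_card N K)
  have h1 := h.index_dvd h.N_lt.le le_rfl h.normal
  have h2 := one_lt_relIndex_of_lt h.N_lt
  rw [hk] at h1 h2
  refine (Nat.Prime.coprime_iff_not_dvd hp).mpr fun hd => hp.one_lt.ne' ?_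
  have h3 : p ∣ p ^ k := dvd_pow_self p (by rintro rfl; simp at h2)
  exact Nat.dvd_one.mp ((Nat.dvd_sub_iff_right h2.le h3).mp (hd.trans h1))

/-- Peterfalvi (6.6). -/
theorem seqIndD_irr_coherence (hS : Subcoherent L (seqIndD K L K ⊥) τ R)
    (h : OddFrobQuo L K ⊥) {Z : Subgroup G} (hZ : L ≤ normalizer (Z : Set G)) (hZ1 : Z ≠ ⊥)
    (hZK : Z ≤ K) (hZc : ∀ z ∈ Z, ∀ k ∈ K, z * k = k * z)
    (hirr : ∀ φ ∈ seqIndD K L Z ⊥, IsIrr L φ) :
    (∀ χ, χ ∈ seqIndD K L Z ⊥ ↔ IsIrr L χ ∧ ¬ Z ≤ cfker L χ) ∧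
      Coherent L (seqIndD K L Z ⊥) τ := by
  have hF := h.frob
  have hKL := hF.lt.le
  refine ⟨mem_seqIndD_iff_of_irr hKL hZ hZK hirr, ?_⟩
  have cX : ConjCSubset (seqIndD K L Z ⊥) (seqIndD K L K ⊥) := seqInd_conjC_subset1 hZK
  have hnil : Group.IsNilpotent K :=
    (isNilpotent_iff_lowerCentralSeries K).mpr (h.nil.imp fun _ h => le_bot_iff.mp h)
  rcases non_coherent_chief inferInstance hS h with hc | ⟨-, -, p, hp, ⟨n, hn⟩, -, -⟩
  · exact subset_coherent hc cX.1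
  rw [relIndex_bot_left] at hn
  have hcop := hF.coprime_of_pow hp hn
  have hp3 : 3 ≤ p := by
    have h1 : p ∣ Nat.card K := hn ▸ dvd_pow_self p (by
      rintro rfl
      exact hF.N_lt.ne_bot (card_eq_one.mp (by simpa using hn)))
    obtain ⟨m, hm⟩ := (odd_card_of_le hKL h.odd).of_dvd_nat h1
    have := hp.two_le
    omega
  set X := seqIndD K L Z ⊥ with hX
  obtain ⟨m, -, hm⟩ := (Nat.dvd_prime_pow hp).mp (hn ▸ relIndex_dvd_card Z K)
  have hdeg : ∀ ξ ∈ X, ∃ k : ℕ, ξ 1 = (K.relIndex L * p ^ k : ℕ) ∧ 2 * k ≤ m := by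
    intro ξ hξ
    obtain ⟨θ, hθ, -, -, rfl⟩ := mem_seqIndD.mp hξ
    obtain ⟨k, hk⟩ := hθ.exists_pow_one hp hn
    refine ⟨k, by rw [cfInd_one hKL, hk]; push_cast; rfl, ?_⟩
    have h1 := hθ.one_sq_le_index hZK fun z hz y hy => by
      rw [← hZc z hz y hy]; simpa using (cfker K θ).one_mem
    rw [hk, hm, ← Nat.cast_pow, Complex.natCast_re] at h1
    have h2 : p ^ (k * 2) ≤ p ^ m := by rw [pow_mul]; exact_mod_cast h1
    have := (Nat.pow_le_pow_iff_right hp.one_lt).mp h2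
    omega
  choose! f hf hfm using hdeg
  rcases X.eq_empty_or_nonempty with he | hne
  · rw [he]; exact nil_coherent
  obtain ⟨χ0, hχ0, hmin0⟩ := X.exists_min_image f hne
  have hconj : ∀ ξ ∈ X, cfConjC ξ 1 = ξ 1 := fun ξ hξ => (hirr ξ hξ).isChar.conj_one
  have c0 : ConjCSubset (X.filter fun ξ => ξ 1 = χ0 1) X :=
    ⟨Finset.filter_subset _ _, fun ξ hξ => Finset.mem_filter.mpr
      ⟨cX.2 ξ (Finset.mem_filter.mp hξ).1,
        (hconj ξ (Finset.mem_filter.mp hξ).1).trans (Finset.mem_filter.mp hξ).2⟩⟩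
  refine coherent_of_extend cX.2 c0 (uniform_degree_coherence (subset_subcoherent hS
    (c0.trans cX.1)) fun _ h1 _ h2 =>
      (Finset.mem_filter.mp h1).2.trans (Finset.mem_filter.mp h2).2.symm) ?_
  rintro S1 h1 h2 h3 ⟨χ', hχ', hχ1'⟩
  obtain ⟨χ, hχ, hmin⟩ := (X \ S1).exists_min_image f ⟨χ', Finset.mem_sdiff.mpr ⟨hχ', hχ1'⟩⟩
  obtain ⟨hχX, hχ1⟩ := Finset.mem_sdiff.mp hχ
  have hχ01 : χ0 ∈ S1 := h1 (Finset.mem_filter.mpr ⟨hχ0, rfl⟩)
  have hlt : f χ0 < f χ := lt_of_le_of_ne (hmin0 χ hχX) fun he =>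
    hχ1 (h1 (Finset.mem_filter.mpr ⟨hχX, by rw [hf χ hχX, hf χ0 hχ0, he]⟩))
  obtain ⟨j, hj⟩ := Nat.exists_eq_add_of_lt hlt
  refine ⟨χ, hχX, hχ1, extend_coherent hS (h2.trans cX.1) h3 hχ01 (cX.1 hχX) hχ1
    ⟨p ^ (j + 1), by rw [hf χ hχX, hf χ0 hχ0, hj]; push_cast; ring⟩ ?_⟩
  have hsum : ∀ T ⊆ X, ∑ ξ ∈ T, (ξ 1).re ^ 2 / cfnorm L ξ =
      ((K.relIndex L ^ 2 * ∑ ξ ∈ T, p ^ (2 * f ξ) : ℕ) : ℝ) := fun T hT => by
    rw [Finset.mul_sum, Nat.cast_sum]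
    refine Finset.sum_congr rfl fun ξ hξ => ?_
    rw [(hirr ξ (hT hξ)).cfnorm, hf ξ (hT hξ), Complex.natCast_re]
    push_cast; ring
  have k1 := sum_seqIndD_square hKL hF.normal hZK bot_le hZ le_normalizer_bot
  rw [← hX, hsum X subset_rfl, ← relIndex_mul_relIndex Z K L hZK hKL, hm, relIndex_bot_left,
    ← Nat.cast_one, ← Nat.cast_sub Nat.card_pos, ← Nat.cast_mul, Nat.cast_inj] at k1
  have k2 : p ^ (2 * f χ) ∣ ∑ ξ ∈ X, p ^ (2 * f ξ) := by
    refine (Nat.Coprime.pow _ 2 hcop).dvd_of_dvd_mul_left ?_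
    rw [k1]
    exact ((pow_dvd_pow p (hfm χ hχX)).mul_right _).mul_right _
  rw [← Finset.sum_sdiff h2.1] at k2
  have k3 := (Nat.dvd_add_right (Finset.dvd_sum fun ξ hξ =>
    pow_dvd_pow p (Nat.mul_le_mul_left 2 (hmin ξ hξ)))).mp k2
  have k4 := Nat.le_of_dvd (Finset.sum_pos (fun ξ _ => pow_pos hp.pos _) ⟨χ0, hχ01⟩) k3
  rw [hsum S1 h2.1, hf χ hχX, hf χ0 hχ0, Complex.natCast_re, Complex.natCast_re]
  have he : 0 < K.relIndex L := Nat.pos_of_ne_zero (relIndex_ne_zero' K L)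
  have k5 : 2 * (K.relIndex L * p ^ f χ) * (K.relIndex L * p ^ f χ0) <
      K.relIndex L ^ 2 * p ^ (2 * f χ) := by
    have k6 : 2 * p ^ f χ0 < p ^ f χ := by
      rw [hj, add_assoc, pow_add, mul_comm]
      refine Nat.mul_lt_mul_of_pos_left (lt_of_lt_of_le (by omega : 2 < p) ?_) (pow_pos hp.pos _)
      exact Nat.le_self_pow (by omega) p
    have k7 : 0 < K.relIndex L ^ 2 * p ^ f χ := Nat.mul_pos (pow_pos he 2) (pow_pos hp.pos _)
    calc _ = (K.relIndex L ^ 2 * p ^ f χ) * (2 * p ^ f χ0) := by ring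
      _ < (K.relIndex L ^ 2 * p ^ f χ) * p ^ f χ := Nat.mul_lt_mul_of_pos_left k6 k7
      _ = _ := by ring
  exact_mod_cast k5.trans_le (Nat.mul_le_mul_left _ k4)

end GeneralCoherence

theorem card_dvd_card_of_free {A X : Type*} [Group A] [Finite X] (ρ : A → X → X)
    (h1 : ∀ x, ρ 1 x = x) (hm : ∀ a b x, ρ (a * b) x = ρ a (ρ b x)) (S : Finset X)
    (hS : ∀ (a : A), ∀ x ∈ S, ρ a x ∈ S) (hfree : ∀ x ∈ S, ∀ a : A, ρ a x = x → a = 1) :
    Nat.card A ∣ S.card := by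
  letI : MulAction A X := { smul := ρ, one_smul := h1, mul_smul := hm }
  rw [← Set.ncard_coe_finset]
  exact Frob.card_dvd_ncard_of_free (A := A) (S : Set X) (fun a y hy => hS a y hy) hfree

theorem eqAmod_sum_of_free {A X : Type*} [Group A] [Finite X] (ρ : A → X → X)
    (h1 : ∀ x, ρ 1 x = x) (hm : ∀ a b x, ρ (a * b) x = ρ a (ρ b x)) (S : Finset X)
    (f : X → ℂ) (hS : ∀ (a : A), ∀ x ∈ S, ρ a x ∈ S) (hfree : ∀ x ∈ S, ∀ a : A, ρ a x = x → a = 1)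
    (hf : ∀ (a : A) x, f (ρ a x) = f x) (hint : ∀ x, IsIntegral ℤ (f x)) :
    EqAmod (Nat.card A) (∑ x ∈ S, f x) 0 := by
  rw [Finset.sum_comp (fun v : ℂ => v) f, ← Finset.sum_const_zero (s := S.image f)]
  refine EqAmod.sum _ fun v hv => ?_
  obtain ⟨x, -, rfl⟩ := Finset.mem_image.mp hv
  obtain ⟨k, hk⟩ := card_dvd_card_of_free ρ h1 hm (S.filter fun y => f y = f x) (fun a y hy => by
      simp only [Finset.mem_filter] at hy ⊢
      exact ⟨hS a y hy.1, by rw [hf, hy.2]⟩)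
    (fun y hy => hfree y (Finset.mem_filter.mp hy).1)
  rw [hk, nsmul_eq_mul, Nat.cast_mul, mul_assoc]
  exact eqAmod_mul_zero ((isIntegral_natCast k).mul (hint x))

theorem NormedTI.le_of_sharp {P : Subgroup G} (hTI : NormedTI (sharp P) ⊤ L) :
    P ≤ L ∧ L ≤ normalizer (P : Set G) := by
  obtain ⟨a, ha⟩ := hTI.nonempty
  refine ⟨fun g hg => hTI.ti g (mem_top g) a ha (sharp_conj le_normalizer g hg a ha),
    le_normalizer_of_conj fun x hx b hb => ?_⟩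
  by_cases h1 : b = 1
  · simp [h1]
  · exact (hTI.conj_mem x hx b ⟨hb, h1⟩).1

/-- Peterfalvi (6.7), without the hypothesis on centralizers. -/
theorem constant_irr_mod_TI_Sylow' {P Z : Subgroup G} {p : ℕ} (hp : p.Prime) (hP : IsPGroup p P)
    (hPi : ¬ p ∣ P.index) (hodd : Odd (Nat.card L)) (hTI : NormedTI (sharp P) ⊤ L)
    (hZ : L ≤ normalizer (Z : Set G)) (hZP : Z ≤ P) (hZc : ∀ z ∈ Z, ∀ k ∈ P, z * k = k * z)
    (hχ : IsIrr ⊤ χ) (hconst : ∀ x ∈ sharp Z, ∀ y ∈ sharp Z, χ x = χ y) :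
    ∀ x ∈ sharp Z, ∃ n : ℤ, χ x = χ 1 + n * Nat.card P := by
  intro x hx
  have : Fact p.Prime := ⟨hp⟩
  obtain ⟨hPL, hLP⟩ := hTI.le_of_sharp
  have hxP : x ∈ sharp P := sharp_mono hZP hx
  set C : Set G := {y | IsConj x y} with hC
  have hCc : ∀ g, ∀ u ∈ C, g * u * g⁻¹ ∈ C := fun g u hu =>
    IsConj.trans hu (isConj_iff.mpr ⟨g, rfl⟩)
  have hC1 : ∀ u ∈ C, u ≠ 1 := by
    rintro u hu rfl
    exact hx.2 (isConj_one_left.mp hu)
  have hχC : ∀ u ∈ C, χ u = χ x ∧ χ u⁻¹ = χ x := fun u hu => by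
    obtain ⟨g, rfl⟩ := isConj_iff.mp hu
    refine ⟨CF_conj hχ.mem_CF (mem_top g) x, ?_⟩
    rw [conj_inv, CF_conj hχ.mem_CF (mem_top g)]
    exact hconst _ ⟨Z.inv_mem hx.1, inv_ne_one.mpr hx.2⟩ x hx
  have key : ∀ u ∈ C, ∀ a ∈ P, a ≠ 1 → a * u * a⁻¹ = u → u ∈ Z := by
    intro u hu a ha ha1 he
    have h1 : u ∈ L := hTI.ti u (mem_top u) a ⟨ha, ha1⟩ (by
      have : u * a * u⁻¹ = a := by
        rw [mul_inv_eq_iff_eq_mul] at he ⊢
        exact he.symm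
      rw [this]; exact ⟨ha, ha1⟩)
    obtain ⟨g, rfl⟩ := isConj_iff.mp hu
    have h2 : IsPGroup p (zpowers (g * x * g⁻¹)) := by
      have := (hP.to_le (zpowers_le.mpr hxP.1)).map (MulAut.conj g).toMonoidHom
      rwa [MonoidHom.map_zpowers] at this
    have h3 : g * x * g⁻¹ ∈ P := by
      have := h2.inf_normalizer_sylow (hP.toSylow hPi)
      exact (this.le ⟨mem_zpowers _, hLP h1⟩).2
    exact (norm_conj_mem (hZ (hTI.ti g (mem_top g) x hxP ⟨h3, hC1 _ hu⟩))).mpr hx.1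
  set D := (elems C).filter (· ∈ Z) with hD
  have hDC : D ⊆ elems C := Finset.filter_subset _ _
  have hcong : ∀ F : G × G → ℂ, (∀ a u v, F (a * u * a⁻¹, a * v * a⁻¹) = F (u, v)) →
      (∀ y, IsIntegral ℤ (F y)) →
      EqAmod (Nat.card P) (∑ y ∈ elems C ×ˢ elems C, F y) (∑ y ∈ D ×ˢ D, F y) := by
    intro F hF hint
    rw [← Finset.sum_sdiff (Finset.product_subset_product hDC hDC)]
    refine EqAmod.trans (EqAmod.add (eqAmod_sum_of_free (A := P)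
      (fun a y => ((a : G) * y.1 * (a : G)⁻¹, (a : G) * y.2 * (a : G)⁻¹)) (by simp)
      (by simp [mul_assoc]) _ F (fun a y hy => ?_)
      (fun y hy a he => ?_) (fun a y => hF _ _ _) hint) (EqAmod.refl _ _))
      (EqAmod.of_eq (zero_add _))
    · simp only [Finset.mem_sdiff, Finset.mem_product, hD, Finset.mem_filter, mem_elems,
        norm_conj_mem (hZ (hPL a.2))] at hy ⊢
      exact ⟨⟨hCc _ _ hy.1.1, hCc _ _ hy.1.2⟩, fun h => hy.2 ⟨⟨hy.1.1, h.1.2⟩, hy.1.2, h.2.2⟩⟩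
    · simp only [Finset.mem_sdiff, Finset.mem_product, hD, Finset.mem_filter, mem_elems] at hy
      by_contra h1
      have h1' : (a : G) ≠ 1 := fun h => h1 (Subtype.ext h)
      exact hy.2 ⟨⟨hy.1.1, key _ hy.1.1 a a.2 h1' (congrArg Prod.fst he)⟩, hy.1.2,
        key _ hy.1.2 a a.2 h1' (congrArg Prod.snd he)⟩
  have k1 := hcong (fun y => χ (y.1 * y.2)) (fun a u v => by
    rw [← CF_conj hχ.mem_CF (mem_top a) (u * v)]; congr 1; group)
    (fun y => hχ.isChar.isIntegral _)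
  have k2 := hcong (fun y => χ (y.1 * y.2⁻¹)) (fun a u v => by
    rw [← CF_conj hχ.mem_CF (mem_top a) (u * v⁻¹)]; congr 1; group)
    (fun y => hχ.isChar.isIntegral _)
  have hfC : cfInd1 C ∈ CF (⊤ : Subgroup G) :=
    CFon_CF (cfInd1_mem_CFon (fun _ _ => mem_top _) fun g _ => hCc g)
  have hsum : ∀ y, ∑ u ∈ elems C, χ (u * y) =
      (∑ u ∈ elems ((⊤ : Subgroup G) : Set G), cfInd1 C u * χ u) / χ 1 * χ y := fun y => by
    rw [← hχ.sum_CF_mul hfC y]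
    refine (Finset.sum_congr rfl fun u hu => ?_).trans (Finset.sum_subset
      (fun u _ => mem_elems.mpr (mem_top u)) fun u _ hu => ?_)
    · rw [cfInd1_apply (mem_elems.mp hu), one_mul]
    · rw [cfInd1_apply_of_notMem (fun h => hu (mem_elems.mpr h)), zero_mul]
  have k3 : ∑ y ∈ elems C ×ˢ elems C, χ (y.1 * y.2) =
      ∑ y ∈ elems C ×ˢ elems C, χ (y.1 * y.2⁻¹) := by
    rw [Finset.sum_product_right' (f := fun u v => χ (u * v)),
      Finset.sum_product_right' (f := fun u v => χ (u * v⁻¹))]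
    refine Finset.sum_congr rfl fun v hv => ?_
    rw [hsum, hsum, (hχC v (mem_elems.mp hv)).1, (hχC v (mem_elems.mp hv)).2]
  have hDm : ∀ u ∈ D, u ∈ C ∧ u ∈ Z := fun u hu => by simpa [hD] using hu
  have k4 : ∑ y ∈ D ×ˢ D, χ (y.1 * y.2) = D.card * (D.card * χ x) := by
    rw [Finset.sum_congr rfl (g := fun _ => χ x), Finset.sum_const, Finset.card_product,
      nsmul_eq_mul, Nat.cast_mul, mul_assoc]
    intro y hy
    obtain ⟨h1, h2⟩ := Finset.mem_product.mp hy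
    refine hconst _ ⟨Z.mul_mem (hDm _ h1).2 (hDm _ h2).2, fun he => ?_⟩ x hx
    obtain ⟨g, hg⟩ := isConj_iff.mp ((hDm _ h1).1.symm.trans (hDm _ h2).1)
    have h3 : y.2 = y.1⁻¹ := eq_inv_of_mul_eq_one_right he
    have h4 : y.1 ∈ sharp P := ⟨hZP (hDm _ h1).2, hC1 _ (hDm _ h1).1⟩
    have h5 : g ∈ L := hTI.ti g (mem_top g) _ h4 (hg ▸ ⟨hZP (hDm _ h2).2, hC1 _ (hDm _ h2).1⟩)
    refine h4.2 (eq_one_of_conj_eq_inv hodd (hPL h4.1) h5 ?_)
    rw [← conj_inv, hg, h3, inv_inv]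
  have k5 : ∑ y ∈ D ×ˢ D, χ (y.1 * y.2⁻¹) = D.card * (χ 1 + (D.card - 1) * χ x) := by
    rw [Finset.sum_product' (f := fun u v => χ (u * v⁻¹)),
      Finset.sum_congr rfl (g := fun _ => χ 1 + (D.card - 1) * χ x), Finset.sum_const,
      nsmul_eq_mul]
    intro u hu
    rw [← Finset.add_sum_erase D _ hu, mul_inv_cancel, Finset.sum_congr rfl (g := fun _ => χ x),
      Finset.sum_const, nsmul_eq_mul, Finset.cast_card_erase_of_mem hu]
    intro v hv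
    obtain ⟨h1, h2⟩ := Finset.mem_erase.mp hv
    exact hconst _ ⟨Z.mul_mem (hDm _ hu).2 (Z.inv_mem (hDm _ h2).2),
      fun he => h1 (mul_inv_eq_one.mp he).symm⟩ x hx
  obtain ⟨n, hn⟩ := ZIrr_int_of_pow_eq hχ.mem_ZIrr (x := x) fun k hk =>
    hconst _ ⟨Z.pow_mem hx.1 k, fun he => hx.2 (orderOf_eq_one_iff.mp
      (Nat.eq_one_of_dvd_coprimes hk (orderOf_dvd_of_pow_eq_one he) dvd_rfl))⟩ x hx
  obtain ⟨m, hm⟩ := hχ.isChar.exists_nat_one
  have k6 := (k1.symm.trans (EqAmod.of_eq k3)).trans k2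
  rw [k4, k5, hn, hm] at k6
  have k7 : (Nat.card P : ℤ) ∣ D.card * (n - m) := by
    have := eqAmod_nat_iff (n := Nat.card P) (a := D.card * (D.card * n))
      (b := D.card * (m + (D.card - 1) * n))
    push_cast at this
    convert this.mp k6 using 1
    ring
  obtain ⟨j, hj⟩ := IsPGroup.iff_card.mp hP
  have hpP : p ∣ Nat.card P := hj ▸ dvd_pow_self p (by
    rintro rfl
    exact hxP.2 (mem_bot.mp ((card_eq_one.mp hj).le hxP.1)))
  have hcop : p.Coprime D.card := by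
    refine (Nat.Prime.coprime_iff_not_dvd hp).mpr fun hd => hPi ?_
    have h1 := card_dvd_card_of_free (A := P) (fun a y => (a : G) * y * (a : G)⁻¹) (by simp)
      (by simp [mul_assoc]) (elems C \ D)
      (fun a y hy => by
        simp only [Finset.mem_sdiff, hD, Finset.mem_filter,
          mem_elems, norm_conj_mem (hZ (hPL a.2))] at hy ⊢
        exact ⟨hCc _ _ hy.1, fun h => hy.2 ⟨hy.1, h.2⟩⟩)
      (fun y hy a he => by
        simp only [Finset.mem_sdiff, hD, Finset.mem_filter, mem_elems] at hy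
        by_contra h1
        exact hy.2 ⟨hy.1, key _ hy.1 a a.2 (fun h => h1 (Subtype.ext h)) he⟩)
    have h2 : p ∣ (elems C).card := by
      rw [← Finset.card_sdiff_add_card_eq_card hDC]
      exact dvd_add (hpP.trans h1) hd
    rw [card_elems_set, hC, ← Frob.index_centralizer_eq_ncard] at h2
    exact h2.trans (index_dvd_of_le fun k hk =>
      mem_centralizer_singleton_iff.mpr (hZc x hx.1 k hk).symm)
  obtain ⟨c, hc⟩ := Int.dvd_of_dvd_mul_right_of_gcd_one k7 (by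
    rw [Int.gcd_natCast_natCast, hj]; exact hcop.pow_left j)
  refine ⟨c, ?_⟩
  rw [hn, hm]
  have : n = m + c * Nat.card P := by linear_combination hc
  exact_mod_cast this

/-- Peterfalvi (6.7). -/
theorem constant_irr_mod_TI_Sylow {P Z : Subgroup G} {p : ℕ} (hp : p.Prime) (hP : IsPGroup p P)
    (hPi : ¬ p ∣ P.index) (hodd : Odd (Nat.card L)) (hTI : NormedTI (sharp P) ⊤ L)
    (hZ : L ≤ normalizer (Z : Set G)) (hZP : Z ≤ P) (hZc : ∀ z ∈ Z, ∀ k ∈ P, z * k = k * z)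
    (hC : ∀ x ∈ sharp Z, ∀ y ∈ sharp Z, Nat.card ↥(L ⊓ centralizer ({x} : Set G)) =
      Nat.card ↥(L ⊓ centralizer ({y} : Set G)))
    (hχ : IsIrr ⊤ χ) (hconst : ∀ x ∈ sharp Z, ∀ y ∈ sharp Z, χ x = χ y) :
    ∀ x ∈ sharp Z, ∃ n : ℤ, χ x = χ 1 + n * Nat.card P := by
  exact constant_irr_mod_TI_Sylow' hp hP hPi hodd hTI hZ hZP hZc hχ hconst

theorem PrimeTI.lt {W W1 W2 : Subgroup G} (h : PrimeTI L K W W1 W2) : K < L :=
  lt_of_le_of_ne h.K_le fun he => h.W1_ne (by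
    rw [← h.compl.2.2.1, inf_eq_right.mpr (he ▸ h.W1_le_L)])

theorem PrimeTI.frobQuo_of_W2_le {W W1 W2 N : Subgroup G} (h : PrimeTI L K W W1 W2) (hW : W2 ≤ N)
    (hN : N < K) (hn : L ≤ normalizer (N : Set G)) : FrobQuo L K N := by
  refine ⟨h.lt, h.normal, hN, hn, fun k hk hkN x hx hc => ?_⟩
  by_contra hxK
  obtain ⟨y, hy, hw, hw2⟩ := h.exists_conj_mem hx hxK
  obtain ⟨w1, hw1, w2, hw2', he⟩ := h.dprod.compl.2.2.2 _ hw
  have hw11 : w1 ≠ 1 := by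
    rintro rfl
    exact hw2 (by rwa [he, one_mul])
  have hyN := hn (h.K_le hy)
  have hw1N := hn (h.W1_le_L hw1)
  set k' := y * k * y⁻¹ with hk'
  have hk'K : k' ∈ K := K.mul_mem (K.mul_mem hy hk) (K.inv_mem hy)
  have h1 : w1 * w2 * k' * (w1 * w2)⁻¹ * k'⁻¹ ∈ N := by
    rw [← he, hk']
    convert (norm_conj_mem hyN).mpr hc using 1
    group
  have h2 : w1 * (w2 * (k' * w2⁻¹ * k'⁻¹)) * w1⁻¹ ∈ N := (norm_conj_mem hw1N).mpr
    (N.mul_mem (hW hw2') ((norm_conj_mem (hn (h.K_le hk'K))).mpr (N.inv_mem (hW hw2'))))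
  have h3 : k' * w1 * k'⁻¹ * w1⁻¹ ∈ N := by
    convert N.mul_mem (N.inv_mem h1) h2 using 1
    group
  have hcop : (orderOf w1).Coprime (Nat.card K) :=
    h.coprime.symm.coprime_dvd_left (orderOf_dvd_card_of_mem hw1)
  obtain ⟨z, hz, c, hc1, hc2, hc3⟩ := exists_conj_cent_rcoset hw1N
    (hcop.coprime_dvd_right (card_dvd_of_le hN.le)) h3
  have h4 := cent_of_conj_cent_rcoset (x := z * k') hcop K.one_mem (by simp) (hN.le hc1) hc2
    (by rw [← hc3]; group)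
  have h5 : z * k' ∈ N := hW ((h.cent w1 hw1 hw11).le
    ⟨K.mul_mem (hN.le hz) hk'K, mem_centralizer_singleton_iff.mpr h4⟩)
  exact hkN ((norm_conj_mem hyN).mp ((N.mul_mem_cancel_left hz).mp h5))

theorem bessel_pair {X : Subgroup G} {α β : G → ℂ} (h1 : cfdot X α α = 1) (h2 : cfdot X β β = 1)
    (h : cfdot X α β = 0) (φ : G → ℂ) :
    ‖cfdot X φ α‖ ^ 2 + ‖cfdot X φ β‖ ^ 2 ≤ cfnorm X φ := by
  have hne : α ≠ β := by
    rintro rfl
    exact zero_ne_one (h.symm.trans h1)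
  have ho : Orthonormal' X {α, β} := by
    refine orthonormal'_iff.mpr ⟨by simp [h1, h2], fun γ hγ δ hδ hne' => ?_⟩
    simp only [Finset.mem_insert, Finset.mem_singleton] at hγ hδ
    rcases hγ with rfl | rfl <;> rcases hδ with rfl | rfl
    exacts [absurd rfl hne', h, cfdot_symm_zero h, absurd rfl hne']
  simpa [Finset.sum_pair hne] using ho.sum_norm_sq_le φ

theorem IsIrr.one_sq_le_of_ker (h : IsIrr L χ) {N : Subgroup G} (hk : N ≤ cfker L χ) :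
    (χ 1).re ^ 2 ≤ N.relIndex L :=
  h.one_sq_le_index (hk.trans cfker_le) fun _ hz _ hy => mul_mem
    ((norm_conj_mem (cfker_normal h.mem_CF hy)).mpr (hk hz)) (inv_mem (hk hz))

section Sibley

variable {S X Y : Finset (G → ℂ)} {τ τ1 : CFMap G} {R : (G → ℂ) → Finset (G → ℂ)} {η1 : G → ℂ}

theorem sibley_cases (hS : Subcoherent L S τ R) (hY : ConjCSubset Y S) (hirr : ∀ η ∈ Y, IsIrr L η)
    (hdeg : ∀ η ∈ Y, η 1 = η1 1) (hτ1 : CoherentWith L Y τ τ1) (hη1 : η1 ∈ Y)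
    (hψ : ψ ∈ zspan S) (ho : ∀ η ∈ Y, cfdot L ψ η = 0) {a : ℕ} (ha : ψ 1 = a * η1 1)
    (hn : cfnorm L ψ < (a : ℝ) ^ 2) {y : ℤ}
    (hd : cfdot ⊤ (τ (ψ - (a : ℂ) • η1)) (τ1 η1) = a * y) :
    y = -1 ∨ (Y.card ≤ 2 ∧ cfdot ⊤ (τ (ψ - (a : ℂ) • η1)) (dualIso τ1 η1) = -a) := by
  have m1 : ψ - (a : ℂ) • η1 ∈ zspan S :=
    Submodule.sub_mem _ hψ (natCast_smul_mem (subset_zspan (hY.1 hη1)) a)
  have m2 : (ψ - (a : ℂ) • η1) 1 = 0 := by simp [ha]
  have hc : ∀ η ∈ Y, η ≠ η1 → cfdot ⊤ (τ (ψ - (a : ℂ) • η1)) (τ1 η) = a * (y + 1 : ℤ) := by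
    intro η hη hne
    have k1 : η - η1 ∈ zspan Y := sub_mem_zspan hη hη1
    have k2 : (η - η1) 1 = 0 := by simp [hdeg η hη]
    have k3 := hS.isom.isom _ m1 m2 _ (zspan_mono hY.1 k1) k2
    rw [← hτ1.agree _ k1 k2, map_sub τ1, cfdot_sub_right, hd, cfdot_sub_left, cfdot_sub_right,
      ho η hη, ho η1 hη1, cfdot_smul_left, cfdot_sub_right, (hirr η1 hη1).cfdot_self,
      (hirr η1 hη1).cfdot_ne (hirr η hη) hne.symm] at k3
    push_cast
    linear_combination k3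
  have hb : ∀ η ∈ Y, ∀ η' ∈ Y, η ≠ η' → ∀ s t : ℤ,
      cfdot ⊤ (τ (ψ - (a : ℂ) • η1)) (τ1 η) = a * s →
      cfdot ⊤ (τ (ψ - (a : ℂ) • η1)) (τ1 η') = a * t → s ^ 2 + t ^ 2 < 2 := by
    intro η hη η' hη' hne s t hs ht
    have k := bessel_pair (X := ⊤) (α := τ1 η) (β := τ1 η')
      (by rw [hτ1.isom _ (subset_zspan hη) _ (subset_zspan hη), (hirr η hη).cfdot_self])
      (by rw [hτ1.isom _ (subset_zspan hη') _ (subset_zspan hη'), (hirr η' hη').cfdot_self])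
      (by rw [hτ1.isom _ (subset_zspan hη) _ (subset_zspan hη'),
        (hirr η hη).cfdot_ne (hirr η' hη') hne]) (τ (ψ - (a : ℂ) • η1))
    rw [hs, ht, hS.cfnorm_tau m1 m2, cfnorm_sub_of_ortho (by
      rw [cfdot_smul_right, ho η1 hη1, mul_zero]), cfnorm_smul, (hirr η1 hη1).cfnorm, norm_mul,
      norm_mul, Complex.norm_natCast, Complex.norm_intCast, Complex.norm_intCast, mul_pow, mul_pow,
      sq_abs, sq_abs] at k
    have k2 : (a : ℝ) ^ 2 * (s ^ 2 + t ^ 2) < (a : ℝ) ^ 2 * 2 := by linarith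
    exact_mod_cast lt_of_mul_lt_mul_left k2 (sq_nonneg _)
  have hc1 := hY.2 η1 hη1
  have hr1 := hS.not_real η1 (hY.1 hη1)
  have k1 := hb η1 hη1 _ hc1 hr1.symm _ _ hd (hc _ hc1 hr1)
  have hy : y = -1 ∨ y = 0 := by
    have : -1 ≤ y := by nlinarith
    have : y ≤ 0 := by nlinarith
    omega
  refine hy.imp_right fun hy0 => ⟨?_, ?_⟩
  · refine le_trans (Finset.card_le_card (t := {η1, cfConjC η1}) fun η hη => ?_)
      Finset.card_le_two
    by_contra hne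
    simp only [Finset.mem_insert, Finset.mem_singleton, not_or] at hne
    have := hb η hη _ hc1 hne.2 _ _ (hc _ hη hne.1) (hc _ hc1 hr1)
    rw [hy0] at this
    norm_num at this
  · rw [dualIso_apply (hirr η1 hη1).mem_ZIrr, cfdot_neg_right, hc _ hc1 hr1, hy0]
    simp

theorem sibley_pivot (hS : Subcoherent L S τ R) (hX : ConjCSubset X S) (hY : ConjCSubset Y S)
    (hirr : ∀ η ∈ Y, IsIrr L η) (hdeg : ∀ η ∈ Y, η 1 = η1 1) (hτ1 : CoherentWith L Y τ τ1)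
    (hη1 : η1 ∈ Y) (h : ∀ χ ∈ X, ∃ a : ℕ, χ 1 = a * η1 1 ∧
      cfdot ⊤ (τ (χ - (a : ℂ) • η1)) (τ1 η1) = -a) : Coherent L (X ∪ Y) τ := by
  refine pivot_coherence (subset_subcoherent hS (hX.union hY)) (Finset.mem_union_right _ hη1)
    (hτ1.virt _ (subset_zspan hη1)) (fun η hη hne => ?_) (hτ1.toZIsom.cfnorm (subset_zspan hη1))
  rw [(hirr η1 hη1).cfdot_self]
  rcases Finset.mem_union.mp hη with hη | hη
  · simpa using h η hη
  · refine ⟨1, by simpa using hdeg η hη, ?_⟩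
    rw [Nat.cast_one, one_smul, ← hτ1.agree _ (sub_mem_zspan hη hη1) (by simp [hdeg η hη]),
      hτ1.isom _ (sub_mem_zspan hη hη1) _ (subset_zspan hη1), cfdot_sub_left,
      (hirr η1 hη1).cfdot_self, (hirr η hη).cfdot_ne (hirr η1 hη1) hne]
    ring

theorem sibley_le (hS : Subcoherent L S τ R) (hY : ConjCSubset Y S) (hτ1 : CoherentWith L Y τ τ1)
    (hη1 : η1 ∈ Y) (hirr : IsIrr L η1) (hχ : χ ∈ S) (hχ1 : χ ∉ Y) {a : ℕ} (ha : χ 1 = a * η1 1) :
    ∃ b : ℤ, b ≤ a ∧ cfdot ⊤ (τ (χ - (a : ℂ) • η1)) (τ1 η1) = -b := by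
  have hφ' : (a : ℂ) • η1 ∈ zspan Y := natCast_smul_mem (subset_zspan hη1) a
  have hβ : χ - (a : ℂ) • η1 ∈ zspan S :=
    Submodule.sub_mem _ (subset_zspan hχ) (zspan_mono hY.1 hφ')
  have hβ1 : (χ - (a : ℂ) • η1) 1 = 0 := by simp [ha]
  obtain ⟨h3, h4⟩ := hS.sub_conj_mem hS.conjCSubset hχ
  have o1 : cfdot L ((a : ℂ) • η1) χ = 0 := subset_ortho_subcoherent hS hY.1 hχ hχ1 hφ'
  have o2 : cfdot L ((a : ℂ) • η1) (cfConjC χ) = 0 :=
    subset_ortho_subcoherent hS hY.1 (hS.conj_mem χ hχ) (hY.conj_notMem hχ1) hφ'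
  obtain ⟨X, hX, Y', hY', he, hYR, hXY⟩ := subcoherent_split hS hχ (hS.isom.virt _ hβ hβ1)
  have hnorm : cfnorm ⊤ (X - Y') = cfnorm L χ + cfnorm L ((a : ℂ) • η1) := by
    rw [← he, hS.cfnorm_tau hβ hβ1, cfnorm_sub_of_ortho (cfdot_symm_zero o1)]
  have hXn := (subcoherent_norm' hS hχ (he ▸ hS.isom.virt _ hβ hβ1) hnorm (by
    rw [← he, hS.isom.isom _ hβ hβ1 _ h3 h4, cfdot_sub_left, cfdot_sub_right, cfdot_sub_right,
      o1, o2, hS.ortho_conj hχ]; ring) hXY hYR).1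
  rw [cfnorm_sub_of_ortho hXY, cfnorm_smul, hirr.cfnorm, Complex.norm_natCast] at hnorm
  obtain ⟨b, hb⟩ := ZIrr_cfdot_int hY' (hτ1.virt _ (subset_zspan hη1))
  refine ⟨b, ?_, by
    rw [he, cfdot_sub_left, hb, cfdot_symm_zero (cfdot_zspan_right
      (coherent_ortho_supp hS hY hτ1 hχ hχ1 (subset_zspan hη1)) hX), zero_sub]⟩
  have k := norm_cfdot_sq_le (L := ⊤) (φ := Y') (ψ := τ1 η1)
  rw [hb, hτ1.toZIsom.cfnorm (subset_zspan hη1), hirr.cfnorm, Complex.norm_intCast, sq_abs] at k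
  have k2 : (b : ℝ) ^ 2 ≤ (a : ℝ) ^ 2 := by linarith
  exact_mod_cast (abs_le_of_sq_le_sq' k2 (Nat.cast_nonneg a)).2

end Sibley

/-- The common setting of the proof of (6.8). -/
structure SibleyHyp (L H Z : Subgroup G) (R : (G → ℂ) → Finset (G → ℂ)) (p : ℕ) : Prop where
  odd : Odd (Nat.card L)
  ti : NormedTI (sharp H) ⊤ L
  sub : Subcoherent L (seqIndD H L H ⊥) (cfInd L ⊤) R
  frob : OddFrobQuo L H ⊥
  prime : p.Prime
  card : ∃ n, Nat.card H = p ^ n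
  normal : L ≤ normalizer (Z : Set G)
  ne : Z ≠ ⊥
  le : Z ≤ ⁅H, H⁆
  cent : ∀ z ∈ Z, ∀ k ∈ H, z * k = k * z

namespace SibleyHyp

variable {Z : Subgroup G} {R : (G → ℂ) → Finset (G → ℂ)} {p : ℕ} {τ1 : CFMap G} {η1 : G → ℂ}

theorem HL (h : SibleyHyp L H Z R p) : H ≤ L := h.frob.frob.lt.le

theorem ZH (h : SibleyHyp L H Z R p) : Z ≤ H := h.le.trans (commutator_self_le H)

theorem cX (h : SibleyHyp L H Z R p) : ConjCSubset (seqIndD H L Z ⊥) (seqIndD H L H ⊥) :=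
  seqInd_conjC_subset1 h.ZH

theorem irrY (h : SibleyHyp L H Z R p) {η : G → ℂ} (hη : η ∈ seqIndD H L H ⁅H, H⁆) :
    IsIrr L η := by
  obtain ⟨θ, hθ, hk, h1, rfl⟩ := mem_seqIndD.mp hη
  exact h.frob.frob.cfInd_irr hθ (fun he => h1 (hθ.eq_cf1_iff.mp he)) (sup_le hk bot_le)

theorem degY (h : SibleyHyp L H Z R p) {η : G → ℂ} (hη : η ∈ seqIndD H L H ⁅H, H⁆) :
    η 1 = H.relIndex L := seqIndD_lin_deg h.HL le_rfl hη

theorem kerY (h : SibleyHyp L H Z R p) {η : G → ℂ} (hη : η ∈ seqIndD H L H ⁅H, H⁆) :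
    Z ≤ cfker L η := by
  obtain ⟨θ, -, hk, -, rfl⟩ := mem_seqIndD.mp hη
  exact le_cfker_cfInd h.HL h.normal (h.le.trans hk)

theorem notMemY (h : SibleyHyp L H Z R p) (hχ : χ ∈ seqIndD H L Z ⊥) :
    χ ∉ seqIndD H L H ⁅H, H⁆ := fun hη =>
  ((mem_seqIndD_iff_cfker h.HL h.normal le_normalizer_bot).mp hχ).2.2 (h.kerY hη)

theorem dirr_mod (h : SibleyHyp L H Z R p) (hψ : IsDirr ⊤ ψ)
    (hc : ∀ x ∈ sharp Z, ∀ y ∈ sharp Z, ψ x = ψ y) :
    ∀ x ∈ sharp Z, ∃ n : ℤ, ψ x = ψ 1 + n * Nat.card H := by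
  have : Fact p.Prime := ⟨h.prime⟩
  obtain ⟨n, hn⟩ := h.card
  have hP : IsPGroup p H := IsPGroup.iff_card.mpr ⟨n, hn⟩
  have hi : ¬ p ∣ H.index := by
    intro hd
    have h1 : p ^ (n + 1) ∣ Nat.card G := by
      rw [← H.card_mul_index, hn, pow_succ]; exact Nat.mul_dvd_mul_left _ hd
    have h2 : p ∣ H.relIndex (normalizer (H : Set G)) :=
      Sylow.prime_dvd_card_quotient_normalizer h1 hn
    rw [((normedTI_sharp_iff h.frob.frob.N_lt.ne_bot).mp h.ti).2] at h2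
    exact (Nat.Prime.coprime_iff_not_dvd h.prime).mp (h.frob.frob.coprime_of_pow h.prime hn) h2
  intro x hx
  rcases hψ with hψ | hψ
  · exact constant_irr_mod_TI_Sylow' h.prime hP hi h.odd h.ti h.normal h.ZH h.cent hψ hc x hx
  · obtain ⟨m, hm⟩ := constant_irr_mod_TI_Sylow' h.prime hP hi h.odd h.ti h.normal h.ZH h.cent hψ
      (fun x hx y hy => by simp [hc x hx y hy]) x hx
    refine ⟨-m, ?_⟩
    simp only [Pi.neg_apply] at hm
    push_cast
    linear_combination -hm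

theorem caseA (h : SibleyHyp L H Z R p) (hirr : ∀ φ ∈ seqIndD H L Z ⊥, IsIrr L φ)
    (hτ1 : CoherentWith L (seqIndD H L H ⁅H, H⁆) (cfInd L ⊤) τ1)
    (hη1 : η1 ∈ seqIndD H L H ⁅H, H⁆) :
    Coherent L (seqIndD H L Z ⊥ ∪ seqIndD H L H ⁅H, H⁆) (cfInd L ⊤) := by
  have hHL := h.HL
  have cY : ConjCSubset (seqIndD H L H ⁅H, H⁆) (seqIndD H L H ⊥) := seqInd_conjC_subset1 le_rfl
  obtain ⟨hX, τ2, hτ2⟩ := seqIndD_irr_coherence h.sub h.frob h.normal h.ne h.ZH h.cent hirr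
  obtain ⟨χ1, hχ1⟩ := seqIndD_nonempty (L := L) h.ZH le_normalizer_bot (bot_lt_iff_ne_bot.mpr h.ne)
  have hdeg : ∀ χ ∈ seqIndD H L Z ⊥, ∃ a : ℕ, χ 1 = a * η1 1 := fun χ hχ =>
    exists_mul_of_deg (Q := fun _ => True) hHL hχ (h.degY hη1)
  obtain ⟨a, ha⟩ := hdeg χ1 hχ1
  have ha1 : 1 < a := by
    obtain ⟨θ, hθ, -, hk, rfl⟩ := mem_seqIndD.mp hχ1
    rw [cfInd_one hHL, h.degY hη1, mul_comm, mul_left_inj' (relIndex_cast_ne_zero H L)] at ha
    have h0 : a ≠ 0 := by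
      rintro rfl
      exact hθ.one_ne_zero (by simpa using ha)
    have h1 : a ≠ 1 := by
      rintro rfl
      exact hk (h.le.trans (hθ.isLin (by simpa using ha)).commutator_le_cfker)
    omega
  have ha0 : (a : ℂ) ≠ 0 := Nat.cast_ne_zero.mpr (by omega)
  have hdisj : Disjoint (seqIndD H L Z ⊥) (seqIndD H L H ⁅H, H⁆) :=
    Finset.disjoint_left.mpr fun _ => h.notMemY
  have key : ∀ ν, CoherentWith L (seqIndD H L H ⁅H, H⁆) (cfInd L ⊤) ν → ∀ χ ∈ seqIndD H L Z ⊥,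
      ∀ b : ℕ, χ 1 = b * η1 1 → cfdot ⊤ (cfInd L ⊤ ((a : ℂ) • χ - (b : ℂ) • χ1)) (ν η1) = 0 := by
    intro ν hν χ hχ b hb
    have m1 : (a : ℂ) • χ - (b : ℂ) • χ1 ∈ zspan (seqIndD H L Z ⊥) :=
      Submodule.sub_mem _ (natCast_smul_mem (subset_zspan hχ) a)
        (natCast_smul_mem (subset_zspan hχ1) b)
    rw [← hτ2.agree _ m1 (by simp [ha, hb]; ring)]
    exact coherent_ortho h.sub h.cX hτ2 cY hν hdisj m1 (subset_zspan hη1)
  suffices hs : ∃ ν, CoherentWith L (seqIndD H L H ⁅H, H⁆) (cfInd L ⊤) ν ∧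
      cfdot ⊤ (cfInd L ⊤ (χ1 - (a : ℂ) • η1)) (ν η1) = -a by
    obtain ⟨ν, hν, hd⟩ := hs
    refine sibley_pivot h.sub h.cX cY (fun _ => h.irrY)
      (fun _ hη => (h.degY hη).trans (h.degY hη1).symm) hν hη1 fun χ hχ => ?_
    obtain ⟨b, hb⟩ := hdeg χ hχ
    refine ⟨b, hb, mul_left_cancel₀ ha0 ?_⟩
    have e : (a : ℂ) • (χ - (b : ℂ) • η1) =
        ((a : ℂ) • χ - (b : ℂ) • χ1) + (b : ℂ) • (χ1 - (a : ℂ) • η1) := by
      simp only [smul_sub, smul_smul, mul_comm]; abel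
    rw [← cfdot_smul_left, ← map_smul, e, map_add, cfdot_add_left, key ν hν χ hχ b hb, map_smul,
      cfdot_smul_left, hd]
    ring
  set ψ := τ1 η1 with hψ
  have hψZ : ψ ∈ ZIrr (⊤ : Subgroup G) := hτ1.virt _ (subset_zspan hη1)
  have hψL : cfRes L ψ ∈ ZIrr L := ZIrr_cfRes le_top hψZ
  obtain ⟨c, hc⟩ := ZIrr_cfdot_int (hirr χ1 hχ1).mem_ZIrr hψL
  have he0 : η1 1 ≠ 0 := (h.irrY hη1).one_ne_zero
  have hcoef : ∀ χ ∈ seqIndD H L Z ⊥, cfdot L (cfRes L ψ) χ = c / (a * η1 1) * χ 1 := by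
    intro χ hχ
    obtain ⟨b, hb⟩ := hdeg χ hχ
    have k := key τ1 hτ1 χ hχ b hb
    rw [cfdot_cfInd_cfRes le_top (ZIrr_mem_CF hψZ), cfdot_sub_left, cfdot_smul_left,
      cfdot_smul_left, hc, ← ZIrr_cfdot_comm hψL (hirr χ hχ).mem_ZIrr] at k
    rw [hb]; field_simp; linear_combination k
  have hval : ∀ z ∈ sharp Z, ψ 1 - ψ z = c / (a * η1 1) * Nat.card L := by
    intro z hz
    have k := cfun_sum_cfdot (ZIrr_mem_CF hψL)
    rw [← cfRes_one (H := L) (φ := ψ), ← cfRes_apply (hHL (h.ZH hz.1)) (φ := ψ), congrFun k 1, congrFun k z,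
      ← sum_irr_one_sq', ← sub_zero (∑ χ : Irr L, χ 1 ^ 2), ← sum_irr_one_mul (L := L) hz.2,
      Finset.sum_apply, Finset.sum_apply, ← Finset.sum_sub_distrib, ← Finset.sum_sub_distrib,
      Finset.mul_sum]
    refine Finset.sum_congr rfl fun ξ _ => ?_
    simp only [Pi.smul_apply, smul_eq_mul]
    by_cases hk : Z ≤ cfker L ξ
    · rw [cfker_apply (hk hz.1)]; ring
    · rw [hcoef ξ ((hX ξ).mpr ⟨ξ.2, hk⟩)]; ring
  obtain ⟨z, hz⟩ : (sharp Z).Nonempty := by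
    obtain ⟨z, hz, h1⟩ := (Subgroup.bot_or_exists_ne_one Z).resolve_left h.ne
    exact ⟨z, hz, h1⟩
  obtain ⟨n, hn⟩ := h.dirr_mod (hτ1.toZIsom.dirr (subset_zspan hη1) (h.irrY hη1))
    (fun x hx y hy => by linear_combination hval y hy - hval x hx) z hz
  have hca : (c : ℂ) = a * (-n) := by
    have k := hval z hz
    rw [← hψ] at hn
    rw [hn, h.degY hη1, card_cast_eq_relIndex_mul hHL] at k
    have := relIndex_cast_ne_zero H L
    have := card_ne_zero H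
    field_simp at k
    exact mul_left_cancel₀ this (by linear_combination -k)
  obtain ⟨d, hd⟩ := ZIrr_cfdot_int (h.irrY hη1).mem_ZIrr hψL
  rcases sibley_cases h.sub cY (fun _ => h.irrY) (fun _ hη => (h.degY hη).trans (h.degY hη1).symm)
    hτ1 hη1 (subset_zspan (h.cX.1 hχ1)) (fun η hη => h.sub.ortho _ (h.cX.1 hχ1) _ (cY.1 hη)
      fun he => h.notMemY hχ1 (he ▸ hη)) ha
    (by rw [(hirr χ1 hχ1).cfnorm]; exact_mod_cast Nat.one_lt_pow two_ne_zero ha1) (y := -n - d)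
    (by
      rw [cfdot_cfInd_cfRes le_top (ZIrr_mem_CF hψZ), cfdot_sub_left, cfdot_smul_left, hc, hd, hca]
      push_cast; ring) with h1 | ⟨h1, h2⟩
  · refine ⟨τ1, hτ1, ?_⟩
    rw [cfdot_cfInd_cfRes le_top (ZIrr_mem_CF hψZ), cfdot_sub_left, cfdot_smul_left, hc, hd, hca]
    have : (-n - d : ℂ) = -1 := by exact_mod_cast h1
    linear_combination a * this
  · exact ⟨_, dual_coherence (subset_subcoherent h.sub cY) hτ1 h1, h2⟩

theorem caseB (h : SibleyHyp L H Z R p) (hZL : ∀ z ∈ Z, ∀ x ∈ L, z * x = x * z)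
    (hZp : (Nat.card Z).Prime) (hτ1 : CoherentWith L (seqIndD H L H ⁅H, H⁆) (cfInd L ⊤) τ1)
    (hη1 : η1 ∈ seqIndD H L H ⁅H, H⁆) :
    Coherent L (seqIndD H L Z ⊥ ∪ seqIndD H L H ⁅H, H⁆) (cfInd L ⊤) := by
  have hHL := h.HL
  have hZH := h.ZH
  have hZL' := hZH.trans hHL
  have cY : ConjCSubset (seqIndD H L H ⁅H, H⁆) (seqIndD H L H ⊥) := seqInd_conjC_subset1 le_rfl
  have hdegY : ∀ η ∈ seqIndD H L H ⁅H, H⁆, η 1 = η1 1 :=
    fun _ hη => (h.degY hη).trans (h.degY hη1).symm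
  set ψ := τ1 η1 with hψ
  have hψZ : ψ ∈ ZIrr (⊤ : Subgroup G) := hτ1.virt _ (subset_zspan hη1)
  have hψL : cfRes L ψ ∈ ZIrr L := ZIrr_cfRes le_top hψZ
  have hconst : ∀ x ∈ sharp Z, ∀ y ∈ sharp Z, ψ x = ψ y := by
    intro x hx y hy
    have ho : ∀ w ∈ sharp Z, orderOf w = Nat.card Z := fun w hw =>
      ((Nat.dvd_prime hZp).mp (orderOf_dvd_card_of_mem hw.1)).resolve_left
        fun h1 => hw.2 (orderOf_eq_one_iff.mp h1)
    obtain ⟨k, rfl⟩ := (mem_powers_iff_mem_zpowers.mpr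
      ((zpowers_eq_of_card_prime hZp hx.1 hx.2).ge hy.1) : y ∈ Submonoid.powers x)
    have hk : k.Coprime (Nat.card Z) := ((Nat.Prime.coprime_iff_not_dvd hZp).mpr fun hd =>
      hy.2 (orderOf_dvd_iff_pow_eq_one.mp ((ho x hx).symm ▸ hd))).symm
    obtain ⟨u, hu⟩ := exists_aut_pow hZp.ne_zero hk
    have k1 := ZIrr_aut_eq_pow hψZ hu hk (x := x) (ho x hx).dvd
    have hη2 := cfAut_seqInd u hη1
    have k2 := cfAut_coherent hτ1 u (fun _ _ _ => (cfInd_cfAut u).symm)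
      (h.sub.isom.subset cY.1).one (fun _ => cfAut_seqInd u) hη1 (h.irrY hη1) (cY.2 _ hη1)
      ((h.irrY hη1).cfAut _) (h.sub.not_real _ (cY.1 hη1))
    have m1 := sub_mem_zspan hη2 hη1
    have m2 : (cfAut u η1 - η1) 1 = 0 := by rw [Pi.sub_apply, hdegY _ hη2, sub_self]
    have k3 := congrFun (hτ1.agree _ m1 m2) x
    rw [normedTI_Ind_id h.ti (zcharD1_seqInd_on h.frob.frob.normal m1 m2) (sharp_mono hZH hx)
      (mem_top x), map_sub, ← k2, Pi.sub_apply, Pi.sub_apply, cfker_apply (h.kerY hη2 hx.1),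
      cfker_apply (h.kerY hη1 hx.1), hdegY _ hη2, sub_self, cfAut_apply, k1] at k3
    exact (sub_eq_zero.mp k3).symm
  obtain ⟨z, hz⟩ : (sharp Z).Nonempty := by
    obtain ⟨z, hz, h1⟩ := (Subgroup.bot_or_exists_ne_one Z).resolve_left h.ne
    exact ⟨z, hz, h1⟩
  obtain ⟨n, hn⟩ := h.dirr_mod (hτ1.toZIsom.dirr (subset_zspan hη1) (h.irrY hη1)) hconst z hz
  rw [← hψ] at hn
  obtain ⟨d, hd⟩ := ZIrr_cfdot_int (h.irrY hη1).mem_ZIrr hψL
  have hdot : ∀ φ, IsLin Z φ → φ ≠ cf1 Z → cfdot ⊤ (cfInd L ⊤ (cfInd Z L φ -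
      (Z.relIndex H : ℂ) • η1)) ψ = Z.relIndex H * (-n - d : ℤ) := by
    intro φ hφ h1
    have k1 : ∑ x ∈ elems (Z : Set G), φ x = 0 := by
      have := hφ.isIrr.cfdot_ne (isIrr_cf1 Z) h1
      rw [cfdot_cf1_right] at this
      exact (mul_eq_zero.mp this).resolve_left (inv_ne_zero (card_ne_zero Z))
    have k2 : cfdot Z φ ψ = -n * Z.relIndex H := by
      have m := mem_elems.mpr (show (1 : G) ∈ (Z : Set G) from Z.one_mem)
      rw [← Finset.add_sum_erase _ _ m, hφ.one] at k1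
      rw [cfdot, ← Finset.add_sum_erase _ _ m, hφ.one,
        Finset.sum_congr rfl (g := fun x => φ x * conj (ψ z)) fun x hx => by
          rw [hconst x ⟨mem_elems.mp (Finset.mem_erase.mp hx).2, (Finset.mem_erase.mp hx).1⟩ z hz],
        ← Finset.sum_mul, eq_neg_of_add_eq_zero_right k1, hn, card_cast_eq_relIndex_mul hZH]
      have := card_ne_zero Z
      simp only [map_add, map_mul, map_intCast, map_natCast]
      field_simp
      ring
    rw [cfdot_cfInd_cfRes le_top (ZIrr_mem_CF hψZ), cfdot_sub_left, cfdot_smul_left, hd,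
      cfdot_cfInd_cfRes hZL' (ZIrr_mem_CF hψL), cfRes_cfRes hZL', cfdot_cfRes_right, k2]
    push_cast; ring
  -- decomposition of `Ind_Z^L φ`
  have hdec : ∀ φ, IsLin Z φ → φ ≠ cf1 Z → ∃ (T : Finset (Irr H)) (a : Irr H → ℕ),
      (∀ θ : Irr H, cfRes Z θ = θ 1 • φ → θ ∈ T) ∧
      (∀ θ ∈ T, cfInd H L θ ∈ seqIndD H L Z ⊥ ∧ θ 1 = a θ) ∧
      cfInd Z L φ = ∑ θ ∈ T, (a θ : ℂ) • cfInd H L θ ∧ Z.relIndex H = ∑ θ ∈ T, a θ ^ 2 := by
    intro φ hφ h1
    choose a ha0 ha using fun θ : Irr H => θ.2.exists_nat_one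
    have hT : ∀ θ ∈ irrConstt H (cfInd Z H φ), cfRes Z θ = θ 1 • φ := fun θ hθ => by
      obtain ⟨φ', hφ', he⟩ := θ.2.exists_lin_cfRes_center hZH fun w hw y hy => by
        rw [← h.cent w hw y hy]; simpa using (cfker H θ).one_mem
      have k := mem_irrConstt.mp hθ
      rw [cfdot_cfInd_cfRes hZH θ.mem_CF, he, cfdot_smul_right] at k
      rw [he, hφ.isIrr.eq_of_cfdot_ne hφ'.isIrr (right_ne_zero_of_mul k)]
    have hc : ∀ θ : Irr H, cfRes Z θ = θ 1 • φ → cfdot H (cfInd Z H φ) θ = a θ := fun θ hθ => by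
      rw [cfdot_cfInd_cfRes hZH θ.mem_CF, hθ, cfdot_smul_right, hφ.isIrr.cfdot_self, ha]
      simp
    have hsum : cfInd Z H φ = ∑ θ ∈ irrConstt H (cfInd Z H φ), (a θ : ℂ) • (θ : G → ℂ) :=
      (cfun_sum_constt cfInd_mem_CF).trans
        (Finset.sum_congr rfl fun θ hθ => by rw [hc θ (hT θ hθ)])
    refine ⟨irrConstt H (cfInd Z H φ), a, fun θ hθ => mem_irrConstt.mpr (by
      rw [hc θ hθ]; exact Nat.cast_ne_zero.mpr (ha0 θ).ne'), fun θ hθ => ⟨mem_seqIndD.mpr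
      ⟨θ, θ.2, bot_le, fun hk => h1 (hφ.isIrr.eq_cf1_iff.mpr ?_), rfl⟩, ha θ⟩, ?_, ?_⟩
    · rw [← cfker_smul θ.2.one_ne_zero, ← hT θ hθ, θ.isChar.cfker_cfRes hZH]
      exact le_inf le_rfl hk
    · rw [← cfInd_cfInd hZH hHL, hsum, map_sum]
      simp only [map_smul]
      rw [← hsum]
    · have k := congrFun hsum 1
      rw [cfInd_one hZH, hφ.one, mul_one, Finset.sum_apply] at k
      simp only [Pi.smul_apply, ha, smul_eq_mul, ← sq] at k
      exact_mod_cast k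
  obtain ⟨ν, hν, hνd⟩ : ∃ ν, CoherentWith L (seqIndD H L H ⁅H, H⁆) (cfInd L ⊤) ν ∧
      ∀ φ, IsLin Z φ → φ ≠ cf1 Z → cfdot ⊤ (cfInd L ⊤ (cfInd Z L φ -
        (Z.relIndex H : ℂ) • η1)) (ν η1) = -(Z.relIndex H) := by
    by_cases hy : (-n - d : ℤ) = -1
    · exact ⟨τ1, hτ1, fun φ hφ h1 => by rw [hdot φ hφ h1, hy]; simp⟩
    have key : ∀ φ, IsLin Z φ → φ ≠ cf1 Z → (seqIndD H L H ⁅H, H⁆).card ≤ 2 ∧
        cfdot ⊤ (cfInd L ⊤ (cfInd Z L φ - (Z.relIndex H : ℂ) • η1)) (dualIso τ1 η1) =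
          -(Z.relIndex H) := by
      intro φ hφ h1
      obtain ⟨T, a, -, hT, hs, -⟩ := hdec φ hφ h1
      have m : cfInd Z L φ ∈ zspan (seqIndD H L Z ⊥) :=
        hs ▸ Submodule.sum_mem _ fun θ hθ => natCast_smul_mem (subset_zspan (hT θ hθ).1) _
      refine (sibley_cases h.sub cY (fun _ => h.irrY) hdegY hτ1 hη1 (zspan_mono h.cX.1 m)
        (fun η hη => subset_ortho_subcoherent h.sub h.cX.1 (cY.1 hη)
          (fun h' => h.notMemY h' hη) m) ?_ ?_ (hdot φ hφ h1)).resolve_left hy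
      · rw [cfInd_one hZL', hφ.one, h.degY hη1, ← relIndex_mul_relIndex Z H L hZH hHL]
        push_cast; ring
      · have hI : L ≤ inertia φ := fun x hx => mem_inertia.mpr fun g => by
          by_cases hg : g ∈ Z
          · rw [← hZL g hg x hx, mul_inv_cancel_right]
          · rw [CF_zero hφ.mem_CF hg,
              CF_zero hφ.mem_CF fun h' => hg ((norm_conj_mem (h.normal hx)).mp h')]
        rw [cfnorm_Ind_irr hZL' h.normal hφ.isIrr, inf_eq_left.mpr hI,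
          ← relIndex_mul_relIndex Z H L hZH hHL, sq]
        have hF := h.frob.frob
        have k1 := Nat.le_of_dvd (by have := one_lt_relIndex_of_lt hF.N_lt; omega)
          (hF.index_dvd hF.N_lt.le le_rfl hF.normal)
        have k2 : (⁅H, H⁆ ⊔ ⊥).relIndex H ≤ Z.relIndex H :=
          Nat.le_of_dvd (Nat.pos_of_ne_zero (relIndex_ne_zero' _ _))
            (relIndex_dvd_of_le_left H (h.le.trans le_sup_left))
        have k3 := one_lt_relIndex_of_lt hF.N_lt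
        exact_mod_cast Nat.mul_lt_mul_of_pos_left (by omega : H.relIndex L < Z.relIndex H)
          (by omega : 0 < Z.relIndex H)
    by_cases hex : ∃ φ, IsLin Z φ ∧ φ ≠ cf1 Z
    · obtain ⟨φ, hφ, h1⟩ := hex
      exact ⟨_, dual_coherence (subset_subcoherent h.sub cY) hτ1 (key φ hφ h1).1,
        fun φ hφ h1 => (key φ hφ h1).2⟩
    · exact ⟨τ1, hτ1, fun φ hφ h1 => absurd ⟨φ, hφ, h1⟩ hex⟩
  refine sibley_pivot h.sub h.cX cY (fun _ => h.irrY) hdegY hν hη1 fun χ hχ => ?_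
  obtain ⟨θ0, hθ0, -, hk, rfl⟩ := mem_seqIndD.mp hχ
  obtain ⟨φ, hφ, he⟩ := hθ0.exists_lin_cfRes_center hZH fun w hw y hy => by
    rw [← h.cent w hw y hy]; simpa using (cfker H θ0).one_mem
  have h1 : φ ≠ cf1 Z := by
    rintro rfl
    refine hk ((hθ0.isChar.le_cfker hZH).mpr fun x hx => ?_)
    rw [← cfRes_apply hx (φ := θ0), he, Pi.smul_apply, cf1_apply hx, smul_eq_mul, mul_one]
  obtain ⟨T, a, hT0, hT, hs, hs2⟩ := hdec φ hφ h1
  have hdeg : ∀ θ ∈ T, cfInd H L θ 1 = a θ * η1 1 := fun θ hθ => by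
    rw [cfInd_one hHL, (hT θ hθ).2, h.degY hη1, mul_comm]
  choose! b hb hb' using fun θ (hθ : θ ∈ T) => sibley_le h.sub cY hν hη1 (h.irrY hη1)
    (h.cX.1 (hT θ hθ).1) (h.notMemY (hT θ hθ).1) (hdeg θ hθ)
  have k1 := hνd φ hφ h1
  have e : cfInd Z L φ - (Z.relIndex H : ℂ) • η1 =
      ∑ θ ∈ T, (a θ : ℂ) • (cfInd H L θ - (a θ : ℂ) • η1) := by
    rw [hs, hs2]
    simp only [smul_sub, smul_smul, Finset.sum_sub_distrib, Nat.cast_sum, Finset.sum_smul,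
      sq, Nat.cast_mul]
  rw [e, map_sum, cfdot_sum_left, Finset.sum_congr rfl (g := fun θ => -((a θ * b θ : ℤ) : ℂ))
    fun θ hθ => by rw [map_smul, cfdot_smul_left, hb' θ hθ]; push_cast; ring,
    Finset.sum_neg_distrib, neg_inj, hs2] at k1
  have k2 : ∑ θ ∈ T, (a θ * b θ : ℤ) = ∑ θ ∈ T, (a θ * a θ : ℤ) := by
    simp only [← sq]
    exact_mod_cast k1
  have m0 := hT0 ⟨θ0, hθ0⟩ he
  have k3 := (Finset.sum_eq_sum_iff_of_le fun θ hθ =>
    mul_le_mul_of_nonneg_left (hb θ hθ) (Nat.cast_nonneg _)).mp k2 _ m0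
  have k4 : (a ⟨θ0, hθ0⟩ : ℤ) ≠ 0 := by
    have : θ0 1 = _ := (hT _ m0).2
    exact_mod_cast this ▸ hθ0.one_ne_zero
  refine ⟨a ⟨θ0, hθ0⟩, hdeg _ m0, ?_⟩
  rw [hb' _ m0, mul_left_cancel₀ k4 k3, Int.cast_natCast]

theorem finish (h : SibleyHyp L H Z R p) (hη1 : η1 ∈ seqIndD H L H ⁅H, H⁆)
    (hc : Coherent L (seqIndD H L Z ⊥ ∪ seqIndD H L H ⁅H, H⁆) (cfInd L ⊤))
    (hb : ∀ θ, IsIrr H θ → θ ≠ cf1 H → Z ≤ cfker H θ →
      2 * (H.relIndex L * (θ 1).re) * H.relIndex L ≤ Z.relIndex L * ((Nat.card Z : ℝ) - 1)) :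
    Coherent L (seqIndD H L H ⊥) (cfInd L ⊤) := by
  have hHL := h.HL
  have cY : ConjCSubset (seqIndD H L H ⁅H, H⁆) (seqIndD H L H ⊥) := seqInd_conjC_subset1 le_rfl
  refine coherent_of_extend h.sub.conj_mem (h.cX.union cY) hc ?_
  rintro S1 h1 h2 h3 ⟨χ, hχ, hχ1⟩
  refine ⟨χ, hχ, hχ1, extend_coherent h.sub h2 h3 (h1 (Finset.mem_union_right _ hη1)) hχ hχ1
    (exists_mul_of_deg (Q := fun _ => True) hHL hχ (h.degY hη1)) (lt_of_lt_of_le ?_
      (sum_deg_sq_mono (S1 := insert η1 (seqIndD H L Z ⊥)) (Finset.insert_subset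
        (h1 (Finset.mem_union_right _ hη1)) (Finset.subset_union_left.trans h1))))⟩
  rw [Finset.sum_insert fun h' => h.notMemY h' hη1, sum_seqIndD_square hHL h.frob.frob.normal h.ZH
    bot_le h.normal le_normalizer_bot, relIndex_bot_left, (h.irrY hη1).cfnorm, h.degY hη1]
  obtain ⟨θ, hθ, hθ1, rfl⟩ := seqIndC1P.mp hχ
  have k := hb θ hθ hθ1 (by
    by_contra hk
    exact hχ1 (h1 (Finset.mem_union_left _ (mem_seqIndD.mpr ⟨θ, hθ, bot_le, hk, rfl⟩))))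
  rw [cfInd_one hHL]
  simp only [Complex.mul_re, Complex.natCast_re, Complex.natCast_im, zero_mul, sub_zero]
  have := relIndex_pos_real H L
  nlinarith

theorem exists_Y (h : SibleyHyp L H Z R p) : ∃ η1 ∈ seqIndD H L H ⁅H, H⁆,
    Coherent L (seqIndD H L H ⁅H, H⁆) (cfInd L ⊤) := by
  obtain ⟨η, hη⟩ := seqIndD_nonempty (L := L) le_rfl (normalizer_commutator_ge_left H H)
    (le_sup_left.trans_lt h.frob.frob.N_lt)
  exact ⟨η, hη, seqIndD_lin_coherent h.HL h.sub le_rfl⟩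

theorem finishA (h : SibleyHyp L H Z R p) (hirr : ∀ φ ∈ seqIndD H L Z ⊥, IsIrr L φ)
    (hd : H.relIndex L ∣ Nat.card Z - 1) : Coherent L (seqIndD H L H ⊥) (cfInd L ⊤) := by
  obtain ⟨η1, hη1, τ1, hτ1⟩ := h.exists_Y
  refine h.finish hη1 (h.caseA hirr hτ1 hη1) fun θ hθ _ hk => ?_
  have k1 := hθ.one_sq_le_of_ker hk
  have k2 := two_mul_add_one_le_of_odd_dvd (odd_relIndex h.odd)
    (odd_card_of_le (h.ZH.trans h.HL) h.odd) ((one_lt_card_iff_ne_bot Z).mpr h.ne) hd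
  have k3 : 2 * (H.relIndex L : ℝ) ≤ Nat.card Z - 1 := by
    have : ((2 * H.relIndex L + 1 : ℕ) : ℝ) ≤ Nat.card Z := by exact_mod_cast k2
    push_cast at this; linarith
  have k4 := hθ.one_le_one_re
  have k5 : (θ 1).re ≤ Z.relIndex H := by nlinarith
  have k6 := relIndex_pos_real H L
  rw [← relIndex_mul_relIndex Z H L h.ZH h.HL]
  push_cast
  calc _ = ((θ 1).re * H.relIndex L) * (2 * H.relIndex L) := by ring
    _ ≤ _ := mul_le_mul (mul_le_mul_of_nonneg_right k5 k6.le) k3 (by positivity) (by positivity)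

theorem finishB (h : SibleyHyp L H Z R p) (hZL : ∀ z ∈ Z, ∀ x ∈ L, z * x = x * z)
    (hZp : (Nat.card Z).Prime)
    (hirr : ∀ θ, IsIrr H θ → θ ≠ cf1 H → Z ≤ cfker H θ → IsIrr L (cfInd H L θ)) :
    Coherent L (seqIndD H L H ⊥) (cfInd L ⊤) := by
  obtain ⟨η1, hη1, τ1, hτ1⟩ := h.exists_Y
  refine h.finish hη1 (h.caseB hZL hZp hτ1 hη1) fun θ hθ h1 hk => ?_
  have k1 := (hirr θ hθ h1 hk).one_sq_le_of_ker (le_cfker_cfInd h.HL h.normal hk)
  rw [cfInd_one h.HL] at k1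
  simp only [Complex.mul_re, Complex.natCast_re, Complex.natCast_im, zero_mul, sub_zero] at k1
  have k2 := two_mul_add_one_le_of_odd_dvd odd_one
    (odd_card_of_le (h.ZH.trans h.HL) h.odd) hZp.one_lt (one_dvd _)
  have k3 : (2 : ℝ) ≤ Nat.card Z - 1 := by
    have : ((2 * 1 + 1 : ℕ) : ℝ) ≤ Nat.card Z := by exact_mod_cast k2
    push_cast at this; linarith
  have k4 := hθ.one_le_one_re
  have k6 := relIndex_pos_real H L
  calc _ ≤ (H.relIndex L * (θ 1).re) ^ 2 * 2 := by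
        nlinarith [mul_nonneg (mul_nonneg (sq_nonneg (H.relIndex L : ℝ)) (by linarith : 0 ≤ (θ 1).re))
          (by linarith : 0 ≤ (θ 1).re - 1)]
    _ ≤ _ := mul_le_mul k1 k3 (by norm_num) (Nat.cast_nonneg _)

end SibleyHyp

/-- Peterfalvi, Theorem (6.8). -/
theorem Sibley_coherence {W1 : Subgroup G} (hodd : Odd (Nat.card L)) (hnil : Group.IsNilpotent H)
    (hTI : NormedTI (sharp H) ⊤ L)
    (hc : FrobIn L H W1 ∨ ∃ (W2 W : Subgroup G) (A0 : Set G) (R : G → Subgroup G),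
      (Nat.card W2).Prime ∧ W2 ≤ ⁅H, H⁆ ∧ PrimeDade L H H (sharp H) A0 R W W1 W2) :
    Coherent L (seqIndD H L H ⊥) (cfInd L ⊤) := by
  obtain ⟨hHL, hn⟩ := hTI.le_of_sharp
  have hH1 : H ≠ ⊥ := by
    obtain ⟨a, ha⟩ := hTI.nonempty
    rintro rfl
    exact ha.2 (mem_bot.mp ha.1)
  have hr : ∀ χ ∈ seqIndD H L H ⊥, cfConjC χ ≠ χ := fun _ => seqInd_conjC_neq hHL hn le_rfl hodd
  have hn' := Cop.le_normalizer_commutator hn hn
  have hlt : ⁅H, H⁆ ⊔ ⊥ < H := commutator_sup_lt_of_solvable inferInstance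
    (bot_lt_iff_ne_bot.mpr hH1) le_normalizer_bot
  have hyp : ∀ R, Subcoherent L (seqIndD H L H ⊥) (cfInd L ⊤) R → OddFrobQuo L H ⊥ →
      Coherent L (seqIndD H L H ⊥) (cfInd L ⊤) ∨
        ∃ p, SibleyHyp L H (⁅H, H⁆ ⊓ centralizer (H : Set G)) R p := by
    intro R hS hF
    refine (non_coherent_chief inferInstance hS hF).imp_right ?_
    rintro ⟨-, -, p, hp, hc, hna, -⟩
    exact ⟨p, hodd, hTI, hS, hF, hp, by simpa using hc,
      le_normalizer_inf2 hn' (hn.trans (Cop.normalizer_le_normalizer_centralizer H)),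
      inf_centralizer_ne_bot_of_isNilpotent hnil (commutator_self_le H) (hHL.trans hn')
        fun h => hna h.le, inf_le_left, fun z hz k hk => (hz.2 k hk).symm⟩
  rcases hc with hF | ⟨W2, W, A0, RD, hp, hW2, hD⟩
  · have hirr : ∀ χ ∈ seqIndD H L H ⊥, IsIrr L χ := fun χ hχ => by
      obtain ⟨θ, hθ, h1, rfl⟩ := seqIndC1P.mp hχ
      exact hF.frobKer.cfInd_irr hθ h1
    obtain ⟨R, hS⟩ := irr_subcoherent hirr (fun _ => cfAut_seqInd _) hr
      (normedTI_ZIsom1 hTI (fun _ => seqInd_vcharW hHL) fun _ => seqInd_on_insert hn subset_rfl)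
    rcases hyp R hS (oddFrobQuo_of_frobKer hodd hF.frobKer hnil) with h | ⟨p, h⟩
    · exact h
    refine h.finishA (fun φ hφ => hirr φ (h.cX.1 hφ)) ?_
    simpa using (frobQuo_bot.mpr hF.frobKer).index_dvd bot_le h.ZH h.normal
  obtain ⟨R, hS, -⟩ := prDade_subcoherent hD (seqInd_conjC_subset1 le_rfl) hr
  replace hS := hS.congr_tau (τ' := cfInd L ⊤) fun φ hφ h1 =>
    (restr_Dade_Ind hD.dade hD.A_subset hTI (zcharD1_seqInd_on hn hφ h1)).symm
  rcases hyp R hS ⟨hodd, le_normalizer_bot, bot_le, NilQuo.of_isNilpotent hnil,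
    hD.prTI.frobQuo_of_W2_le (hW2.trans le_sup_left) hlt
      (le_normalizer_sup2 hn' le_normalizer_bot)⟩ with h | ⟨p, h⟩
  · exact h
  rcases eq_bot_or_eq_of_prime hp (inf_le_right (a := ⁅H, H⁆ ⊓ centralizer (H : Set G)))
    with h0 | h0
  · refine h.finishA (fun φ hφ => ?_) ?_
    · obtain ⟨θ, hθ, -, hk, rfl⟩ := mem_seqIndD.mp hφ
      refine (hD.prTI.cfInd_red_cases hθ).resolve_right ?_
      rintro ⟨j, rfl, -⟩
      exact hk ((hD.prTI.le_cfker_prTIres h.ZH h.normal j).mpr (h0.le.trans bot_le))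
    · rw [hD.prTI.relIndex]
      refine semiregular_card_dvd (hD.prTI.W1_le_L.trans h.normal) fun x hx h1 => ?_
      rw [eq_bot_iff, ← h0, ← hD.prTI.cent x hx h1]
      exact le_inf inf_le_left (inf_le_inf_right _ h.ZH)
  have hWc : ∀ z ∈ W2, ∀ k ∈ H, z * k = k * z := fun z hz => h.cent z (h0.ge hz).1
  have hWL : ∀ z ∈ W2, ∀ x ∈ L, z * x = x * z := fun z hz x hx => by
    obtain ⟨a, ha, b, hb, rfl⟩ := hD.prTI.compl.2.2.2 x hx
    rw [← mul_assoc, hWc z hz a ha, mul_assoc, ← hD.prTI.dprod.comm b hb z hz, mul_assoc]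
  have hWn : L ≤ normalizer (W2 : Set G) := le_normalizer_of_conj fun x hx z hz => by
    rwa [← hWL z hz x hx, mul_inv_cancel_right]
  exact SibleyHyp.finishB ⟨hodd, hTI, hS, h.frob, h.prime, h.card, hWn, hD.prTI.W2_ne, hW2, hWc⟩
    hWL hp fun θ hθ h1 hk => hD.prTI.cfInd_irr_of_W2_le hD.prTI.W2_le hWn le_rfl hθ h1 hk

end CfsgLib.FT
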